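import Cfsg.Prelude.Def_LocalEven
import Mathlib

/-!
Basic API for `Cfsg.Involves` (sections of groups).
-/

set_option autoImplicit false

namespace Cfsg.Agent.Lib.Helper88

open Cfsg

universe u v w

/-- `H` is involved in `G` iff some subgroup of `G` maps onto `H`. -/
theorem involves_iff_exists_surj {H : Type u} [Group H] {G : Type v} [Group G] :
    Involves H G ↔ ∃ (K : Subgroup G) (f : K →* H), Function.Surjective f := by
  constructor
  · rintro ⟨K, R, hN, ⟨e⟩⟩
    refine ⟨K, e.toMonoidHom.comp (QuotientGroup.mk' (R.subgroupOf K)), ?_⟩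
    exact e.surjective.comp (QuotientGroup.mk'_surjective _)
  · rintro ⟨K, f, hf⟩
    have hker : (f.ker.map K.subtype).subgroupOf K = f.ker := by
      rw [Subgroup.subgroupOf, Subgroup.comap_map_eq_self_of_injective K.subtype_injective]
    have hN : ((f.ker.map K.subtype).subgroupOf K).Normal := by
      rw [hker]; infer_instance
    refine ⟨K, f.ker.map K.subtype, hN, ⟨?_⟩⟩
    exact (QuotientGroup.quotientMulEquivOfEq hker).trans
      (QuotientGroup.quotientKerEquivOfSurjective f hf)

/-- transport along an injective homomorphism of the big group -/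
theorem Involves.of_injective {H : Type u} [Group H] {G : Type v} [Group G] {G' : Type w} [Group G']
    (f : G →* G') (hf : Function.Injective f) (h : Involves H G) : Involves H G' := by
  rw [involves_iff_exists_surj] at h ⊢
  obtain ⟨K, φ, hφ⟩ := h
  let e : K ≃* K.map f := K.equivMapOfInjective f hf
  exact ⟨K.map f, φ.comp e.symm.toMonoidHom, hφ.comp e.symm.surjective⟩

/-- a subgroup of an involved group is involved -/
theorem Involves.subgroup {H : Type u} [Group H] {G : Type v} [Group G] (Q : Subgroup H)
    (h : Involves H G) : Involves Q G := by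
  rw [involves_iff_exists_surj] at h ⊢
  obtain ⟨K, φ, hφ⟩ := h
  let K₁ : Subgroup K := Q.comap φ
  let e : K₁ ≃* K₁.map K.subtype := K₁.equivMapOfInjective K.subtype K.subtype_injective
  refine ⟨K₁.map K.subtype, (φ.subgroupComap Q).comp e.symm.toMonoidHom, ?_⟩
  exact (MonoidHom.subgroupComap_surjective_of_surjective φ Q hφ).comp e.symm.surjective

/-- a group involved in a subgroup is involved in the group -/
theorem Involves.of_subgroup {H : Type u} [Group H] {G : Type v} [Group G] (T : Subgroup G)
    (h : Involves H T) : Involves H G :=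
  Involves.of_injective T.subtype T.subtype_injective h

/-- a `p`-group involved in a finite group is involved in each of its Sylow `p`-subgroups -/
theorem Involves.sylow {Q : Type u} [Group Q] {G : Type v} [Group G] [Finite G] {p : ℕ}
    [Fact p.Prime] (hQ : IsPGroup p Q) (h : Involves Q G) (T : Sylow p G) : Involves Q T := by
  rw [involves_iff_exists_surj] at h ⊢
  obtain ⟨K, φ, hφ⟩ := h
  -- a Sylow subgroup of K maps onto Q
  obtain ⟨T₁⟩ : Nonempty (Sylow p K) := inferInstance
  have htop : (T₁.mapSurjective hφ : Subgroup Q) = ⊤ := by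
    have hp : IsPGroup p (⊤ : Subgroup Q) := by
      intro x
      obtain ⟨k, hk⟩ := hQ (x : Q)
      exact ⟨k, Subtype.ext (by simpa using hk)⟩
    exact ((T₁.mapSurjective hφ).is_maximal' hp le_top).symm
  rw [Sylow.coe_mapSurjective] at htop
  -- move T₁ into T
  have hp1 : IsPGroup p ((T₁ : Subgroup K).map K.subtype) := T₁.isPGroup'.map _
  obtain ⟨T', hT'⟩ := hp1.exists_le_sylow
  obtain ⟨g, hg⟩ := MulAction.exists_smul_eq G T' T
  -- the map x ↦ g x g⁻¹ from T₁ into T
  have hmem : ∀ x : (T₁ : Subgroup K), g * ((x : K) : G) * g⁻¹ ∈ (T : Subgroup G) := by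
    intro x
    rw [← hg, Sylow.coe_subgroup_smul]
    exact ⟨_, hT' ⟨x, x.2, rfl⟩, rfl⟩
  let ψ : (T₁ : Subgroup K) →* T :=
    { toFun := fun x => ⟨g * ((x : K) : G) * g⁻¹, hmem x⟩
      map_one' := by apply Subtype.ext; simp
      map_mul' := by intro a b; apply Subtype.ext; simp [mul_assoc] }
  have hψ : Function.Injective ψ := by
    intro a b hab
    have h1 : g * ((a : K) : G) * g⁻¹ = g * ((b : K) : G) * g⁻¹ := congrArg (fun z : T => (z : G)) hab
    have h2 : ((a : K) : G) = ((b : K) : G) := mul_left_cancel (mul_right_cancel h1)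
    exact Subtype.ext (Subtype.ext h2)
  let e : (T₁ : Subgroup K) ≃* ψ.range := MonoidHom.ofInjective hψ
  refine ⟨ψ.range, (φ.comp (T₁ : Subgroup K).subtype).comp e.symm.toMonoidHom, ?_⟩
  have hs : Function.Surjective (φ.comp (T₁ : Subgroup K).subtype) := by
    intro q
    have : q ∈ (T₁ : Subgroup K).map φ := by rw [htop]; trivial
    obtain ⟨x, hx, rfl⟩ := this
    exact ⟨⟨x, hx⟩, rfl⟩
  intro q
  obtain ⟨x, hx⟩ := hs q
  refine ⟨e x, ?_⟩
  simp only [MonoidHom.coe_comp, MulEquiv.coe_toMonoidHom, Function.comp_apply, MulEquiv.symm_apply_apply]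
  exact hx

end Cfsg.Agent.Lib.Helper88
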