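import Mathlib

/-!
# Project SPMD (helper43), module [F-PSI] (helper88): additive characters of a finite field
-/

set_option autoImplicit false

namespace Cfsg.Agent.Lib.Helper43.SPMD

section Fld
variable {F : Type*} [Field F] [Fintype F]

/-- **[F-PSI]** a non-trivial additive character exists -/
theorem exists_addChar_ne_one : ∃ ψ : AddChar F ℂ, ψ ≠ 1 := by
  obtain ⟨ψ, hψ⟩ := (AddChar.exists_apply_ne_zero (α := F) (a := 1)).mpr one_ne_zero
  refine ⟨ψ, fun h => hψ ?_⟩
  rw [h]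
  rfl

/-- **[F-PSI]** every additive character of `F` is `ψ (s ·)` -/
theorem exists_mulShift_eq (ψ : AddChar F ℂ) (hψ : ψ ≠ 1) (f : F → ℂˣ)
    (hf : ∀ a b, f (a + b) = f a * f b) : ∃ s : F, ∀ c, ((f c : ℂˣ) : ℂ) = ψ (s * c) := by
  classical
  have hprim : AddChar.IsPrimitive ψ := AddChar.IsPrimitive.of_ne_one hψ
  have hinj : Function.Injective ψ.mulShift := AddChar.to_mulShift_inj_of_isPrimitive hprim
  have hcard : Fintype.card F = Fintype.card (AddChar F ℂ) := AddChar.card_eq.symm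
  have hbij : Function.Bijective ψ.mulShift :=
    (Fintype.bijective_iff_injective_and_card _).mpr ⟨hinj, hcard⟩
  have hf0 : f 0 = 1 := by
    have h1 := hf 0 0
    rw [add_zero] at h1
    exact (mul_eq_left (a := f 0) (b := f 0)).mp h1.symm
  let χ : AddChar F ℂ :=
    { toFun := fun c => ((f c : ℂˣ) : ℂ)
      map_zero_eq_one' := by rw [hf0]; rfl
      map_add_eq_mul' := fun a b => by rw [hf a b]; rfl }
  obtain ⟨s, hs⟩ := hbij.2 χ
  refine ⟨s, fun c => ?_⟩
  have h1 : ψ.mulShift s c = χ c := by rw [hs]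
  rw [AddChar.mulShift_apply] at h1
  exact h1.symm

/-- **[F-PSI]** orthogonality -/
theorem sum_addChar_mul (ψ : AddChar F ℂ) (hψ : ψ ≠ 1) (a : F) (ha : a ≠ 0) :
    ∑ c : F, ψ (a * c) = 0 := by
  have hprim : AddChar.IsPrimitive ψ := AddChar.IsPrimitive.of_ne_one hψ
  have h1 : ψ.mulShift a ≠ 1 := hprim ha
  have h2 := AddChar.sum_eq_zero_of_ne_one h1
  simpa [AddChar.mulShift_apply] using h2

/-- **[F-PSI]** `ψ (s ·)` determines `s` -/
theorem addChar_mul_injective (ψ : AddChar F ℂ) (hψ : ψ ≠ 1) (s s' : F)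
    (h : ∀ c, ψ (s * c) = ψ (s' * c)) : s = s' := by
  have hprim : AddChar.IsPrimitive ψ := AddChar.IsPrimitive.of_ne_one hψ
  apply AddChar.to_mulShift_inj_of_isPrimitive hprim
  ext c
  rw [AddChar.mulShift_apply, AddChar.mulShift_apply]
  exact h c

/-- **[F-PSI]** -/
theorem two_ne_zero_of_odd_card (hodd : Odd (Fintype.card F)) : (2 : F) ≠ 0 := by
  apply Ring.two_ne_zero
  intro h2
  have h3 := FiniteField.even_card_iff_char_two.mp h2
  rcases hodd with ⟨k, hk⟩
  omega

end Fld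

end Cfsg.Agent.Lib.Helper43.SPMD
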