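import Mathlib

/-!
# Project SPMD (helper43), module [F-UNIV] (helper88): anisotropic binary quadratic forms over a finite field
of odd order are universal
-/

set_option autoImplicit false

namespace Cfsg.Agent.Lib.Helper43.SPMD

section Fld
variable {F : Type*} [Field F] [Fintype F]

open Polynomial in
/-- **[F-UNIV]** an anisotropic binary quadratic form over a finite field of odd order is universal -/
theorem binary_form_universal (hodd : Odd (Fintype.card F)) (s₁ s₂ t : F)
    (hani : ∀ a b : F, s₁ * a ^ 2 + s₂ * b ^ 2 + t * a * b = 0 → a = 0 ∧ b = 0) (d : F) :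
    ∃ a b : F, s₁ * a ^ 2 + s₂ * b ^ 2 + t * a * b = d := by
  have h2 : (2 : F) ≠ 0 := by
    apply Ring.two_ne_zero
    intro h2
    have h3 := FiniteField.even_card_iff_char_two.mp h2
    rcases hodd with ⟨k, hk⟩
    omega
  have hs₁ : s₁ ≠ 0 := by
    intro h0
    have := (hani 1 0 (by rw [h0]; ring)).1
    exact one_ne_zero this
  have h4 : (4 : F) ≠ 0 := by
    have : (4 : F) = 2 * 2 := by norm_num
    rw [this]; exact mul_ne_zero h2 h2
  -- the discriminant-type constant
  have hD : s₂ - t ^ 2 / (4 * s₁) ≠ 0 := by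
    intro h0
    have h1 : s₁ * (-t / (2 * s₁)) ^ 2 + s₂ * 1 ^ 2 + t * (-t / (2 * s₁)) * 1 = 0 := by
      have : s₁ * (-t / (2 * s₁)) ^ 2 + s₂ * 1 ^ 2 + t * (-t / (2 * s₁)) * 1 =
          s₂ - t ^ 2 / (4 * s₁) := by
        field_simp
        ring
      rw [this, h0]
    exact one_ne_zero (hani _ _ h1).2
  have hf2 : (C s₁ * X ^ 2 + C 0 * X + C (-d) : F[X]).degree = 2 := degree_quadratic hs₁
  have hg2 : (C (s₂ - t ^ 2 / (4 * s₁)) * X ^ 2 + C 0 * X + C 0 : F[X]).degree = 2 :=
    degree_quadratic hD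
  have hcard : Fintype.card F % 2 = 1 := Nat.odd_iff.mp hodd
  obtain ⟨a', b, hab⟩ := FiniteField.exists_root_sum_quadratic hf2 hg2 hcard
  simp only [eval_add, eval_mul, eval_C, eval_pow, eval_X, zero_mul, add_zero] at hab
  refine ⟨a' - t * b / (2 * s₁), b, ?_⟩
  have e : s₁ * (a' - t * b / (2 * s₁)) ^ 2 + s₂ * b ^ 2 + t * (a' - t * b / (2 * s₁)) * b =
      s₁ * a' ^ 2 + (s₂ - t ^ 2 / (4 * s₁)) * b ^ 2 := by
    field_simp
    ring
  rw [e]
  linear_combination hab

end Fld

end Cfsg.Agent.Lib.Helper43.SPMD
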