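import Mathlib

/-!
Coprime action on a finite abelian group: `V = C_V(A) × [V, A]` when `gcd(|A|, |V|) = 1`.
-/

set_option autoImplicit false

namespace Cfsg.Agent.Lib.Helper88

/-- fixed points of a group of automorphisms -/
def fixedSub {V : Type*} [Group V] (A : Subgroup (MulAut V)) : Subgroup V where
  carrier := {x | ∀ a ∈ A, a x = x}
  one_mem' := fun a _ => map_one a
  mul_mem' := by
    intro x y hx hy a ha
    rw [map_mul, hx a ha, hy a ha]
  inv_mem' := by
    intro x hx a ha
    rw [map_inv, hx a ha]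

theorem mem_fixedSub {V : Type*} [Group V] (A : Subgroup (MulAut V)) (x : V) :
    x ∈ fixedSub A ↔ ∀ a ∈ A, a x = x := Iff.rfl

/-- the commutator `[V, A]` -/
def commSub {V : Type*} [Group V] (A : Subgroup (MulAut V)) : Subgroup V :=
  Subgroup.closure {y | ∃ a ∈ A, ∃ x : V, y = x⁻¹ * a x}

section comm

variable {V : Type*} [CommGroup V] [Finite V] (A : Subgroup (MulAut V))

/-- the norm map `x ↦ ∏_{a ∈ A} a x` -/
noncomputable def normMap : V →* V :=
  letI : Fintype A := Fintype.ofFinite A
  ∏ a : A, ((a : MulAut V).toMonoidHom)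

theorem normMap_apply (x : V) :
    letI : Fintype A := Fintype.ofFinite A
    normMap A x = ∏ a : A, (a : MulAut V) x := by
  classical
  simp [normMap, MonoidHom.finset_prod_apply]

theorem normMap_apply_aut (x : V) (b : MulAut V) (hb : b ∈ A) : normMap A (b x) = normMap A x := by
  classical
  letI : Fintype A := Fintype.ofFinite A
  rw [normMap_apply, normMap_apply]
  exact Fintype.prod_equiv (Equiv.mulRight (⟨b, hb⟩ : A)) _ _ (fun a => rfl)

theorem aut_normMap (x : V) (b : MulAut V) (hb : b ∈ A) : b (normMap A x) = normMap A x := by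
  classical
  letI : Fintype A := Fintype.ofFinite A
  rw [normMap_apply, map_prod]
  exact Fintype.prod_equiv (Equiv.mulLeft (⟨b, hb⟩ : A)) _ _ (fun a => rfl)

theorem normMap_mem_fixedSub (x : V) : normMap A x ∈ fixedSub A :=
  fun b hb => aut_normMap A x b hb

theorem normMap_of_mem_fixedSub {x : V} (hx : x ∈ fixedSub A) : normMap A x = x ^ Nat.card A := by
  classical
  letI : Fintype A := Fintype.ofFinite A
  rw [normMap_apply]
  have : ∀ a : A, (a : MulAut V) x = x := fun a => hx a a.2
  simp only [this, Finset.prod_const, Finset.card_univ, Nat.card_eq_fintype_card]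

theorem commSub_le_ker_normMap : commSub A ≤ (normMap A).ker := by
  unfold commSub
  rw [Subgroup.closure_le]
  rintro _ ⟨a, ha, x, rfl⟩
  show normMap A (x⁻¹ * a x) = 1
  rw [map_mul, map_inv, normMap_apply_aut A x a ha, inv_mul_cancel]

theorem pow_card_div_normMap_mem_commSub (x : V) : x ^ Nat.card A * (normMap A x)⁻¹ ∈ commSub A := by
  classical
  letI : Fintype A := Fintype.ofFinite A
  have h1 : x ^ Nat.card A * (normMap A x)⁻¹ = ∏ a : A, (x * ((a : MulAut V) x)⁻¹) := by
    rw [normMap_apply, Finset.prod_mul_distrib, Finset.prod_inv_distrib]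
    simp [Finset.prod_const, Finset.card_univ, Nat.card_eq_fintype_card]
  rw [h1]
  apply Subgroup.prod_mem
  intro a _
  apply Subgroup.subset_closure
  refine ⟨a, a.2, x⁻¹, ?_⟩
  rw [map_inv, inv_inv]

theorem fixedSub_inf_commSub (hcop : (Nat.card A).Coprime (Nat.card V)) :
    fixedSub A ⊓ commSub A = ⊥ := by
  rw [eq_bot_iff]
  rintro x ⟨hx1, hx2⟩
  have h1 : x ^ Nat.card A = 1 := by
    rw [← normMap_of_mem_fixedSub A hx1]
    exact commSub_le_ker_normMap A hx2
  have h2 : x ^ Nat.card V = 1 := pow_card_eq_one'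
  have h3 : orderOf x ∣ Nat.gcd (Nat.card A) (Nat.card V) :=
    Nat.dvd_gcd (orderOf_dvd_of_pow_eq_one h1) (orderOf_dvd_of_pow_eq_one h2)
  rw [hcop] at h3
  have : orderOf x = 1 := Nat.dvd_one.mp h3
  exact orderOf_eq_one_iff.mp this

theorem fixedSub_sup_commSub (hcop : (Nat.card A).Coprime (Nat.card V)) :
    fixedSub A ⊔ commSub A = ⊤ := by
  rw [eq_top_iff]
  intro x _
  obtain ⟨y, rfl⟩ := (powCoprime hcop.symm).surjective x
  show y ^ Nat.card A ∈ _
  have : y ^ Nat.card A = normMap A y * (y ^ Nat.card A * (normMap A y)⁻¹) := by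
    rw [mul_comm (y ^ Nat.card A), mul_inv_cancel_left]
  rw [this]
  exact Subgroup.mul_mem_sup (normMap_mem_fixedSub A y) (pow_card_div_normMap_mem_commSub A y)

end comm

/-- Coprime action on a finite abelian group, stated for a `Group` with a commutativity hypothesis. -/
theorem coprime_abelian_decomp {V : Type*} [Group V] [Finite V] (hcomm : ∀ x y : V, x * y = y * x)
    (A : Subgroup (MulAut V)) (hcop : (Nat.card A).Coprime (Nat.card V)) :
    fixedSub A ⊓ commSub A = ⊥ ∧ fixedSub A ⊔ commSub A = ⊤ := by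
  letI : CommGroup V := { (inferInstance : Group V) with mul_comm := hcomm }
  exact ⟨fixedSub_inf_commSub A hcop, fixedSub_sup_commSub A hcop⟩

end Cfsg.Agent.Lib.Helper88
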