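import Cfsg.Agent.Lib.Helper85.FusionBasic
import Cfsg.Agent.Lib.Helper87.FusionCore
import Cfsg.Agent.Lib.Helper87.FusionSat
import Mathlib

/-!
Alperin's fusion theorem in centric-radical form: a saturated fusion system over a finite `p`-group
is generated by the automorphism groups of its fully normalized, centric, radical subgroups.
-/

set_option autoImplicit false

namespace Cfsg.Agent.Lib.Helper88

open Cfsg Cfsg.FusionSystem
open Cfsg.Agent.Lib.Helper87

variable {Ω : Type*} [Group Ω] {S : Subgroup Ω}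

/-- a map of the system from `N_S(Q)` restricting to an isomorphism `Q ≃ R` sends `N_S(Q)` into `N_S(R)` -/
theorem map_normalizerIn_mem (F : FusionSystem S) {Q R : Subgroup Ω}
    {ψ : normalizerIn S Q →* Ω} (hψ : ψ ∈ F.Hom (normalizerIn S Q)) (e : Q ≃* R) (hQ : Q ≤ S)
    (hψe : ∀ (x : Ω) (hx : x ∈ Q) (hx' : x ∈ normalizerIn S Q), ψ ⟨x, hx'⟩ = e ⟨x, hx⟩)
    (y : normalizerIn S Q) : ψ y ∈ normalizerIn S R := by
  have key : ∀ y : normalizerIn S Q, ∀ r ∈ R, ψ y * r * (ψ y)⁻¹ ∈ R := by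
    intro y r hr
    obtain ⟨q, hq⟩ : ∃ q : Q, (e q : Ω) = r := ⟨e.symm ⟨r, hr⟩, by simp⟩
    have hqN : (q : Ω) ∈ normalizerIn S Q := le_normalizerIn hQ q.2
    have h1 : ψ ⟨q, hqN⟩ = r := by rw [hψe q q.2 hqN]; exact hq
    have hyq : (y : Ω) * q * (y : Ω)⁻¹ ∈ Q := (Subgroup.mem_normalizer_iff.mp y.2.2 q).mp q.2
    have hyqN : (y : Ω) * q * (y : Ω)⁻¹ ∈ normalizerIn S Q := le_normalizerIn hQ hyq
    have h2 : ψ y * r * (ψ y)⁻¹ = ψ ⟨(y : Ω) * q * (y : Ω)⁻¹, hyqN⟩ := by
      rw [← h1, ← map_inv, ← map_mul, ← map_mul]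
      rfl
    rw [h2, hψe _ hyq hyqN]
    exact (e _).2
  refine ⟨hom_map_mem F hψ y, ?_⟩
  show ψ y ∈ Subgroup.normalizer (R : Set Ω)
  rw [Subgroup.mem_normalizer_iff]
  intro r
  constructor
  · exact key y r
  · intro h
    have := key y⁻¹ _ h
    rw [map_inv] at this
    have e2 : (ψ y)⁻¹ * (ψ y * r * (ψ y)⁻¹) * (ψ y)⁻¹⁻¹ = r := by group
    rwa [e2] at this

/-- fully automized + receptive implies fully normalized -/
theorem isFullyNormalized_of_fullyAutomized_receptive (F : FusionSystem S) [Finite S] {p : ℕ}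
    [Fact p.Prime] (hS : IsPGroup p S) {R : Subgroup Ω} (hRa : F.IsFullyAutomized p R)
    (hRr : F.IsReceptive R) : F.IsFullyNormalized R := by
  refine ⟨hRa.1, fun Q hRQ => ?_⟩
  have hQR : F.IsConj Q R := IsConj_symm hRQ
  have hQS : Q ≤ S := IsConj_le_left hQR
  obtain ⟨ψ, e, hψ, -, hψe⟩ := exists_extension F hS hRa hRr hQR
  have hval := map_normalizerIn_mem F hψ e hQS hψe
  have : Finite (normalizerIn S R) := finite_of_le (normalizerIn_le S R)
  apply Nat.card_le_card_of_injective (ψ.codRestrict (normalizerIn S R) hval)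
  intro a b hab
  apply F.injective_of_mem hψ
  exact congrArg (fun z : normalizerIn S R => (z : Ω)) hab

/-- if `R` is fully automized and receptive but not centric, some element of `C_S(R)` is outside `R` -/
theorem exists_centralizer_not_mem_of_not_centric (F : FusionSystem S) [Finite S] {p : ℕ}
    [Fact p.Prime] (hS : IsPGroup p S) {R : Subgroup Ω} (hRa : F.IsFullyAutomized p R)
    (hRr : F.IsReceptive R) (hnc : ¬ F.IsCentric R) : ∃ g ∈ centralizerIn S R, g ∉ R := by
  unfold FusionSystem.IsCentric at hnc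
  rw [not_and] at hnc
  have hnc' := hnc hRa.1
  rw [not_forall] at hnc'
  obtain ⟨Q, hQ'⟩ := hnc'
  rw [Classical.not_imp] at hQ'
  obtain ⟨hRQ, hQ⟩ := hQ' 
  have hQR : F.IsConj Q R := IsConj_symm hRQ
  have hQS : Q ≤ S := IsConj_le_left hQR
  obtain ⟨y, hyC, hyQ⟩ := SetLike.not_le_iff_exists.mp hQ
  obtain ⟨ψ, e, hψ, -, hψe⟩ := exists_extension F hS hRa hRr hQR
  have hyN : y ∈ normalizerIn S Q := by
    refine ⟨hyC.1, ?_⟩
    show y ∈ Subgroup.normalizer (Q : Set Ω)
    rw [Subgroup.mem_normalizer_iff]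
    intro h
    have hcomm : ∀ q ∈ Q, y * q * y⁻¹ = q := by
      intro q hq
      have := Subgroup.mem_centralizer_iff.mp hyC.2 q hq
      rw [← this, mul_inv_cancel_right]
    constructor
    · intro hh; rw [hcomm h hh]; exact hh
    · intro hh
      have h3 := hcomm _ hh
      have h4 : y * h * y⁻¹ = h := by
        have : y * (y * h * y⁻¹) * y⁻¹ = y * h * y⁻¹ := h3
        have h5 : y⁻¹ * (y * (y * h * y⁻¹) * y⁻¹) * y = y⁻¹ * (y * h * y⁻¹) * y := by rw [this]
        have e1 : y⁻¹ * (y * (y * h * y⁻¹) * y⁻¹) * y = y * h * y⁻¹ := by group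
        have e2 : y⁻¹ * (y * h * y⁻¹) * y = h := by group
        rw [e1, e2] at h5
        exact h5
      rw [← h4]; exact hh
  refine ⟨ψ ⟨y, hyN⟩, ⟨hom_map_mem F hψ _, ?_⟩, ?_⟩
  · show ψ ⟨y, hyN⟩ ∈ Subgroup.centralizer (R : Set Ω)
    rw [Subgroup.mem_centralizer_iff]
    intro r hr
    obtain ⟨q, hq⟩ : ∃ q : Q, (e q : Ω) = r := ⟨e.symm ⟨r, hr⟩, by simp⟩
    have hqN : (q : Ω) ∈ normalizerIn S Q := le_normalizerIn hQS q.2
    have h1 : ψ ⟨q, hqN⟩ = r := by rw [hψe q q.2 hqN]; exact hq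
    rw [← h1, ← map_mul, ← map_mul]
    congr 1
    apply Subtype.ext
    exact Subgroup.mem_centralizer_iff.mp hyC.2 q q.2
  · intro hr
    obtain ⟨q, hq⟩ : ∃ q : Q, (e q : Ω) = ψ ⟨y, hyN⟩ := ⟨e.symm ⟨_, hr⟩, by simp⟩
    have hqN : (q : Ω) ∈ normalizerIn S Q := le_normalizerIn hQS q.2
    have h1 : ψ ⟨q, hqN⟩ = ψ ⟨y, hyN⟩ := by rw [hψe q q.2 hqN]; exact hq
    have := F.injective_of_mem hψ h1
    apply hyQ
    have h2 : (q : Ω) = y := congrArg (fun z : normalizerIn S Q => (z : Ω)) this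
    rw [← h2]
    exact q.2

/-- elements of `C_S(R)` lie in every extender -/
theorem centralizerIn_le_extender {R : Subgroup Ω} (φ : R →* Ω) :
    centralizerIn S R ≤ extender S R φ := by
  intro g hg
  rw [Cfsg.Agent.Lib.Helper85.mem_extender_iff]
  have hcomm : ∀ q ∈ R, g * q * g⁻¹ = q := by
    intro q hq
    have := Subgroup.mem_centralizer_iff.mp hg.2 q hq
    rw [← this, mul_inv_cancel_right]
  refine ⟨hg.1, ?_, 1, S.one_mem, ?_⟩
  · rw [Subgroup.mem_normalizer_iff]
    intro h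
    constructor
    · intro hh; rw [hcomm h hh]; exact hh
    · intro hh
      have h3 := hcomm _ hh
      have h5 : g⁻¹ * (g * (g * h * g⁻¹) * g⁻¹) * g = g⁻¹ * (g * h * g⁻¹) * g := by rw [h3]
      have e1 : g⁻¹ * (g * (g * h * g⁻¹) * g⁻¹) * g = g * h * g⁻¹ := by group
      have e2 : g⁻¹ * (g * h * g⁻¹) * g = h := by group
      rw [e1, e2] at h5
      rw [← h5]; exact hh
  · intro x hx
    have : (⟨g * (x : Ω) * g⁻¹, hx⟩ : R) = x := Subtype.ext (hcomm x x.2)
    rw [this, one_mul, inv_one, mul_one]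

theorem inn_isPGroup {p : ℕ} (hS : IsPGroup p S) {R : Subgroup Ω} (hR : R ≤ S) :
    IsPGroup p (Inn R) := by
  have hpR : IsPGroup p R := by
    intro x
    obtain ⟨k, hk⟩ := hS ⟨x, hR x.2⟩
    refine ⟨k, ?_⟩
    apply Subtype.ext
    have := congrArg (fun z : S => (z : Ω)) hk
    simpa using this
  exact hpR.to_quotient _ |>.of_equiv (QuotientGroup.quotientKerEquivRange (MulAut.conj : R →* MulAut R))

theorem inn_le_autInducedBy {R : Subgroup Ω} (hR : R ≤ S) : Inn R ≤ autInducedBy S R := by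
  rintro _ ⟨r, rfl⟩
  rw [mem_autInducedBy_iff]
  exact ⟨r, hR r.2, fun x => rfl⟩

/-- **Key step of Alperin's theorem.** For a fully automized receptive `R` and `α ∈ Aut_F(R)`, either
the extender of `α` contains an element outside `R`, or `R` is centric, radical and fully normalized. -/
theorem extender_proper_or (F : FusionSystem S) [Finite S] {p : ℕ} [Fact p.Prime] (hS : IsPGroup p S)
    {R : Subgroup Ω} (hRa : F.IsFullyAutomized p R) (hRr : F.IsReceptive R) (α : MulAut R)
    (hα : α ∈ F.autGroup R) :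
    (∃ g ∈ extender S R (R.subtype.comp α.toMonoidHom), g ∉ R) ∨
      (F.IsCentric R ∧ F.IsRadical p R ∧ F.IsFullyNormalized R) := by
  have hRS : R ≤ S := hRa.1
  by_cases hc : F.IsCentric R
  swap
  · left
    obtain ⟨g, hg, hgR⟩ := exists_centralizer_not_mem_of_not_centric F hS hRa hRr hc
    exact ⟨g, centralizerIn_le_extender _ hg, hgR⟩
  have hfinR : Finite R := finite_of_le hRS
  obtain ⟨-, R', hR'⟩ := hRa
  obtain ⟨K, hK⟩ : ∃ K : Subgroup (F.autGroup R), K = pCore p (F.autGroup R) := ⟨_, rfl⟩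
  have hKn : K.Normal := hK ▸ Subgroup.sSup_normal _ (fun H hH => hH.1)
  have hKp : IsPGroup p K := hK ▸ Sylow.sSup_of_normal _ (fun _ h => h.2) (fun _ h => h.1)
  have hKR' : K ≤ (R' : Subgroup (F.autGroup R)) := hKp.le_sylow_of_normal R'
  have hInnA : Inn R ≤ F.autGroup R := (inn_le_autInducedBy hRS).trans (autInducedBy_le_autGroup F hRS)
  have hInnK : Inn R ≤ K.map (F.autGroup R).subtype := by
    have hIn : ((Inn R).subgroupOf (F.autGroup R)).Normal := inferInstance
    have hIp : IsPGroup p ((Inn R).subgroupOf (F.autGroup R)) := (inn_isPGroup hS hRS).comap_subtype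
    have : (Inn R).subgroupOf (F.autGroup R) ≤ K := hK ▸ le_sSup ⟨hIn, hIp⟩
    intro x hx
    exact ⟨⟨x, hInnA hx⟩, this (Subgroup.mem_subgroupOf.mpr hx), rfl⟩
  by_cases hrad : K.map (F.autGroup R).subtype = Inn R
  · right
    exact ⟨hc, ⟨hRS, hK ▸ hrad⟩, isFullyNormalized_of_fullyAutomized_receptive F hS ⟨hRS, R', hR'⟩ hRr⟩
  · left
    have hnle : ¬ K.map (F.autGroup R).subtype ≤ Inn R := fun h => hrad (le_antisymm h hInnK)
    obtain ⟨κ, hκK, hκI⟩ := SetLike.not_le_iff_exists.mp hnle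
    obtain ⟨k, hkK, rfl⟩ := hκK
    have hkS : (k : MulAut R) ∈ autInducedBy S R := by
      have : k ∈ (autInducedBy S R).subgroupOf (F.autGroup R) := hR' ▸ hKR' hkK
      exact Subgroup.mem_subgroupOf.mp this
    obtain ⟨g, hgS, hgk⟩ := mem_autInducedBy_iff.1 hkS
    refine ⟨g, ?_, ?_⟩
    · rw [Cfsg.Agent.Lib.Helper85.mem_extender_iff]
      refine ⟨hgS, ?_, ?_⟩
      · rw [Subgroup.mem_normalizer_iff]
        intro h
        constructor
        · intro hh
          have := hgk ⟨h, hh⟩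
          rw [← this]
          exact ((k : MulAut R) ⟨h, hh⟩).2
        · intro hh
          have := hgk ((k : MulAut R).symm ⟨_, hh⟩)
          rw [MulEquiv.apply_symm_apply] at this
          have h2 : h = (((k : MulAut R).symm ⟨_, hh⟩ : R) : Ω) := by
            have h3 : g * h * g⁻¹ = g * (((k : MulAut R).symm ⟨_, hh⟩ : R) : Ω) * g⁻¹ := this
            exact mul_left_cancel (mul_right_cancel h3)
          rw [h2]
          exact ((k : MulAut R).symm ⟨_, hh⟩).2
      · -- the conjugate of k by α lies in K ≤ Aut_S(R)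
        have hconj : (⟨α, hα⟩ : F.autGroup R) * k * (⟨α, hα⟩ : F.autGroup R)⁻¹ ∈ K := hKn.conj_mem k hkK _
        have hconjS : ((⟨α, hα⟩ : F.autGroup R) * k * (⟨α, hα⟩ : F.autGroup R)⁻¹ : F.autGroup R).1 ∈ autInducedBy S R := by
          have : (⟨α, hα⟩ : F.autGroup R) * k * (⟨α, hα⟩ : F.autGroup R)⁻¹ ∈ (autInducedBy S R).subgroupOf (F.autGroup R) :=
            hR' ▸ hKR' hconj
          exact Subgroup.mem_subgroupOf.mp this
        obtain ⟨h, hhS, hh⟩ := mem_autInducedBy_iff.1 hconjS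
        refine ⟨h, hhS, fun x hx => ?_⟩
        have h1 := hh (α x)
        have h2 : (((⟨α, hα⟩ : F.autGroup R) * k * (⟨α, hα⟩ : F.autGroup R)⁻¹ : F.autGroup R).1) (α x) = α ((k : MulAut R) x) := by
          show α ((k : MulAut R) (α⁻¹ (α x))) = _
          rw [MulAut.inv_apply_self]
        rw [h2] at h1
        have h3 : (k : MulAut R) x = ⟨g * (x : Ω) * g⁻¹, hx⟩ := Subtype.ext (hgk x)
        rw [h3] at h1
        exact h1
    · intro hgR
      apply hκI
      refine ⟨⟨g, hgR⟩, ?_⟩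
      ext x
      show ((MulAut.conj (⟨g, hgR⟩ : R) x : R) : Ω) = (((k : MulAut R) x : R) : Ω)
      rw [hgk x]
      rfl

/-- **Alperin's fusion theorem, centric-radical form.** If a fusion system `E` over `S` contains the
`F`-automorphisms of every fully normalized, centric, radical subgroup (`F` saturated), then `F ≤ E`. -/
theorem alperin_cr (F E : FusionSystem S) [Finite S] {p : ℕ} [Fact p.Prime] (hS : IsPGroup p S)
    (hF : F.IsSaturated p)
    (h : ∀ R : Subgroup Ω, F.IsFullyNormalized R → F.IsCentric R → F.IsRadical p R →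
      F.IsFullyAutomized p R → F.IsReceptive R →
      ∀ α : MulAut R, α ∈ F.autGroup R → IsIso E (α : R ≃* R)) :
    ∀ P : Subgroup Ω, F.Hom P ⊆ E.Hom P := by
  apply alperin_weak F E hS hF
  intro R hRa hRr IH α hα
  rcases extender_proper_or F hS hRa hRr α hα with ⟨g, hgN, hgR⟩ | ⟨hc, hr, hn⟩
  · have hRS : R ≤ S := hRa.1
    have hφ : R.subtype.comp α.toMonoidHom ∈ F.Hom R := (mem_autGroup_iff F hRS).1 hα
    have hφr : (R.subtype.comp α.toMonoidHom).range = R := range_subtype_comp α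
    obtain ⟨ψ, hψ, hψe⟩ := hRr.2 R _ hφ hφr
    have hRN : R ≤ extender S R (R.subtype.comp α.toMonoidHom) := by
      intro r hr
      have hrC : r ∈ S := hRS hr
      rw [Cfsg.Agent.Lib.Helper85.mem_extender_iff]
      refine ⟨hrC, ?_, (α ⟨r, hr⟩ : Ω), hRS (α ⟨r, hr⟩).2, ?_⟩
      · rw [Subgroup.mem_normalizer_iff]
        intro h
        constructor
        · intro hh; exact R.mul_mem (R.mul_mem hr hh) (R.inv_mem hr)
        · intro hh
          have : h = r⁻¹ * (r * h * r⁻¹) * r := by group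
          rw [this]
          exact R.mul_mem (R.mul_mem (R.inv_mem hr) hh) hr
      · intro x hx
        have : (⟨r * (x : Ω) * r⁻¹, hx⟩ : R) = ⟨r, hr⟩ * x * ⟨r, hr⟩⁻¹ := Subtype.ext rfl
        rw [this]
        simp
    have hNS : extender S R (R.subtype.comp α.toMonoidHom) ≤ S :=
      (extender_le S R _).trans (normalizerIn_le S R)
    have hfinN : Finite (extender S R (R.subtype.comp α.toMonoidHom)) := finite_of_le hNS
    have hlt : Nat.card R < Nat.card (extender S R (R.subtype.comp α.toMonoidHom)) := by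
      by_contra hle
      have heq := Subgroup.eq_of_le_of_card_ge hRN (not_lt.mp hle)
      exact hgR (heq ▸ hgN)
    have hψE : ψ ∈ E.Hom (extender S R (R.subtype.comp α.toMonoidHom)) := IH _ hlt hψ
    refine restrict_mem' E hψE hRN ?_
    intro x
    exact (hψe x.1 x.2 (hRN x.2)).symm
  · exact h R hn hc hr hRa hRr α hα

end Cfsg.Agent.Lib.Helper88
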