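import Cfsg.Agent.Lib.Helper85.FusionBasic
import Cfsg.Agent.Lib.Helper87.FusionCore
import Cfsg.Agent.Lib.Helper87.FusionSat
import Cfsg.Agent.Lib.Helper88.FusionAlperinCR
import Mathlib

/-!
Fully centralized subgroups in saturated fusion systems: they are receptive; moving a subgroup
`Z` centralized by `P` to a fully automized receptive conjugate by a map defined on `P`.
-/

set_option autoImplicit false

namespace Cfsg.Agent.Lib.Helper88

open Cfsg Cfsg.FusionSystem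
open Cfsg.Agent.Lib.Helper87

variable {Ω : Type*} [Group Ω] {S : Subgroup Ω}

/-- if `h P h⁻¹ ⊆ P` for a finite subgroup `P` then `h` normalizes `P` -/
theorem mem_normalizer_of_conj_mem_of_finite {P : Subgroup Ω} [Finite P] {h : Ω}
    (hh : ∀ y ∈ P, h * y * h⁻¹ ∈ P) : h ∈ Subgroup.normalizer (P : Set Ω) := by
  rw [Subgroup.mem_normalizer_iff]
  intro y
  refine ⟨hh y, fun hy => ?_⟩
  let f : P → P := fun y => ⟨h * y * h⁻¹, hh y y.2⟩
  have hinj : Function.Injective f := by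
    intro a b hab
    have : h * (a : Ω) * h⁻¹ = h * (b : Ω) * h⁻¹ := congrArg (fun z : P => (z : Ω)) hab
    exact Subtype.ext (mul_left_cancel (mul_right_cancel this))
  obtain ⟨y', hy'⟩ := (Finite.injective_iff_surjective.mp hinj) ⟨_, hy⟩
  have h2 : h * (y' : Ω) * h⁻¹ = h * y * h⁻¹ := congrArg (fun z : P => (z : Ω)) hy'
  have : (y' : Ω) = y := mul_left_cancel (mul_right_cancel h2)
  rw [← this]
  exact y'.2

/-- In a saturated fusion system a fully centralized subgroup is receptive. -/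
theorem isReceptive_of_fullyCentralized (F : FusionSystem S) [Finite S] {p : ℕ} [Fact p.Prime]
    (hS : IsPGroup p S) (hF : F.IsSaturated p) {P : Subgroup Ω} (hP : F.IsFullyCentralized P) :
    F.IsReceptive P := by
  have hPS : P ≤ S := hP.1
  have hfinP : Finite P := finite_of_le hPS
  obtain ⟨Q, hPQ, hQa, hQr⟩ := hF P hPS
  have hQS : Q ≤ S := hQa.1
  obtain ⟨θ, e, hθ, he, hθe⟩ := exists_extension F hS hQa hQr hPQ
  -- θ maps C_S(P) onto C_S(Q)
  have hCN : centralizerIn S P ≤ normalizerIn S P := by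
    intro c hc
    refine ⟨hc.1, ?_⟩
    have := centralizerIn_le_extender (S := S) (P.subtype) hc
    exact (extender_le S P _ this).2
  have hθC : ∀ c (hc : c ∈ centralizerIn S P), θ ⟨c, hCN hc⟩ ∈ centralizerIn S Q := by
    intro c hc
    refine ⟨hom_map_mem F hθ _, ?_⟩
    show θ ⟨c, hCN hc⟩ ∈ Subgroup.centralizer (Q : Set Ω)
    rw [Subgroup.mem_centralizer_iff]
    intro q hq
    obtain ⟨x, hx⟩ : ∃ x : P, (e x : Ω) = q := ⟨e.symm ⟨q, hq⟩, by simp⟩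
    have hxN : (x : Ω) ∈ normalizerIn S P := le_normalizerIn hPS x.2
    have h1 : θ ⟨x, hxN⟩ = q := by rw [hθe x x.2 hxN]; exact hx
    rw [← h1, ← map_mul, ← map_mul]
    congr 1
    apply Subtype.ext
    exact Subgroup.mem_centralizer_iff.mp hc.2 x x.2
  have hsurjC : ∀ d ∈ centralizerIn S Q, ∃ c, ∃ hc : c ∈ centralizerIn S P, θ ⟨c, hCN hc⟩ = d := by
    have hfinCQ : Finite (centralizerIn S Q) := finite_of_le inf_le_left
    have hfinCP : Finite (centralizerIn S P) := finite_of_le inf_le_left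
    let f : centralizerIn S P → centralizerIn S Q := fun c => ⟨θ ⟨c, hCN c.2⟩, hθC c c.2⟩
    have hinj : Function.Injective f := by
      intro a b hab
      have h1 : θ ⟨a, hCN a.2⟩ = θ ⟨b, hCN b.2⟩ := congrArg (fun z : centralizerIn S Q => (z : Ω)) hab
      have := F.injective_of_mem hθ h1
      exact Subtype.ext (congrArg (fun z : normalizerIn S P => (z : Ω)) this)
    have hcard : Nat.card (centralizerIn S Q) ≤ Nat.card (centralizerIn S P) := hP.2 Q hPQ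
    have hbij : Function.Bijective f := by
      rw [Nat.bijective_iff_injective_and_card]
      exact ⟨hinj, le_antisymm (Nat.card_le_card_of_injective f hinj) hcard⟩
    intro d hd
    obtain ⟨c, hc⟩ := hbij.2 ⟨d, hd⟩
    exact ⟨c, c.2, congrArg (fun z : centralizerIn S Q => (z : Ω)) hc⟩
  refine ⟨hPS, fun T φ hφ hφr => ?_⟩
  have hTS : T ≤ S := hom_le F hφ
  have hφP : ∀ x : T, φ x ∈ P := fun x => hφr.le ⟨x, rfl⟩
  have hφN : ∀ x : T, φ x ∈ normalizerIn S P := fun x => le_normalizerIn hPS (hφP x)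
  -- φ' = θ ∘ φ
  have hφ' : θ.comp (φ.codRestrict _ hφN) ∈ F.Hom T := F.comp_mem hφ hθ hφN
  set φ' : T →* Ω := θ.comp (φ.codRestrict _ hφN) with hφ'def
  have hφ'r : φ'.range = Q := by
    apply le_antisymm
    · rintro _ ⟨x, rfl⟩
      show θ ⟨φ x, hφN x⟩ ∈ Q
      rw [hθe (φ x) (hφP x) (hφN x)]
      exact (e _).2
    · intro q hq
      obtain ⟨x, hx⟩ := hφr.ge (e.symm ⟨q, hq⟩).2
      refine ⟨x, ?_⟩
      show θ ⟨φ x, hφN x⟩ = q
      rw [hθe (φ x) (hφP x) (hφN x)]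
      have : (⟨φ x, hφP x⟩ : P) = e.symm ⟨q, hq⟩ := Subtype.ext hx
      rw [this, MulEquiv.apply_symm_apply]
  obtain ⟨ψ', hψ', hψ'e⟩ := hQr.2 T φ' hφ' hφ'r
  -- data attached to an element of the extender of φ
  have hdata : ∀ g ∈ extender S T φ, ∃ h, ∃ hh : h ∈ normalizerIn S P,
      ∀ (x : T) (hx : g * (x : Ω) * g⁻¹ ∈ T), φ' ⟨g * x * g⁻¹, hx⟩ = θ ⟨h, hh⟩ * φ' x * (θ ⟨h, hh⟩)⁻¹ := by
    intro g hg
    rw [Cfsg.Agent.Lib.Helper85.mem_extender_iff] at hg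
    obtain ⟨hgS, hgN, h, hhS, hh⟩ := hg
    have hhN : h ∈ normalizerIn S P := by
      refine ⟨hhS, mem_normalizer_of_conj_mem_of_finite (fun y hy => ?_)⟩
      obtain ⟨x, hx⟩ := hφr.ge hy
      have hgx : g * (x : Ω) * g⁻¹ ∈ T := (Subgroup.mem_normalizer_iff.mp hgN x).mp x.2
      rw [← hx, ← hh x hgx]
      exact hφP _
    refine ⟨h, hhN, fun x hx => ?_⟩
    show θ ⟨φ ⟨g * x * g⁻¹, hx⟩, _⟩ = θ ⟨h, hhN⟩ * θ ⟨φ x, hφN x⟩ * (θ ⟨h, hhN⟩)⁻¹
    rw [← map_inv, ← map_mul, ← map_mul]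
    congr 1
    apply Subtype.ext
    exact hh x hx
  have hext : extender S T φ ≤ extender S T φ' := by
    intro g hg
    obtain ⟨h, hhN, hh⟩ := hdata g hg
    have hg' := (Cfsg.Agent.Lib.Helper85.mem_extender_iff S T φ g).1 hg
    rw [Cfsg.Agent.Lib.Helper85.mem_extender_iff]
    exact ⟨hg'.1, hg'.2.1, θ ⟨h, hhN⟩, hom_map_mem F hθ _, hh⟩
  -- values of ψ' on the extender of φ lie in the range of θ
  have hval : ∀ g : extender S T φ, ψ' (Subgroup.inclusion hext g) ∈ θ.range := by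
    intro g
    obtain ⟨h, hhN, hh⟩ := hdata g g.2
    have hg' := (Cfsg.Agent.Lib.Helper85.mem_extender_iff S T φ g).1 g.2
    have hTle : T ≤ extender S T φ' := by
      intro x hx
      rw [Cfsg.Agent.Lib.Helper85.mem_extender_iff]
      refine ⟨hTS hx, ?_, φ' ⟨x, hx⟩, hom_map_mem F hφ' _, fun y hy => ?_⟩
      · rw [Subgroup.mem_normalizer_iff]
        intro y
        constructor
        · intro hy; exact T.mul_mem (T.mul_mem hx hy) (T.inv_mem hx)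
        · intro hy
          have : y = x⁻¹ * (x * y * x⁻¹) * x := by group
          rw [this]
          exact T.mul_mem (T.mul_mem (T.inv_mem hx) hy) hx
      · have : (⟨x * (y : Ω) * x⁻¹, hy⟩ : T) = ⟨x, hx⟩ * y * ⟨x, hx⟩⁻¹ := Subtype.ext rfl
        rw [this, map_mul, map_mul, map_inv]
    -- d := θ(h)⁻¹ ψ'(g) centralizes Q
    have hd : (θ ⟨h, hhN⟩)⁻¹ * ψ' (Subgroup.inclusion hext g) ∈ centralizerIn S Q := by
      refine ⟨S.mul_mem (S.inv_mem (hom_map_mem F hθ _)) (hom_map_mem F hψ' _), ?_⟩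
      show _ ∈ Subgroup.centralizer (Q : Set Ω)
      rw [Subgroup.mem_centralizer_iff]
      intro q hq
      obtain ⟨x, hx⟩ := hφ'r.ge hq
      have hgx : (g : Ω) * (x : Ω) * (g : Ω)⁻¹ ∈ T := (Subgroup.mem_normalizer_iff.mp hg'.2.1 x).mp x.2
      have h1 := hh x hgx
      have h2 : ψ' ⟨(g : Ω) * x * (g : Ω)⁻¹, hTle hgx⟩ = φ' ⟨(g : Ω) * x * (g : Ω)⁻¹, hgx⟩ :=
        hψ'e _ hgx (hTle hgx)
      have h3 : ψ' ⟨(x : Ω), hTle x.2⟩ = φ' x := hψ'e _ x.2 (hTle x.2)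
      have h4 : ψ' ⟨(g : Ω) * x * (g : Ω)⁻¹, hTle hgx⟩ =
          ψ' (Subgroup.inclusion hext g) * ψ' ⟨(x : Ω), hTle x.2⟩ * (ψ' (Subgroup.inclusion hext g))⁻¹ := by
        rw [← map_inv, ← map_mul, ← map_mul]
        rfl
      rw [h2, h3, h1, hx] at h4
      calc q * ((θ ⟨h, hhN⟩)⁻¹ * ψ' (Subgroup.inclusion hext g))
          = (θ ⟨h, hhN⟩)⁻¹ * (θ ⟨h, hhN⟩ * q * (θ ⟨h, hhN⟩)⁻¹) * ψ' (Subgroup.inclusion hext g) := by
            group
        _ = (θ ⟨h, hhN⟩)⁻¹ * (ψ' (Subgroup.inclusion hext g) * q * (ψ' (Subgroup.inclusion hext g))⁻¹)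
              * ψ' (Subgroup.inclusion hext g) := by rw [h4]
        _ = (θ ⟨h, hhN⟩)⁻¹ * ψ' (Subgroup.inclusion hext g) * q := by group
    obtain ⟨c, hc, hcd⟩ := hsurjC _ hd
    refine ⟨⟨h, hhN⟩ * ⟨c, hCN hc⟩, ?_⟩
    rw [map_mul, hcd, mul_inv_cancel_left]
  -- ψ = θ⁻¹ ∘ ψ'
  let eθ := MonoidHom.ofInjective (F.injective_of_mem hθ)
  have heθ : IsIso F eθ := isIso_ofInjective F hθ
  have hres : ψ'.comp (Subgroup.inclusion hext) ∈ F.Hom (extender S T φ) := restrict_mem F hψ' hext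
  let ψ : extender S T φ →* Ω :=
    (normalizerIn S P).subtype.comp (eθ.symm.toMonoidHom.comp ((ψ'.comp (Subgroup.inclusion hext)).codRestrict θ.range hval))
  have hψ : ψ ∈ F.Hom (extender S T φ) := heθ.symm.comp_hom hres hval (fun x => rfl)
  refine ⟨ψ, hψ, fun x hxT hxN => ?_⟩
  show ((eθ.symm ⟨ψ' (Subgroup.inclusion hext ⟨x, hxN⟩), _⟩ : normalizerIn S P) : Ω) = φ ⟨x, hxT⟩
  have h5 : ψ' (Subgroup.inclusion hext ⟨x, hxN⟩) = φ' ⟨x, hxT⟩ := hψ'e x hxT (hext hxN)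
  have h6 : (⟨ψ' (Subgroup.inclusion hext ⟨x, hxN⟩), hval ⟨x, hxN⟩⟩ : θ.range) =
      eθ ⟨φ ⟨x, hxT⟩, hφN ⟨x, hxT⟩⟩ := Subtype.ext h5
  rw [h6, MulEquiv.symm_apply_apply]

/-- **Moving a centralized subgroup to a fully automized receptive conjugate.** If `Z ≤ P` and `P`
centralizes `Z`, there is an isomorphism `a : P ≃ A` of the (saturated) system carrying `Z` onto a
fully automized receptive subgroup `Z'`. -/
theorem exists_iso_to_receptive (F : FusionSystem S) [Finite S] {p : ℕ} [Fact p.Prime]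
    (hF : F.IsSaturated p) {Z P : Subgroup Ω} (hZP : Z ≤ P) (hPS : P ≤ S)
    (hPC : P ≤ Subgroup.centralizer (Z : Set Ω)) :
    ∃ (Z' A : Subgroup Ω) (a : P ≃* A), IsIso F a ∧ F.IsFullyAutomized p Z' ∧ F.IsReceptive Z' ∧
      F.IsConj Z Z' ∧ Z' ≤ A ∧ ∀ x : P, (x : Ω) ∈ Z ↔ ((a x : A) : Ω) ∈ Z' := by
  have hZS : Z ≤ S := hZP.trans hPS
  obtain ⟨Z', hZZ', hZ'a, hZ'r⟩ := hF Z hZS
  obtain ⟨e, he⟩ := (isConj_iff F).1 hZZ'
  obtain ⟨ψ, hψ, hψe⟩ := hZ'r.2 Z _ he (range_subtype_comp e)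
  have hPext : P ≤ extender S Z (Z'.subtype.comp e.toMonoidHom) :=
    fun x hx => centralizerIn_le_extender _ ⟨hPS hx, hPC hx⟩
  have hres : ψ.comp (Subgroup.inclusion hPext) ∈ F.Hom P := restrict_mem F hψ hPext
  refine ⟨Z', _, MonoidHom.ofInjective (F.injective_of_mem hres), isIso_ofInjective F hres, hZ'a, hZ'r,
    hZZ', ?_, fun x => ?_⟩
  · intro w hw
    refine ⟨⟨(e.symm ⟨w, hw⟩ : Z), hZP (e.symm ⟨w, hw⟩).2⟩, ?_⟩
    have h1 := hψe (e.symm ⟨w, hw⟩) (e.symm ⟨w, hw⟩).2 (hPext (hZP (e.symm ⟨w, hw⟩).2))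
    show ψ ⟨((e.symm ⟨w, hw⟩ : Z) : Ω), _⟩ = w
    rw [h1]
    show ((e (e.symm ⟨w, hw⟩) : Z') : Ω) = w
    rw [MulEquiv.apply_symm_apply]
  show (x : Ω) ∈ Z ↔ ψ (Subgroup.inclusion hPext x) ∈ Z'
  constructor
  · intro hx
    have := hψe x hx (hPext x.2)
    have h2 : ψ (Subgroup.inclusion hPext x) = ψ ⟨x, hPext x.2⟩ := rfl
    rw [h2, this]
    exact (e _).2
  · intro hx
    have h1 := hψe (e.symm ⟨_, hx⟩) (e.symm ⟨_, hx⟩).2 (hPext (hZP (e.symm ⟨_, hx⟩).2))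
    have h2 : (Z'.subtype.comp e.toMonoidHom) ⟨((e.symm ⟨_, hx⟩ : Z) : Ω), (e.symm ⟨_, hx⟩).2⟩ =
        ψ (Subgroup.inclusion hPext x) := by
      show ((e (e.symm ⟨_, hx⟩) : Z') : Ω) = _
      rw [MulEquiv.apply_symm_apply]
    rw [h2] at h1
    have h3 := F.injective_of_mem hψ h1
    have h4 : ((e.symm ⟨_, hx⟩ : Z) : Ω) = x := congrArg (fun z : extender S Z _ => (z : Ω)) h3
    rw [← h4]
    exact (e.symm ⟨_, hx⟩).2

end Cfsg.Agent.Lib.Helper88
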