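import Cfsg.Agent.Lib.Helper85.FusionRealized
import Cfsg.Agent.Lib.Helper87.FusionCore
import Cfsg.Agent.Lib.Helper87.FusionSat
import Cfsg.Agent.Lib.Helper88.FusionFC
import Mathlib

/-!
For a normal subgroup `N` of a finite group `G` with Sylow `p`-subgroup `S`, the fusion system
`F_{S ∩ N}(N)` is a normal subsystem of `F_S(G)`.
-/

set_option autoImplicit false

namespace Cfsg.Agent.Lib.Helper88

open Cfsg Cfsg.FusionSystem
open Cfsg.Agent.Lib.Helper87

section grp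

variable {G : Type*} [Group G]

theorem conj_mem_centralizer_of_mem_normalizer {T : Subgroup G} {g c : G}
    (hg : g ∈ Subgroup.normalizer (T : Set G)) (hc : c ∈ Subgroup.centralizer (T : Set G)) :
    g * c * g⁻¹ ∈ Subgroup.centralizer (T : Set G) := by
  rw [Subgroup.mem_centralizer_iff] at hc ⊢
  intro x hx
  have hx' : g⁻¹ * x * g ∈ T := by
    have := (Subgroup.mem_normalizer_iff''.mp hg x).mp hx
    exact this
  have h1 := hc _ hx'
  calc x * (g * c * g⁻¹) = g * ((g⁻¹ * x * g) * c) * g⁻¹ := by group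
    _ = g * (c * (g⁻¹ * x * g)) * g⁻¹ := by rw [h1]
    _ = g * c * g⁻¹ * x := by group

variable [Finite G] {p : ℕ} [Fact p.Prime]

/-- `S ∩ N` is a Sylow `p`-subgroup of the normal subgroup `N`. -/
theorem sylow_inf_normal (S : Sylow p G) (N : Subgroup G) [N.Normal] :
    ∃ R : Sylow p N, (R : Subgroup N) = ((S : Subgroup G) ⊓ N).subgroupOf N := by
  rw [Cfsg.Agent.Lib.Helper85.sylow_subgroupOf_iff inf_le_right]
  refine ⟨S.isPGroup'.to_le inf_le_left, fun T₁ hT₁N hT₁ => ?_⟩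
  obtain ⟨g, hg⟩ := Cfsg.Agent.Lib.Helper85.exists_conj_le_sylow S hT₁
  have hle : T₁.map (MulAut.conj g).toMonoidHom ≤ (S : Subgroup G) ⊓ N := by
    refine le_inf hg ?_
    rintro _ ⟨x, hx, rfl⟩
    exact (inferInstance : N.Normal).conj_mem x (hT₁N hx) g
  calc Nat.card T₁ = Nat.card (T₁.map (MulAut.conj g).toMonoidHom) :=
        (Cfsg.Agent.Lib.Helper85.card_map_conj T₁ g).symm
    _ ≤ Nat.card ((S : Subgroup G) ⊓ N : Subgroup G) := Subgroup.card_le_of_le hle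

/-- `S` normalizes `S ∩ N`. -/
theorem sylow_le_normalizer_inf (S : Subgroup G) (N : Subgroup G) [N.Normal] :
    S ≤ Subgroup.normalizer ((S ⊓ N : Subgroup G) : Set G) := by
  intro s hs
  rw [Subgroup.mem_normalizer_iff]
  intro x
  constructor
  · rintro ⟨hxS, hxN⟩
    exact ⟨S.mul_mem (S.mul_mem hs hxS) (S.inv_mem hs), (inferInstance : N.Normal).conj_mem x hxN s⟩
  · rintro ⟨hxS, hxN⟩
    have e : x = s⁻¹ * (s * x * s⁻¹) * s⁻¹⁻¹ := by group
    constructor
    · show x ∈ S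
      rw [e]; exact S.mul_mem (S.mul_mem (S.inv_mem hs) hxS) (S.inv_mem (S.inv_mem hs))
    · show x ∈ N
      rw [e]; exact (inferInstance : N.Normal).conj_mem _ hxN s⁻¹

/-- A Sylow subgroup of `C` contained in an intermediate subgroup `K` is Sylow in `K`. -/
theorem sylow_subgroupOf_of_le {D K C : Subgroup G} (hDK : D ≤ K) (hKC : K ≤ C)
    (hR : ∃ R : Sylow p C, (R : Subgroup C) = D.subgroupOf C) :
    ∃ R : Sylow p K, (R : Subgroup K) = D.subgroupOf K := by
  obtain ⟨RC, hRC⟩ := hR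
  have hDC : D ≤ C := hDK.trans hKC
  have hDp : IsPGroup p D := by
    have : IsPGroup p (D.subgroupOf C) := hRC ▸ RC.isPGroup'
    exact this.of_equiv (Subgroup.subgroupOfEquivOfLe hDC)
  rw [Cfsg.Agent.Lib.Helper85.sylow_subgroupOf_iff hDK]
  refine ⟨hDp, fun T₁ hT₁K hT₁ => ?_⟩
  have h1 := Cfsg.Agent.Lib.Helper85.card_le_card_sylow RC (hT₁K.trans hKC) hT₁
  have h2 : Nat.card RC = Nat.card D := by
    have : Nat.card (RC : Subgroup C) = Nat.card (D.subgroupOf C) := by rw [hRC]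
    rw [Cfsg.Agent.Lib.Helper85.card_subgroupOf_of_le hDC] at this
    exact this
  rw [← h2]; exact h1

/-- Frattini argument for `T = S ∩ N`. -/
theorem frattini_inf (S : Sylow p G) (N : Subgroup G) [N.Normal] (g : G) :
    ∃ h ∈ Subgroup.normalizer (((S : Subgroup G) ⊓ N : Subgroup G) : Set G), ∃ n ∈ N, g = h * n := by
  obtain ⟨R, hR⟩ := sylow_inf_normal S N
  have h1 := Sylow.normalizer_sup_eq_top R
  have h2 : (R : Subgroup N).map N.subtype = (S : Subgroup G) ⊓ N := by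
    rw [hR, Subgroup.subgroupOf_map_subtype, inf_assoc, inf_idem]
  rw [h2] at h1
  have hle : Subgroup.normalizer (((S : Subgroup G) ⊓ N : Subgroup G) : Set G) ≤
      Subgroup.normalizer (N : Set G) := by
    have : Subgroup.normalizer (N : Set G) = ⊤ := Subgroup.normalizer_eq_top_iff.mpr inferInstance
    rw [this]; exact le_top
  exact Cfsg.Agent.Lib.Helper85.mem_sup_of_le_normalizer hle (h1 ▸ Subgroup.mem_top g)

/-- **Adjusting a normalizing element.** For `g ∈ N_N(T)`, `T = S ∩ N`, some `h ∈ N` induces the same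
automorphism of `T` and normalizes `C_S(T)`. -/
theorem exists_normalizing_centralizerIn (S : Sylow p G) (N : Subgroup G) [N.Normal] {g : G} (hgN : g ∈ N)
    (hgT : g ∈ Subgroup.normalizer (((S : Subgroup G) ⊓ N : Subgroup G) : Set G)) :
    ∃ h ∈ N, h ∈ Subgroup.normalizer (((S : Subgroup G) ⊓ N : Subgroup G) : Set G) ∧
      (∀ x ∈ (S : Subgroup G) ⊓ N, h * x * h⁻¹ = g * x * g⁻¹) ∧
      h ∈ Subgroup.normalizer ((centralizerIn (S : Subgroup G) ((S : Subgroup G) ⊓ N) : Subgroup G) : Set G) := by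
  have hSn := sylow_le_normalizer_inf (S : Subgroup G) N
  -- N_S(T) = S is Sylow in N_G(T)
  have hN : ∃ R : Sylow p ↥(Subgroup.normalizer (((S : Subgroup G) ⊓ N : Subgroup G) : Set G)),
      (R : Subgroup ↥(Subgroup.normalizer (((S : Subgroup G) ⊓ N : Subgroup G) : Set G))) =
        (normalizerIn (S : Subgroup G) ((S : Subgroup G) ⊓ N)).subgroupOf
          (Subgroup.normalizer (((S : Subgroup G) ⊓ N : Subgroup G) : Set G)) := by
    refine ⟨S.subtype hSn, ?_⟩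
    rw [Sylow.coe_subtype]
    unfold normalizerIn
    rw [Subgroup.inf_subgroupOf_right]
  obtain ⟨RC, hRC⟩ := Cfsg.Agent.Lib.Helper85.centralizerIn_sylow_of_normalizerIn_sylow S hN
  have hDC : centralizerIn (S : Subgroup G) ((S : Subgroup G) ⊓ N) ≤
      Subgroup.centralizer (((S : Subgroup G) ⊓ N : Subgroup G) : Set G) := inf_le_right
  have hDp : IsPGroup p (centralizerIn (S : Subgroup G) ((S : Subgroup G) ⊓ N)) :=
    S.isPGroup'.to_le inf_le_left
  -- D normalizes C_N(T)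
  have hDnorm : centralizerIn (S : Subgroup G) ((S : Subgroup G) ⊓ N) ≤
      Subgroup.normalizer ((N ⊓ Subgroup.centralizer (((S : Subgroup G) ⊓ N : Subgroup G) : Set G) :
        Subgroup G) : Set G) := by
    intro d hd
    rw [Subgroup.mem_normalizer_iff]
    intro x
    constructor
    · rintro ⟨hxN, hxC⟩
      exact ⟨(inferInstance : N.Normal).conj_mem x hxN d,
        Subgroup.mul_mem _ (Subgroup.mul_mem _ hd.2 hxC) (Subgroup.inv_mem _ hd.2)⟩
    · rintro ⟨hxN, hxC⟩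
      have e : x = d⁻¹ * (d * x * d⁻¹) * d⁻¹⁻¹ := by group
      constructor
      · show x ∈ N
        rw [e]; exact (inferInstance : N.Normal).conj_mem _ hxN d⁻¹
      · show x ∈ Subgroup.centralizer _
        rw [e]
        exact Subgroup.mul_mem _ (Subgroup.mul_mem _ (Subgroup.inv_mem _ hd.2) hxC)
          (Subgroup.inv_mem _ (Subgroup.inv_mem _ hd.2))
  have hKC : centralizerIn (S : Subgroup G) ((S : Subgroup G) ⊓ N) ⊔
      (N ⊓ Subgroup.centralizer (((S : Subgroup G) ⊓ N : Subgroup G) : Set G)) ≤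
      Subgroup.centralizer (((S : Subgroup G) ⊓ N : Subgroup G) : Set G) := sup_le hDC inf_le_right
  -- D is Sylow in K
  have hRK := sylow_subgroupOf_of_le (p := p) (D := centralizerIn (S : Subgroup G) ((S : Subgroup G) ⊓ N))
    (le_sup_left : _ ≤ centralizerIn (S : Subgroup G) ((S : Subgroup G) ⊓ N) ⊔
      (N ⊓ Subgroup.centralizer (((S : Subgroup G) ⊓ N : Subgroup G) : Set G))) hKC ⟨RC, hRC⟩
  -- g D g⁻¹ ≤ K
  have hgD : (centralizerIn (S : Subgroup G) ((S : Subgroup G) ⊓ N)).map (MulAut.conj g).toMonoidHom ≤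
      centralizerIn (S : Subgroup G) ((S : Subgroup G) ⊓ N) ⊔
      (N ⊓ Subgroup.centralizer (((S : Subgroup G) ⊓ N : Subgroup G) : Set G)) := by
    rintro _ ⟨d, hd, rfl⟩
    have e : (MulAut.conj g).toMonoidHom d = (g * d * g⁻¹ * d⁻¹) * d := by
      show g * d * g⁻¹ = _
      group
    rw [e]
    refine Subgroup.mul_mem _ (Subgroup.mem_sup_right ⟨?_, ?_⟩) (Subgroup.mem_sup_left hd)
    · have : g * d * g⁻¹ * d⁻¹ = g * (d * g⁻¹ * d⁻¹) := by group
      rw [this]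
      exact N.mul_mem hgN ((inferInstance : N.Normal).conj_mem _ (N.inv_mem hgN) d)
    · exact Subgroup.mul_mem _ (conj_mem_centralizer_of_mem_normalizer hgT hd.2)
        (Subgroup.inv_mem _ hd.2)
  obtain ⟨k, hkK, hk⟩ := Cfsg.Agent.Lib.Helper85.exists_conj_le_of_sylow_subgroupOf hRK hgD (hDp.map _)
  obtain ⟨d, hd, c₀, hc₀, rfl⟩ := Cfsg.Agent.Lib.Helper85.mem_sup_of_le_normalizer hDnorm hkK
  have hfinD : Finite (centralizerIn (S : Subgroup G) ((S : Subgroup G) ⊓ N)) := inferInstance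
  refine ⟨c₀ * g, N.mul_mem hc₀.1 hgN, ?_, ?_, ?_⟩
  · exact Subgroup.mul_mem _ (Subgroup.centralizer_le_normalizer _ hc₀.2) hgT
  · intro x hx
    have hx' : g * x * g⁻¹ ∈ (S : Subgroup G) ⊓ N := (Subgroup.mem_normalizer_iff.mp hgT x).mp hx
    have h1 := Subgroup.mem_centralizer_iff.mp hc₀.2 _ hx'
    calc c₀ * g * x * (c₀ * g)⁻¹ = c₀ * (g * x * g⁻¹) * c₀⁻¹ := by group
      _ = (g * x * g⁻¹) * c₀ * c₀⁻¹ := by rw [h1]
      _ = g * x * g⁻¹ := by group
  · apply mem_normalizer_of_conj_mem_of_finite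
    intro y hy
    have h1 : (MulAut.conj (d * c₀)).toMonoidHom ((MulAut.conj g).toMonoidHom y) ∈
        centralizerIn (S : Subgroup G) ((S : Subgroup G) ⊓ N) := hk ⟨_, ⟨y, hy, rfl⟩, rfl⟩
    have h2 : (MulAut.conj (d * c₀)).toMonoidHom ((MulAut.conj g).toMonoidHom y) =
        d * (c₀ * g * y * (c₀ * g)⁻¹) * d⁻¹ := by
      show d * c₀ * (g * y * g⁻¹) * (d * c₀)⁻¹ = _
      group
    rw [h2] at h1
    have h3 := Subgroup.mul_mem _ (Subgroup.mul_mem _ (Subgroup.inv_mem _ hd) h1) hd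
    have e : d⁻¹ * (d * (c₀ * g * y * (c₀ * g)⁻¹) * d⁻¹) * d = c₀ * g * y * (c₀ * g)⁻¹ := by group
    rwa [e] at h3

end grp

section fus

variable {G : Type*} [Group G] [Finite G] {p : ℕ} [Fact p.Prime]

/-- `F_{S ∩ N}(N)` is saturated. -/
theorem fusionSystemOfSubgroup_inf_isSaturated (S : Sylow p G) (N : Subgroup G) [N.Normal] :
    (fusionSystemOfSubgroup N ((S : Subgroup G) ⊓ N) inf_le_right).IsSaturated p := by
  obtain ⟨R, hR⟩ := sylow_inf_normal S N
  have hι : (fusionSystemOfSubgroup N ((S : Subgroup G) ⊓ N) inf_le_right).IsRealizedBy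
      (Subgroup.inclusion (inf_le_right : (S : Subgroup G) ⊓ N ≤ N)) := by
    refine ⟨Subgroup.inclusion_injective _, fun P hP φ hφ => ?_⟩
    constructor
    · rintro ⟨-, -, g, hg, h⟩
      refine ⟨⟨g, hg⟩, fun x => Subtype.ext ?_⟩
      exact h x
    · rintro ⟨g, hg⟩
      refine ⟨hP, hφ, g, g.2, fun x => ?_⟩
      exact congrArg (fun z : N => (z : G)) (hg x)
  refine Cfsg.Agent.Lib.Helper85.isSaturated_of_isRealizedBy hι R ?_
  rw [hR]
  ext x
  constructor
  · intro hx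
    exact ⟨⟨x, hx⟩, rfl⟩
  · rintro ⟨y, rfl⟩
    exact y.2

/-- **`F_{S ∩ N}(N)` is a normal subsystem of `F_S(G)`.** -/
theorem fusionSystemOfSubgroup_inf_isNormalIn (S : Sylow p G) (N : Subgroup G) [N.Normal] :
    (fusionSystemOfSubgroup N ((S : Subgroup G) ⊓ N) inf_le_right).IsNormalIn
      (groupFusionSystem (S : Subgroup G)) p := by
  have hNn : N.Normal := inferInstance
  have hTS : (S : Subgroup G) ⊓ N ≤ (S : Subgroup G) := inf_le_left
  refine ⟨⟨fusionSystemOfSubgroup_inf_isSaturated S N,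
    Cfsg.Agent.Lib.Helper85.groupFusionSystem_isSaturated S, ?_, ?_, ?_, ?_⟩, ?_⟩
  · -- subsystem
    rintro P φ ⟨hP, hφT, g, -, hg⟩
    exact ⟨hP.trans hTS, fun x => hTS (hφT x), g, hg⟩
  · -- strongly closed
    refine ⟨hTS, ?_⟩
    rintro R hRT φ ⟨-, hφS, g, hg⟩ x
    refine ⟨hφS x, ?_⟩
    rw [hg]
    exact hNn.conj_mem _ (hRT x.2).2 g
  · -- invariance
    rintro P hPT φ ⟨-, hφT, n, hn, hφn⟩ α hα
    rw [mem_autGroup_iff _ hTS] at hα
    obtain ⟨-, -, g, hg⟩ := hα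
    have hg' : ∀ x : ((S : Subgroup G) ⊓ N : Subgroup G), ((α x : _) : G) = g * x * g⁻¹ := hg
    have key : ∀ (z : ((S : Subgroup G) ⊓ N : Subgroup G)) (hz : (z : G) ∈ P) (hφz : φ ⟨z, hz⟩ ∈ (S : Subgroup G) ⊓ N),
        g * n * g⁻¹ * ((α z : _) : G) * (g * n * g⁻¹)⁻¹ = ((α ⟨φ ⟨z, hz⟩, hφz⟩ : _) : G) := by
      intro z hz hφz
      rw [hg', hg']
      show _ = g * φ ⟨z, hz⟩ * g⁻¹
      rw [hφn]
      show g * n * g⁻¹ * (g * z * g⁻¹) * (g * n * g⁻¹)⁻¹ = g * (n * z * n⁻¹) * g⁻¹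
      group
    refine ⟨conjHom _ (g * n * g⁻¹), ⟨?_, ?_, g * n * g⁻¹, ?_, fun _ => rfl⟩, ?_⟩
    · rintro _ ⟨z, -, rfl⟩
      exact (α z).2
    · rintro ⟨_, z, hz, rfl⟩
      show g * n * g⁻¹ * ((α z : _) : G) * (g * n * g⁻¹)⁻¹ ∈ _
      rw [key z hz (hφT _)]
      exact (α _).2
    · have : g * n * g⁻¹ ∈ N := hNn.conj_mem n hn g
      exact this
    · intro x hφx hαx
      exact key ⟨x, hPT x.2⟩ x.2 hφx
  · -- Frattini
    rintro P hPT φ ⟨-, hφS, g, hg⟩
    obtain ⟨h, hh, n, hn, rfl⟩ := frattini_inf S N g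
    have hα : conjAut _ h hh ∈ (groupFusionSystem (S : Subgroup G)).autGroup ((S : Subgroup G) ⊓ N) := by
      rw [mem_autGroup_iff _ hTS]
      exact ⟨hTS, fun x => hTS (conjAut _ h hh x).2, h, fun x => rfl⟩
    have hφ₀T : ∀ x : P, n * (x : G) * n⁻¹ ∈ (S : Subgroup G) ⊓ N := by
      intro x
      have h1 : h * n * x * (h * n)⁻¹ ∈ (S : Subgroup G) ⊓ N := by
        refine ⟨?_, hNn.conj_mem _ (hPT x.2).2 _⟩
        rw [← hg]; exact hφS x
      have h2 : h⁻¹ * (h * n * x * (h * n)⁻¹) * h ∈ (S : Subgroup G) ⊓ N :=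
        (Subgroup.mem_normalizer_iff''.mp hh _).mp h1
      have e : h⁻¹ * (h * n * x * (h * n)⁻¹) * h = n * x * n⁻¹ := by group
      rwa [e] at h2
    refine ⟨conjAut _ h hh, hα, conjHom P n, ⟨hPT, hφ₀T, n, hn, fun _ => rfl⟩, fun x hx => ?_⟩
    rw [hg, conjAut_apply]
    show h * n * x * (h * n)⁻¹ = h * (n * x * n⁻¹) * h⁻¹
    group
  · -- extension condition
    intro α hα
    rw [mem_autGroup_iff _ le_rfl] at hα
    obtain ⟨-, -, g, hgN, hg⟩ := hα
    have hg' : ∀ x : ((S : Subgroup G) ⊓ N : Subgroup G), ((α x : _) : G) = g * x * g⁻¹ := hg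
    have hgT : g ∈ Subgroup.normalizer (((S : Subgroup G) ⊓ N : Subgroup G) : Set G) :=
      Cfsg.Agent.Lib.Helper85.mem_normalizer_of_induces hg'
    obtain ⟨h, hhN, hhT, hheq, hhD⟩ := exists_normalizing_centralizerIn S N hgN hgT
    have hTDS : (S : Subgroup G) ⊓ N ⊔ centralizerIn (S : Subgroup G) ((S : Subgroup G) ⊓ N) ≤ (S : Subgroup G) :=
      sup_le hTS inf_le_left
    have hfin : Finite ((S : Subgroup G) ⊓ N ⊔ centralizerIn (S : Subgroup G) ((S : Subgroup G) ⊓ N) : Subgroup G) :=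
      inferInstance
    have hconj : ∀ y ∈ (S : Subgroup G) ⊓ N ⊔ centralizerIn (S : Subgroup G) ((S : Subgroup G) ⊓ N),
        h * y * h⁻¹ ∈ (S : Subgroup G) ⊓ N ⊔ centralizerIn (S : Subgroup G) ((S : Subgroup G) ⊓ N) := by
      have hle : (S : Subgroup G) ⊓ N ⊔ centralizerIn (S : Subgroup G) ((S : Subgroup G) ⊓ N) ≤
          ((S : Subgroup G) ⊓ N ⊔ centralizerIn (S : Subgroup G) ((S : Subgroup G) ⊓ N)).comap
            (MulAut.conj h).toMonoidHom := by
        refine sup_le (fun x hx => ?_) (fun x hx => ?_)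
        · exact Subgroup.mem_sup_left ((Subgroup.mem_normalizer_iff.mp hhT x).mp hx)
        · exact Subgroup.mem_sup_right ((Subgroup.mem_normalizer_iff.mp hhD x).mp hx)
      intro y hy
      exact hle hy
    have hhTD : h ∈ Subgroup.normalizer (((S : Subgroup G) ⊓ N ⊔
        centralizerIn (S : Subgroup G) ((S : Subgroup G) ⊓ N) : Subgroup G) : Set G) :=
      mem_normalizer_of_conj_mem_of_finite hconj
    refine ⟨conjAut _ h hhTD, ?_, fun x => ?_, fun c hc => ?_⟩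
    · rw [mem_autGroup_iff _ hTDS]
      exact ⟨hTDS, fun x => hTDS (conjAut _ h hhTD x).2, h, fun x => rfl⟩
    · rw [conjAut_apply, hg']
      exact hheq x x.2
    · rw [conjAut_apply]
      have hD : h * (c : G) * h⁻¹ ∈ centralizerIn (S : Subgroup G) ((S : Subgroup G) ⊓ N) :=
        (Subgroup.mem_normalizer_iff.mp hhD _).mp hc
      have h1 : (c : G)⁻¹ * (h * c * h⁻¹) ∈ centralizerIn (S : Subgroup G) ((S : Subgroup G) ⊓ N) :=
        Subgroup.mul_mem _ (Subgroup.inv_mem _ hc) hD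
      have h2 : (c : G)⁻¹ * (h * c * h⁻¹) ∈ N := by
        have e : (c : G)⁻¹ * (h * c * h⁻¹) = ((c : G)⁻¹ * h * (c : G)⁻¹⁻¹) * h⁻¹ := by group
        rw [e]
        exact N.mul_mem (hNn.conj_mem h hhN _) (N.inv_mem hhN)
      exact ⟨⟨h1.1, h2⟩, h1.2⟩

end fus

end Cfsg.Agent.Lib.Helper88
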