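import Cfsg.Agent.Lib.Helper85.FusionBasic
import Cfsg.Agent.Lib.Helper85.FusionNormal
import Mathlib

/-!
Automorphism lemmas for fusion systems: maps with `φ.range = P` are automorphisms in `autGroup`,
`Aut_S(P) ≤ Aut_F(P)`, subgroups normal in the system are weakly closed and (in a saturated system)
fully automized and receptive.
-/

set_option autoImplicit false

namespace Cfsg.Agent.Lib.Helper88

open Cfsg Cfsg.FusionSystem
open Cfsg.Agent.Lib.Helper85

variable {Ω : Type*} [Group Ω] {S : Subgroup Ω}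

/-- A map of the system from `P` with range `P` is an element of `Aut_F(P)`. -/
theorem exists_aut_of_range_eq (F : FusionSystem S) {P : Subgroup Ω} {φ : P →* Ω} (hφ : φ ∈ F.Hom P)
    (hr : φ.range = P) :
    ∃ α : MulAut P, α ∈ F.autGroup P ∧ ∀ x : P, ((α x : P) : Ω) = φ x := by
  have hPS : P ≤ S := le_of_mem_Hom F hφ
  have hval : ∀ x : P, φ x ∈ P := fun x => hr.le ⟨x, rfl⟩
  let f : P →* P := φ.codRestrict P hval
  have hinj : Function.Injective f := by
    intro a b hab'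
    apply F.injective_of_mem hφ
    exact congrArg (fun z : P => (z : Ω)) hab'
  have hsurj : Function.Surjective f := by
    intro y
    have hy : (y : Ω) ∈ φ.range := hr.ge y.2
    obtain ⟨x, hx⟩ := hy
    exact ⟨x, Subtype.ext hx⟩
  let α : MulAut P := MulEquiv.ofBijective f ⟨hinj, hsurj⟩
  refine ⟨α, ?_, fun x => rfl⟩
  rw [mem_autGroup_iff F hPS]
  have : P.subtype.comp α.toMonoidHom = φ := by
    ext x
    rfl
  rw [this]
  exact hφ

/-- `Aut_S(P) ≤ Aut_F(P)` for `P ≤ S`. -/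
theorem autInducedBy_le_autGroup (F : FusionSystem S) {P : Subgroup Ω} (hP : P ≤ S) :
    autInducedBy S P ≤ F.autGroup P := by
  intro α hα
  rw [mem_autInducedBy_iff] at hα
  obtain ⟨g, hg, hgα⟩ := hα
  rw [mem_autGroup_iff F hP]
  have : P.subtype.comp α.toMonoidHom = conjHom P g := by
    ext x
    exact hgα x
  rw [this]
  exact F.conj_mem hP hg

/-- A subgroup normal in the system is weakly closed. -/
theorem isNormal_range_eq (F : FusionSystem S) {Q : Subgroup Ω} (hQ : F.IsNormal Q) {φ : Q →* Ω}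
    (hφ : φ ∈ F.Hom Q) : φ.range = Q := by
  obtain ⟨ψ, -, hψ1, hψ2⟩ := hQ.2 Q φ hφ
  apply le_antisymm
  · rintro _ ⟨x, rfl⟩
    apply hψ2.le
    refine ⟨Subgroup.inclusion le_sup_left x, ?_, hψ1 x⟩
    show Subgroup.inclusion le_sup_left x ∈ Q.subgroupOf (Q ⊔ Q)
    rw [Subgroup.mem_subgroupOf]
    exact x.2
  · intro z hz
    obtain ⟨y, hy, rfl⟩ := hψ2.ge hz
    have hy' : y ∈ Q.subgroupOf (Q ⊔ Q) := hy
    rw [Subgroup.mem_subgroupOf] at hy'
    refine ⟨⟨y, hy'⟩, ?_⟩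
    rw [← hψ1]
    rfl

theorem weaklyClosed_of_isNormal (F : FusionSystem S) {Q : Subgroup Ω} (hQ : F.IsNormal Q) :
    F.WeaklyClosed Q :=
  ⟨hQ.1, fun _ hφ => isNormal_range_eq F hQ hφ⟩

/-- In a saturated system, a weakly closed subgroup is fully automized and receptive. -/
theorem fullyAutomized_receptive_of_weaklyClosed (F : FusionSystem S) (p : ℕ) (hF : F.IsSaturated p)
    {Q : Subgroup Ω} (hQ : F.WeaklyClosed Q) : F.IsFullyAutomized p Q ∧ F.IsReceptive Q := by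
  obtain ⟨Q', ⟨χ, hχ, hχr⟩, h1, h2⟩ := hF Q hQ.1
  have : Q' = Q := by rw [← hχr]; exact hQ.2 χ hχ
  subst this
  exact ⟨h1, h2⟩

/-- A subgroup normal in the system is normalized by `S`: conjugation by `g ∈ S` is an element of
`Aut_S(Q)`. -/
theorem exists_autInducedBy_of_isNormal (F : FusionSystem S) {Q : Subgroup Ω} (hQ : F.IsNormal Q)
    {g : Ω} (hg : g ∈ S) :
    ∃ α : MulAut Q, α ∈ autInducedBy S Q ∧ ∀ x : Q, ((α x : Q) : Ω) = g * x * g⁻¹ := by
  have hc : conjHom Q g ∈ F.Hom Q := F.conj_mem hQ.1 hg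
  obtain ⟨α, -, hαx⟩ := exists_aut_of_range_eq F hc (isNormal_range_eq F hQ hc)
  refine ⟨α, ?_, hαx⟩
  rw [mem_autInducedBy_iff]
  exact ⟨g, hg, hαx⟩

/-- For `Q` normal in the system, every map extends to `P ⊔ Q` inducing an element of `Aut_F(Q)`
on `Q`. -/
theorem exists_extension_aut_of_isNormal (F : FusionSystem S) {Q : Subgroup Ω} (hQ : F.IsNormal Q)
    {P : Subgroup Ω} {φ : P →* Ω} (hφ : φ ∈ F.Hom P) :
    ∃ ψ ∈ F.Hom (P ⊔ Q), (∀ x : P, ψ (Subgroup.inclusion le_sup_left x) = φ x) ∧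
      ∃ α : MulAut Q, α ∈ F.autGroup Q ∧
        ∀ x : Q, ((α x : Q) : Ω) = ψ (Subgroup.inclusion le_sup_right x) := by
  obtain ⟨ψ, hψ, hψ1, hψ2⟩ := hQ.2 P φ hφ
  refine ⟨ψ, hψ, hψ1, ?_⟩
  have hres : ψ.comp (Subgroup.inclusion (le_sup_right : Q ≤ P ⊔ Q)) ∈ F.Hom Q :=
    restrict_mem F hψ le_sup_right
  obtain ⟨α, hα, hαx⟩ := exists_aut_of_range_eq F hres (isNormal_range_eq F hQ hres)
  exact ⟨α, hα, fun x => hαx x⟩

end Cfsg.Agent.Lib.Helper88
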