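/-
helper88: S5278, definitions for the action core: fixed points of a subgroup of the acting group, and the statement of S2999
as a `Prop` (so that modules depending on S2999 can be developed before S2999 lands).
-/
import Mathlib
import Cfsg.Prelude.Def_LocalEven
import Cfsg.Prelude.Def_BaumannBlocks
import Cfsg.Prelude.Def_Solvable

set_option autoImplicit false

namespace Cfsg.Agent.Lib.Helper88.GlaubSub

open Cfsg

section defs

variable {Hh U : Type*} [Group Hh] [Group U] [MulDistribMulAction Hh U]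

/-- the fixed points in `U` of a subgroup `B` of the acting group -/
def fixOf (B : Subgroup Hh) : Subgroup U where
  carrier := {u | ∀ b ∈ B, b • u = u}
  mul_mem' := by
    intro u v hu hv b hb
    rw [smul_mul', hu b hb, hv b hb]
  one_mem' := by
    intro b _
    exact smul_one b
  inv_mem' := by
    intro u hu b hb
    rw [smul_inv', hu b hb]

theorem mem_fixOf {B : Subgroup Hh} {u : U} : u ∈ fixOf (U := U) B ↔ ∀ b ∈ B, b • u = u := Iff.rfl

end defs

universe v

/-- the statement of S2999 (frozen text), in universe `v` -/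
def S2999Stmt : Prop :=
  ∀ {G : Type v} [Group G] [Finite G] {p : ℕ} [Fact p.Prime] (V P : Subgroup G) (hV : Cfsg.IsElementaryAbelian p V) (hPV : P ≤ Subgroup.normalizer (V : Set G)) (hfaith : P ⊓ Subgroup.centralizer (V : Set G) = ⊥) (hmin : Cfsg.IsPMinimal p ↥P) (T : Sylow p ↥P) (M : Subgroup ↥P) (hM : IsCoatom M) (hTM : (T : Subgroup ↥P) ≤ M) (A : Subgroup G) (hAT : A ≤ ((T : Subgroup ↥P).map P.subtype)) (hAel : Cfsg.IsElementaryAbelian p A) (hi : Nat.card ↥V ≤ Nat.card ↥A * Nat.card ↥(V ⊓ Subgroup.centralizer ((A : Subgroup G) : Set G)) ∧ ∀ A₀ : Subgroup G, A₀ ≤ A → A₀ ≠ ⊥ → A₀ ≠ A → Nat.card ↥A₀ * Nat.card ↥(V ⊓ Subgroup.centralizer ((A₀ : Subgroup G) : Set G)) < Nat.card ↥A * Nat.card ↥(V ⊓ Subgroup.centralizer ((A : Subgroup G) : Set G))) (hii : ⁅(V ⊓ Subgroup.centralizer ((((T : Subgroup ↥P).map P.subtype) : Subgroup G) : Set G)), P⁆ ≠ ⊥) (hiii : ∀ x : ↥P, x ∉ M → A ⊔ A.map (MulAut.conj (x : G)).toMonoidHom = P), ∃ (F : Type) (_ : Field F)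 (_ : Fintype F), Fintype.card F = Nat.card ↥A ∧ Nonempty (↥P ≃* Matrix.SpecialLinearGroup (Fin 2) F) ∧ (V ⊓ Subgroup.centralizer ((A : Subgroup G) : Set G)) = ⁅V, A⁆ ⊔ (V ⊓ Subgroup.centralizer ((P : Subgroup G) : Set G)) ∧ Cfsg.ActsAsSL2OnSection F ⊤ P V (V ⊓ Subgroup.centralizer ((P : Subgroup G) : Set G))

end Cfsg.Agent.Lib.Helper88.GlaubSub
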