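/-
helper88: `p`-nilpotency reductions for saturated fusion systems, part D: the test given by an isomorphism-invariant
`p`-group functor `W` (`Cfsg.IsCharPFunctor`): `WTest p W F` says that the normalizer system of `W(S)` is `PAut`.
If normal `p`-complements in finite groups are detected by `N_G(W(P))` (`P` Sylow), then `WTest` satisfies `TestHyp`, so
every saturated fusion system with `N_F(W(S))` inner is inner (`paut_of_wtest`).
-/
import Cfsg.Agent.Lib.Helper88.FusionNilpMain
import Cfsg.Agent.Lib.Helper88.FusionModelBasic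
import Cfsg.Agent.Lib.Helper88.FusionFC
import Cfsg.Agent.Lib.Helper2.Burnside
import Cfsg.Agent.S0071
import Cfsg.Prelude.Def_ConjugacyFunctors

set_option autoImplicit false

universe u

namespace Cfsg.Agent.Lib.Helper88.NilpRed

open Cfsg Cfsg.FusionSystem Cfsg.Agent.Lib.Helper87

variable (W : ∀ (Q : Type u) [Group Q], Subgroup Q)

/-- The test attached to a functor `W`: the normalizer system of `W(S)` is `PAut`. -/
def WTest (p : ℕ) (W : ∀ (Q : Type u) [Group Q], Subgroup Q) {Ω : Type u} [Group Ω] {S : Subgroup Ω}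
    (F : FusionSystem S) : Prop :=
  NPAut F p (inducedFunctor W S)

theorem coe_mem_inducedFunctor_iff {Ω : Type u} [Group Ω] (S : Subgroup Ω) (x : S) :
    (x : Ω) ∈ inducedFunctor W S ↔ x ∈ W ↥S := by
  unfold inducedFunctor
  constructor
  · rintro ⟨y, hy, hyx⟩
    have : y = x := Subtype.ext hyx
    rwa [← this]
  · intro h
    exact ⟨x, h, rfl⟩

theorem inducedFunctor_le {Ω : Type u} [Group Ω] (S : Subgroup Ω) : inducedFunctor W S ≤ S :=
  Subgroup.map_subtype_le _

variable {W} {p : ℕ}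

theorem inducedFunctor_equiv (hW : IsCharPFunctor p W) {Ω Ω' : Type u} [Group Ω] [Group Ω']
    {S : Subgroup Ω} {S' : Subgroup Ω'} [Finite S] (hS : IsPGroup p S) (e : S ≃* S') (x : S) :
    (x : Ω) ∈ inducedFunctor W S ↔ ((e x : S') : Ω') ∈ inducedFunctor W S' := by
  rw [coe_mem_inducedFunctor_iff, coe_mem_inducedFunctor_iff, ← hW.2 ↥S ↥S' hS e]
  constructor
  · intro h
    exact ⟨x, h, rfl⟩
  · rintro ⟨y, hy, hyx⟩
    have : y = x := e.injective hyx
    rwa [← this]

theorem inducedFunctor_ne_bot (hW : IsCharPFunctor p W) {Ω : Type u} [Group Ω] {S : Subgroup Ω} [Finite S]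
    (hS : IsPGroup p S) (hne : S ≠ ⊥) : inducedFunctor W S ≠ ⊥ := by
  have hnt : Nontrivial S := (Subgroup.nontrivial_iff_ne_bot S).2 hne
  have h1 := hW.1 ↥S hS hnt
  intro h
  apply h1
  unfold inducedFunctor at h
  exact (Subgroup.map_eq_bot_iff_of_injective _ S.subtype_injective).1 h

theorem conj_mem_inducedFunctor (hW : IsCharPFunctor p W) {Ω : Type u} [Group Ω] {S : Subgroup Ω} [Finite S]
    (hS : IsPGroup p S) {g : Ω} (hg : g ∈ Subgroup.normalizer (S : Set Ω)) {y : Ω}
    (hy : y ∈ inducedFunctor W S) : g * y * g⁻¹ ∈ inducedFunctor W S := by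
  have hyS : y ∈ S := inducedFunctor_le W S hy
  exact (inducedFunctor_equiv hW hS (conjAut S g hg : S ≃* S) ⟨y, hyS⟩).1 hy

theorem inducedFunctor_normalizer (hW : IsCharPFunctor p W) {Ω : Type u} [Group Ω] {S : Subgroup Ω} [Finite S]
    (hS : IsPGroup p S) {g : Ω} (hg : g ∈ Subgroup.normalizer (S : Set Ω)) :
    g ∈ Subgroup.normalizer ((inducedFunctor W S : Subgroup Ω) : Set Ω) := by
  rw [Subgroup.mem_normalizer_iff]
  intro y
  refine ⟨fun hy => conj_mem_inducedFunctor hW hS hg hy, fun hy => ?_⟩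
  have h1 := conj_mem_inducedFunctor hW hS (Subgroup.inv_mem _ hg) hy
  have h2 : g⁻¹ * (g * y * g⁻¹) * g⁻¹⁻¹ = y := by group
  rwa [h2] at h1

/-- Heredity to `N_F(Q)` when `N_S(Q) = S`. -/
theorem wtest_t1 {Ω : Type u} [Group Ω] {S : Subgroup Ω} (F : FusionSystem S) (Q : Subgroup Ω)
    (hN : normalizerIn S Q = S) (E : FusionSystem (normalizerIn S Q)) (hE : F.IsNormalizerSystem Q E)
    (h : WTest p W F) : WTest p W E := by
  unfold WTest at h ⊢
  have h1 : inducedFunctor W (normalizerIn S Q) = inducedFunctor W S := congrArg _ hN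
  rw [h1]
  exact npaut_of_npaut_normalizer F hE h

/-- Climbing. -/
theorem wtest_t2 (hW : IsCharPFunctor p W) {Ω : Type u} [Group Ω] {S : Subgroup Ω} [Finite S] (hS : IsPGroup p S)
    (F : FusionSystem S) (U : Subgroup Ω) (hUS : U ≤ S) (hUne : U ≠ ⊥)
    (E : FusionSystem (normalizerIn S U)) (hE : F.IsNormalizerSystem U E) (h : ¬ WTest p W E) :
    ∃ X : Subgroup Ω, X ≠ ⊥ ∧ X ≤ normalizerIn S U ∧
      normalizerIn S (normalizerIn S U) ≤ normalizerIn S X ∧ ¬ NPAut F p X := by
  have hTS : normalizerIn S U ≤ S := inf_le_left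
  haveI : Finite (normalizerIn S U) := finite_of_le hTS
  have hpT : IsPGroup p (normalizerIn S U) := hS.to_le hTS
  have hTne : normalizerIn S U ≠ ⊥ := by
    intro h0
    apply hUne
    rw [← le_bot_iff, ← h0]
    exact le_normalizerIn hUS
  refine ⟨inducedFunctor W (normalizerIn S U), inducedFunctor_ne_bot hW hpT hTne, inducedFunctor_le W _, ?_, ?_⟩
  · intro g hg
    exact ⟨hg.1, inducedFunctor_normalizer hW hpT hg.2⟩
  · intro h1
    exact h (npaut_of_npaut_normalizer F hE h1)

open Cfsg.Agent.Lib.Helper85 in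
/-- Passage to factor systems. -/
theorem wtest_t3 (hW : IsCharPFunctor p W) {Ω : Type u} [Group Ω] {S : Subgroup Ω} [Finite S] (hS : IsPGroup p S)
    (F : FusionSystem S) (Q : Subgroup Ω) (hQ : F.StronglyClosed Q)
    {Ω' : Type u} [Group Ω'] {S' : Subgroup Ω'} (θ : S →* Ω') (E : FusionSystem S') (hE : F.IsFactorSystem Q θ E)
    (h : ¬ WTest p W E) :
    ∃ L : Subgroup Ω, Q ≤ L ∧ Nat.card Q < Nat.card L ∧ L ≤ S ∧ normalizerIn S L = S ∧ ¬ NPAut F p L := by
  have hE' := hE
  obtain ⟨hQS, hker, hrange, hHom⟩ := hE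
  subst hrange
  haveI : Finite θ.range := Finite.of_surjective θ.rangeRestrict θ.rangeRestrict_surjective
  have hpS' : IsPGroup p θ.range := hS.of_surjective θ.rangeRestrict θ.rangeRestrict_surjective
  have hLS : preimageAlong θ (inducedFunctor W θ.range) ≤ S := preimageAlong_le θ _
  have hQL : Q ≤ preimageAlong θ (inducedFunctor W θ.range) := by
    intro q hq
    rw [mem_preimageAlong_iff]
    refine ⟨hQS hq, ?_⟩
    rw [(hker ⟨q, hQS hq⟩).2 hq]
    exact Subgroup.one_mem _
  have hLnot : ¬ NPAut F p (preimageAlong θ (inducedFunctor W θ.range)) :=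
    fun h1 => h (npaut_factor_of_npaut_preimage F hQ θ E hE' _ h1)
  refine ⟨preimageAlong θ (inducedFunctor W θ.range), hQL, ?_, hLS, ?_, hLnot⟩
  · -- the range is nontrivial, as the test fails
    have hne : θ.range ≠ ⊥ := by
      intro h0
      apply h
      intro R' _ hRN β' _ _
      have hR' : R' ≤ ⊥ := by
        rw [← h0]
        exact hRN.trans inf_le_left
      have : Subsingleton R' := by
        constructor
        intro a b
        apply Subtype.ext
        rw [Subgroup.mem_bot.1 (hR' a.2), Subgroup.mem_bot.1 (hR' b.2)]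
      refine ⟨0, ?_⟩
      ext x
      exact congrArg Subtype.val (Subsingleton.elim _ _)
    have hWne := inducedFunctor_ne_bot hW hpS' hne
    obtain ⟨w, hw1⟩ := (Subgroup.ne_bot_iff_exists_ne_one).1 hWne
    have hwr : (w : Ω') ∈ θ.range := inducedFunctor_le W _ w.2
    obtain ⟨s, hs⟩ := hwr
    have hsL : (s : Ω) ∈ preimageAlong θ (inducedFunctor W θ.range) := by
      rw [mem_preimageAlong_iff]
      refine ⟨s.2, ?_⟩
      rw [hs]
      exact w.2
    have hsQ : (s : Ω) ∉ Q := by
      intro hsQ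
      apply hw1
      apply Subtype.ext
      rw [← hs, (hker s).2 hsQ]
      rfl
    haveI : Finite ↥(preimageAlong θ (inducedFunctor W θ.range)) := finite_of_le hLS
    by_contra hge
    push Not at hge
    have := Subgroup.eq_of_le_of_card_ge hQL hge
    rw [this] at hsQ
    exact hsQ hsL
  · apply le_antisymm inf_le_left
    apply le_normalizerIn_of_conj_mem
    intro g hg y hy
    obtain ⟨hyS, hyW⟩ := (mem_preimageAlong_iff θ _ y).1 hy
    rw [mem_preimageAlong_iff]
    refine ⟨S.mul_mem (S.mul_mem hg hyS) (S.inv_mem hg), ?_⟩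
    have h1 : (⟨g * y * g⁻¹, S.mul_mem (S.mul_mem hg hyS) (S.inv_mem hg)⟩ : S) =
        ⟨g, hg⟩ * ⟨y, hyS⟩ * ⟨g, hg⟩⁻¹ := rfl
    rw [h1, map_mul, map_mul, map_inv]
    exact conj_mem_inducedFunctor hW hpS' (Subgroup.le_normalizer ⟨⟨g, hg⟩, rfl⟩) hyW

section t4

variable [Fact p.Prime]

omit [Fact p.Prime] in
/-- Powers of an automorphism realized, through `ι`, by conjugation with `g`. -/
theorem ι_pow_apply {Ω : Type u} [Group Ω] {S : Subgroup Ω} {G : Type u} [Group G] (ι : S →* G) {R : Subgroup Ω}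
    (hRS : R ≤ S) (β : MulAut R) (g : G)
    (h : ∀ x : R, ι ⟨(β x : R), hRS (β x).2⟩ = g * ι ⟨x, hRS x.2⟩ * g⁻¹) (n : ℕ) (x : R) :
    ι ⟨((β ^ n) x : R), hRS ((β ^ n) x).2⟩ = g ^ n * ι ⟨x, hRS x.2⟩ * (g ^ n)⁻¹ := by
  induction n generalizing x with
  | zero => simp
  | succ n ih =>
    rw [pow_succ, MulAut.mul_apply, ih, h, pow_succ]
    simp [mul_assoc]

open Cfsg.Agent.Lib.Helper85 in
/-- The constrained case: a model detects `PAut` through `N_G(W(T))`. -/
theorem wtest_t4 (hW : IsCharPFunctor p W)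
    (hG4 : ∀ (G : Type u) [Group G] [Finite G] (P : Sylow p G),
      HasNormalPComplement p
        ↥(Subgroup.normalizer ((inducedFunctor W (P : Subgroup G) : Subgroup G) : Set G)) →
      HasNormalPComplement p G)
    {Ω : Type u} [Group Ω] {S : Subgroup Ω} [Finite S] (hS : IsPGroup p S) (F : FusionSystem S) (G : Type u)
    [Group G] (ι : S →* G) (hM : F.IsModel p G ι) (hT : WTest p W F) : PAut F p := by
  obtain ⟨hfin, hR, ⟨T, hTr⟩, -⟩ := hM
  haveI := hfin
  have hι : Function.Injective ι := hR.1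
  have hWiff : ∀ s : S, (s : Ω) ∈ inducedFunctor W S ↔ ι s ∈ inducedFunctor W (T : Subgroup G) := fun s =>
    inducedFunctor_equiv hW hS ((MonoidHom.ofInjective hι).trans (MulEquiv.subgroupCongr hTr.symm)) s
  have hpT : IsPGroup p (T : Subgroup G) := T.isPGroup'
  have hTN : (T : Subgroup G) ≤
      Subgroup.normalizer ((inducedFunctor W (T : Subgroup G) : Subgroup G) : Set G) :=
    fun t ht => inducedFunctor_normalizer hW hpT (Subgroup.le_normalizer ht)
  have hSN : S ≤ normalizerIn S (inducedFunctor W S) :=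
    fun s hs => ⟨hs, inducedFunctor_normalizer hW hS (Subgroup.le_normalizer hs)⟩
  have hWT : inducedFunctor W (T : Subgroup G) ≤ ι.range := hTr ▸ inducedFunctor_le W _
  -- Step (a): Frobenius in `N_G(W(T))`
  have hstepa : HasNormalPComplement p
      ↥(Subgroup.normalizer ((inducedFunctor W (T : Subgroup G) : Subgroup G) : Set G)) := by
    refine ⟨T.subtype hTN, ?_⟩
    apply (Cfsg.Agent.S0071.result (T.subtype hTN)).2
    intro V hV h hhN hcop
    have hVT : V.map (Subgroup.subtype _) ≤ ι.range := by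
      rintro _ ⟨v, hv, rfl⟩
      have h1 := hV hv
      rw [Sylow.coe_subtype, Subgroup.mem_subgroupOf] at h1
      exact hTr ▸ h1
    have hgV : (h : G) ∈ Subgroup.normalizer ((V.map (Subgroup.subtype _) : Subgroup G) : Set G) := by
      apply mem_normalizer_of_conj_mem_of_finite
      rintro _ ⟨v, hv, rfl⟩
      exact ⟨h * v * h⁻¹, (Subgroup.mem_normalizer_iff.1 hhN v).1 hv, rfl⟩
    have hgW : (h : G) ∈ Subgroup.normalizer ((inducedFunctor W (T : Subgroup G) : Subgroup G) : Set G) := h.2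
    have hgVW := mem_normalizer_sup hgV hgW
    have hsup : V.map (Subgroup.subtype _) ⊔ inducedFunctor W (T : Subgroup G) ≤ ι.range := sup_le hVT hWT
    have hRS : preimageAlong ι (V.map (Subgroup.subtype _) ⊔ inducedFunctor W (T : Subgroup G)) ≤ S :=
      preimageAlong_le ι _
    have hWR : inducedFunctor W S ≤
        preimageAlong ι (V.map (Subgroup.subtype _) ⊔ inducedFunctor W (T : Subgroup G)) := by
      intro x hx
      have hxS : x ∈ S := inducedFunctor_le W S hx
      rw [mem_preimageAlong_iff]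
      exact ⟨hxS, le_sup_right (a := V.map (Subgroup.subtype _)) ((hWiff ⟨x, hxS⟩).1 hx)⟩
    have hmemR : ∀ x : ↥(preimageAlong ι (V.map (Subgroup.subtype _) ⊔ inducedFunctor W (T : Subgroup G))),
        ι ⟨x, hRS x.2⟩ ∈ V.map (Subgroup.subtype _) ⊔ inducedFunctor W (T : Subgroup G) :=
      fun x => ((mem_preimageAlong_iff ι _ x).1 x.2).2
    have hconj' : ∀ x : ↥(preimageAlong ι (V.map (Subgroup.subtype _) ⊔ inducedFunctor W (T : Subgroup G))),
        (h : G) * ι ⟨x, hRS x.2⟩ * (h : G)⁻¹ ∈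
          V.map (Subgroup.subtype _) ⊔ inducedFunctor W (T : Subgroup G) :=
      fun x => (Subgroup.mem_normalizer_iff.1 hgVW _).1 (hmemR x)
    have hconj : ∀ x : ↥(preimageAlong ι (V.map (Subgroup.subtype _) ⊔ inducedFunctor W (T : Subgroup G))),
        (h : G) * ι ⟨x, hRS x.2⟩ * (h : G)⁻¹ ∈ ι.range := fun x => hsup (hconj' x)
    have hφ := Model.conjThrough_mem_hom F hR hRS (h : G) hconj
    have hφR : ∀ x, Model.conjThrough ι hι hRS (h : G) hconj x ∈
        preimageAlong ι (V.map (Subgroup.subtype _) ⊔ inducedFunctor W (T : Subgroup G)) := by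
      intro x
      rw [mem_preimageAlong_iff]
      refine ⟨Model.conjThrough_mem ι hι hRS (h : G) hconj x, ?_⟩
      rw [Model.ι_conjThrough]
      exact hconj' x
    haveI : Finite ↥(preimageAlong ι (V.map (Subgroup.subtype _) ⊔ inducedFunctor W (T : Subgroup G))) :=
      finite_of_le hRS
    obtain ⟨β, hβ, hβx⟩ := exists_aut_of_maps_into' F hφ hφR
    have hιβ : ∀ x : ↥(preimageAlong ι (V.map (Subgroup.subtype _) ⊔ inducedFunctor W (T : Subgroup G))),
        ι ⟨(β x : ↥(preimageAlong ι (V.map (Subgroup.subtype _) ⊔ inducedFunctor W (T : Subgroup G)))),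
          hRS (β x).2⟩ = (h : G) * ι ⟨x, hRS x.2⟩ * (h : G)⁻¹ := by
      intro x
      have h1 : (⟨(β x : ↥(preimageAlong ι (V.map (Subgroup.subtype _) ⊔ inducedFunctor W (T : Subgroup G)))),
          hRS (β x).2⟩ : S) = ⟨Model.conjThrough ι hι hRS (h : G) hconj x,
            Model.conjThrough_mem ι hι hRS (h : G) hconj x⟩ := Subtype.ext (hβx x)
      rw [h1]
      exact Model.ι_conjThrough ι hι hRS (h : G) hconj x
    have hβW : ∀ x : ↥(preimageAlong ι (V.map (Subgroup.subtype _) ⊔ inducedFunctor W (T : Subgroup G))),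
        (x : Ω) ∈ inducedFunctor W S ↔
          ((β x : ↥(preimageAlong ι (V.map (Subgroup.subtype _) ⊔ inducedFunctor W (T : Subgroup G)))) : Ω) ∈
            inducedFunctor W S := by
      intro x
      have h1 := hWiff ⟨x, hRS x.2⟩
      have h2 := hWiff ⟨(β x : ↥(preimageAlong ι (V.map (Subgroup.subtype _) ⊔
        inducedFunctor W (T : Subgroup G)))), hRS (β x).2⟩
      rw [hιβ x] at h2
      exact h1.trans ((Subgroup.mem_normalizer_iff.1 hgW _).trans h2.symm)
    obtain ⟨k, hk⟩ := hT _ hWR (hRS.trans hSN) β hβ hβW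
    -- `h ^ p ^ k` centralizes the image of `V`
    have hcent : ∀ v ∈ V, (h : G) ^ p ^ k * (v : G) = (v : G) * (h : G) ^ p ^ k := by
      intro v hv
      have hvr : (v : G) ∈ ι.range := hVT ⟨v, hv, rfl⟩
      obtain ⟨s, hs⟩ := hvr
      have hsR : (s : Ω) ∈ preimageAlong ι (V.map (Subgroup.subtype _) ⊔ inducedFunctor W (T : Subgroup G)) := by
        rw [mem_preimageAlong_iff]
        refine ⟨s.2, le_sup_left (b := inducedFunctor W (T : Subgroup G)) ?_⟩
        rw [hs]
        exact ⟨v, hv, rfl⟩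
      have h1 := ι_pow_apply ι hRS β (h : G) hιβ (p ^ k) ⟨s, hsR⟩
      rw [hk] at h1
      have h2 : ι ⟨(s : Ω), hRS hsR⟩ = (v : G) := hs
      have h1' : ι ⟨(s : Ω), hRS hsR⟩ =
          (h : G) ^ p ^ k * ι ⟨(s : Ω), hRS hsR⟩ * ((h : G) ^ p ^ k)⁻¹ := h1
      rw [h2] at h1'
      have h1 := h1'
      have h6 : (h : G) ^ p ^ k * (v : G) =
          ((h : G) ^ p ^ k * (v : G) * ((h : G) ^ p ^ k)⁻¹) * (h : G) ^ p ^ k := by group
      rw [h6, ← h1]
    have hcop' : (p ^ k).Coprime (orderOf (h : G)) := by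
      rw [Subgroup.orderOf_coe]
      exact (Nat.Coprime.pow_left k hcop.symm)
    obtain ⟨m, hm⟩ := exists_pow_eq_self_of_coprime hcop'
    rw [Subgroup.mem_centralizer_iff]
    intro v hv
    apply Subtype.ext
    show (v : G) * (h : G) = (h : G) * (v : G)
    have h4 : Commute ((h : G) ^ p ^ k) (v : G) := hcent v hv
    have h5 : Commute (((h : G) ^ p ^ k) ^ m) (v : G) := h4.pow_left m
    rw [hm] at h5
    exact h5.eq.symm
  -- Step (b)
  have hnpcG := hG4 G T hstepa
  -- Step (c): Frobenius in `G`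
  obtain ⟨N, hNn, hNc⟩ := Cfsg.Agent.Lib.Helper2.exists_normal_complement_of_hasNormalPComplement hnpcG T
  have hfrob := (Cfsg.Agent.S0071.result T).1 ⟨N, hNn, hNc⟩
  intro P hP α hα
  have hαF : P.subtype.comp (α : P ≃* P).toMonoidHom ∈ F.Hom P := (Cfsg.Agent.Lib.Helper87.mem_autGroup_iff F hP).1 hα
  obtain ⟨g, hg⟩ := (hR.2 P hP _ (fun x => hP (α x).2)).1 hαF
  have hg' : ∀ x : P, ι ⟨(α x : P), hP (α x).2⟩ = g * ι ⟨x, hP x.2⟩ * g⁻¹ := fun x => hg x
  have hQT : (P.subgroupOf S).map ι ≤ (T : Subgroup G) := by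
    rintro _ ⟨s, -, rfl⟩
    rw [hTr]
    exact ⟨s, rfl⟩
  have hgN : g ∈ Subgroup.normalizer (((P.subgroupOf S).map ι : Subgroup G) : Set G) := by
    apply mem_normalizer_of_conj_mem_of_finite
    rintro _ ⟨s, hs, rfl⟩
    have hsP : (s : Ω) ∈ P := Subgroup.mem_subgroupOf.1 hs
    have h1 := hg' ⟨s, hsP⟩
    exact Subgroup.mem_map.2 ⟨⟨(α ⟨s, hsP⟩ : P), hP (α ⟨s, hsP⟩).2⟩,
      Subgroup.mem_subgroupOf.2 (α ⟨s, hsP⟩).2, h1⟩
  have hp : p.Prime := Fact.out
  obtain ⟨e', m, hm, hord⟩ := Nat.exists_eq_pow_mul_and_not_dvd (orderOf_pos g).ne' p hp.ne_one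
  have hpow : (g ^ p ^ e') ^ m = 1 := by
    rw [← pow_mul, ← hord, pow_orderOf_eq_one]
  have hdvd : orderOf (g ^ p ^ e') ∣ m := orderOf_dvd_of_pow_eq_one hpow
  have hcop : (orderOf (g ^ p ^ e')).Coprime p :=
    Nat.Coprime.coprime_dvd_left hdvd ((Nat.Prime.coprime_iff_not_dvd hp).2 hm).symm
  have hcen := hfrob _ hQT (g ^ p ^ e') (Subgroup.pow_mem _ hgN _) hcop
  refine ⟨e', ?_⟩
  ext x
  have h1 := ι_pow_apply ι hP α g hg' (p ^ e') x
  have h2 : ι ⟨x, hP x.2⟩ ∈ (P.subgroupOf S).map ι := ⟨⟨x, hP x.2⟩, Subgroup.mem_subgroupOf.2 x.2, rfl⟩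
  have h3 := (Subgroup.mem_centralizer_iff.1 hcen) _ h2
  rw [← h3, mul_inv_cancel_right] at h1
  have h4 := hι h1
  exact congrArg (fun z : S => (z : Ω)) h4

end t4

end Cfsg.Agent.Lib.Helper88.NilpRed

namespace Cfsg.Agent.Lib.Helper88.NilpRed

open Cfsg Cfsg.FusionSystem Cfsg.Agent.Lib.Helper87

variable {W : ∀ (Q : Type u) [Group Q], Subgroup Q} {p : ℕ} [Fact p.Prime]

/-- The test attached to a functor detecting normal `p`-complements satisfies the hypotheses of the reduction. -/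
theorem testHyp_wtest (hW : IsCharPFunctor p W)
    (hG4 : ∀ (G : Type u) [Group G] [Finite G] (P : Sylow p G),
      HasNormalPComplement p
        ↥(Subgroup.normalizer ((inducedFunctor W (P : Subgroup G) : Subgroup G) : Set G)) →
      HasNormalPComplement p G) : TestHyp p (@WTest p W) where
  t1 := fun _ F Q _ hN E hE h => wtest_t1 F Q hN E hE h
  t2 := fun hS F _ U hUfn hUne _ E hE h => wtest_t2 hW hS F U hUfn.1 hUne E hE h
  t3 := fun hS F _ Q hQ _ _ _ θ E hE h =>
    wtest_t3 hW hS F Q (Cfsg.Agent.Lib.Helper84.stronglyClosed_of_isNormal F hQ) θ E hE h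
  t4 := fun hS F G _ ι hM h => wtest_t4 hW hG4 hS F G ι hM h

/-- **Nilpotency criterion through a functor.** If normal `p`-complements of finite groups are detected by the normalizer
of `W(P)`, `P` Sylow, then a saturated fusion system `F` over `S` in which the automorphisms of the normalizer system of
`W(S)` are `p`-elements has all its automizers `p`-groups. -/
theorem paut_of_wtest (hW : IsCharPFunctor p W)
    (hG4 : ∀ (G : Type u) [Group G] [Finite G] (P : Sylow p G),
      HasNormalPComplement p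
        ↥(Subgroup.normalizer ((inducedFunctor W (P : Subgroup G) : Subgroup G) : Set G)) →
      HasNormalPComplement p G)
    {Ω : Type u} [Group Ω] {S : Subgroup Ω} [Finite S] (hS : IsPGroup p S) (F : FusionSystem S)
    (hF : F.IsSaturated p) (h : NPAut F p (inducedFunctor W S)) : PAut F p :=
  paut_of_test (@WTest p W) (testHyp_wtest hW hG4) (Nat.card S) rfl hS F hF h

end Cfsg.Agent.Lib.Helper88.NilpRed
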