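/-
helper88: `p`-nilpotency reductions for saturated fusion systems, part A.
`PAut F p`: every `Aut_F(P)` consists of `p`-elements (for saturated `F` this says `F` is the inner system).
`NPAut F p U`: the same for the normalizer system `N_F(U)`, stated inside `F` (automorphisms of overgroups `R` of `U`
inside `N_S(U)` that preserve `U`).  Basic relations, passage to a fully normalized conjugate, and the existence of a
fully normalized witness.
-/
import Cfsg.Agent.Lib.Helper87.FusionSat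
import Cfsg.Agent.Lib.Helper87.FusionFully
import Cfsg.Agent.Lib.Helper87.FusionNormalizer
import Cfsg.Agent.Lib.Helper87.FusionKNormSat
import Cfsg.Agent.Lib.Helper85.FusionRS

set_option autoImplicit false

namespace Cfsg.Agent.Lib.Helper88.NilpRed

open Cfsg Cfsg.FusionSystem Cfsg.Agent.Lib.Helper87

variable {Ω : Type*} [Group Ω] {S : Subgroup Ω}

/-- Every `F`-automorphism of every subgroup of `S` is a `p`-element. -/
def PAut (F : FusionSystem S) (p : ℕ) : Prop :=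
  ∀ P : Subgroup Ω, P ≤ S → ∀ α ∈ F.autGroup P, ∃ k : ℕ, α ^ p ^ k = 1

/-- Every automorphism of the normalizer system `N_F(U)` is a `p`-element, stated inside `F`. -/
def NPAut (F : FusionSystem S) (p : ℕ) (U : Subgroup Ω) : Prop :=
  ∀ R : Subgroup Ω, U ≤ R → R ≤ normalizerIn S U → ∀ β ∈ F.autGroup R,
    (∀ x : R, (x : Ω) ∈ U ↔ ((β x : R) : Ω) ∈ U) → ∃ k : ℕ, β ^ p ^ k = 1

theorem paut_of_inner {p : ℕ} (hS : IsPGroup p S) (F : FusionSystem S)
    (h : ∀ P : Subgroup Ω, F.Hom P = (innerFusionSystem S).Hom P) : PAut F p := by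
  intro P hP α hα
  have h1 : P.subtype.comp (α : P ≃* P).toMonoidHom ∈ F.Hom P := (mem_autGroup_iff F hP).1 hα
  rw [h P] at h1
  obtain ⟨-, g, hg, hφ⟩ := h1
  have h2 : α ∈ autInducedBy S P := mem_autInducedBy_iff.2 ⟨g, hg, fun x => hφ x⟩
  obtain ⟨k, hk⟩ := autInducedBy_isPGroup hS P ⟨α, h2⟩
  exact ⟨k, by simpa using congrArg Subtype.val hk⟩

theorem inner_of_paut [Finite S] {p : ℕ} [Fact p.Prime] (hS : IsPGroup p S) (F : FusionSystem S)
    (hF : F.IsSaturated p) (h : PAut F p) : ∀ P : Subgroup Ω, F.Hom P = (innerFusionSystem S).Hom P := by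
  apply eq_inner_of_autGroup_isPGroup F hS hF
  rintro P hP ⟨α, hα⟩
  obtain ⟨k, hk⟩ := h P hP α hα
  exact ⟨k, Subtype.ext (by simpa using hk)⟩

/-- A subsystem (same or smaller Sylow) of a `PAut` system is `PAut`. -/
theorem paut_of_subsystem {p : ℕ} {T : Subgroup Ω} (hTS : T ≤ S) (E : FusionSystem T) (F : FusionSystem S)
    (hEF : ∀ P : Subgroup Ω, E.Hom P ⊆ F.Hom P) (h : PAut F p) : PAut E p := by
  intro P hP α hα
  apply h P (hP.trans hTS) α
  rw [mem_autGroup_iff F (hP.trans hTS)]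
  exact hEF P ((mem_autGroup_iff E hP).1 hα)

/-- If the normalizer system `N_F(U)` is `PAut` then `NPAut F p U`. -/
theorem npaut_of_paut {p : ℕ} (F : FusionSystem S) {U : Subgroup Ω}
    {E : FusionSystem (normalizerIn S U)} (hE : F.IsNormalizerSystem U E) (h : PAut E p) : NPAut F p U := by
  intro R hUR hRN β hβ hβU
  have hRS : R ≤ S := hRN.trans inf_le_left
  apply h R hRN β
  rw [mem_autGroup_iff E hRN]
  show R.subtype.comp (β : R ≃* R).toMonoidHom ∈ E.Hom R
  rw [hE R]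
  have hβF : R.subtype.comp (β : R ≃* R).toMonoidHom ∈ F.Hom R := (mem_autGroup_iff F hRS).1 hβ
  have hle : R ⊔ U ≤ R := sup_le le_rfl hUR
  refine ⟨hβF, hRN, fun x => hRN (β x).2, _, restrict_mem F hβF hle, fun x => rfl, ?_⟩
  rw [map_subgroupOf_eq_iff]
  refine ⟨fun x hx => (hβU _).1 hx, fun q hq => ?_⟩
  have hq' : ((β.symm ⟨q, hUR hq⟩ : R) : Ω) ∈ U := by
    apply (hβU _).2
    rw [MulEquiv.apply_symm_apply]
    exact hq
  refine ⟨⟨(β.symm ⟨q, hUR hq⟩ : R), (le_sup_left : R ≤ R ⊔ U) (β.symm ⟨q, hUR hq⟩).2⟩, hq', ?_⟩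
  show ((β (β.symm ⟨q, hUR hq⟩) : R) : Ω) = q
  rw [MulEquiv.apply_symm_apply]

/-- Morphisms of `N_F(U)` normalizing `X` are morphisms of `F` normalizing `X`. -/
theorem npaut_of_npaut_normalizer {p : ℕ} (F : FusionSystem S) {U X : Subgroup Ω}
    {E : FusionSystem (normalizerIn S U)} (hE : F.IsNormalizerSystem U E) (h : NPAut F p X) : NPAut E p X := by
  intro R hXR hRN β hβ hβX
  have hRT : R ≤ normalizerIn S U := hRN.trans inf_le_left
  have hRS : R ≤ S := hRT.trans inf_le_left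
  refine h R hXR (fun x hx => ⟨hRS hx, (hRN hx).2⟩) β ?_ hβX
  rw [mem_autGroup_iff F hRS]
  have h1 : R.subtype.comp (β : R ≃* R).toMonoidHom ∈ E.Hom R := (mem_autGroup_iff E hRT).1 hβ
  rw [hE R] at h1
  exact h1.1

/-- Transport of `NPAut` along a map of the system defined on `N_S(Q)`. -/
theorem npaut_transport {p : ℕ} (F : FusionSystem S) {Q Q' : Subgroup Ω} (hQS : Q ≤ S)
    {ψ : normalizerIn S Q →* Ω} (hψ : ψ ∈ F.Hom (normalizerIn S Q)) (e : Q ≃* Q')
    (hψe : ∀ (x : Ω) (hx : x ∈ Q) (hx' : x ∈ normalizerIn S Q), ψ ⟨x, hx'⟩ = e ⟨x, hx⟩)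
    (h : NPAut F p Q') : NPAut F p Q := by
  intro R hQR hRN β hβ hβQ
  have hf : ψ.comp (Subgroup.inclusion hRN) ∈ F.Hom R := restrict_mem F hψ hRN
  have hinj : Function.Injective (ψ.comp (Subgroup.inclusion hRN)) := F.injective_of_mem hf
  have heR : IsIso F (MonoidHom.ofInjective hinj) := isIso_ofInjective F hf
  have key : ∀ x : R, ψ (Subgroup.inclusion hRN x) ∈ Q' ↔ (x : Ω) ∈ Q := by
    intro x
    constructor
    · intro hx
      have h1 := hψe _ (e.symm ⟨_, hx⟩).2 (hRN (hQR (e.symm ⟨_, hx⟩).2))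
      rw [MulEquiv.apply_symm_apply] at h1
      have h2 : (⟨((e.symm ⟨_, hx⟩ : Q) : Ω), hRN (hQR (e.symm ⟨_, hx⟩).2)⟩ : normalizerIn S Q) =
          Subgroup.inclusion hRN x := F.injective_of_mem hψ h1
      have h3 := congrArg (fun z : normalizerIn S Q => (z : Ω)) h2
      have h4 : ((e.symm ⟨_, hx⟩ : Q) : Ω) = (x : Ω) := h3
      rw [← h4]
      exact (e.symm ⟨_, hx⟩).2
    · intro hx
      have h1 := hψe _ hx (hRN x.2)
      have h2 : (⟨(x : Ω), hRN x.2⟩ : normalizerIn S Q) = Subgroup.inclusion hRN x := rfl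
      rw [h2] at h1
      rw [h1]
      exact (e _).2
  have hQ'R' : Q' ≤ (ψ.comp (Subgroup.inclusion hRN)).range := by
    intro y hy
    refine ⟨⟨((e.symm ⟨y, hy⟩ : Q) : Ω), hQR (e.symm ⟨y, hy⟩).2⟩, ?_⟩
    have h1 := hψe _ (e.symm ⟨y, hy⟩).2 (hRN (hQR (e.symm ⟨y, hy⟩).2))
    rw [MulEquiv.apply_symm_apply] at h1
    exact h1
  have hR'N : (ψ.comp (Subgroup.inclusion hRN)).range ≤ normalizerIn S Q' := by
    rintro _ ⟨x, rfl⟩
    exact map_mem_normalizerIn F hQS hψ e hψe (Subgroup.inclusion hRN x)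
  have hβ' := congr_mem_autGroup F heR hβ
  obtain ⟨k, hk⟩ := h _ hQ'R' hR'N _ hβ' (by
    intro y
    obtain ⟨x, rfl⟩ : ∃ x : R, MonoidHom.ofInjective hinj x = y :=
      (MonoidHom.ofInjective hinj).surjective y
    have h1 : MulAut.congr (MonoidHom.ofInjective hinj) β (MonoidHom.ofInjective hinj x) =
        MonoidHom.ofInjective hinj (β x) := by
      simp [MulAut.congr]
    rw [h1]
    show ψ (Subgroup.inclusion hRN x) ∈ Q' ↔ ψ (Subgroup.inclusion hRN (β x)) ∈ Q'
    rw [key, key]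
    exact hβQ x)
  refine ⟨k, ?_⟩
  rw [← map_pow] at hk
  exact (MulEquiv.map_eq_one_iff _).1 hk

/-- A system that is not `PAut` has a nontrivial fully normalized subgroup whose normalizer system is not `PAut`. -/
theorem exists_fn_not_npaut [Finite S] {p : ℕ} (F : FusionSystem S) (h : ¬ PAut F p) :
    ∃ U : Subgroup Ω, U ≠ ⊥ ∧ F.IsFullyNormalized U ∧ ¬ NPAut F p U := by
  unfold PAut at h
  push Not at h
  obtain ⟨P, hP, α, hα, hk⟩ := h
  obtain ⟨U, hPU, hU⟩ := Cfsg.Agent.Lib.Helper85.exists_fullyNormalized_conj F hP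
  obtain ⟨e, he⟩ := (isConj_iff F).1 hPU
  have hα' := congr_mem_autGroup F he hα
  have hnot : ¬ NPAut F p U := by
    intro hN
    obtain ⟨k, hk'⟩ := hN U le_rfl (le_normalizerIn hU.1) _ hα'
      (fun x => ⟨fun _ => Subtype.property _, fun _ => x.2⟩)
    rw [← map_pow] at hk'
    exact hk k ((MulEquiv.map_eq_one_iff _).1 hk')
  refine ⟨U, ?_, hU, hnot⟩
  rintro rfl
  apply hk 0
  ext x
  have : Subsingleton P := e.toEquiv.subsingleton
  exact congrArg Subtype.val (Subsingleton.elim _ _)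

end Cfsg.Agent.Lib.Helper88.NilpRed
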