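/-
helper88: `p`-nilpotency reductions for saturated fusion systems, part B.
* `isNormal_of_isNormalizerSystem`: `Q` is normal in `N_F(Q)`.
* `QPAut F p Q`: every `Aut_F(R)` (`Q ≤ R`) acts on `R/Q` as a group of `p`-elements; it follows from `PAut` of the
  factor system `F/Q` (`qpaut_of_paut_factor`).
* `npaut_factor_of_npaut_preimage`: `NPAut` passes from the full preimage to the factor system.
* `isConstrained_of_qpaut`: if `Q` is normal in the saturated system `F` and `QPAut F p Q`, then `Q C_S(Q)` is normal and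
  centric, so `F` is constrained.
-/
import Cfsg.Agent.Lib.Helper88.FusionNilpRed
import Cfsg.Agent.Lib.Helper85.FusionQuotSat
import Cfsg.Agent.Lib.Helper84.Alperin2
import Cfsg.Agent.Lib.Helper87.FusionNormal
import Cfsg.Agent.Lib.Helper87.FusionLift
import Cfsg.Agent.Lib.Helper76.PCore
import Cfsg.Agent.S5080

set_option autoImplicit false

namespace Cfsg.Agent.Lib.Helper88.NilpRed

open Cfsg Cfsg.FusionSystem Cfsg.Agent.Lib.Helper87

variable {Ω : Type*} [Group Ω] {S : Subgroup Ω}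

/-- `Q` is normal in its normalizer system. -/
theorem isNormal_of_isNormalizerSystem (F : FusionSystem S) {Q : Subgroup Ω} (hQS : Q ≤ S)
    {E : FusionSystem (normalizerIn S Q)} (hE : F.IsNormalizerSystem Q E) : E.IsNormal Q := by
  refine ⟨le_normalizerIn hQS, fun P φ hφ => ?_⟩
  rw [hE P] at hφ
  obtain ⟨hφF, hPN, hφN, ψ, hψ, hψ1, hψ2⟩ := hφ
  have hψ2' := (map_subgroupOf_eq_iff ψ).1 hψ2
  refine ⟨ψ, ?_, hψ1, hψ2⟩
  rw [hE (P ⊔ Q)]
  have hle : (P ⊔ Q) ⊔ Q ≤ P ⊔ Q := sup_le le_rfl le_sup_right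
  refine ⟨hψ, sup_le hPN (le_normalizerIn hQS), ?_, _, restrict_mem F hψ hle, fun x => rfl, ?_⟩
  · intro z
    refine map_sup_mem ψ (fun x => ?_) (fun x => ?_) z
    · rw [hψ1 x]
      exact hφN x
    · exact le_normalizerIn hQS (hψ2'.1 _ x.2)
  · rw [map_subgroupOf_eq_iff]
    refine ⟨fun x hx => hψ2'.1 (Subgroup.inclusion hle x) hx, fun q hq => ?_⟩
    obtain ⟨x, hx, hxq⟩ := hψ2'.2 q hq
    exact ⟨⟨(x : Ω), (le_sup_left : P ⊔ Q ≤ (P ⊔ Q) ⊔ Q) x.2⟩, hx, hxq⟩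

/-- Every `Aut_F(R)`, `Q ≤ R ≤ S`, acts on `R/Q` through `p`-elements. -/
def QPAut (F : FusionSystem S) (p : ℕ) (Q : Subgroup Ω) : Prop :=
  ∀ R : Subgroup Ω, Q ≤ R → R ≤ S → ∀ β ∈ F.autGroup R,
    ∃ k : ℕ, ∀ x : R, (x : Ω)⁻¹ * (((β ^ p ^ k) x : R) : Ω) ∈ Q

section factor

variable {Ω' : Type*} [Group Ω'] {S' : Subgroup Ω'}

open Cfsg.Agent.Lib.Helper85 in
/-- `PAut` of the factor system `F/K` gives `QPAut F p K`. -/
theorem qpaut_of_paut_factor [Finite S] {p : ℕ} (F : FusionSystem S) {K : Subgroup Ω} (hK : F.StronglyClosed K)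
    (θ : S →* Ω') (E : FusionSystem S') (hE : F.IsFactorSystem K θ E) (h : PAut E p) : QPAut F p K := by
  obtain ⟨-, hker, hrange, hHom⟩ := hE
  intro R hKR hRS β hβ
  have hR : preimageAlong θ (imageAlong θ R) = R := by
    rw [preimageAlong_imageAlong θ hker hK.1 hRS]
    exact sup_of_le_left hKR
  have hImS : imageAlong θ R ≤ S' := by
    rintro _ ⟨x, -, rfl⟩
    rw [← hrange]
    exact ⟨x, rfl⟩
  obtain ⟨R', hR'S, rfl⟩ : ∃ R', R' ≤ S' ∧ R = preimageAlong θ R' := ⟨imageAlong θ R, hImS, hR.symm⟩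
  clear hImS hR
  have hR'r : R' ≤ θ.range := hrange ▸ hR'S
  have hmem := autQuotHom_mem F hK θ hker E hHom hR'S hR'r ⟨β, hβ⟩
  obtain ⟨k, hk⟩ := h R' hR'S _ hmem
  refine ⟨k, fun x => ?_⟩
  rw [← map_pow] at hk
  have h1 := autQuotHom_apply F hK θ hker hR'r (⟨β, hβ⟩ ^ p ^ k) x (θp_mem θ R' x)
  rw [hk] at h1
  have h2 : θp θ R' x = θp θ R' ((β ^ p ^ k) x) := h1
  have h3 : θ (⟨(x : Ω), hRS x.2⟩⁻¹ * ⟨(((β ^ p ^ k) x : ↥(preimageAlong θ R')) : Ω), hRS ((β ^ p ^ k) x).2⟩) = 1 := by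
    rw [map_mul, map_inv]
    have h4 : θ ⟨(x : Ω), hRS x.2⟩ = θ ⟨(((β ^ p ^ k) x : ↥(preimageAlong θ R')) : Ω), hRS ((β ^ p ^ k) x).2⟩ := h2
    rw [h4, inv_mul_cancel]
  exact (hker _).1 h3

open Cfsg.Agent.Lib.Helper85 in
/-- `NPAut` for the full preimage of `L'` gives `NPAut` of `L'` in the factor system. -/
theorem npaut_factor_of_npaut_preimage [Finite S] {p : ℕ} (F : FusionSystem S) {K : Subgroup Ω}
    (hK : F.StronglyClosed K) (θ : S →* Ω') (E : FusionSystem S') (hE : F.IsFactorSystem K θ E)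
    (L' : Subgroup Ω') (h : NPAut F p (preimageAlong θ L')) : NPAut E p L' := by
  obtain ⟨-, hker, hrange, hHom⟩ := hE
  intro R' hLR hRN β' hβ' hβL
  have hR'S : R' ≤ S' := hRN.trans inf_le_left
  have hR'r : R' ≤ θ.range := hrange ▸ hR'S
  obtain ⟨γ, hγ⟩ := exists_autQuotHom_eq F hK θ hker E hHom hR'S hR'r hβ'
  have hLR' : preimageAlong θ L' ≤ preimageAlong θ R' := preimageAlong_mono θ hLR
  have hRS : preimageAlong θ R' ≤ S := preimageAlong_le θ R'
  -- conjugation by elements of the preimage of `R'` preserves the preimage of `L'`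
  have hconj : ∀ x ∈ preimageAlong θ R', ∀ y ∈ preimageAlong θ L', x * y * x⁻¹ ∈ preimageAlong θ L' := by
    intro x hx y hy
    obtain ⟨hxS, hxR⟩ := (mem_preimageAlong_iff θ R' x).1 hx
    obtain ⟨hyS, hyL⟩ := (mem_preimageAlong_iff θ L' y).1 hy
    rw [mem_preimageAlong_iff]
    refine ⟨S.mul_mem (S.mul_mem hxS hyS) (S.inv_mem hxS), ?_⟩
    have h1 : (⟨x * y * x⁻¹, S.mul_mem (S.mul_mem hxS hyS) (S.inv_mem hxS)⟩ : S) =
        ⟨x, hxS⟩ * ⟨y, hyS⟩ * ⟨x, hxS⟩⁻¹ := rfl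
    rw [h1, map_mul, map_mul, map_inv]
    exact (Subgroup.mem_normalizer_iff.1 (hRN hxR).2 _).1 hyL
  have hRN' : preimageAlong θ R' ≤ normalizerIn S (preimageAlong θ L') := by
    intro x hx
    refine ⟨hRS hx, ?_⟩
    show x ∈ Subgroup.normalizer ((preimageAlong θ L' : Subgroup Ω) : Set Ω)
    rw [Subgroup.mem_normalizer_iff]
    intro y
    refine ⟨hconj x hx y, fun hy => ?_⟩
    have h2 := hconj x⁻¹ (Subgroup.inv_mem _ hx) _ hy
    have h3 : x⁻¹ * (x * y * x⁻¹) * x⁻¹⁻¹ = y := by group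
    rwa [h3] at h2
  have hγL : ∀ x : ↥(preimageAlong θ R'), (x : Ω) ∈ preimageAlong θ L' ↔
      (((γ : MulAut ↥(preimageAlong θ R')) x : ↥(preimageAlong θ R')) : Ω) ∈ preimageAlong θ L' := by
    intro x
    have h1 := autQuotHom_apply F hK θ hker hR'r γ x (θp_mem θ R' x)
    rw [hγ] at h1
    have h2 := hβL ⟨θp θ R' x, θp_mem θ R' x⟩
    rw [mem_preimageAlong_iff, mem_preimageAlong_iff]
    constructor
    · rintro ⟨hxS, hxL⟩
      refine ⟨hRS (Subtype.property _), ?_⟩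
      have h3 : ((β' ⟨θp θ R' x, θp_mem θ R' x⟩ : R') : Ω') ∈ L' := h2.1 hxL
      rw [h1] at h3
      exact h3
    · rintro ⟨hxS, hxL⟩
      refine ⟨hRS x.2, ?_⟩
      have h3 : ((β' ⟨θp θ R' x, θp_mem θ R' x⟩ : R') : Ω') ∈ L' := by
        rw [h1]
        exact hxL
      exact h2.2 h3
  obtain ⟨k, hk⟩ := h _ hLR' hRN' (γ : MulAut ↥(preimageAlong θ R')) γ.2 hγL
  refine ⟨k, ?_⟩
  have h5 : γ ^ p ^ k = 1 := Subtype.ext (by simpa using hk)
  rw [← hγ, ← map_pow, h5, map_one]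

end factor

section constrained

variable [Finite S] {p : ℕ} [Fact p.Prime]

/-- The centralizer of a normal subgroup `Q` with `QPAut F p Q` lies in every centric radical subgroup. -/
theorem centralizerIn_le_of_centric_radical (hS : IsPGroup p S) (F : FusionSystem S) {Q P : Subgroup Ω}
    (hQ : F.IsNormal Q) (hQP : QPAut F p Q) (hcen : F.IsCentric P) (hrad : F.IsRadical p P) :
    centralizerIn S Q ≤ P := by
  have hPS : P ≤ S := hcen.1
  have hQS : Q ≤ S := hQ.1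
  have hQle : Q ≤ P := Cfsg.Agent.Lib.Helper84.le_of_isNormal_of_centric_radical F hS hQ hcen hrad
  have hfinP : Finite P := finite_of_le hPS
  have hpP : IsPGroup p P := hS.to_le hPS
  have hQsc : F.StronglyClosed Q := Cfsg.Agent.Lib.Helper84.stronglyClosed_of_isNormal F hQ
  -- `Aut_F(P)` preserves `Q`
  have hinvQ : ∀ α ∈ F.autGroup P, ∀ x : P, (x : Ω) ∈ Q → ((α x : P) : Ω) ∈ Q := by
    intro α hα x hx
    have h1 := Cfsg.Agent.Lib.Helper84.aut_map_eq_of_isNormal F hQ hQle hPS hα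
    have h2 : α x ∈ (Q.subgroupOf P).map α.toMonoidHom := ⟨x, Subgroup.mem_subgroupOf.2 hx, rfl⟩
    rw [h1] at h2
    exact Subgroup.mem_subgroupOf.1 h2
  -- the chain `P ≥ Q ≥ 1`
  let A : ℕ → Subgroup P := fun j => match j with
    | 0 => ⊤
    | 1 => Q.subgroupOf P
    | _ + 2 => ⊥
  have hinvA : ∀ j ≤ 2, ∀ α ∈ F.autGroup P, ∀ x ∈ A j, α x ∈ A j := by
    intro j _ α hα x hx
    match j with
    | 0 => exact Subgroup.mem_top _
    | 1 => exact Subgroup.mem_subgroupOf.2 (hinvQ α hα x (Subgroup.mem_subgroupOf.1 hx))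
    | j + 2 =>
      have hx1 : x = 1 := Subgroup.mem_bot.1 hx
      rw [hx1, map_one]
      exact Subgroup.one_mem _
  have hchain := chainStab_isPGroup hpP (F.autGroup P) 2 A rfl rfl hinvA
  -- the subgroup `B` of `Aut_F(P)` fixing `Q` pointwise
  let B : Subgroup (MulAut P) :=
    { carrier := {β | β ∈ F.autGroup P ∧ ∀ x : P, (x : Ω) ∈ Q → β x = x}
      one_mem' := ⟨Subgroup.one_mem _, fun _ _ => rfl⟩
      mul_mem' := by
        rintro a b ⟨ha, ha'⟩ ⟨hb, hb'⟩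
        refine ⟨Subgroup.mul_mem _ ha hb, fun x hx => ?_⟩
        rw [MulAut.mul_apply, hb' x hx, ha' x hx]
      inv_mem' := by
        rintro a ⟨ha, ha'⟩
        refine ⟨Subgroup.inv_mem _ ha, fun x hx => ?_⟩
        have := ha' x hx
        rw [MulAut.inv_apply, MulEquiv.symm_apply_eq]
        exact this.symm }
  have hBA : B ≤ F.autGroup P := fun β hβ => hβ.1
  have hBn : ∀ α ∈ F.autGroup P, ∀ β ∈ B, α * β * α⁻¹ ∈ B := by
    rintro α hα β ⟨hβ, hβ'⟩
    refine ⟨Subgroup.mul_mem _ (Subgroup.mul_mem _ hα hβ) (Subgroup.inv_mem _ hα), fun x hx => ?_⟩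
    have h1 : ((α⁻¹ x : P) : Ω) ∈ Q := hinvQ α⁻¹ (Subgroup.inv_mem _ hα) x hx
    show α (β (α⁻¹ x)) = x
    rw [hβ' _ h1]
    exact MulAut.apply_inv_self _ α x
  have hBp : IsPGroup p B := by
    rintro ⟨β, hβ, hβ'⟩
    obtain ⟨k, hk⟩ := hQP P hQle hPS β hβ
    have hpow : ∀ n : ℕ, ∀ x : P, (x : Ω) ∈ Q → (β ^ n) x = x := by
      intro n
      induction n with
      | zero => intro x _; rfl
      | succ n ih =>
        intro x hx
        rw [pow_succ, MulAut.mul_apply, hβ' x hx, ih x hx]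
    have hmem : β ^ p ^ k ∈ chainStab (F.autGroup P) 2 A hinvA := by
      refine ⟨Subgroup.pow_mem _ hβ _, fun j hj r hr => ?_⟩
      match j with
      | 0 => exact Subgroup.mem_subgroupOf.2 (hk r)
      | 1 =>
        have hrQ : (r : Ω) ∈ Q := Subgroup.mem_subgroupOf.1 hr
        rw [hpow _ r hrQ, inv_mul_cancel]
        exact Subgroup.one_mem _
      | j + 2 => omega
    obtain ⟨m, hm⟩ := hchain ⟨_, hmem⟩
    refine ⟨k + m, Subtype.ext ?_⟩
    have hm' : (β ^ p ^ k) ^ p ^ m = 1 := by simpa using congrArg Subtype.val hm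
    show β ^ p ^ (k + m) = 1
    rw [pow_add, pow_mul]
    exact hm'
  -- `B ≤ Inn(P)` by radicality
  have hBInn : B ≤ Inn P := by
    have hn : (B.subgroupOf (F.autGroup P)).Normal := by
      constructor
      intro n hn g
      rw [Subgroup.mem_subgroupOf] at hn ⊢
      exact hBn g.1 g.2 n.1 hn
    have hp : IsPGroup p (B.subgroupOf (F.autGroup P)) := hBp.comap_subtype
    have hle := Cfsg.Agent.Lib.Helper76.le_pCore p _ hn hp
    intro β hβ
    rw [← hrad.2]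
    exact ⟨⟨β, hBA hβ⟩, hle (Subgroup.mem_subgroupOf.2 hβ), rfl⟩
  -- main argument
  by_contra hnot
  have hCS : centralizerIn S Q ≤ S := inf_le_left
  have hQnS : ∀ g ∈ S, ∀ x ∈ Q, g * x * g⁻¹ ∈ Q := fun g hg x hx => StronglyClosed_conj_mem hQsc hg hx
  have hCn : ∀ g ∈ S, ∀ x ∈ centralizerIn S Q, g * x * g⁻¹ ∈ centralizerIn S Q := by
    intro g hg x hx
    refine ⟨S.mul_mem (S.mul_mem hg hx.1) (S.inv_mem hg), ?_⟩
    show g * x * g⁻¹ ∈ Subgroup.centralizer (Q : Set Ω)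
    rw [Subgroup.mem_centralizer_iff]
    intro q hq
    have h1 : g⁻¹ * q * g⁻¹⁻¹ ∈ Q := hQnS g⁻¹ (S.inv_mem hg) q hq
    have h2 := (Subgroup.mem_centralizer_iff.1 hx.2) _ h1
    have h3 : q * (g * x * g⁻¹) = g * ((g⁻¹ * q * g⁻¹⁻¹) * x) * g⁻¹ := by group
    have h4 : g * x * g⁻¹ * q = g * (x * (g⁻¹ * q * g⁻¹⁻¹)) * g⁻¹ := by group
    rw [h3, h4, h2]
  obtain ⟨c, hcC, hcN, hcP⟩ := exists_mem_normalizer_not_mem hS hCS hPS hCn hnot
  apply hcP
  have hγS : conjAut P c hcN ∈ autInducedBy S P := mem_autInducedBy_iff.2 ⟨c, hcC.1, fun _ => rfl⟩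
  have hγF : conjAut P c hcN ∈ F.autGroup P := autInducedBy_le_autGroup F hPS hγS
  have hγB : conjAut P c hcN ∈ B := by
    refine ⟨hγF, fun x hx => ?_⟩
    apply Subtype.ext
    rw [conjAut_apply]
    have := (Subgroup.mem_centralizer_iff.1 hcC.2) _ hx
    rw [← this, mul_inv_cancel_right]
  obtain ⟨y, hy⟩ := hBInn hγB
  -- `y⁻¹ c` centralizes `P`
  have hcent : (y : Ω)⁻¹ * c ∈ centralizerIn S P := by
    refine ⟨S.mul_mem (S.inv_mem (hPS y.2)) hcC.1, ?_⟩
    show (y : Ω)⁻¹ * c ∈ Subgroup.centralizer (P : Set Ω)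
    rw [Subgroup.mem_centralizer_iff]
    intro z hz
    have h2 : ((MulAut.conj y) ⟨z, hz⟩ : P) = conjAut P c hcN ⟨z, hz⟩ :=
      congrArg (fun f : MulAut P => f ⟨z, hz⟩) hy
    have h3 : (y : Ω) * z * (y : Ω)⁻¹ = c * z * c⁻¹ := by
      have := congrArg (fun t : P => (t : Ω)) h2
      simpa [MulAut.conj_apply, conjAut_apply] using this
    have h4 : z * ((y : Ω)⁻¹ * c) = (y : Ω)⁻¹ * ((y : Ω) * z * (y : Ω)⁻¹) * c := by group
    rw [h4, h3]
    group
  have h5 : (y : Ω)⁻¹ * c ∈ P := hcen.2 P (isConj_refl F hPS) hcent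
  have h6 : c = (y : Ω) * ((y : Ω)⁻¹ * c) := by group
  rw [h6]
  exact P.mul_mem y.2 h5

/-- If `Q` is normal in the saturated system `F` and `Aut_F` acts on the quotients by `Q` through `p`-elements, then
`Q C_S(Q)` is normal and centric in `F`; in particular `F` is constrained. -/
theorem isConstrained_of_qpaut (hS : IsPGroup p S) (F : FusionSystem S) (hF : F.IsSaturated p) {Q : Subgroup Ω}
    (hQ : F.IsNormal Q) (hQP : QPAut F p Q) : F.IsConstrained p := by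
  have hQS : Q ≤ S := hQ.1
  have hCS : centralizerIn S Q ≤ S := inf_le_left
  have hQsc : F.StronglyClosed Q := Cfsg.Agent.Lib.Helper84.stronglyClosed_of_isNormal F hQ
  -- invariance of `Q ⊔ C_S(Q)` under `Aut_F(P)` for `P` containing it
  have hinv : ∀ P : Subgroup Ω, P ≤ S → Q ≤ P → centralizerIn S Q ≤ P → ∀ α ∈ F.autGroup P,
      ((Q ⊔ centralizerIn S Q).subgroupOf P).map α.toMonoidHom = (Q ⊔ centralizerIn S Q).subgroupOf P := by
    intro P hPS hQle hCle α hα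
    have hQα : ∀ α ∈ F.autGroup P, (Q.subgroupOf P).map α.toMonoidHom = Q.subgroupOf P :=
      fun α hα => Cfsg.Agent.Lib.Helper84.aut_map_eq_of_isNormal F hQ hQle hPS hα
    have hCα : ∀ α ∈ F.autGroup P, ((centralizerIn S Q).subgroupOf P).map α.toMonoidHom ≤
        (centralizerIn S Q).subgroupOf P := by
      rintro α hα _ ⟨x, hx, rfl⟩
      have hxC : (x : Ω) ∈ centralizerIn S Q := Subgroup.mem_subgroupOf.1 hx
      rw [Subgroup.mem_subgroupOf]
      refine ⟨hPS (α x).2, ?_⟩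
      show ((α x : P) : Ω) ∈ Subgroup.centralizer (Q : Set Ω)
      rw [Subgroup.mem_centralizer_iff]
      intro q hq
      -- `q = α q₀` with `q₀ ∈ Q`
      have h1 : (⟨q, hQle hq⟩ : P) ∈ (Q.subgroupOf P).map α.toMonoidHom := by
        rw [hQα α hα]
        exact Subgroup.mem_subgroupOf.2 hq
      obtain ⟨q₀, hq₀, hq₀q⟩ := h1
      have hq₀Q : (q₀ : Ω) ∈ Q := Subgroup.mem_subgroupOf.1 hq₀
      have h2 : (q₀ : Ω) * (x : Ω) = (x : Ω) * (q₀ : Ω) := (Subgroup.mem_centralizer_iff.1 hxC.2) _ hq₀Q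
      have h3 : q₀ * x = x * q₀ := Subtype.ext h2
      have h4 : α q₀ * α x = α x * α q₀ := by rw [← map_mul, ← map_mul, h3]
      have h5 : α q₀ = ⟨q, hQle hq⟩ := hq₀q
      rw [h5] at h4
      exact congrArg (fun t : P => (t : Ω)) h4
    have hCα' : ∀ α ∈ F.autGroup P, ((centralizerIn S Q).subgroupOf P).map α.toMonoidHom =
        (centralizerIn S Q).subgroupOf P := by
      intro α hα
      apply le_antisymm (hCα α hα)
      intro x hx
      have h1 := hCα α⁻¹ (Subgroup.inv_mem _ hα) ⟨x, hx, rfl⟩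
      refine ⟨α⁻¹ x, h1, ?_⟩
      exact MulAut.apply_inv_self _ α x
    rw [Subgroup.subgroupOf_sup hQle hCle, Subgroup.map_sup, hQα α hα, hCα' α hα]
  have hRn : F.IsNormal (Q ⊔ centralizerIn S Q) := by
    apply Cfsg.Agent.Lib.Helper84.isNormal_of_forall_essential F hS hF
    rintro P (rfl | hess)
    · exact ⟨sup_le hQS hCS, hinv P le_rfl hQS hCS⟩
    · have hrad : F.IsRadical p P := Cfsg.Agent.S5080.result p hS F hF P hess
      have hQle : Q ≤ P := Cfsg.Agent.Lib.Helper84.le_of_isNormal_of_centric_radical F hS hQ hess.1 hrad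
      have hCle : centralizerIn S Q ≤ P := centralizerIn_le_of_centric_radical hS F hQ hQP hess.1 hrad
      exact ⟨sup_le hQle hCle, hinv P hess.1.1 hQle hCle⟩
  refine ⟨hF, Q ⊔ centralizerIn S Q, hRn, hRn.1, fun R' hconj => ?_⟩
  have hsc := Cfsg.Agent.Lib.Helper84.stronglyClosed_of_isNormal F hRn
  obtain ⟨φ, hφ, hφr⟩ := hconj
  have hle : R' ≤ Q ⊔ centralizerIn S Q := by
    rw [← hφr]
    rintro _ ⟨x, rfl⟩
    exact hsc.2 _ le_rfl φ hφ x
  have hfin : Finite ↥(Q ⊔ centralizerIn S Q) := finite_of_le hRn.1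
  have hcard : Nat.card ↥(Q ⊔ centralizerIn S Q) ≤ Nat.card R' := by
    rw [← hφr]
    exact (Nat.card_congr (Equiv.ofInjective _ (F.injective_of_mem hφ))).le
  have heq : R' = Q ⊔ centralizerIn S Q := Subgroup.eq_of_le_of_card_ge hle hcard
  rw [heq]
  intro c hc
  refine le_sup_right (a := Q) ?_
  exact ⟨hc.1, Subgroup.centralizer_le (show (Q : Set Ω) ⊆ ((Q ⊔ centralizerIn S Q : Subgroup Ω) : Set Ω) from
    fun x hx => (le_sup_left : Q ≤ Q ⊔ centralizerIn S Q) hx) hc.2⟩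

end constrained

end Cfsg.Agent.Lib.Helper88.NilpRed
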