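import Cfsg.Prelude.Def_FusionSystem

/-!
Basic lemmas about `Cfsg.FusionSystem` (no saturation): restriction, transport along equality of
subgroups, description of `autGroup`, conjugacy is an equivalence relation.
-/

set_option autoImplicit false

namespace Cfsg.Agent.Lib.Helper88

open Cfsg Cfsg.FusionSystem

variable {Ω : Type*} [Group Ω] {S : Subgroup Ω}

/-- Restriction of a map of the system to a smaller subgroup is a map of the system. -/
theorem restrict_mem (F : FusionSystem S) {P Q : Subgroup Ω} (h : Q ≤ P) {φ : P →* Ω}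
    (hφ : φ ∈ F.Hom P) : φ.comp (Subgroup.inclusion h) ∈ F.Hom Q := by
  have hPS : P ≤ S := (F.le_of_mem hφ).1
  have h1 : conjHom Q (1 : Ω) ∈ F.Hom Q := F.conj_mem (h.trans hPS) S.one_mem
  have hval : ∀ x : Q, conjHom Q (1 : Ω) x ∈ P := by
    intro x
    have : conjHom Q (1 : Ω) x = (x : Ω) := by simp [conjHom]
    rw [this]
    exact h x.2
  have h2 := F.comp_mem h1 hφ hval
  have : φ.comp ((conjHom Q (1 : Ω)).codRestrict P hval) = φ.comp (Subgroup.inclusion h) := by
    ext x
    simp only [MonoidHom.comp_apply]
    congr 1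
    apply Subtype.ext
    simp [conjHom]
  rwa [this] at h2

/-- The inclusion of a subgroup of `S` is a map of the system. -/
theorem subtype_mem (F : FusionSystem S) {P : Subgroup Ω} (hP : P ≤ S) : P.subtype ∈ F.Hom P := by
  have h1 : conjHom P (1 : Ω) ∈ F.Hom P := F.conj_mem hP S.one_mem
  have : conjHom P (1 : Ω) = P.subtype := by
    ext x
    simp [conjHom]
  rwa [this] at h1

/-- Sources of maps lie in `S`. -/
theorem le_of_mem_hom (F : FusionSystem S) {P : Subgroup Ω} {φ : P →* Ω} (hφ : φ ∈ F.Hom P) : P ≤ S :=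
  (F.le_of_mem hφ).1

theorem apply_mem_of_mem_hom (F : FusionSystem S) {P : Subgroup Ω} {φ : P →* Ω} (hφ : φ ∈ F.Hom P)
    (x : P) : φ x ∈ S :=
  (F.le_of_mem hφ).2 x

theorem range_le_of_mem_hom (F : FusionSystem S) {P : Subgroup Ω} {φ : P →* Ω} (hφ : φ ∈ F.Hom P) :
    φ.range ≤ S := by
  rintro _ ⟨x, rfl⟩
  exact (F.le_of_mem hφ).2 x

/-- The defining set of generators of `autGroup` is already a subgroup when `P ≤ S`. -/
theorem mem_autGroup_iff (F : FusionSystem S) {P : Subgroup Ω} (hP : P ≤ S) (α : MulAut P) :
    α ∈ F.autGroup P ↔ P.subtype.comp α.toMonoidHom ∈ F.Hom P := by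
  constructor
  · intro hα
    unfold FusionSystem.autGroup at hα
    induction hα using Subgroup.closure_induction with
    | mem x hx => exact hx
    | one =>
      have : P.subtype.comp (1 : MulAut P).toMonoidHom = P.subtype := by
        ext x; rfl
      rw [this]
      exact subtype_mem F hP
    | mul a b _ _ iha ihb =>
      have hval : ∀ x : P, (P.subtype.comp b.toMonoidHom) x ∈ P := fun x => (b x).2
      have h2 := F.comp_mem ihb iha hval
      have : (P.subtype.comp a.toMonoidHom).comp ((P.subtype.comp b.toMonoidHom).codRestrict P hval)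
          = P.subtype.comp (a * b).toMonoidHom := by
        ext x
        rfl
      rwa [this] at h2
    | inv a _ iha =>
      obtain ⟨ψ, hψ, hψx⟩ := F.inv_mem iha
      have hle : P ≤ (P.subtype.comp a.toMonoidHom).range := by
        intro x hx
        refine ⟨a.symm ⟨x, hx⟩, ?_⟩
        simp
      have h3 := restrict_mem F hle hψ
      have : ψ.comp (Subgroup.inclusion hle) = P.subtype.comp (a⁻¹).toMonoidHom := by
        ext x
        have hx := hψx (a⁻¹ x)
        have e1 : (⟨(P.subtype.comp a.toMonoidHom) (a⁻¹ x), ⟨a⁻¹ x, rfl⟩⟩ :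
            (P.subtype.comp a.toMonoidHom).range) = Subgroup.inclusion hle x := by
          apply Subtype.ext
          show ((a (a⁻¹ x) : P) : Ω) = (x : Ω)
          simp
        rw [e1] at hx
        exact hx
      rwa [this] at h3
  · intro h
    exact Subgroup.subset_closure h

end Cfsg.Agent.Lib.Helper88
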