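/-
helper88: basic facts about models of fusion systems (`Cfsg.FusionSystem.IsModel`): for a finite group `L`
realizing `F` on a Sylow `p`-subgroup through `ι : S →* L` and with `C_L(O_p(L)) ≤ O_p(L)`, the preimage `Q` of `O_p(L)`
in `S` is normal and centric in `F`, equals `O_p(F)`, and `Aut_F(Q)` is the image of `L` under conjugation with kernel
`Z(O_p(L))`.  Also: passing from a realizing group `G` to `G / O_{p'}(G)`, and `p`-solvability of extensions by `p`-groups.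
All declarations live in `Cfsg.Agent.Lib.Helper88.Model`.
-/
import Cfsg.Agent.Lib.Helper88.FusionAut
import Cfsg.Agent.Lib.Helper88.FusionBasic
import Cfsg.Agent.Lib.Helper76.PCore
import Cfsg.Agent.Lib.Helper87.FusionSat
import Cfsg.Prelude.Def_CaseTheorems

set_option autoImplicit false

namespace Cfsg.Agent.Lib.Helper88.Model

open Cfsg Cfsg.FusionSystem Cfsg.Agent.Lib.Helper88
open scoped Pointwise

variable {Ω : Type*} [Group Ω] {S : Subgroup Ω} {L : Type*} [Group L]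

/-! ### Conjugation in `L` read through `ι` -/

/-- The homomorphism `P → Ω` induced by conjugation with `g ∈ L`, read through the injective `ι : S →* L`. -/
noncomputable def conjThrough (ι : S →* L) (hι : Function.Injective ι) {P : Subgroup Ω} (hP : P ≤ S) (g : L)
    (h : ∀ x : P, g * ι ⟨x, hP x.2⟩ * g⁻¹ ∈ ι.range) : P →* Ω :=
  S.subtype.comp ((MonoidHom.ofInjective hι).symm.toMonoidHom.comp
    ((((MulAut.conj g).toMonoidHom.comp ι).comp (Subgroup.inclusion hP)).codRestrict ι.range (fun x => h x)))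

theorem conjThrough_mem (ι : S →* L) (hι : Function.Injective ι) {P : Subgroup Ω} (hP : P ≤ S) (g : L)
    (h : ∀ x : P, g * ι ⟨x, hP x.2⟩ * g⁻¹ ∈ ι.range) (x : P) : conjThrough ι hι hP g h x ∈ S :=
  Subtype.property _

theorem ι_conjThrough (ι : S →* L) (hι : Function.Injective ι) {P : Subgroup Ω} (hP : P ≤ S) (g : L)
    (h : ∀ x : P, g * ι ⟨x, hP x.2⟩ * g⁻¹ ∈ ι.range) (x : P) :
    ι ⟨conjThrough ι hι hP g h x, conjThrough_mem ι hι hP g h x⟩ = g * ι ⟨x, hP x.2⟩ * g⁻¹ :=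
  MonoidHom.apply_ofInjective_symm hι ⟨g * ι ⟨x, hP x.2⟩ * g⁻¹, h x⟩

theorem conjThrough_mem_hom (F : FusionSystem S) {ι : S →* L} (hR : F.IsRealizedBy ι) {P : Subgroup Ω}
    (hP : P ≤ S) (g : L) (h : ∀ x : P, g * ι ⟨x, hP x.2⟩ * g⁻¹ ∈ ι.range) :
    conjThrough ι hR.1 hP g h ∈ F.Hom P :=
  (hR.2 P hP _ (conjThrough_mem ι hR.1 hP g h)).2 ⟨g, fun x => ι_conjThrough ι hR.1 hP g h x⟩

/-! ### The preimage of `O_p(L)` -/

/-- The preimage in `S` of `O_p(L)`, as a subgroup of `Ω`. -/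
def coreSub (p : ℕ) (ι : S →* L) : Subgroup Ω := ((pCore p L).comap ι).map S.subtype

theorem mem_coreSub {p : ℕ} {ι : S →* L} {x : Ω} :
    x ∈ coreSub p ι ↔ ∃ hx : x ∈ S, ι ⟨x, hx⟩ ∈ pCore p L := by
  constructor
  · rintro ⟨y, hy, rfl⟩
    exact ⟨y.2, hy⟩
  · rintro ⟨hx, h⟩
    exact ⟨⟨x, hx⟩, h, rfl⟩

theorem coreSub_le {p : ℕ} {ι : S →* L} : coreSub p ι ≤ S := by
  intro x hx
  exact (mem_coreSub.1 hx).1

section model

variable [Finite L] {p : ℕ} [Fact p.Prime] (F : FusionSystem S) {ι : S →* L}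

omit [Finite L] in
theorem pCore_le_range (T : Sylow p L) (hT : (T : Subgroup L) = ι.range) : pCore p L ≤ ι.range := by
  rw [← hT]
  exact Cfsg.Agent.Lib.Helper76.pCore_le_sylow p T

omit [Finite L] in
theorem coreSub_isNormal (hR : F.IsRealizedBy ι) (T : Sylow p L) (hT : (T : Subgroup L) = ι.range) :
    F.IsNormal (coreSub p ι) := by
  have hOle : pCore p L ≤ ι.range := pCore_le_range T hT
  have hOn : (pCore p L).Normal := inferInstance
  refine ⟨coreSub_le, fun P φ hφ => ?_⟩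
  have hP : P ≤ S := le_of_mem_hom F hφ
  have hφS : ∀ x : P, φ x ∈ S := fun x => apply_mem_of_mem_hom F hφ x
  obtain ⟨g, hg⟩ := (hR.2 P hP φ hφS).1 hφ
  have hPQ : P ⊔ coreSub p ι ≤ S := sup_le hP coreSub_le
  have key : ∀ x : ↥(P ⊔ coreSub p ι), g * ι ⟨x, hPQ x.2⟩ * g⁻¹ ∈ ι.range := by
    let K : Subgroup Ω := ((ι.range).comap ((MulAut.conj g).toMonoidHom.comp ι)).map S.subtype
    have hK : ∀ y : Ω, y ∈ K ↔ ∃ hy : y ∈ S, g * ι ⟨y, hy⟩ * g⁻¹ ∈ ι.range := by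
      intro y
      constructor
      · rintro ⟨z, hz, rfl⟩
        exact ⟨z.2, hz⟩
      · rintro ⟨hy, h⟩
        exact ⟨⟨y, hy⟩, h, rfl⟩
    have h1 : P ≤ K := fun y hy => (hK y).2 ⟨hP hy, by rw [← hg ⟨y, hy⟩]; exact ⟨_, rfl⟩⟩
    have h2 : coreSub p ι ≤ K := fun y hy => by
      obtain ⟨hyS, hy'⟩ := mem_coreSub.1 hy
      exact (hK y).2 ⟨hyS, hOle (hOn.conj_mem _ hy' g)⟩
    intro x
    obtain ⟨_, h⟩ := (hK x).1 (sup_le h1 h2 x.2)
    exact h
  refine ⟨conjThrough ι hR.1 hPQ g key, conjThrough_mem_hom F hR hPQ g key, ?_, ?_⟩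
  · intro x
    have h1 := ι_conjThrough ι hR.1 hPQ g key (Subgroup.inclusion le_sup_left x)
    have h2 := hg x
    have h3 : (⟨conjThrough ι hR.1 hPQ g key (Subgroup.inclusion le_sup_left x),
        conjThrough_mem ι hR.1 hPQ g key _⟩ : S) = ⟨φ x, hφS x⟩ := hR.1 (h1.trans h2.symm)
    exact congrArg Subtype.val h3
  · ext y
    constructor
    · rintro ⟨x, hx, rfl⟩
      have hx' : (x : Ω) ∈ coreSub p ι := hx
      rw [mem_coreSub]
      refine ⟨conjThrough_mem ι hR.1 hPQ g key x, ?_⟩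
      rw [ι_conjThrough]
      exact hOn.conj_mem _ (mem_coreSub.1 hx').2 g
    · intro hy
      obtain ⟨hyS, hy'⟩ := mem_coreSub.1 hy
      have h3 : g⁻¹ * ι ⟨y, hyS⟩ * g ∈ pCore p L := by
        have := hOn.conj_mem _ hy' g⁻¹
        rwa [inv_inv] at this
      obtain ⟨s, hs⟩ := hOle h3
      have hsQ : (s : Ω) ∈ coreSub p ι := mem_coreSub.2 ⟨s.2, by
        have : (⟨(s : Ω), s.2⟩ : S) = s := rfl
        rw [this, hs]; exact h3⟩
      refine ⟨⟨(s : Ω), le_sup_right (a := P) hsQ⟩, hsQ, ?_⟩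
      have h1 := ι_conjThrough ι hR.1 hPQ g key ⟨(s : Ω), le_sup_right (a := P) hsQ⟩
      have h4 : ι ⟨conjThrough ι hR.1 hPQ g key ⟨(s : Ω), le_sup_right (a := P) hsQ⟩,
          conjThrough_mem ι hR.1 hPQ g key _⟩ = ι ⟨y, hyS⟩ := by
        rw [h1]
        have : (⟨((⟨(s : Ω), le_sup_right (a := P) hsQ⟩ : ↥(P ⊔ coreSub p ι)) : Ω), hPQ (le_sup_right (a := P) hsQ)⟩ : S) = s := rfl
        rw [this, hs]
        group
      exact congrArg Subtype.val (hR.1 h4)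

omit [Finite L] in
theorem coreSub_isCentric (hR : F.IsRealizedBy ι) (T : Sylow p L) (hT : (T : Subgroup L) = ι.range)
    (hC : Subgroup.centralizer ((pCore p L : Subgroup L) : Set L) ≤ pCore p L) :
    F.IsCentric (coreSub p ι) := by
  have hOle : pCore p L ≤ ι.range := pCore_le_range T hT
  have hN := coreSub_isNormal F hR T hT
  refine ⟨coreSub_le, ?_⟩
  rintro Q' ⟨φ, hφ, hφr⟩
  have hQ' : Q' = coreSub p ι := by rw [← hφr]; exact isNormal_range_eq F hN hφ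
  rw [hQ']
  rintro c ⟨hcS, hcC⟩
  rw [mem_coreSub]
  refine ⟨hcS, hC ?_⟩
  rw [Subgroup.mem_centralizer_iff]
  intro y hy
  obtain ⟨s, hs⟩ := hOle hy
  have hsQ : (s : Ω) ∈ coreSub p ι := mem_coreSub.2 ⟨s.2, by
    have : (⟨(s : Ω), s.2⟩ : S) = s := rfl
    rw [this, hs]; exact hy⟩
  have hcomm : (s : Ω) * c = c * s := Subgroup.mem_centralizer_iff.1 hcC (s : Ω) hsQ
  have h1 : s * ⟨c, hcS⟩ = ⟨c, hcS⟩ * s := Subtype.ext hcomm
  rw [← hs, ← map_mul, ← map_mul, h1]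

omit [Finite L] in
theorem core_eq_coreSub (hS : IsPGroup p S) (hR : F.IsRealizedBy ι) (T : Sylow p L)
    (hT : (T : Subgroup L) = ι.range)
    (hC : Subgroup.centralizer ((pCore p L : Subgroup L) : Set L) ≤ pCore p L) :
    F.core = coreSub p ι := by
  have hOle : pCore p L ≤ ι.range := pCore_le_range T hT
  have hOn : (pCore p L).Normal := inferInstance
  have hN := coreSub_isNormal F hR T hT
  apply le_antisymm
  · apply sSup_le
    intro Q' hQ'
    have hQ'S : Q' ≤ S := hQ'.1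
    have hKn : ((Q'.subgroupOf S).map ι).Normal := by
      constructor
      rintro _ ⟨q, hq, rfl⟩ g
      have hq' : (q : Ω) ∈ Q' := hq
      -- conjugation by `g` on the core
      have hα0 : ∀ x : ↥(coreSub p ι), g * ι ⟨x, coreSub_le x.2⟩ * g⁻¹ ∈ ι.range :=
        fun x => hOle (hOn.conj_mem _ (mem_coreSub.1 x.2).2 g)
      have hα := conjThrough_mem_hom F hR coreSub_le g hα0
      obtain ⟨ψ, hψ, hψ1, hψ2⟩ := hQ'.2 _ _ hα
      have hsupS : coreSub p ι ⊔ Q' ≤ S := sup_le coreSub_le hQ'S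
      have hψS : ∀ x : ↥(coreSub p ι ⊔ Q'), ψ x ∈ S := fun x => apply_mem_of_mem_hom F hψ x
      obtain ⟨g', hg'⟩ := (hR.2 _ hsupS ψ hψS).1 hψ
      -- `g⁻¹ g'` centralizes `O_p(L)`
      have hz : g⁻¹ * g' ∈ Subgroup.centralizer ((pCore p L : Subgroup L) : Set L) := by
        rw [Subgroup.mem_centralizer_iff]
        intro y hy
        obtain ⟨s, hs⟩ := hOle hy
        have hsQ : (s : Ω) ∈ coreSub p ι := mem_coreSub.2 ⟨s.2, by
          have : (⟨(s : Ω), s.2⟩ : S) = s := rfl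
          rw [this, hs]; exact hy⟩
        have h1 := hg' (Subgroup.inclusion le_sup_left ⟨(s : Ω), hsQ⟩)
        have h2 := hψ1 ⟨(s : Ω), hsQ⟩
        have h3 := ι_conjThrough ι hR.1 coreSub_le g hα0 ⟨(s : Ω), hsQ⟩
        have h4 : ι ⟨ψ (Subgroup.inclusion le_sup_left ⟨(s : Ω), hsQ⟩), hψS _⟩ =
            ι ⟨conjThrough ι hR.1 coreSub_le g hα0 ⟨(s : Ω), hsQ⟩, conjThrough_mem ι hR.1 coreSub_le g hα0 _⟩ := by
          congr 1
          exact Subtype.ext h2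
        rw [h1, h3] at h4
        have h5 : (⟨((Subgroup.inclusion (le_sup_left : coreSub p ι ≤ coreSub p ι ⊔ Q') ⟨(s : Ω), hsQ⟩ :
            ↥(coreSub p ι ⊔ Q')) : Ω), hsupS (Subgroup.inclusion (le_sup_left : coreSub p ι ≤ coreSub p ι ⊔ Q') ⟨(s : Ω), hsQ⟩).2⟩ : S) = s := rfl
        have h6 : (⟨((⟨(s : Ω), hsQ⟩ : ↥(coreSub p ι)) : Ω), coreSub_le hsQ⟩ : S) = s := rfl
        rw [h5, h6, hs] at h4
        -- h4 : g' * y * g'⁻¹ = g * y * g⁻¹
        calc y * (g⁻¹ * g') = g⁻¹ * (g * y * g⁻¹) * g' := by group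
          _ = g⁻¹ * (g' * y * g'⁻¹) * g' := by rw [h4]
          _ = g⁻¹ * g' * y := by group
      obtain ⟨s, hs⟩ := hOle (hC hz)
      -- `s⁻¹ q s ∈ Q'`
      obtain ⟨α, -, hαx⟩ := exists_autInducedBy_of_isNormal F hQ' (g := ((s : Ω))⁻¹) (S.inv_mem s.2)
      have hq2 : ((s : Ω))⁻¹ * q * (s : Ω) ∈ Q' := by
        have := hαx ⟨(q : Ω), hq'⟩
        rw [inv_inv] at this
        rw [← this]
        exact (α ⟨(q : Ω), hq'⟩).2
      have hq2' : ((s : Ω))⁻¹ * q * (s : Ω) ∈ coreSub p ι ⊔ Q' := le_sup_right (a := coreSub p ι) hq2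
      have h7 := hg' ⟨_, hq2'⟩
      have h8 : ψ ⟨_, hq2'⟩ ∈ Q' := hψ2.le ⟨⟨_, hq2'⟩, hq2, rfl⟩
      refine ⟨⟨ψ ⟨_, hq2'⟩, hψS _⟩, h8, ?_⟩
      rw [h7]
      have h9 : (⟨((⟨((s : Ω))⁻¹ * q * (s : Ω), hq2'⟩ : ↥(coreSub p ι ⊔ Q')) : Ω), hsupS hq2'⟩ : S) = s⁻¹ * q * s :=
        rfl
      rw [h9, map_mul, map_mul, map_inv, hs]
      group
    have hKp : IsPGroup p ((Q'.subgroupOf S).map ι) := (hS.to_subgroup (Q'.subgroupOf S)).map ι
    have hK : (Q'.subgroupOf S).map ι ≤ pCore p L := Cfsg.Agent.Lib.Helper76.le_pCore p _ hKn hKp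
    intro q hq
    exact mem_coreSub.2 ⟨hQ'S hq, hK ⟨⟨q, hQ'S hq⟩, hq, rfl⟩⟩
  · exact le_sSup hN

end model

/-! ### `Aut_F(Q)` as a quotient of the model -/

section aut

variable [Finite L] {p : ℕ} [Fact p.Prime] (F : FusionSystem S) {ι : S →* L}

omit [Finite L] [Fact p.Prime] in
theorem coe_mem_coreSub_of_mem {s : S} (hs : ι s ∈ pCore p L) : (s : Ω) ∈ coreSub p ι :=
  mem_coreSub.2 ⟨s.2, hs⟩

/-- `Q ≃* O_p(L)`. -/
noncomputable def coreEquiv (hι : Function.Injective ι) (hOle : pCore p L ≤ ι.range) :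
    ↥(coreSub p ι) ≃* ↥(pCore p L) :=
  MulEquiv.ofBijective
    ((ι.comp (Subgroup.inclusion coreSub_le)).codRestrict (pCore p L) (fun x => (mem_coreSub.1 x.2).2))
    ⟨by
      intro a b hab
      have h1 : ι (Subgroup.inclusion coreSub_le a) = ι (Subgroup.inclusion coreSub_le b) :=
        congrArg Subtype.val hab
      have h2 := hι h1
      exact Subtype.ext (congrArg (fun z : S => (z : Ω)) h2),
     by
      rintro ⟨y, hy⟩
      obtain ⟨s, hs⟩ := hOle hy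
      exact ⟨⟨(s : Ω), coe_mem_coreSub_of_mem (by rw [hs]; exact hy)⟩, Subtype.ext hs⟩⟩

omit [Finite L] [Fact p.Prime] in
theorem coe_coreEquiv (hι : Function.Injective ι) (hOle : pCore p L ≤ ι.range) (x : ↥(coreSub p ι)) :
    ((coreEquiv hι hOle x : ↥(pCore p L)) : L) = ι ⟨x, coreSub_le x.2⟩ := rfl

/-- The conjugation action of `L` on `Q`, read through `ι`. -/
noncomputable def autHom (hι : Function.Injective ι) (hOle : pCore p L ≤ ι.range) :
    L →* MulAut ↥(coreSub p ι) :=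
  (MulAut.congr (coreEquiv hι hOle).symm).toMonoidHom.comp (MulAut.conjNormal (H := pCore p L))

omit [Finite L] [Fact p.Prime] in
theorem ι_autHom (hι : Function.Injective ι) (hOle : pCore p L ≤ ι.range) (g : L) (x : ↥(coreSub p ι)) :
    ι ⟨((autHom hι hOle g x : ↥(coreSub p ι)) : Ω), coreSub_le (autHom hι hOle g x).2⟩ =
      g * ι ⟨x, coreSub_le x.2⟩ * g⁻¹ := by
  have h1 : coreEquiv hι hOle (autHom hι hOle g x) = MulAut.conjNormal g (coreEquiv hι hOle x) := by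
    simp [autHom, MulAut.congr]
  have h2 := congrArg Subtype.val h1
  rw [coe_coreEquiv, MulAut.conjNormal_apply, coe_coreEquiv] at h2
  exact h2

omit [Finite L] [Fact p.Prime] in
theorem autHom_mem (hR : F.IsRealizedBy ι) (hOle : pCore p L ≤ ι.range) (g : L) :
    autHom hR.1 hOle g ∈ F.autGroup (coreSub p ι) := by
  rw [mem_autGroup_iff F coreSub_le]
  exact (hR.2 _ coreSub_le _ (fun x => coreSub_le (autHom hR.1 hOle g x).2)).2
    ⟨g, fun x => ι_autHom hR.1 hOle g x⟩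

omit [Finite L] [Fact p.Prime] in
theorem exists_autHom_eq (hR : F.IsRealizedBy ι) (hOle : pCore p L ≤ ι.range) {α : MulAut ↥(coreSub p ι)}
    (hα : α ∈ F.autGroup (coreSub p ι)) : ∃ g : L, autHom hR.1 hOle g = α := by
  rw [mem_autGroup_iff F coreSub_le] at hα
  obtain ⟨g, hg⟩ := (hR.2 _ coreSub_le _ (fun x => coreSub_le (α x).2)).1 hα
  refine ⟨g, MulEquiv.ext (fun x => Subtype.ext ?_)⟩
  have h1 := ι_autHom hR.1 hOle g x
  have h2 := hg x
  have h3 := hR.1 (h1.trans h2.symm)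
  exact congrArg (fun z : S => (z : Ω)) h3

omit [Finite L] [Fact p.Prime] in
theorem autHom_ker_le (hι : Function.Injective ι) (hOle : pCore p L ≤ ι.range) :
    (autHom hι hOle).ker ≤ Subgroup.centralizer ((pCore p L : Subgroup L) : Set L) := by
  intro g hg
  rw [MonoidHom.mem_ker] at hg
  rw [Subgroup.mem_centralizer_iff]
  intro y hy
  obtain ⟨s, hs⟩ := hOle hy
  have hsQ : (s : Ω) ∈ coreSub p ι := coe_mem_coreSub_of_mem (by rw [hs]; exact hy)
  have h1 := ι_autHom hι hOle g ⟨(s : Ω), hsQ⟩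
  have h0 : autHom hι hOle g ⟨(s : Ω), hsQ⟩ = ⟨(s : Ω), hsQ⟩ := by rw [hg]; rfl
  have h2 : ι ⟨((autHom hι hOle g ⟨(s : Ω), hsQ⟩ : ↥(coreSub p ι)) : Ω),
      coreSub_le (autHom hι hOle g ⟨(s : Ω), hsQ⟩).2⟩ = ι s := by
    congr 1
    exact Subtype.ext (congrArg (fun z : ↥(coreSub p ι) => (z : Ω)) h0)
  have h3 : (⟨((⟨(s : Ω), hsQ⟩ : ↥(coreSub p ι)) : Ω), coreSub_le hsQ⟩ : S) = s := rfl
  rw [h2, h3, hs] at h1
  -- h1 : y = g * y * g⁻¹
  calc y * g = (g * y * g⁻¹) * g := by rw [← h1]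
    _ = g * y := by group

/-- A finite group with a surjection onto a `p`-solvable group whose kernel is a `p`-group is `p`-solvable. -/
theorem isPSolvable_of_ker_isPGroup {A : Type*} [Group A] (f : L →* A) (hf : Function.Surjective f)
    (hker : IsPGroup p f.ker) (hA : IsPSolvable p A) : IsPSolvable p L := by
  obtain ⟨n, H, h0, hlast, hmono, hnorm, hstep⟩ := hA
  refine ⟨n + 1, Fin.cons ⊥ (fun i => (H i).comap f), ?_, ?_, ?_, ?_, ?_⟩
  · rfl
  · rw [← Fin.succ_last, Fin.cons_succ, hlast]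
    rfl
  · rw [Fin.monotone_iff_le_succ]
    intro i
    refine Fin.cases ?_ (fun j => ?_) i
    · rw [Fin.castSucc_zero, Fin.cons_zero]
      exact bot_le
    · rw [← Fin.succ_castSucc, Fin.cons_succ, Fin.cons_succ]
      exact Subgroup.comap_mono (hmono (Fin.castSucc_lt_succ (i := j)).le)
  · intro i
    refine Fin.cases ?_ (fun j => ?_) i
    · rw [Fin.cons_zero]
      infer_instance
    · rw [Fin.cons_succ]
      exact (hnorm j).comap f
  · intro i
    refine Fin.cases ?_ (fun j => ?_) i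
    · left
      rw [Fin.castSucc_zero, Fin.cons_zero, Fin.cons_succ, Subgroup.relIndex_bot_left, h0]
      obtain ⟨m, hm⟩ := IsPGroup.iff_card.1 hker
      exact ⟨m, hm⟩
    · rw [← Fin.succ_castSucc, Fin.cons_succ, Fin.cons_succ, Subgroup.relIndex_comap,
        Subgroup.map_comap_eq_self_of_surjective hf]
      exact hstep j

omit [Finite L] in
theorem isPSolvable_autGroup_of_model (hR : F.IsRealizedBy ι) (T : Sylow p L)
    (hT : (T : Subgroup L) = ι.range) (hL : IsPSolvable p L) :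
    IsPSolvable p ↥(F.autGroup (coreSub p ι)) := by
  have hOle := pCore_le_range T hT
  have hf : Function.Surjective ((autHom hR.1 hOle).codRestrict (F.autGroup (coreSub p ι))
      (fun g => autHom_mem F hR hOle g)) := by
    rintro ⟨α, hα⟩
    obtain ⟨g, hg⟩ := exists_autHom_eq F hR hOle hα
    exact ⟨g, Subtype.ext hg⟩
  exact Cfsg.Agent.Lib.Helper76.IsPSolvable_of_surjective p _ hf hL

theorem isPSolvable_model_of_autGroup (hR : F.IsRealizedBy ι) (T : Sylow p L)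
    (hT : (T : Subgroup L) = ι.range)
    (hC : Subgroup.centralizer ((pCore p L : Subgroup L) : Set L) ≤ pCore p L)
    (hA : IsPSolvable p ↥(F.autGroup (coreSub p ι))) : IsPSolvable p L := by
  have hOle := pCore_le_range T hT
  have hf : Function.Surjective ((autHom hR.1 hOle).codRestrict (F.autGroup (coreSub p ι))
      (fun g => autHom_mem F hR hOle g)) := by
    rintro ⟨α, hα⟩
    obtain ⟨g, hg⟩ := exists_autHom_eq F hR hOle hα
    exact ⟨g, Subtype.ext hg⟩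
  have hker : IsPGroup p ((autHom hR.1 hOle).codRestrict (F.autGroup (coreSub p ι))
      (fun g => autHom_mem F hR hOle g)).ker := by
    have h1 : ((autHom hR.1 hOle).codRestrict (F.autGroup (coreSub p ι))
        (fun g => autHom_mem F hR hOle g)).ker ≤ pCore p L := by
      intro g hg
      apply hC
      apply autHom_ker_le hR.1 hOle
      rw [MonoidHom.mem_ker] at hg ⊢
      exact congrArg Subtype.val hg
    exact (Cfsg.Agent.Lib.Helper76.pCore_isPGroup p).to_le h1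
  exact isPSolvable_of_ker_isPGroup _ hf hker hA

end aut

/-! ### Passing to `G / O_{p'}(G)` -/

section quotient

variable {G : Type*} [Group G] [Finite G] {p : ℕ} [Fact p.Prime] (F : FusionSystem S) {ι : S →* G}

omit [Fact (Nat.Prime p)] in
theorem eq_one_of_mem_range_of_mem_pPrimeCore (hS : IsPGroup p S) :
    ∀ x ∈ ι.range, x ∈ pPrimeCore p G → x = 1 := by
  rintro _ ⟨s, rfl⟩ hx
  obtain ⟨k, hk⟩ := hS s
  have h2 : (ι s) ^ p ^ k = 1 := by rw [← map_pow, hk, map_one]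
  have h1 : (ι s) ^ Nat.card (pPrimeCore p G) = 1 := by
    have := pow_card_eq_one' (G := ↥(pPrimeCore p G)) (x := ⟨ι s, hx⟩)
    have h := congrArg (fun z : ↥(pPrimeCore p G) => (z : G)) this
    exact h
  exact Cfsg.Agent.Lib.Helper76.eq_one_of_pow_eq_one_of_coprime p (ι s) _ k
    (Cfsg.Agent.Lib.Helper76.pPrimeCore_coprime p) h1 h2

theorem realizedBy_mk (hS : IsPGroup p S) (hR : F.IsRealizedBy ι) (T : Sylow p G)
    (hT : (T : Subgroup G) = ι.range) :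
    F.IsRealizedBy ((QuotientGroup.mk' (pPrimeCore p G)).comp ι) := by
  have hNn : (pPrimeCore p G).Normal := inferInstance
  have hcap := eq_one_of_mem_range_of_mem_pPrimeCore (ι := ι) hS
  refine ⟨?_, fun P hP φ hφ => ⟨?_, ?_⟩⟩
  · rw [injective_iff_map_eq_one]
    intro s hs
    have h1 : ι s ∈ pPrimeCore p G := (QuotientGroup.eq_one_iff _).1 hs
    exact (injective_iff_map_eq_one ι).1 hR.1 s (hcap _ ⟨s, rfl⟩ h1)
  · intro h
    obtain ⟨g, hg⟩ := (hR.2 P hP φ hφ).1 h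
    refine ⟨QuotientGroup.mk' (pPrimeCore p G) g, fun x => ?_⟩
    show QuotientGroup.mk' (pPrimeCore p G) (ι _) = _
    rw [hg x, map_mul, map_mul, map_inv]
    rfl
  · rintro ⟨gbar, hgbar⟩
    obtain ⟨g, rfl⟩ := QuotientGroup.mk'_surjective (pPrimeCore p G) gbar
    have hmod : ∀ x : P, (ι ⟨φ x, hφ x⟩)⁻¹ * (g * ι ⟨x, hP x.2⟩ * g⁻¹) ∈ pPrimeCore p G := by
      intro x
      have h1 : QuotientGroup.mk' (pPrimeCore p G) (ι ⟨φ x, hφ x⟩) =
          QuotientGroup.mk' (pPrimeCore p G) (g * ι ⟨x, hP x.2⟩ * g⁻¹) := by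
        rw [map_mul, map_mul, map_inv]
        exact hgbar x
      exact QuotientGroup.eq.1 h1
    -- the `p`-subgroup `g ι(P) g⁻¹`
    obtain ⟨R, hRdef⟩ : ∃ R : Subgroup G, R = (P.subgroupOf S).map ((MulAut.conj g).toMonoidHom.comp ι) :=
      ⟨_, rfl⟩
    have hRmem : ∀ x : P, g * ι ⟨x, hP x.2⟩ * g⁻¹ ∈ R := by
      intro x
      rw [hRdef]
      exact ⟨⟨x, hP x.2⟩, x.2, rfl⟩
    have hRp : IsPGroup p R := by
      rw [hRdef]
      exact (hS.to_subgroup (P.subgroupOf S)).map _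
    have hRle : R ≤ (T : Subgroup G) ⊔ pPrimeCore p G := by
      rw [hRdef]
      rintro _ ⟨y, hy, rfl⟩
      have hyP : (y : Ω) ∈ P := hy
      have h1 := hmod ⟨(y : Ω), hyP⟩
      have h2 : ι ⟨φ ⟨(y : Ω), hyP⟩, hφ _⟩ ∈ (T : Subgroup G) := by rw [hT]; exact ⟨_, rfl⟩
      have h3 : ((MulAut.conj g).toMonoidHom.comp ι) y =
          ι ⟨φ ⟨(y : Ω), hyP⟩, hφ _⟩ * ((ι ⟨φ ⟨(y : Ω), hyP⟩, hφ _⟩)⁻¹ * (g * ι y * g⁻¹)) := by
        rw [mul_inv_cancel_left]
        rfl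
      rw [h3]
      exact Subgroup.mul_mem_sup h2 h1
    have hR' : IsPGroup p (R.subgroupOf ((T : Subgroup G) ⊔ pPrimeCore p G)) := hRp.comap_subtype
    obtain ⟨c, hc⟩ := Cfsg.Agent.Lib.Helper87.exists_conj_mem_sylow
      (T.subtype (le_sup_left : (T : Subgroup G) ≤ (T : Subgroup G) ⊔ pPrimeCore p G)) hR'
    have hcmem : (c : G) ∈ ((T : Subgroup G) : Set G) * ((pPrimeCore p G : Subgroup G) : Set G) := by
      rw [← Subgroup.mul_normal]
      exact c.2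
    obtain ⟨t, ht, n, hn, htn⟩ := Set.mem_mul.1 hcmem
    have hconj : ∀ r ∈ R, n * r * n⁻¹ ∈ (T : Subgroup G) := by
      intro r hr
      have h1 : c * ⟨r, hRle hr⟩ * c⁻¹ ∈ (T : Subgroup G).subgroupOf ((T : Subgroup G) ⊔ pPrimeCore p G) :=
        hc ⟨r, hRle hr⟩ (Subgroup.mem_subgroupOf.2 hr)
      rw [Subgroup.mem_subgroupOf] at h1
      have h2 : (c : G) * r * (c : G)⁻¹ ∈ (T : Subgroup G) := h1
      rw [← htn] at h2
      have h3 : t⁻¹ * (t * n * r * (t * n)⁻¹) * t ∈ (T : Subgroup G) :=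
        Subgroup.mul_mem _ (Subgroup.mul_mem _ (Subgroup.inv_mem _ ht) h2) ht
      have h4 : t⁻¹ * (t * n * r * (t * n)⁻¹) * t = n * r * n⁻¹ := by group
      rwa [h4] at h3
    refine (hR.2 P hP φ hφ).2 ⟨n * g, fun x => ?_⟩
    have ha : ι ⟨φ x, hφ x⟩ ∈ (T : Subgroup G) := by rw [hT]; exact ⟨_, rfl⟩
    have hb := hconj _ (hRmem x)
    have h5 : (ι ⟨φ x, hφ x⟩)⁻¹ * (n * (g * ι ⟨x, hP x.2⟩ * g⁻¹) * n⁻¹) ∈ pPrimeCore p G := by
      have h6 : (ι ⟨φ x, hφ x⟩)⁻¹ * (n * (g * ι ⟨x, hP x.2⟩ * g⁻¹) * n⁻¹) =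
          ((ι ⟨φ x, hφ x⟩)⁻¹ * (g * ι ⟨x, hP x.2⟩ * g⁻¹)) *
            ((g * ι ⟨x, hP x.2⟩ * g⁻¹)⁻¹ * n * (g * ι ⟨x, hP x.2⟩ * g⁻¹)⁻¹⁻¹) * n⁻¹ := by group
      rw [h6]
      exact Subgroup.mul_mem _ (Subgroup.mul_mem _ (hmod x) (hNn.conj_mem n hn _)) (Subgroup.inv_mem _ hn)
    have h7 : (ι ⟨φ x, hφ x⟩)⁻¹ * (n * (g * ι ⟨x, hP x.2⟩ * g⁻¹) * n⁻¹) ∈ ι.range := by
      rw [← hT]
      exact Subgroup.mul_mem _ (Subgroup.inv_mem _ ha) hb
    have h8 := hcap _ h7 h5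
    have h9 : ι ⟨φ x, hφ x⟩ = n * (g * ι ⟨x, hP x.2⟩ * g⁻¹) * n⁻¹ := by
      rw [← mul_one (ι ⟨φ x, hφ x⟩), ← h8, mul_inv_cancel_left]
    rw [h9]
    group

theorem exists_sylow_mk (T : Sylow p G) (hT : (T : Subgroup G) = ι.range) :
    ∃ T' : Sylow p (G ⧸ pPrimeCore p G),
      (T' : Subgroup (G ⧸ pPrimeCore p G)) = ((QuotientGroup.mk' (pPrimeCore p G)).comp ι).range :=
  ⟨T.mapSurjective (QuotientGroup.mk'_surjective _), by
    rw [Sylow.coe_mapSurjective, hT, MonoidHom.map_range]⟩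

end quotient

end Cfsg.Agent.Lib.Helper88.Model
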