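/-
helper88: S5278, definitions for the group level: the minimal configuration `MinimalHyp` (a finite group `G` with
`C_G(O_p(G)) ≤ O_p(G)`, a Sylow `p`-subgroup `R`, `T ≤ Z(R)` not normal, `N_G(J(R)) ≤ N_G(T)`, and `N_G(T)` containing every
proper subgroup over `R`), and abbreviations for `V = ⟨T^G⟩`, `C = C_G(V)`, `V₁ = Ω₁(V)`.
-/
import Cfsg.Agent.Lib.Helper88.GlaubSubDefs
import Cfsg.Prelude.Def_PLocal

set_option autoImplicit false

namespace Cfsg.Agent.Lib.Helper88.GlaubSub

open Cfsg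

/-- the minimal configuration -/
structure MinimalHyp (p : ℕ) {G : Type*} [Group G] (R : Sylow p G) (T : Subgroup G) : Prop where
  hc : Subgroup.centralizer ((pCore p G : Subgroup G) : Set G) ≤ pCore p G
  hT : T ≤ (R : Subgroup G) ⊓ Subgroup.centralizer ((R : Subgroup G) : Set G)
  hJ : Subgroup.normalizer ((thompsonSubgroupAOf (R : Subgroup G) : Subgroup G) : Set G) ≤ Subgroup.normalizer (T : Set G)
  hnn : Subgroup.normalizer (T : Set G) ≠ ⊤
  hmax : ∀ Y : Subgroup G, (R : Subgroup G) ≤ Y → Y ≠ ⊤ → Y ≤ Subgroup.normalizer (T : Set G)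

variable {G : Type*} [Group G]

/-- `V = ⟨T^G⟩` -/
abbrev nc (T : Subgroup G) : Subgroup G := Subgroup.normalClosure (T : Set G)

/-- `C = C_G(V)` -/
abbrev cc (T : Subgroup G) : Subgroup G := Subgroup.centralizer ((nc T : Subgroup G) : Set G)

/-- `V₁ = Ω₁(V)` -/
abbrev om (p : ℕ) (T : Subgroup G) : Subgroup G := omegaOne p (nc T)

end Cfsg.Agent.Lib.Helper88.GlaubSub
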