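/-
helper88: S5278, the GROUP level, basic facts on the minimal configuration `MinimalHyp p R T`:
`V = ⟨T^G⟩ ≤ Z(O_p(G))`, `Ω₁(V)`, `N_G(T)/C_G(T)` is a `p'`-group, `O_p(G/C_G(V)) = 1`, `C_G(Ω₁(V)) = C_G(V)`,
`Ω₁(T)` is not central (Glauberman's theorem for elements), a quadratic abelian subgroup of largest order, and the
best-offender inequality.
-/
import Cfsg.Agent.Lib.Helper88.GlaubSubDefs2
import Cfsg.Agent.Lib.Helper76.PCore
import Cfsg.Prelude.Def_CaseTheorems
import Cfsg.Agent.Lib.Helper47.ThompsonA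
import Cfsg.Agent.Lib.Helper47.ThompsonALocal
import Cfsg.Agent.Lib.Helper47.SylowLemmas
import Cfsg.Agent.Lib.Helper50.ChermakDelgado
import Cfsg.Agent.Lib.Helper85.GlaubFusModel

set_option autoImplicit false
set_option linter.unusedSectionVars false
set_option linter.style.haveILetI false

universe u

namespace Cfsg.Agent.Lib.Helper88.GlaubSub

open Cfsg Cfsg.Agent.Lib.Helper47

variable {G : Type u} [Group G] [Finite G] {p : ℕ} [Fact p.Prime] {R : Sylow p G} {T : Subgroup G}

/-- [G-V] `V = ⟨T^G⟩ ≤ Z(O_p(G))`. -/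
theorem nc_le (h : MinimalHyp p R T) :
    nc T ≤ pCore p G ⊓ Subgroup.centralizer ((pCore p G : Subgroup G) : Set G) := by
  have hOR : pCore p G ≤ (R : Subgroup G) := Cfsg.Agent.Lib.Helper76.pCore_le_sylow p R
  have hTC : T ≤ Subgroup.centralizer ((pCore p G : Subgroup G) : Set G) :=
    fun t ht => Subgroup.centralizer_le (SetLike.coe_subset_coe.2 hOR) (h.hT ht).2
  have hT2 : T ≤ pCore p G ⊓ Subgroup.centralizer ((pCore p G : Subgroup G) : Set G) :=
    le_inf (hTC.trans h.hc) hTC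
  exact Subgroup.normalClosure_le_normal hT2

theorem nc_comm (h : MinimalHyp p R T) : ∀ a ∈ nc T, ∀ b ∈ nc T, a * b = b * a := by
  intro a ha b hb
  exact (Subgroup.mem_centralizer_iff.1 (nc_le h hb).2) a (nc_le h ha).1

theorem nc_le_sylow (h : MinimalHyp p R T) : nc T ≤ (R : Subgroup G) :=
  ((nc_le h).trans inf_le_left).trans (Cfsg.Agent.Lib.Helper76.pCore_le_sylow p R)

theorem nc_isPGroup (h : MinimalHyp p R T) : IsPGroup p ↥(nc T) :=
  R.2.to_le (nc_le_sylow h)

/-- [G-OM] `V₁ = Ω₁(V)` for the abelian `V`. -/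
theorem mem_om_iff (h : MinimalHyp p R T) (v : G) : v ∈ om p T ↔ v ∈ nc T ∧ v ^ p = 1 := by
  constructor
  · intro hv
    have hv' : v ∈ Subgroup.closure {x : G | x ∈ nc T ∧ x ^ p = 1} := hv
    clear hv
    induction hv' using Subgroup.closure_induction with
    | mem x hx => exact hx
    | one => exact ⟨one_mem _, one_pow _⟩
    | mul x y _ _ hx hy =>
      refine ⟨mul_mem hx.1 hy.1, ?_⟩
      have hc : Commute x y := nc_comm h x hx.1 y hy.1
      rw [hc.mul_pow, hx.2, hy.2, one_mul]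
    | inv x _ hx => exact ⟨inv_mem hx.1, by rw [inv_pow, hx.2, inv_one]⟩
  · intro hv
    exact Subgroup.subset_closure hv

theorem om_le_nc (h : MinimalHyp p R T) : om p T ≤ nc T := fun v hv => ((mem_om_iff h v).1 hv).1

/-- [G-OM] `V₁` is normal. -/
theorem om_normal (T : Subgroup G) : (om p T).Normal := by
  constructor
  intro n hn g
  have hn' : n ∈ Subgroup.closure {x : G | x ∈ nc T ∧ x ^ p = 1} := hn
  clear hn
  show g * n * g⁻¹ ∈ Subgroup.closure {x : G | x ∈ nc T ∧ x ^ p = 1}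
  induction hn' using Subgroup.closure_induction with
  | mem x hx =>
    refine Subgroup.subset_closure ⟨Subgroup.normalClosure_normal.conj_mem x hx.1 g, ?_⟩
    rw [conj_pow, hx.2, mul_one, mul_inv_cancel]
  | one => simp
  | mul x y _ _ hx hy =>
    have := mul_mem hx hy
    have e : g * (x * y) * g⁻¹ = g * x * g⁻¹ * (g * y * g⁻¹) := by group
    rw [e]; exact this
  | inv x _ hx =>
    have := inv_mem hx
    have e : g * x⁻¹ * g⁻¹ = (g * x * g⁻¹)⁻¹ := by group
    rw [e]; exact this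

theorem sylow_le_centralizer (h : MinimalHyp p R T) : (R : Subgroup G) ≤ Subgroup.centralizer (T : Set G) := by
  intro r hr
  rw [Subgroup.mem_centralizer_iff]
  intro t ht
  exact ((Subgroup.mem_centralizer_iff.1 (h.hT ht).2) r hr).symm

theorem sylow_le_normalizer (h : MinimalHyp p R T) : (R : Subgroup G) ≤ Subgroup.normalizer (T : Set G) :=
  (sylow_le_centralizer h).trans (Subgroup.centralizer_le_normalizer _)

theorem cc_le_centralizer (T : Subgroup G) : cc T ≤ Subgroup.centralizer (T : Set G) :=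
  Subgroup.centralizer_le Subgroup.subset_normalClosure

/-- [G-PELT] an element of `N_G(T)` a `p`-power of which centralizes `T` centralizes `T`. -/
theorem pelt (h : MinimalHyp p R T) (m : G) (hm : m ∈ Subgroup.normalizer (T : Set G))
    (hk : ∃ k : ℕ, m ^ (p ^ k) ∈ Subgroup.centralizer (T : Set G)) : m ∈ Subgroup.centralizer (T : Set G) := by
  obtain ⟨k, hk⟩ := hk
  have hRC := sylow_le_centralizer h
  let D : Subgroup ↥(Subgroup.normalizer (T : Set G)) :=
    (Subgroup.centralizer (T : Set G)).subgroupOf (Subgroup.normalizer (T : Set G))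
  haveI : D.Normal := Subgroup.normal_subgroupOf_centralizer_normalizer (T : Set G)
  have hidx : ¬ p ∣ D.index := by
    intro hdvd
    have h1 : D.index ∣ (R : Subgroup G).index :=
      (Subgroup.relIndex_dvd_of_le_left _ hRC).trans
        (Subgroup.relIndex_dvd_index_of_le (hRC.trans (Subgroup.centralizer_le_normalizer _)))
    exact R.not_dvd_index (hdvd.trans h1)
  let q : ↥(Subgroup.normalizer (T : Set G)) ⧸ D := QuotientGroup.mk ⟨m, hm⟩
  have hq1 : q ^ (p ^ k) = 1 := by
    show (QuotientGroup.mk ((⟨m, hm⟩ : ↥(Subgroup.normalizer (T : Set G))) ^ (p ^ k)) : _ ⧸ D) = 1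
    rw [QuotientGroup.eq_one_iff]
    exact Subgroup.mem_subgroupOf.2 (by simpa using hk)
  have hq2 : orderOf q ∣ D.index := by
    rw [Subgroup.index_eq_card]
    exact orderOf_dvd_natCard q
  have hq3 : orderOf q ∣ p ^ k := orderOf_dvd_of_pow_eq_one hq1
  have hq4 : orderOf q = 1 := by
    have hcop : (p ^ k).Coprime D.index :=
      Nat.Coprime.pow_left k ((Fact.out : p.Prime).coprime_iff_not_dvd.2 hidx)
    exact Nat.eq_one_of_dvd_coprimes hcop hq3 hq2
  have hq5 : q = 1 := orderOf_eq_one_iff.1 hq4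
  have := (QuotientGroup.eq_one_iff _).1 hq5
  exact Subgroup.mem_subgroupOf.1 this

/-- [G-COP] an element of order prime to `p` normalizing an abelian `p`-group `W` and centralizing `Ω₁(W)` centralizes `W`. -/
theorem centralizes_of_centralizes_omega (W : Subgroup G) (hWc : ∀ a ∈ W, ∀ b ∈ W, a * b = b * a) (hWp : IsPGroup p W)
    (y : G) (hy : y ∈ Subgroup.normalizer (W : Set G)) (hyo : (orderOf y).Coprime p)
    (hΩ : ∀ w ∈ W, w ^ p = 1 → y * w = w * y) : y ∈ Subgroup.centralizer (W : Set G) := by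
  have key : ∀ k : ℕ, ∀ w ∈ W, w ^ (p ^ k) = 1 → y * w = w * y := by
    intro k
    induction k with
    | zero =>
      intro w _ hw
      rw [pow_zero, pow_one] at hw
      rw [hw, mul_one, one_mul]
    | succ k ih =>
      intro w hw hwk
      have hyw : y * w * y⁻¹ ∈ W := (Subgroup.mem_normalizer_iff.1 hy w).1 hw
      obtain ⟨u, hu⟩ : ∃ u : G, u = y * w * y⁻¹ * w⁻¹ := ⟨_, rfl⟩
      have huW : u ∈ W := by rw [hu]; exact mul_mem hyw (inv_mem hw)
      have hwp : y * w ^ p = w ^ p * y := by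
        apply ih (w ^ p) (pow_mem hw p)
        rw [← pow_mul, ← pow_succ']; exact hwk
      have hup : u ^ p = 1 := by
        have hc : Commute (y * w * y⁻¹) w⁻¹ := hWc _ hyw _ (inv_mem hw)
        rw [hu, hc.mul_pow, conj_pow, hwp, inv_pow, mul_assoc (w ^ p) y y⁻¹, mul_inv_cancel, mul_one, mul_inv_cancel]
      have hyu : y * u = u * y := hΩ u huW hup
      have hj : ∀ j : ℕ, y ^ j * w * (y ^ j)⁻¹ = u ^ j * w := by
        intro j
        induction j with
        | zero => simp
        | succ j ihj =>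
          have hyuj : y * u ^ j = u ^ j * y := ((show Commute y u from hyu).pow_right j).eq
          calc y ^ (j + 1) * w * (y ^ (j + 1))⁻¹ = y * (y ^ j * w * (y ^ j)⁻¹) * y⁻¹ := by
                rw [pow_succ']; group
            _ = y * (u ^ j * w) * y⁻¹ := by rw [ihj]
            _ = (y * u ^ j) * w * y⁻¹ := by group
            _ = u ^ j * (y * w * y⁻¹ * w⁻¹) * w := by rw [hyuj]; group
            _ = u ^ (j + 1) * w := by rw [← hu, ← pow_succ]
      have hn := hj (orderOf y)
      rw [pow_orderOf_eq_one, one_mul, inv_one, mul_one] at hn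
      have hun : u ^ orderOf y = 1 := by
        have : u ^ orderOf y * w = 1 * w := by rw [one_mul]; exact hn.symm
        exact mul_right_cancel this
      have hu1 : u = 1 := by
        have h1 : orderOf u ∣ orderOf y := orderOf_dvd_of_pow_eq_one hun
        have h2 : orderOf u ∣ p := orderOf_dvd_of_pow_eq_one hup
        have h3 : orderOf u ∣ 1 := by
          have := Nat.dvd_gcd h1 h2
          rwa [Nat.Coprime.gcd_eq_one hyo] at this
        exact orderOf_eq_one_iff.1 (Nat.dvd_one.1 h3)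
      have h4 : y * w * y⁻¹ * w⁻¹ = 1 := by rw [← hu]; exact hu1
      calc y * w = (y * w * y⁻¹ * w⁻¹) * w * y := by group
        _ = w * y := by rw [h4, one_mul]
  rw [Subgroup.mem_centralizer_iff]
  intro w hw
  obtain ⟨k, hk⟩ := hWp ⟨w, hw⟩
  have hk' : w ^ (p ^ k) = 1 := by
    have := congrArg Subtype.val hk
    simpa using this
  exact (key k w hw hk').symm

/-- the `p'`-part of an element: some `p`-power of `x` has order prime to `p`. -/
theorem exists_pow_coprime (x : G) : ∃ k : ℕ, (orderOf (x ^ (p ^ k))).Coprime p := by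
  obtain ⟨k, m, hm, hn⟩ := Nat.exists_eq_pow_mul_and_not_dvd (orderOf_pos x).ne' p (Fact.out : p.Prime).ne_one
  refine ⟨k, ?_⟩
  have hy1 : (x ^ (p ^ k)) ^ m = 1 := by rw [← pow_mul, ← hn, pow_orderOf_eq_one]
  exact Nat.Coprime.coprime_dvd_left (orderOf_dvd_of_pow_eq_one hy1)
    (((Fact.out : p.Prime).coprime_iff_not_dvd.2 hm).symm)

/-- a Sylow subgroup supplements a normal subgroup `C` as soon as `R N = G` for a normal `N ≥ C` with `N / C` a `p`-group. -/
theorem sup_eq_top_of_pquot (R : Sylow p G) (C N : Subgroup G) [C.Normal] [N.Normal] (hCN : C ≤ N)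
    (hpN : ∀ x ∈ N, ∃ k : ℕ, x ^ (p ^ k) ∈ C) (htop : N ⊔ (R : Subgroup G) = ⊤) : (R : Subgroup G) ⊔ C = ⊤ := by
  rw [← Subgroup.index_eq_one]
  have h1 : ((R : Subgroup G) ⊔ C).index ∣ (R : Subgroup G).index := Subgroup.index_dvd_of_le le_sup_left
  have h2 : ((R : Subgroup G) ⊔ C).index ∣ C.index := Subgroup.index_dvd_of_le le_sup_right
  have h3 : C.relIndex N * N.index = C.index := Subgroup.relIndex_mul_index hCN
  have h4 : ∃ a, N.index = p ^ a := by
    have e1 : N.relIndex (R : Subgroup G) = N.index := by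
      have := Subgroup.relIndex_sup_right (H := (R : Subgroup G)) (K := N)
      rw [sup_comm, htop, Subgroup.relIndex_top_right] at this
      exact this.symm
    rw [← e1]
    exact IsPGroup.index R.2 (N.subgroupOf (R : Subgroup G))
  have h5 : ∃ b, C.relIndex N = p ^ b := by
    have hP : IsPGroup p (↥N ⧸ C.subgroupOf N) := by
      intro q
      obtain ⟨x, rfl⟩ := QuotientGroup.mk_surjective q
      obtain ⟨k, hk⟩ := hpN x x.2
      refine ⟨k, ?_⟩
      rw [← QuotientGroup.mk_pow, QuotientGroup.eq_one_iff]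
      exact Subgroup.mem_subgroupOf.2 (by simpa using hk)
    obtain ⟨b, hb⟩ := IsPGroup.iff_card.1 hP
    exact ⟨b, (Subgroup.index_eq_card _).trans hb⟩
  obtain ⟨a, ha⟩ := h4
  obtain ⟨b, hb⟩ := h5
  have h6 : ((R : Subgroup G) ⊔ C).index ∣ p ^ (b + a) := by
    rw [pow_add, ← ha, ← hb, h3]; exact h2
  have h7 : ¬ p ∣ ((R : Subgroup G) ⊔ C).index := fun hd => R.not_dvd_index (hd.trans h1)
  obtain ⟨c, -, hc'⟩ := (Nat.dvd_prime_pow Fact.out).1 h6
  rcases Nat.eq_zero_or_pos c with rfl | hpos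
  · simpa using hc'
  · exfalso; apply h7; rw [hc']; exact dvd_pow_self p hpos.ne'

/-- [G-OP] `O_p(G / C) = 1`, in the form: a normal subgroup over `C` that is a `p`-group modulo `C` is `C`. -/
theorem op_trivial (h : MinimalHyp p R T) (N : Subgroup G) [N.Normal] (hCN : cc T ≤ N)
    (hpN : ∀ x ∈ N, ∃ k : ℕ, x ^ (p ^ k) ∈ cc T) : N ≤ cc T := by
  have hRC := sylow_le_centralizer h
  have hccC := cc_le_centralizer T
  have hCN' : Subgroup.centralizer (T : Set G) ≤ Subgroup.normalizer (T : Set G) :=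
    Subgroup.centralizer_le_normalizer _
  haveI : (cc T).Normal := Subgroup.normal_centralizer
  by_cases htop : N ⊔ (R : Subgroup G) = ⊤
  · exfalso
    have h1 := sup_eq_top_of_pquot R (cc T) N hCN hpN htop
    apply h.hnn
    rw [eq_top_iff, ← h1]
    exact sup_le (hRC.trans hCN') (hccC.trans hCN')
  · have hNM : N ≤ Subgroup.normalizer (T : Set G) := le_sup_left.trans (h.hmax _ le_sup_right htop)
    have hNC : N ≤ Subgroup.centralizer (T : Set G) := by
      intro x hx
      obtain ⟨k, hk⟩ := hpN x hx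
      exact pelt h x (hNM hx) ⟨k, hccC hk⟩
    have hTN : T ≤ Subgroup.centralizer (N : Set G) := Subgroup.le_centralizer_iff.1 hNC
    have hVN : nc T ≤ Subgroup.centralizer (N : Set G) := Subgroup.normalClosure_le_normal hTN
    exact Subgroup.le_centralizer_iff.1 hVN

/-- [G-V1C] `C_G(Ω₁(V)) = C_G(V)`. -/
theorem centralizer_om (h : MinimalHyp p R T) : Subgroup.centralizer ((om p T : Subgroup G) : Set G) = cc T := by
  haveI : (om p T).Normal := om_normal T
  have hle : om p T ≤ nc T := om_le_nc h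
  apply le_antisymm
  · apply op_trivial h _ (Subgroup.centralizer_le (SetLike.coe_subset_coe.2 hle))
    intro x hx
    obtain ⟨k, hk⟩ := exists_pow_coprime (p := p) x
    refine ⟨k, ?_⟩
    apply centralizes_of_centralizes_omega (nc T) (nc_comm h) (nc_isPGroup h) _ _ hk
    · intro w hw hwp
      have hwom : w ∈ om p T := (mem_om_iff h w).2 ⟨hw, hwp⟩
      have hxw : w * x = x * w := (Subgroup.mem_centralizer_iff.1 hx) w hwom
      exact ((show Commute x w from hxw.symm).pow_left _).eq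
    · have : Subgroup.normalizer ((nc T : Subgroup G) : Set G) = ⊤ := Subgroup.normalizer_eq_top _
      rw [this]; trivial
  · exact Subgroup.centralizer_le (SetLike.coe_subset_coe.2 hle)

/-- [G-ELT] `Ω₁(T)` is not central (Glauberman's theorem for elements, `glauberman_center`). -/
theorem omega_not_central (hp : p ≠ 2) (h : MinimalHyp p R T) : ¬ (T ⊓ om p T ≤ Subgroup.center G) := by
  intro hcen
  have hTc : ∀ a ∈ T, ∀ b ∈ T, a * b = b * a := fun a ha b hb =>
    (Subgroup.mem_centralizer_iff.1 (h.hT hb).2) a (h.hT ha).1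
  have hTp : IsPGroup p T := R.2.to_le (fun t ht => (h.hT ht).1)
  have hNC : Subgroup.normalizer (T : Set G) ≤ Subgroup.centralizer (T : Set G) := by
    intro g hg
    obtain ⟨k, hk⟩ := exists_pow_coprime (p := p) g
    apply pelt h g hg ⟨k, ?_⟩
    apply centralizes_of_centralizes_omega T hTc hTp _ (pow_mem hg _) hk
    intro w hw hwp
    have hwom : w ∈ om p T := (mem_om_iff h w).2 ⟨Subgroup.subset_normalClosure hw, hwp⟩
    exact (Subgroup.mem_center_iff.1 (hcen ⟨hw, hwom⟩) _)
  have hcentral : ∀ x ∈ T, ∀ g : G, g * x = x * g := by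
    intro x hx
    apply Cfsg.Agent.Lib.Helper85.glauberman_center R h.hc (Or.inl hp) x (h.hT hx)
    intro n hn
    exact ((Subgroup.mem_centralizer_iff.1 (hNC (h.hJ hn))) x hx).symm
  apply h.hnn
  rw [eq_top_iff]
  intro g _
  exact Subgroup.centralizer_le_normalizer _ (Subgroup.mem_centralizer_iff.2 (fun t ht => (hcentral t ht g).symm))

/-- [G-QUAD] a quadratic abelian subgroup of largest order not centralizing `V`. -/
theorem exists_quadratic (h : MinimalHyp p R T) :
    ∃ A0 ∈ maxAbIn (R : Subgroup G), ¬ A0 ≤ cc T ∧ ⁅⁅nc T, A0⁆, A0⁆ = ⊥ := by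
  have hVR := nc_le_sylow h
  have hVc : IsMulCommutative ↥(nc T) := ⟨⟨fun a b => Subtype.ext (nc_comm h a a.2 b b.2)⟩⟩
  have hex : ∃ A ∈ maxAbIn (R : Subgroup G), ¬ A ≤ Subgroup.centralizer ((nc T : Subgroup G) : Set G) := by
    by_contra hcon
    push Not at hcon
    have hJC : thompsonSubgroupAOf (R : Subgroup G) ≤ cc T := thompsonSubgroupAOf_le_of_forall hcon
    have hJR : thompsonSubgroupAOf (R : Subgroup G) ≤ (R : Subgroup G) := thompsonSubgroupAOf_le' _
    haveI : (cc T).Normal := Subgroup.normal_centralizer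
    obtain ⟨P, hP⟩ := exists_sylow_eq_subgroupOf_of_normal R (cc T)
    have hfr := Sylow.normalizer_sup_eq_top P
    rw [hP, Subgroup.subgroupOf_map_subtype] at hfr
    have hQp : IsPGroup p ↥((R : Subgroup G) ⊓ cc T) := R.2.to_le inf_le_left
    have h6 := Cfsg.Agent.Lib.Helper34.normalizer_le_normalizer_inducedFunctor
      (fun (Q : Type u) [Group Q] => thompsonSubgroupA Q) (isCharPFunctor_thompsonA p) ((R : Subgroup G) ⊓ cc T) hQp
    rw [inducedFunctor_thompsonA, thompsonSubgroupAOf_eq_of_le_of_le inf_le_left (le_inf hJR hJC)] at h6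
    apply h.hnn
    rw [eq_top_iff, ← hfr]
    exact sup_le (h6.trans h.hJ) ((cc_le_centralizer T).trans (Subgroup.centralizer_le_normalizer _))
  obtain ⟨A, hA, hAV, -, hq⟩ := exists_quadratic_maxAbIn R (nc T) hVc hVR hex
  exact ⟨A, hA, hAV, hq⟩

/-- [G-OFF] the best-offender inequality of an abelian subgroup of largest order on an abelian subgroup `W ≤ R`. -/
theorem offender_ineq {A0 : Subgroup G} (hA0 : A0 ∈ maxAbIn (R : Subgroup G)) (W : Subgroup G) (hW : W ≤ (R : Subgroup G))
    (hWc : ∀ a ∈ W, ∀ b ∈ W, a * b = b * a) (B : Subgroup G) (hB : B ≤ A0) :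
    Nat.card B * Nat.card ↥(W ⊓ Subgroup.centralizer (B : Set G)) ≤
      Nat.card A0 * Nat.card ↥(W ⊓ Subgroup.centralizer (A0 : Set G)) := by
  obtain ⟨hA0R, hA0c, hA0max⟩ := hA0
  have hcommA : ∀ a ∈ A0, ∀ b ∈ A0, a * b = b * a := fun a ha b hb =>
    congrArg Subtype.val (hA0c.is_comm.comm ⟨a, ha⟩ ⟨b, hb⟩)
  obtain ⟨X, hX⟩ : ∃ X : Subgroup G, X = W ⊓ Subgroup.centralizer (B : Set G) := ⟨_, rfl⟩
  have hBc : IsMulCommutative ↥B := ⟨⟨fun a b => Subtype.ext (hcommA a (hB a.2) b (hB b.2))⟩⟩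
  have hXc : IsMulCommutative ↥X :=
    ⟨⟨fun a b => Subtype.ext (hWc a (hX ▸ a.2 : (a : G) ∈ W ⊓ Subgroup.centralizer (B : Set G)).1 b
      (hX ▸ b.2 : (b : G) ∈ W ⊓ Subgroup.centralizer (B : Set G)).1)⟩⟩
  have hXB : X ≤ Subgroup.centralizer (B : Set G) := hX ▸ inf_le_right
  have hXW : X ≤ W := hX ▸ inf_le_left
  have hsup : IsMulCommutative ↥(X ⊔ B) := Cfsg.Agent.Lib.Helper50.isMulCommutative_sup X B hXc hBc hXB
  have h1 : Nat.card ↥(X ⊔ B) ≤ Nat.card A0 := hA0max _ (sup_le (hXW.trans hW) (hB.trans hA0R)) hsup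
  have h2 := Cfsg.Agent.Lib.Helper50.card_mul_card_le_card_inf_mul_card_sup B X
  have h3 : B ⊓ X ≤ W ⊓ Subgroup.centralizer (A0 : Set G) := by
    intro z hz
    refine Subgroup.mem_inf.2 ⟨hXW hz.2, ?_⟩
    rw [Subgroup.mem_centralizer_iff]
    intro a ha
    exact hcommA a ha z (hB hz.1)
  have h4 : Nat.card ↥(B ⊓ X) ≤ Nat.card ↥(W ⊓ Subgroup.centralizer (A0 : Set G)) :=
    Subgroup.card_le_of_le h3
  rw [← hX]
  calc Nat.card B * Nat.card ↥X ≤ Nat.card ↥(B ⊓ X) * Nat.card ↥(B ⊔ X) := h2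
    _ ≤ Nat.card ↥(W ⊓ Subgroup.centralizer (A0 : Set G)) * Nat.card A0 := by
        rw [sup_comm]
        exact Nat.mul_le_mul h4 h1
    _ = _ := mul_comm _ _

end Cfsg.Agent.Lib.Helper88.GlaubSub
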