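import Cfsg.Agent.Lib.Helper48.SPE
import Cfsg.Agent.Lib.Helper87.FusionCore
import Cfsg.Agent.Lib.Helper87.FusionSat
import Cfsg.Agent.Lib.Helper88.FusionAlperinCR
import Mathlib

/-!
Essential subgroups: the "control" subgroup `H < Aut_F(Q)` coming from a strongly `p`-embedded subgroup
of `Out_F(Q)`.
-/

set_option autoImplicit false

namespace Cfsg.Agent.Lib.Helper88

open Cfsg Cfsg.FusionSystem
open Cfsg.Agent.Lib.Helper87

/-- elementwise strong embedding for nontrivial `p`-elements -/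
theorem spe_elem_pow {G : Type*} [Group G] [Finite G] {p : ℕ} [Fact p.Prime] {H : Subgroup G}
    (hH : Cfsg.IsStronglyPEmbedded p H) (g y : G) (hy1 : y ≠ 1) (k : ℕ) (hyk : y ^ p ^ k = 1)
    (hyH : y ∈ H) (hgy : g * y * g⁻¹ ∈ H) : g ∈ H := by
  have hp : p.Prime := Fact.out
  obtain ⟨m, hm, hord⟩ := (Nat.dvd_prime_pow hp).1 (orderOf_dvd_of_pow_eq_one hyk)
  have hm0 : m ≠ 0 := by
    rintro rfl
    rw [pow_zero, orderOf_eq_one_iff] at hord
    exact hy1 hord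
  obtain ⟨j, rfl⟩ := Nat.exists_eq_succ_of_ne_zero hm0
  have hx : orderOf (y ^ p ^ j) = p := by
    rw [orderOf_pow_of_dvd (pow_ne_zero _ hp.ne_zero) (by rw [hord]; exact pow_dvd_pow p (Nat.le_succ j)),
      hord, pow_succ, Nat.mul_div_cancel_left _ (pow_pos hp.pos j)]
  refine Cfsg.Agent.Lib.Helper48.spe_elem' hH g (y ^ p ^ j) hx (H.pow_mem hyH _) ?_
  have : g * y ^ p ^ j * g⁻¹ = (g * y * g⁻¹) ^ p ^ j := by
    rw [conj_pow]
  rw [this]
  exact H.pow_mem hgy _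

variable {Ω : Type*} [Group Ω] {S : Subgroup Ω}

/-- **The control subgroup of an essential subgroup.** From a strongly `p`-embedded subgroup of
`Out_F(Q)` we get a subgroup `H` of `Aut(Q)` containing `Aut_S(Q)`, not containing `Aut_F(Q)`, and such that
`α ∈ Aut_F(Q)` lies in `H` as soon as it conjugates some non-inner `p`-element of `H` into `H`. -/
theorem exists_control_subgroup (F : FusionSystem S) [Finite S] {p : ℕ} [Fact p.Prime]
    (hS : IsPGroup p S) {Q : Subgroup Ω} (hQS : Q ≤ S)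
    (hN : ((Inn Q).subgroupOf (F.autGroup Q)).Normal)
    (M : Subgroup (F.autGroup Q ⧸ (Inn Q).subgroupOf (F.autGroup Q)))
    (hM : IsStronglyPEmbedded p M) :
    ∃ H : Subgroup (MulAut Q), autInducedBy S Q ≤ H ∧ (∃ α ∈ F.autGroup Q, α ∉ H) ∧
      ∀ α ∈ F.autGroup Q, ∀ β ∈ H, β ∉ Inn Q → (∃ k : ℕ, β ^ p ^ k = 1) → α * β * α⁻¹ ∈ H → α ∈ H := by
  have hfinQ : Finite Q := finite_of_le hQS
  have hfinA : Finite (MulAut Q) := inferInstance
  have hπs : Function.Surjective (QuotientGroup.mk' ((Inn Q).subgroupOf (F.autGroup Q))) :=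
    QuotientGroup.mk'_surjective _
  -- Out_S(Q)
  have hOutS : IsPGroup p (((autInducedBy S Q).subgroupOf (F.autGroup Q)).map
      (QuotientGroup.mk' ((Inn Q).subgroupOf (F.autGroup Q)))) :=
    ((autInducedBy_isPGroup hS Q).comap_subtype).map _
  obtain ⟨-, hMtop, P, -, hPM, -⟩ := Cfsg.Agent.Lib.Helper48.spe_data hM
  obtain ⟨c, hc⟩ := exists_conj_mem_sylow P hOutS
  refine ⟨((M.comap (MulAut.conj c).toMonoidHom).comap
    (QuotientGroup.mk' ((Inn Q).subgroupOf (F.autGroup Q)))).map (F.autGroup Q).subtype, ?_, ?_, ?_⟩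
  · intro α hα
    have hαA : α ∈ F.autGroup Q := autInducedBy_le_autGroup F hQS hα
    refine ⟨⟨α, hαA⟩, ?_, rfl⟩
    show c * _ * c⁻¹ ∈ M
    exact hPM (hc _ ⟨⟨α, hαA⟩, hα, rfl⟩)
  · obtain ⟨m, -, hm⟩ := SetLike.exists_of_lt (lt_top_iff_ne_top.2 hMtop)
    obtain ⟨a, ha⟩ := hπs (c⁻¹ * m * c)
    refine ⟨a, a.2, ?_⟩
    rintro ⟨a', ha', haa'⟩
    have : a' = a := Subtype.ext haa'
    subst this
    apply hm
    have h1 : c * (QuotientGroup.mk' ((Inn Q).subgroupOf (F.autGroup Q)) a') * c⁻¹ ∈ M := ha'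
    rw [ha] at h1
    have h2 : c * (c⁻¹ * m * c) * c⁻¹ = m := by group
    rwa [h2] at h1
  · rintro α hα β ⟨b, hb, rfl⟩ hβI ⟨k, hk⟩ ⟨d, hd, hdα⟩
    refine ⟨⟨α, hα⟩, ?_, rfl⟩
    show c * (QuotientGroup.mk' ((Inn Q).subgroupOf (F.autGroup Q)) ⟨α, hα⟩) * c⁻¹ ∈ M
    have hb' : c * (QuotientGroup.mk' ((Inn Q).subgroupOf (F.autGroup Q)) b) * c⁻¹ ∈ M := hb
    have hd' : c * (QuotientGroup.mk' ((Inn Q).subgroupOf (F.autGroup Q)) d) * c⁻¹ ∈ M := hd
    have hdeq : d = ⟨α, hα⟩ * b * ⟨α, hα⟩⁻¹ := Subtype.ext hdα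
    refine spe_elem_pow hM _ (c * (QuotientGroup.mk' ((Inn Q).subgroupOf (F.autGroup Q)) b) * c⁻¹)
      ?_ k ?_ hb' ?_
    · intro h1
      have h2 : QuotientGroup.mk' ((Inn Q).subgroupOf (F.autGroup Q)) b = 1 := by
        have : QuotientGroup.mk' ((Inn Q).subgroupOf (F.autGroup Q)) b =
            c⁻¹ * (c * (QuotientGroup.mk' ((Inn Q).subgroupOf (F.autGroup Q)) b) * c⁻¹) * c := by group
        rw [this, h1]; group
      have h3 : b ∈ (Inn Q).subgroupOf (F.autGroup Q) := (QuotientGroup.eq_one_iff b).1 h2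
      exact hβI h3
    · rw [conj_pow, ← map_pow]
      have : b ^ p ^ k = 1 := Subtype.ext hk
      rw [this, map_one]; group
    · rw [hdeq, map_mul, map_mul, map_inv] at hd'
      have : c * (QuotientGroup.mk' ((Inn Q).subgroupOf (F.autGroup Q))) ⟨α, hα⟩ * c⁻¹ *
          (c * (QuotientGroup.mk' ((Inn Q).subgroupOf (F.autGroup Q))) b * c⁻¹) *
          (c * (QuotientGroup.mk' ((Inn Q).subgroupOf (F.autGroup Q))) ⟨α, hα⟩ * c⁻¹)⁻¹ =
          c * ((QuotientGroup.mk' ((Inn Q).subgroupOf (F.autGroup Q))) ⟨α, hα⟩ *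
            (QuotientGroup.mk' ((Inn Q).subgroupOf (F.autGroup Q))) b *
            ((QuotientGroup.mk' ((Inn Q).subgroupOf (F.autGroup Q))) ⟨α, hα⟩)⁻¹) * c⁻¹ := by group
      rw [this]
      exact hd'

/-- `Aut_S(S) = Inn(S)`. -/
theorem autInducedBy_self_eq_inn : autInducedBy S S = Inn S := by
  apply le_antisymm
  · intro α hα
    obtain ⟨g, hg, hgα⟩ := mem_autInducedBy_iff.1 hα
    refine ⟨⟨g, hg⟩, ?_⟩
    ext x
    rw [hgα x]
    rfl
  · exact inn_le_autInducedBy le_rfl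

/-- An essential subgroup of a saturated fusion system is a proper subgroup of `S`. -/
theorem ne_top_of_essential (F : FusionSystem S) [Finite S] {p : ℕ} [Fact p.Prime]
    (hF : F.IsSaturated p) {Q : Subgroup Ω} (hQ : F.IsEssential p Q) : Q ≠ S := by
  rintro rfl
  obtain ⟨-, -, hN, M, hM⟩ := hQ
  have hfinA : Finite (MulAut Q) := inferInstance
  obtain ⟨R, hQR, ⟨hRS, T, hT⟩, -⟩ := hF Q le_rfl
  have hRQ : R = Q := by
    have : Nat.card Q ≤ Nat.card R := le_of_eq (IsConj_card_eq hQR)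
    exact Subgroup.eq_of_le_of_card_ge hRS this
  subst hRQ
  rw [autInducedBy_self_eq_inn] at hT
  have h1 : p ∣ Nat.card (F.autGroup R ⧸ (Inn R).subgroupOf (F.autGroup R)) := hM.1
  rw [← Subgroup.index_eq_card, ← hT] at h1
  exact T.not_dvd_index h1

/-- **Anchors.** In a saturated fusion system, if `Q` is fully normalized and `Q'` is conjugate to `Q`, some
map of the system defined on `N_S(Q')` carries `Q'` isomorphically onto `Q`. -/
theorem exists_extension_of_fullyNormalized (F : FusionSystem S) [Finite S] {p : ℕ} [Fact p.Prime]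
    (hS : IsPGroup p S) (hF : F.IsSaturated p) {Q Q' : Subgroup Ω} (hQn : F.IsFullyNormalized Q)
    (hQ'Q : F.IsConj Q' Q) :
    ∃ (θ : normalizerIn S Q' →* Ω) (e : Q' ≃* Q), θ ∈ F.Hom (normalizerIn S Q') ∧ IsIso F e ∧
      (∀ (x : Ω) (hx : x ∈ Q') (hx' : x ∈ normalizerIn S Q'), θ ⟨x, hx'⟩ = e ⟨x, hx⟩) := by
  have hQS : Q ≤ S := hQn.1
  obtain ⟨R, hQR, hRa, hRr⟩ := hF Q hQS
  obtain ⟨θQ, eQ, hθQ, heQ, hθQe⟩ := exists_extension F hS hRa hRr hQR
  obtain ⟨θ', e', hθ', he', hθ'e⟩ := exists_extension F hS hRa hRr (IsConj_trans hQ'Q hQR)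
  have hQ'S : Q' ≤ S := he'.le_left
  have hvalQ := map_normalizerIn_mem F hθQ eQ hQS hθQe
  have hval' := map_normalizerIn_mem F hθ' e' hQ'S hθ'e
  -- θQ is onto N_S(R)
  have hsurj : ∀ n ∈ normalizerIn S R, n ∈ θQ.range := by
    have hfin1 : Finite (normalizerIn S Q) := finite_of_le inf_le_left
    have hfin2 : Finite (normalizerIn S R) := finite_of_le inf_le_left
    let f : normalizerIn S Q → normalizerIn S R := fun y => ⟨θQ y, hvalQ y⟩
    have hinj : Function.Injective f := by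
      intro a b hab
      exact F.injective_of_mem hθQ (congrArg (fun z : normalizerIn S R => (z : Ω)) hab)
    have hbij : Function.Bijective f := by
      rw [Nat.bijective_iff_injective_and_card]
      exact ⟨hinj, le_antisymm (Nat.card_le_card_of_injective f hinj) (hQn.2 R hQR)⟩
    intro n hn
    obtain ⟨y, hy⟩ := hbij.2 ⟨n, hn⟩
    exact ⟨y, congrArg (fun z : normalizerIn S R => (z : Ω)) hy⟩
  have hval : ∀ y : normalizerIn S Q', θ' y ∈ θQ.range := fun y => hsurj _ (hval' y)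
  let eθ := MonoidHom.ofInjective (F.injective_of_mem hθQ)
  have heθ : IsIso F eθ := isIso_ofInjective F hθQ
  let θ : normalizerIn S Q' →* Ω :=
    (normalizerIn S Q).subtype.comp (eθ.symm.toMonoidHom.comp (θ'.codRestrict θQ.range hval))
  have hθ : θ ∈ F.Hom (normalizerIn S Q') := heθ.symm.comp_hom hθ' hval (fun x => rfl)
  refine ⟨θ, e'.trans eQ.symm, hθ, he'.trans heQ.symm, fun x hx hx' => ?_⟩
  show ((eθ.symm ⟨θ' ⟨x, hx'⟩, _⟩ : normalizerIn S Q) : Ω) = ((eQ.symm (e' ⟨x, hx⟩) : Q) : Ω)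
  have hqN : ((eQ.symm (e' ⟨x, hx⟩) : Q) : Ω) ∈ normalizerIn S Q := le_normalizerIn hQS (eQ.symm (e' ⟨x, hx⟩)).2
  have h1 : θQ ⟨((eQ.symm (e' ⟨x, hx⟩) : Q) : Ω), hqN⟩ = θ' ⟨x, hx'⟩ := by
    rw [hθQe _ (eQ.symm (e' ⟨x, hx⟩)).2 hqN, hθ'e x hx hx']
    simp
  have h2 : (⟨θ' ⟨x, hx'⟩, hval ⟨x, hx'⟩⟩ : θQ.range) = eθ ⟨((eQ.symm (e' ⟨x, hx⟩) : Q) : Ω), hqN⟩ :=
    Subtype.ext h1.symm
  rw [h2, MulEquiv.symm_apply_apply]

end Cfsg.Agent.Lib.Helper88
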