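import Cfsg.Agent.Lib.Helper87.FusionNormal
import Cfsg.Agent.Lib.Helper87.FusionCore
import Cfsg.Agent.Lib.Helper87.FusionSat
import Mathlib

/-!
A normality criterion through the upper central series: a strongly closed subgroup `Q` of a saturated fusion
system all of whose upper central series terms are mapped into themselves by the maps of the system is
normal.
-/

set_option autoImplicit false

namespace Cfsg.Agent.Lib.Helper88

open Cfsg Cfsg.FusionSystem
open Cfsg.Agent.Lib.Helper87

variable {Ω : Type*} [Group Ω] {S : Subgroup Ω}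

/-- a normal subgroup of a fusion system is strongly closed -/
theorem isNormal_stronglyClosed (F : FusionSystem S) {Q : Subgroup Ω} (hn : F.IsNormal Q) :
    F.StronglyClosed Q := by
  refine ⟨hn.1, fun R hRQ φ hφ x => ?_⟩
  obtain ⟨ψ, -, hψ1, hψ2⟩ := hn.2 R φ hφ
  rw [← hψ1 x]
  exact hψ2.le ⟨_, hRQ x.2, rfl⟩

/-- An injective endomorphism of a finite subgroup `Q` (given as a map into the ambient group with values in
`Q`) preserves the terms of the upper central series of `Q`. -/
theorem upperCentralSeries_map_mem {Q : Subgroup Ω} [Finite Q] (f : Q →* Ω) (hinj : Function.Injective f)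
    (hval : ∀ x : Q, f x ∈ Q) (k : ℕ) {x : Q} (hx : x ∈ Subgroup.upperCentralSeries Q k) :
    f x ∈ (Subgroup.upperCentralSeries Q k).map Q.subtype := by
  let g : Q →* Q := f.codRestrict Q hval
  have hginj : Function.Injective g := by
    intro a b hab
    exact hinj (congrArg (fun z : Q => (z : Ω)) hab)
  have hgbij : Function.Bijective g := ⟨hginj, Finite.injective_iff_surjective.mp hginj⟩
  let γ : MulAut Q := MulEquiv.ofBijective g hgbij
  have hc : (Subgroup.upperCentralSeries Q k).Characteristic := inferInstance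
  have h1 := Subgroup.characteristic_iff_le_comap.1 hc γ hx
  exact ⟨γ x, h1, rfl⟩

/-- **Normality criterion (upper central series).** -/
theorem isNormal_of_upperCentralSeries (F : FusionSystem S) [Finite S] {p : ℕ} [Fact p.Prime]
    (hS : IsPGroup p S) (hF : F.IsSaturated p) (Q : Subgroup Ω) (hsc : F.StronglyClosed Q)
    (hchar : ∀ (k : ℕ) (φ : ((Subgroup.upperCentralSeries Q k).map Q.subtype : Subgroup Ω) →* Ω),
      φ ∈ F.Hom ((Subgroup.upperCentralSeries Q k).map Q.subtype) →
      ∀ x, φ x ∈ (Subgroup.upperCentralSeries Q k).map Q.subtype) : F.IsNormal Q := by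
  have hQ : Q ≤ S := hsc.1
  have hfinQ : Finite Q := finite_of_le hQ
  have hQp : IsPGroup p Q := by
    intro x
    obtain ⟨k, hk⟩ := hS ⟨x, hQ x.2⟩
    refine ⟨k, Subtype.ext ?_⟩
    have := congrArg (fun z : S => (z : Ω)) hk
    simpa using this
  have hnil : Group.IsNilpotent Q := hQp.isNilpotent
  obtain ⟨n, hn⟩ := hnil.nilpotent'
  have htop : ∀ k, n ≤ k → Subgroup.upperCentralSeries Q k = ⊤ := by
    intro k hk
    exact top_le_iff.1 (hn ▸ Subgroup.upperCentralSeries_mono Q hk)
  refine isNormal_of_chain F hS hF Q hsc n (fun k => (Subgroup.upperCentralSeries Q k).map Q.subtype) ?_ ?_ ?_ ?_ ?_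
  · show (Subgroup.upperCentralSeries Q 0).map Q.subtype = ⊥
    rw [Subgroup.upperCentralSeries_zero, Subgroup.map_bot]
  · intro k hk
    show (Subgroup.upperCentralSeries Q k).map Q.subtype = Q
    rw [htop k hk, ← MonoidHom.range_eq_map, Subgroup.range_subtype]
  · intro a b hab
    exact Subgroup.map_mono (Subgroup.upperCentralSeries_mono Q hab)
  · intro k _
    rw [Subgroup.commutator_le]
    rintro _ ⟨a, ha, rfl⟩ b hb
    have ha' : a ∈ Subgroup.upperCentralSeries Q (k + 1) := ha
    rw [Subgroup.mem_upperCentralSeries_succ_iff] at ha'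
    exact ⟨_, ha' ⟨b, hb⟩, rfl⟩
  · intro k _
    have hle : (Subgroup.upperCentralSeries Q k).map Q.subtype ≤ Q := Subgroup.map_subtype_le _
    refine ⟨hle.trans hQ, fun φ hφ => ?_⟩
    have hfinc : Finite ((Subgroup.upperCentralSeries Q k).map Q.subtype : Subgroup Ω) :=
      finite_of_le (hle.trans hQ)
    have hsub : φ.range ≤ (Subgroup.upperCentralSeries Q k).map Q.subtype := by
      rintro _ ⟨x, rfl⟩
      exact hchar k φ hφ x
    apply Subgroup.eq_of_le_of_card_ge hsub
    have hinj := F.injective_of_mem hφ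
    exact le_of_eq (Nat.card_congr (MonoidHom.ofInjective hinj).toEquiv)

end Cfsg.Agent.Lib.Helper88
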