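/-
helper88: control of weak closure of a SUBGROUP `T ≤ Z(S)` in fusion systems: the subgroup version of the reduction of
helper86 (`Cfsg.Agent.Lib.Helper86.WC`) / helper85 (`GlaubFusWC`, after Diaz-Glesser-Mazza-Park), with a predicate `Pr`
on the systems that is inherited by normalizer systems of fully normalized subgroups.
`Stab F T`: every map of `F` whose source contains `T` maps `T` into `T`.  `StabN F X T`: the same for the maps of the
normalizer system `N_F(X)`.  Main result `weaklyClosed_of_stabN`: under `StabHyp`, if `T ≤ Z(S)` and `N_F(W(S))`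
stabilizes `T`, then `T` is weakly closed in the saturated system `F`.
-/
import Cfsg.Agent.Lib.Helper85.GlaubFusWC

set_option autoImplicit false
set_option linter.unusedSectionVars false
set_option linter.style.haveILetI false

universe u

namespace Cfsg.Agent.Lib.Helper88.StabWC

open Cfsg Cfsg.FusionSystem Cfsg.Agent.Lib.Helper87 Cfsg.Agent.Lib.Helper88 Cfsg.Agent.Lib.Helper88.NilpRed
open Cfsg.Agent.Lib.Helper86.WC

section basic

variable {Ω : Type*} [Group Ω] {S : Subgroup Ω}

/-- Every map of the system whose source contains `T` maps `T` into `T`. -/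
def Stab (F : FusionSystem S) (T : Subgroup Ω) : Prop :=
  ∀ (P : Subgroup Ω) (φ : P →* Ω), φ ∈ F.Hom P → ∀ h : T ≤ P, ∀ t : T, φ ⟨t, h t.2⟩ ∈ T

/-- Every map of the normalizer system of `X` whose source contains `T` maps `T` into `T`. -/
def StabN (F : FusionSystem S) (X T : Subgroup Ω) : Prop :=
  ∀ (P : Subgroup Ω) (φ : P →* Ω), φ ∈ F.normalizerHom X P → ∀ h : T ≤ P, ∀ t : T, φ ⟨t, h t.2⟩ ∈ T

theorem stabN_of_stab {F : FusionSystem S} {X : Subgroup Ω} {N : FusionSystem (normalizerIn S X)}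
    (hN : F.IsNormalizerSystem X N) {T : Subgroup Ω} (h : Stab N T) : StabN F X T := by
  intro P φ hφ hT t
  rw [← hN P] at hφ
  exact h P φ hφ hT t

theorem stab_of_stabN {F : FusionSystem S} {X : Subgroup Ω} {N : FusionSystem (normalizerIn S X)}
    (hN : F.IsNormalizerSystem X N) {T : Subgroup Ω} (h : StabN F X T) : Stab N T := by
  intro P φ hφ hT t
  rw [hN P] at hφ
  exact h P φ hφ hT t

theorem stabN_mono {T' : Subgroup Ω} (F : FusionSystem S) (E : FusionSystem T') (hTS : T' ≤ S)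
    (hEF : ∀ P : Subgroup Ω, E.Hom P ⊆ F.Hom P) {X T : Subgroup Ω} (h : StabN F X T) : StabN E X T :=
  fun P φ hφ hT t => h P φ (normalizerHom_mono F E hTS hEF X P hφ) hT t

/-- An automorphism in `Aut_F(X)` maps `T ≤ X` into `T` as soon as `N_F(X)` does. -/
theorem aut_stab_of_stabN (F : FusionSystem S) {X : Subgroup Ω} [Finite X] (hXS : X ≤ S) {T : Subgroup Ω}
    (h : StabN F X T) {α : MulAut X} (hα : α ∈ F.autGroup X) (hT : T ≤ X) (t : T) :
    ((α ⟨t, hT t.2⟩ : X) : Ω) ∈ T := by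
  have hαF : X.subtype.comp (α : X ≃* X).toMonoidHom ∈ F.Hom X :=
    (Cfsg.Agent.Lib.Helper87.mem_autGroup_iff F hXS).1 hα
  exact h X _ (mem_normalizerHom_self F hαF (fun x => (α x).2)) hT t

/-- A subgroup `T` mapped into itself by an injective map is mapped onto itself. -/
theorem map_subgroupOf_eq_of_forall_mem {T P : Subgroup Ω} [Finite T] (φ : P →* Ω) (hinj : Function.Injective φ)
    (hTP : T ≤ P) (h : ∀ t : T, φ ⟨t, hTP t.2⟩ ∈ T) : (T.subgroupOf P).map φ = T := by
  apply le_antisymm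
  · rintro _ ⟨x, hx, rfl⟩
    exact h ⟨x, Subgroup.mem_subgroupOf.1 hx⟩
  · intro y hy
    have hinj' : Function.Injective (fun t : T => (⟨φ ⟨t, hTP t.2⟩, h t⟩ : T)) := by
      intro a b hab
      have h1 : φ ⟨a, hTP a.2⟩ = φ ⟨b, hTP b.2⟩ := congrArg (fun z : T => (z : Ω)) hab
      have h2 := hinj h1
      exact Subtype.ext (congrArg (fun z : P => (z : Ω)) h2)
    obtain ⟨t, ht⟩ := Finite.surjective_of_injective hinj' ⟨y, hy⟩
    refine ⟨⟨t, hTP t.2⟩, Subgroup.mem_subgroupOf.2 t.2, ?_⟩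
    exact congrArg (fun z : T => (z : Ω)) ht

/-- If `T ≤ Z(S)` then `N_S(T) = S`. -/
theorem normalizerIn_eq_of_le_center {T : Subgroup Ω} (hT : T ≤ S ⊓ Subgroup.centralizer (S : Set Ω)) :
    normalizerIn S T = S := by
  apply le_antisymm inf_le_left
  intro s hs
  refine ⟨hs, ?_⟩
  show s ∈ Subgroup.normalizer (T : Set Ω)
  rw [Subgroup.mem_normalizer_iff]
  intro t
  have key : ∀ t ∈ T, s * t * s⁻¹ = t := by
    intro t ht
    have := (Subgroup.mem_centralizer_iff.1 (hT ht).2) s hs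
    calc s * t * s⁻¹ = t * s * s⁻¹ := by rw [this]
      _ = t := by group
  constructor
  · intro ht
    rw [key t ht]
    exact ht
  · intro ht
    have h2 := key _ ht
    have h3 : s * t * s⁻¹ = t := by
      have h4 : s * (s * t * s⁻¹) * s⁻¹ = s * t * s⁻¹ := h2
      have h5 : t = s⁻¹ * (s * t * s⁻¹) * s := by group
      rw [h5]
      calc s * (s⁻¹ * (s * t * s⁻¹) * s) * s⁻¹ = s * t * s⁻¹ := by group
        _ = s⁻¹ * (s * (s * t * s⁻¹) * s⁻¹) * s := by group
        _ = s⁻¹ * (s * t * s⁻¹) * s := by rw [h4]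
    rw [← h3]
    exact ht

end basic

/-- The hypotheses of the reduction, for a fixed subgroup `T` of the ambient group, with a predicate `Pr` on the systems. -/
structure StabHyp (p : ℕ) (W : ∀ (Q : Type u) [Group Q], Subgroup Q) {Ω : Type u} [Group Ω]
    (T : Subgroup Ω) (Pr : ∀ S : Subgroup Ω, FusionSystem S → Prop) : Prop where
  hW : IsCharPFunctor p W
  hWZ : ∀ (Q : Type u) [Group Q] [Finite Q], IsPGroup p Q → Subgroup.center Q ≤ W Q
  pr : ∀ (S : Subgroup Ω) [Finite S], IsPGroup p S → ∀ F : FusionSystem S, F.IsSaturated p → Pr S F →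
    ∀ Q : Subgroup Ω, F.IsFullyNormalized Q → ∀ N : FusionSystem (normalizerIn S Q), F.IsNormalizerSystem Q N →
      Pr (normalizerIn S Q) N
  hmod : ∀ (S : Subgroup Ω) [Finite S], IsPGroup p S → ∀ (F : FusionSystem S) (L : Type u) [Group L]
    (ι : S →* L), F.IsModel p L ι → Pr S F → T ≤ S ⊓ Subgroup.centralizer (S : Set Ω) →
      StabN F (inducedFunctor W S) T → Stab F T

variable {p : ℕ} [Fact p.Prime] {W : ∀ (Q : Type u) [Group Q], Subgroup Q} {Ω : Type u} [Group Ω]
  {T : Subgroup Ω} {Pr : ∀ S : Subgroup Ω, FusionSystem S → Prop}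

/-- `T ≤ Z(S)` passes to subgroups of `S` containing `Z(S)`. -/
theorem le_center_of_le {S S' : Subgroup Ω} (hT : T ≤ S ⊓ Subgroup.centralizer (S : Set Ω)) (hle : S' ≤ S)
    (hZ : S ⊓ Subgroup.centralizer (S : Set Ω) ≤ S') : T ≤ S' ⊓ Subgroup.centralizer (S' : Set Ω) :=
  fun _ ht => ⟨hZ (hT ht), Subgroup.centralizer_le hle (hT ht).2⟩

/-- **Local step.** -/
theorem stab_of_normal_pr (H : StabHyp p W T Pr) : ∀ (n : ℕ) (S : Subgroup Ω) [Finite S], IsPGroup p S →
    ∀ F : FusionSystem S, F.IsSaturated p → Pr S F → ∀ Q : Subgroup Ω, F.IsNormal Q →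
      Nat.card S - Nat.card Q = n → T ≤ Q → T ≤ S ⊓ Subgroup.centralizer (S : Set Ω) →
        StabN F (inducedFunctor W S) T → Stab F T := by
  intro n
  induction n using Nat.strong_induction_on with
  | _ n IH =>
  intro S _ hS F hF hPr Q hQ hn hTQ hA hfix
  have hQS : Q ≤ S := hQ.1
  by_cases hQc : F.IsCentric Q
  · obtain ⟨L, _, ι, hM⟩ := Cfsg.Agent.S5090.result p hS F ⟨hF, Q, hQ, hQc⟩
    exact H.hmod S hS F L ι hM hPr hA hfix
  -- the non-centric case
  have hwc : F.WeaklyClosed Q := weaklyClosed_of_isNormal F hQ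
  obtain ⟨c, hcC, hcQ⟩ : ∃ c ∈ centralizerIn S Q, c ∉ Q := by
    unfold FusionSystem.IsCentric at hQc
    push Not at hQc
    obtain ⟨Q', hQQ', hnot⟩ := hQc hQS
    obtain ⟨χ, hχ, hχr⟩ := hQQ'
    have : Q' = Q := by rw [← hχr]; exact hwc.2 χ hχ
    subst this
    exact SetLike.not_le_iff_exists.mp hnot
  have hSNQ : S ≤ Subgroup.normalizer (Q : Set Ω) := Cfsg.Agent.Lib.Helper84.Model.le_normalizer_of_isNormal F hQ
  have hCS : centralizerIn S Q ≤ S := inf_le_left
  have hRS : Q ⊔ centralizerIn S Q ≤ S := sup_le hQS hCS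
  haveI : Finite ↥(Q ⊔ centralizerIn S Q) := finite_of_le hRS
  haveI : Finite ↥Q := finite_of_le hQS
  -- `|Q| < |R|`
  have hlt : Nat.card Q < Nat.card ↥(Q ⊔ centralizerIn S Q) := by
    by_contra hge
    push Not at hge
    have h := Subgroup.eq_of_le_of_card_ge (le_sup_left : Q ≤ Q ⊔ centralizerIn S Q) hge
    apply hcQ
    rw [h]
    exact le_sup_right (a := Q) hcC
  -- `R` is normal in `S`
  have hconjC : ∀ g ∈ S, ∀ x ∈ centralizerIn S Q, g * x * g⁻¹ ∈ centralizerIn S Q := by
    intro g hg x hx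
    refine Subgroup.mem_inf.2 ⟨S.mul_mem (S.mul_mem hg hx.1) (S.inv_mem hg), ?_⟩
    rw [Subgroup.mem_centralizer_iff]
    intro q hq
    have hq' : g⁻¹ * q * g ∈ Q := by
      have := (Subgroup.mem_normalizer_iff.1 (Subgroup.inv_mem _ (hSNQ hg)) q).1 hq
      simpa using this
    have h1 := (Subgroup.mem_centralizer_iff.1 hx.2) _ hq'
    have e1 : q * (g * x * g⁻¹) = g * ((g⁻¹ * q * g) * x) * g⁻¹ := by group
    have e2 : g * x * g⁻¹ * q = g * (x * (g⁻¹ * q * g)) * g⁻¹ := by group
    rw [e1, e2, h1]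
  have hNR : normalizerIn S (Q ⊔ centralizerIn S Q) = S := by
    apply le_antisymm inf_le_left
    intro g hg
    refine ⟨hg, ?_⟩
    apply Cfsg.Agent.Lib.Helper88.mem_normalizer_of_conj_mem_of_finite
    intro x hx
    have hx' : x ∈ Q ⊔ centralizerIn S Q := hx
    have : Q ⊔ centralizerIn S Q ≤ (Q ⊔ centralizerIn S Q).comap (MulAut.conj g).toMonoidHom := by
      refine sup_le ?_ ?_
      · intro q hq
        rw [Subgroup.mem_comap]
        exact le_sup_left (b := centralizerIn S Q) ((Subgroup.mem_normalizer_iff.1 (hSNQ hg) q).1 hq)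
      · intro q hq
        rw [Subgroup.mem_comap]
        exact le_sup_right (a := Q) (hconjC g hg q hq)
    exact this hx'
  have hRfn : F.IsFullyNormalized (Q ⊔ centralizerIn S Q) :=
    Cfsg.Agent.Lib.Helper86.WC.isFullyNormalized_of_normalizerIn_eq F hRS hNR
  -- the normalizer system of `R`
  have hN := isNormalizerSystem_normalizerSystem F (Q ⊔ centralizerIn S Q) hRS
  have hNsat := isSaturated_of_isNormalizerSystem F hS hF hRfn hN
  have hNn := isNormal_of_isNormalizerSystem F hRS hN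
  have hTS : normalizerIn S (Q ⊔ centralizerIn S Q) ≤ S := inf_le_left
  haveI : Finite ↥(normalizerIn S (Q ⊔ centralizerIn S Q)) := finite_of_le hTS
  have hT : IsPGroup p ↥(normalizerIn S (Q ⊔ centralizerIn S Q)) := hS.to_le hTS
  have hcardT : Nat.card ↥(normalizerIn S (Q ⊔ centralizerIn S Q)) = Nat.card S := by rw [hNR]
  have hcardRS : Nat.card ↥(Q ⊔ centralizerIn S Q) ≤ Nat.card S := Subgroup.card_le_of_le hRS
  have hZT : S ⊓ Subgroup.centralizer (S : Set Ω) ≤ normalizerIn S (Q ⊔ centralizerIn S Q) := by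
    rw [hNR]
    exact inf_le_left
  have hfixN : StabN (normalizerSystem F (Q ⊔ centralizerIn S Q) hRS)
      (inducedFunctor W (normalizerIn S (Q ⊔ centralizerIn S Q))) T := by
    have e : inducedFunctor W (normalizerIn S (Q ⊔ centralizerIn S Q)) = inducedFunctor W S :=
      congrArg (inducedFunctor W) hNR
    rw [e]
    refine stabN_mono F _ hTS (fun P φ hφ => ?_) hfix
    rw [hN P] at hφ
    exact hφ.1
  have hTR : T ≤ Q ⊔ centralizerIn S Q := hTQ.trans le_sup_left
  have hFixN : Stab (normalizerSystem F (Q ⊔ centralizerIn S Q) hRS) T :=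
    IH (Nat.card ↥(normalizerIn S (Q ⊔ centralizerIn S Q)) - Nat.card ↥(Q ⊔ centralizerIn S Q)) (by omega)
      (normalizerIn S (Q ⊔ centralizerIn S Q)) hT _ hNsat (H.pr S hS F hF hPr _ hRfn _ hN) _ hNn rfl hTR
      (le_center_of_le hA hTS hZT) hfixN
  -- every map of `F` maps `T` into `T`
  intro P φ hφ hTP t
  obtain ⟨ψ, hψ, hψ1, α, hα, hαψ⟩ := exists_extension_aut_of_isNormal F hQ hφ
  have e1 : φ ⟨t, hTP t.2⟩ = ((α ⟨t, hTQ t.2⟩ : Q) : Ω) := by
    rw [← hψ1 ⟨t, hTP t.2⟩, hαψ ⟨t, hTQ t.2⟩]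
    congr 1
  rw [e1]
  have hQr : F.IsReceptive Q := (fullyAutomized_receptive_of_weaklyClosed F p hF hwc).2
  have hφ₀F : Q.subtype.comp (α : Q ≃* Q).toMonoidHom ∈ F.Hom Q := (Cfsg.Agent.Lib.Helper87.mem_autGroup_iff F hQS).1 hα
  have hφ₀r : (Q.subtype.comp (α : Q ≃* Q).toMonoidHom).range = Q := range_subtype_comp (α : Q ≃* Q)
  obtain ⟨χ, hχ, hχφ⟩ := hQr.2 Q _ hφ₀F hφ₀r
  have hQext : Q ≤ extender S Q (Q.subtype.comp (α : Q ≃* Q).toMonoidHom) := by
    intro x hx
    rw [Cfsg.Agent.Lib.Helper85.mem_extender_iff]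
    refine ⟨hQS hx, Subgroup.le_normalizer hx, ((α ⟨x, hx⟩ : Q) : Ω), hQS (α ⟨x, hx⟩).2, fun y hy => ?_⟩
    have : (⟨x * (y : Ω) * x⁻¹, hy⟩ : Q) = ⟨x, hx⟩ * y * ⟨x, hx⟩⁻¹ := Subtype.ext rfl
    rw [this, map_mul, map_mul, map_inv]
    rfl
  have hCext : centralizerIn S Q ≤ extender S Q (Q.subtype.comp (α : Q ≃* Q).toMonoidHom) := by
    intro x hx
    rw [Cfsg.Agent.Lib.Helper85.mem_extender_iff]
    refine ⟨hx.1, Subgroup.centralizer_le_normalizer _ hx.2, 1, S.one_mem, fun y hy => ?_⟩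
    have hc : (y : Ω) * x = x * (y : Ω) := (Subgroup.mem_centralizer_iff.mp hx.2) (y : Ω) y.2
    have : (⟨x * (y : Ω) * x⁻¹, hy⟩ : Q) = y := by
      apply Subtype.ext
      show x * (y : Ω) * x⁻¹ = (y : Ω)
      rw [← hc]; group
    rw [this]; simp
  have hRext : Q ⊔ centralizerIn S Q ≤ extender S Q (Q.subtype.comp (α : Q ≃* Q).toMonoidHom) :=
    sup_le hQext hCext
  have hγ : χ.comp (Subgroup.inclusion hRext) ∈ F.Hom (Q ⊔ centralizerIn S Q) :=
    Cfsg.Agent.Lib.Helper87.restrict_mem F hχ hRext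
  -- `γ` agrees with `α` on `Q`
  have hγQ : ∀ x : Q, (χ.comp (Subgroup.inclusion hRext)) (Subgroup.inclusion le_sup_left x) = ((α x : Q) : Ω) := by
    intro x
    exact hχφ (x : Ω) x.2 (hRext (le_sup_left (b := centralizerIn S Q) x.2))
  -- `γ` maps `R` into `R`
  have hγR : ∀ x : ↥(Q ⊔ centralizerIn S Q), (χ.comp (Subgroup.inclusion hRext)) x ∈ Q ⊔ centralizerIn S Q := by
    refine map_sup_mem _ (fun x => ?_) (fun x => ?_)
    · rw [hγQ x]
      exact le_sup_left (b := centralizerIn S Q) (α x).2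
    · refine le_sup_right (a := Q) (Subgroup.mem_inf.2 ⟨hom_map_mem F hγ _, ?_⟩)
      rw [Subgroup.mem_centralizer_iff]
      intro q hq
      obtain ⟨q', rfl⟩ : ∃ q' : Q, ((α q' : Q) : Ω) = q := ⟨α.symm ⟨q, hq⟩, by simp⟩
      rw [← hγQ q', ← map_mul, ← map_mul]
      congr 1
      apply Subtype.ext
      exact (Subgroup.mem_centralizer_iff.1 x.2.2) q' q'.2
  have hγN : χ.comp (Subgroup.inclusion hRext) ∈
      (normalizerSystem F (Q ⊔ centralizerIn S Q) hRS).Hom (Q ⊔ centralizerIn S Q) := by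
    rw [hN _]
    exact mem_normalizerHom_self F hγ hγR
  have h2 := hFixN _ _ hγN hTR t
  rw [← hγQ ⟨t, hTQ t.2⟩]
  exact h2

variable {S : Subgroup Ω}

/-- `T ≤ Z(S)` lying in `U` lies in all the tower terms. -/
theorem le_tow_pr (H : StabHyp p W T Pr) [Finite S] (hS : IsPGroup p S)
    (hA : T ≤ S ⊓ Subgroup.centralizer (S : Set Ω)) {U : Subgroup Ω}
    (hUS : U ≤ S) (hTU : T ≤ U) (i : ℕ) : T ≤ tow W S U i := by
  cases i with
  | zero => exact hTU
  | succ i =>
    intro z hzT
    have hz := hA hzT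
    have hTS : tow W S U i ≤ S := tow_le hUS i
    have hNS : normalizerIn S (tow W S U i) ≤ S := inf_le_left
    haveI : Finite ↥(normalizerIn S (tow W S U i)) := finite_of_le hNS
    refine center_le_inducedFunctor H.hWZ (hS.to_le hNS) ?_
    exact ⟨center_le_normalizerIn hTS hz, Subgroup.centralizer_le hNS hz.2⟩

/-- One step down a tower. -/
theorem stabN_step_pr (H : StabHyp p W T Pr) [Finite S] (hS : IsPGroup p S) (F : FusionSystem S) (hF : F.IsSaturated p)
    (hPr : Pr S F) (hA : T ≤ S ⊓ Subgroup.centralizer (S : Set Ω)) {X : Subgroup Ω} (hX : F.IsFullyNormalized X)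
    (hTX : T ≤ X) (h : StabN F (inducedFunctor W (normalizerIn S X)) T) : StabN F X T := by
  have hXS : X ≤ S := hX.1
  have hN := isNormalizerSystem_normalizerSystem F X hXS
  have hNsat := isSaturated_of_isNormalizerSystem F hS hF hX hN
  have hNn := isNormal_of_isNormalizerSystem F hXS hN
  have hTS : normalizerIn S X ≤ S := inf_le_left
  haveI : Finite ↥(normalizerIn S X) := finite_of_le hTS
  have hT : IsPGroup p ↥(normalizerIn S X) := hS.to_le hTS
  have hAT : T ≤ normalizerIn S X ⊓ Subgroup.centralizer ((normalizerIn S X : Subgroup Ω) : Set Ω) :=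
    le_center_of_le hA hTS (center_le_normalizerIn hXS)
  have hfixN : StabN (normalizerSystem F X hXS) (inducedFunctor W (normalizerIn S X)) T := by
    refine stabN_mono F _ hTS (fun P φ hφ => ?_) h
    rw [hN P] at hφ
    exact hφ.1
  exact stabN_of_stab hN (stab_of_normal_pr H _ (normalizerIn S X) hT _ hNsat (H.pr S hS F hF hPr X hX _ hN) X hNn rfl
    hTX hAT hfixN)

/-- Descent along a tower whose terms are fully normalized. -/
theorem stabN_tow_pr (H : StabHyp p W T Pr) [Finite S] (hS : IsPGroup p S) (F : FusionSystem S) (hF : F.IsSaturated p)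
    (hPr : Pr S F) (hA : T ≤ S ⊓ Subgroup.centralizer (S : Set Ω)) (hfix : StabN F (inducedFunctor W S) T)
    {U : Subgroup Ω} (hUS : U ≤ S) (hTU : T ≤ U)
    (m : ℕ) (hfn : ∀ i ≤ m, F.IsFullyNormalized (tow W S U i)) :
    ∀ d i : ℕ, Nat.card S - Nat.card ↥(normalizerIn S (tow W S U i)) = d → i + d ≤ m →
      StabN F (tow W S U i) T := by
  intro d
  induction d using Nat.strong_induction_on with
  | _ d IH =>
  intro i hd him
  have hnext : StabN F (tow W S U (i + 1)) T := by
    by_cases hNS : normalizerIn S (tow W S U i) = S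
    · rw [tow_succ, hNS]
      exact hfix
    · have hlt := card_normalizerIn_tow_lt H.hW hS U i hNS
      have hle : Nat.card ↥(normalizerIn S (tow W S U (i + 1))) ≤ Nat.card S :=
        Subgroup.card_le_of_le inf_le_left
      exact IH (Nat.card S - Nat.card ↥(normalizerIn S (tow W S U (i + 1)))) (by omega) (i + 1) rfl (by omega)
  exact stabN_step_pr H hS F hF hPr hA (hfn i (by omega)) (le_tow_pr H hS hA hUS hTU i) hnext

/-- **Control of weak closure of a central subgroup.** -/
theorem weaklyClosed_of_stabN (H : StabHyp p W T Pr) [Finite S] (hS : IsPGroup p S) (F : FusionSystem S)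
    (hF : F.IsSaturated p) (hPr : Pr S F) (hA : T ≤ S ⊓ Subgroup.centralizer (S : Set Ω))
    (hfix : StabN F (inducedFunctor W S) T) : F.WeaklyClosed T := by
  have hTS : T ≤ S := hA.trans inf_le_left
  haveI : Finite ↥T := finite_of_le hTS
  have hNT : normalizerIn S T = S := normalizerIn_eq_of_le_center hA
  have key : ∀ P : Subgroup Ω, F.Hom P ⊆ (normalizerSystem F T hTS).Hom P := by
    refine alperin_weak' F _ hS hF ?_
    intro R hRa hRr IH α hα
    have hRS : R ≤ S := hRa.1
    haveI : Finite ↥R := finite_of_le hRS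
    by_cases hRc : F.IsCentric R
    · have hTR : T ≤ R := fun z hz =>
        hRc.2 R (isConj_refl F hRS) ⟨hTS hz, Subgroup.centralizer_le hRS (hA hz).2⟩
      have hαF : R.subtype.comp (α : R ≃* R).toMonoidHom ∈ F.Hom R :=
        (Cfsg.Agent.Lib.Helper87.mem_autGroup_iff F hRS).1 hα
      -- the main point: `α` maps `T` into `T`
      have hαT : ∀ t : T, ((α ⟨t, hTR t.2⟩ : R) : Ω) ∈ T := by
        by_cases hRtop : R = S
        · subst hRtop
          intro t
          exact hfix _ _ (top_aut_mem_normalizerHom H.hW hS F hα) hTR t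
        · have hlt : Nat.card R < Nat.card ↥(normalizerIn S R) := card_lt_card_normalizerIn hS hRS hRtop
          have hRN : R ≤ normalizerIn S R := le_normalizerIn hRS
          obtain ⟨θ, hθ, hfn⟩ := exists_hom_tow_fullyNormalized H.hW hS F hF (Nat.card S) R hRS
          have hinj : Function.Injective θ := F.injective_of_mem hθ
          have hθE := IH _ hlt hθ
          have hTN : T ≤ normalizerIn S R := hTR.trans hRN
          -- `θ` maps `T` onto `T`
          have hθT : ∀ t : T, θ ⟨t, hTN t.2⟩ ∈ T := by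
            intro t
            obtain ⟨-, -, -, ψ, -, h1, h2⟩ := hθE
            rw [← h1 ⟨t, hTN t.2⟩]
            exact h2.le ⟨_, Subgroup.mem_subgroupOf.2 (by exact t.2), rfl⟩
          have hθTeq : (T.subgroupOf (normalizerIn S R)).map θ = T :=
            map_subgroupOf_eq_of_forall_mem θ hinj hTN hθT
          have hTR' : T ≤ im θ R := by
            intro y hy
            obtain ⟨x, hx, rfl⟩ := hθTeq.ge hy
            exact (mem_im_iff θ hRN _).2 ⟨x, hTR (Subgroup.mem_subgroupOf.1 hx), rfl⟩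
          have hR'S : im θ R ≤ S := im_le F hθ R
          haveI : Finite ↥(im θ R) := finite_of_le hR'S
          have hfixR' : StabN F (im θ R) T :=
            stabN_tow_pr H hS F hF hPr hA hfix hR'S hTR' (Nat.card S) hfn _ 0 rfl (by omega)
          have he : IsIso F (imEquiv θ hinj hRN) :=
            isIso_of_restrict F hθ hRN (imEquiv θ hinj hRN) (fun x hx hx' => rfl)
          have hα' : IsIso F ((imEquiv θ hinj hRN).symm.trans (((α : R ≃* R)).trans (imEquiv θ hinj hRN))) :=
            he.symm.trans (((Cfsg.Agent.Lib.Helper87.mem_autGroup_iff F hRS).1 hα).trans he)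
          intro t
          -- `θ t ∈ T`, apply the transported automorphism
          have h1 := hfixR' _ _ (mem_normalizerHom_self F hα' (fun x => Subtype.property _)) hTR'
            ⟨θ ⟨t, hTN t.2⟩, hθT t⟩
          have h2 : (imEquiv θ hinj hRN).symm ⟨θ ⟨t, hTN t.2⟩, hTR' (hθT t)⟩ = ⟨t, hTR t.2⟩ := by
            rw [MulEquiv.symm_apply_eq]
            exact Subtype.ext rfl
          have h3 : θ ⟨((α ⟨t, hTR t.2⟩ : R) : Ω), hRN (α ⟨t, hTR t.2⟩).2⟩ ∈ T := by
            have : ((imEquiv θ hinj hRN ((α : R ≃* R) ((imEquiv θ hinj hRN).symm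
              ⟨θ ⟨t, hTN t.2⟩, hTR' (hθT t)⟩)) : ↥(im θ R)) : Ω) ∈ T := h1
            rw [h2] at this
            exact this
          obtain ⟨x, hx, hxe⟩ := hθTeq.ge h3
          have h4 := hinj hxe
          have h5 : (x : Ω) = ((α ⟨t, hTR t.2⟩ : R) : Ω) := congrArg (fun s : ↥(normalizerIn S R) => (s : Ω)) h4
          rw [← h5]
          exact Subgroup.mem_subgroupOf.1 hx
      -- conclusion of the centric case
      have hRN' : R ≤ normalizerIn S T := by rw [hNT]; exact hRS
      have hle : R ⊔ T ≤ R := sup_le le_rfl hTR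
      show R.subtype.comp (α : R ≃* R).toMonoidHom ∈ F.normalizerHom T R
      refine ⟨hαF, hRN', fun x => hRN' (α x).2, _, Cfsg.Agent.Lib.Helper87.restrict_mem F hαF hle, fun x => ?_, ?_⟩
      · show ((α (Subgroup.inclusion hle (Subgroup.inclusion le_sup_left x)) : R) : Ω) = ((α x : R) : Ω)
        congr 2
      · have hinjα : Function.Injective ((R.subtype.comp (α : R ≃* R).toMonoidHom).comp (Subgroup.inclusion hle)) :=
          F.injective_of_mem (Cfsg.Agent.Lib.Helper87.restrict_mem F hαF hle)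
        refine map_subgroupOf_eq_of_forall_mem _ hinjα le_sup_right (fun t => ?_)
        have hle2 : T ≤ R ⊔ T := le_sup_right
        show ((α (Subgroup.inclusion hle ⟨t, hle2 t.2⟩) : R) : Ω) ∈ T
        have e : Subgroup.inclusion hle ⟨(t : Ω), hle2 t.2⟩ = ⟨t, hTR t.2⟩ := Subtype.ext rfl
        rw [e]
        exact hαT t
    · obtain ⟨N, hRN, φ, hφ, hφα⟩ := Cfsg.Agent.Lib.Helper84.exists_extension_of_not_centric F hRr hRc hα
      have hNS : N ≤ S := hom_le F hφ
      haveI : Finite ↥N := finite_of_le hNS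
      have hcard : Nat.card R < Nat.card N := by
        by_contra hge
        push Not at hge
        exact hRN.ne (Subgroup.eq_of_le_of_card_ge hRN.le hge)
      have hφE := IH N hcard hφ
      exact Cfsg.Agent.Lib.Helper87.restrict_mem' _ hφE hRN.le (fun x => (hφα x).symm)
  refine ⟨hTS, fun φ hφ => ?_⟩
  obtain ⟨-, -, -, ψ, -, h1, h2⟩ := key T hφ
  apply le_antisymm
  · rintro _ ⟨x, rfl⟩
    rw [← h1 x]
    exact h2.le ⟨_, Subgroup.mem_subgroupOf.2 (by exact x.2), rfl⟩
  · intro y hy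
    obtain ⟨x, hx, rfl⟩ := h2.ge hy
    have hxT : (x : Ω) ∈ T := Subgroup.mem_subgroupOf.1 hx
    refine ⟨⟨x, hxT⟩, ?_⟩
    rw [← h1 ⟨x, hxT⟩]
    congr 1

end Cfsg.Agent.Lib.Helper88.StabWC
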