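/-
helper88: the model case of control of weak closure of a central SUBGROUP `T ≤ Z(S)` (`StabWC`), reduced to a statement
on the model: `T` is normal in the model, or some element `d` of the model normalizes `T` and induces on it a nontrivial
automorphism of order prime to `p` whose powers permute transitively the nonidentity elements of `[T, d]` (`TorusOn`).
In the second case the system has a cyclic `p'`-subgroup `X ≤ Aut_F(T)` transitive on `[T, X]∖1` (`HasTorusAut`).
-/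
import Cfsg.Agent.Lib.Helper88.StabWC
import Cfsg.Agent.Lib.Helper86.ThompsonFusD

set_option autoImplicit false
set_option linter.unusedSectionVars false
set_option linter.style.haveILetI false

universe u

namespace Cfsg.Agent.Lib.Helper88.StabWC

open Cfsg Cfsg.FusionSystem Cfsg.Agent.Lib.Helper87 Cfsg.Agent.Lib.Helper88 Cfsg.Agent.Lib.Helper88.NilpRed
open Cfsg.Agent.Lib.Helper86 Cfsg.Agent.Lib.Helper86.WC

/-- The elementwise form of the exceptional conclusion in a group: `d` normalizes `T`, acts nontrivially on it, some power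
`d ^ m` with `m` prime to `p` centralizes `T`, and the powers of `d` permute transitively the nonidentity elements of
`[T, d]`. -/
def TorusOn {L : Type*} [Group L] (p : ℕ) (T : Subgroup L) (d : L) : Prop :=
  d ∈ Subgroup.normalizer (T : Set L) ∧ (∃ t ∈ T, d * t * d⁻¹ ≠ t) ∧
    (∃ m : ℕ, m.Coprime p ∧ ∀ t ∈ T, d ^ m * t * (d ^ m)⁻¹ = t) ∧
    ∀ a b : L, a ∈ Subgroup.closure {y : L | ∃ k : ℤ, ∃ t ∈ T, y = d ^ k * t * (d ^ k)⁻¹ * t⁻¹} →
      b ∈ Subgroup.closure {y : L | ∃ k : ℤ, ∃ t ∈ T, y = d ^ k * t * (d ^ k)⁻¹ * t⁻¹} →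
      a ≠ 1 → b ≠ 1 → ∃ k : ℤ, d ^ k * a * (d ^ k)⁻¹ = b

/-- The exceptional conclusion for a fusion system: `Aut_F(T)` has a nontrivial cyclic subgroup `X` of order prime to `p`
permuting transitively the nonidentity elements of `[T, X]`. -/
def HasTorusAut {Ω : Type*} [Group Ω] {S : Subgroup Ω} (p : ℕ) (F : FusionSystem S) (T : Subgroup Ω) : Prop :=
  ∃ X : Subgroup (MulAut ↥T), X ≤ F.autGroup T ∧ X ≠ ⊥ ∧ IsCyclic ↥X ∧ (Nat.card ↥X).Coprime p ∧
    ∀ a b : ↥T, a ∈ Subgroup.closure {y : ↥T | ∃ ψ ∈ X, ∃ t : ↥T, y = ψ t * t⁻¹} →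
      b ∈ Subgroup.closure {y : ↥T | ∃ ψ ∈ X, ∃ t : ↥T, y = ψ t * t⁻¹} → a ≠ 1 → b ≠ 1 → ∃ ψ ∈ X, ψ a = b

variable {p : ℕ} [Fact p.Prime]

/-- From a torus element of a realizing group to a torus subgroup of `Aut_F(T)`. -/
theorem hasTorusAut_of_torusOn {Ω : Type*} [Group Ω] {S : Subgroup Ω} [Finite S] (F : FusionSystem S)
    {L : Type*} [Group L] {ι : S →* L} (hR : F.IsRealizedBy ι) {T : Subgroup Ω} (hTS : T ≤ S) {d : L}
    (hd : TorusOn p ((T.subgroupOf S).map ι) d) : HasTorusAut p F T := by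
  classical
  have hι : Function.Injective ι := hR.1
  haveI : Finite ↥T := finite_of_le hTS
  obtain ⟨hdN, ⟨t0, ht0, hdt0⟩, ⟨m, hm, hdm⟩, htrans⟩ := hd
  have hmemT' : ∀ x : T, ι ⟨x, hTS x.2⟩ ∈ (T.subgroupOf S).map ι :=
    fun x => (ThompsonFus.mem_map_subgroupOf_iff hι T ⟨x, hTS x.2⟩).2 x.2
  have hconj' : ∀ x : T, d * ι ⟨x, hTS x.2⟩ * d⁻¹ ∈ (T.subgroupOf S).map ι :=
    fun x => (Subgroup.mem_normalizer_iff.1 hdN _).1 (hmemT' x)
  have hconj : ∀ x : T, d * ι ⟨x, hTS x.2⟩ * d⁻¹ ∈ ι.range := by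
    intro x
    obtain ⟨s, -, hs⟩ := hconj' x
    exact ⟨s, hs⟩
  have hφ := Model.conjThrough_mem_hom F hR hTS d hconj
  have hφT : ∀ x, Model.conjThrough ι hι hTS d hconj x ∈ T := by
    intro x
    have h1 := hconj' x
    rw [← Model.ι_conjThrough ι hι hTS d hconj x] at h1
    exact (ThompsonFus.mem_map_subgroupOf_iff hι _ _).1 h1
  have hinjφ : Function.Injective (Model.conjThrough ι hι hTS d hconj) := F.injective_of_mem hφ
  have hrange : (Model.conjThrough ι hι hTS d hconj).range = T := by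
    apply le_antisymm
    · rintro _ ⟨x, rfl⟩
      exact hφT x
    · intro y hy
      have hinj' : Function.Injective (fun t : T => (⟨Model.conjThrough ι hι hTS d hconj t, hφT t⟩ : T)) := by
        intro a b hab
        exact hinjφ (congrArg (fun z : T => (z : Ω)) hab)
      obtain ⟨t, ht⟩ := Finite.surjective_of_injective hinj' ⟨y, hy⟩
      exact ⟨t, congrArg (fun z : T => (z : Ω)) ht⟩
  obtain ⟨α, hα, hαx⟩ := exists_aut_of_range_eq F hφ hrange
  -- the basic relation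
  have hrel : ∀ x : T, ι ⟨((α x : T) : Ω), hTS (α x).2⟩ = d * ι ⟨x, hTS x.2⟩ * d⁻¹ := by
    intro x
    have h1 := Model.ι_conjThrough ι hι hTS d hconj x
    rw [← h1]
    congr 1
    exact Subtype.ext (hαx x)
  have hrelN : ∀ (n : ℕ) (x : T), ι ⟨(((α ^ n) x : T) : Ω), hTS ((α ^ n) x).2⟩ = d ^ n * ι ⟨x, hTS x.2⟩ * (d ^ n)⁻¹ := by
    intro n
    induction n with
    | zero => intro x; simp
    | succ n ih =>
      intro x
      have e : (α ^ (n + 1)) x = α ((α ^ n) x) := by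
        rw [pow_succ', MulAut.mul_apply]
      rw [e, hrel, ih, pow_succ']
      group
  have hrelZ : ∀ (k : ℤ) (x : T), ι ⟨(((α ^ k) x : T) : Ω), hTS ((α ^ k) x).2⟩ = d ^ k * ι ⟨x, hTS x.2⟩ * (d ^ k)⁻¹ := by
    intro k x
    cases k with
    | ofNat n =>
      simpa using hrelN n x
    | negSucc n =>
      have h1 := hrelN (n + 1) ((α ^ (Int.negSucc n)) x)
      have e : (α ^ (n + 1)) ((α ^ (Int.negSucc n)) x) = x := by
        rw [zpow_negSucc, ← MulAut.mul_apply, mul_inv_cancel, MulAut.one_apply]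
      rw [e] at h1
      have hd : d ^ (Int.negSucc n) = (d ^ (n + 1))⁻¹ := zpow_negSucc d n
      rw [hd, h1]
      group
  refine ⟨Subgroup.zpowers α, Subgroup.zpowers_le.2 hα, ?_, ?_, ?_, ?_⟩
  · -- nontrivial
    intro hbot
    have hα1 : α = 1 := by
      have : α ∈ (⊥ : Subgroup (MulAut ↥T)) := hbot ▸ Subgroup.mem_zpowers α
      exact Subgroup.mem_bot.1 this
    obtain ⟨s, hs, rfl⟩ := ht0
    have hsT : (s : Ω) ∈ T := Subgroup.mem_subgroupOf.1 hs
    have h1 := hrel ⟨s, hsT⟩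
    rw [hα1, MulAut.one_apply] at h1
    exact hdt0 h1.symm
  · exact Subgroup.isCyclic_zpowers α
  · -- order prime to `p`
    have hαm : α ^ m = 1 := by
      ext x
      have h1 := hrelN m x
      have h2 := hdm _ (hmemT' x)
      rw [h2] at h1
      have h3 := hι h1
      rw [MulAut.one_apply]
      exact congrArg (fun z : S => (z : Ω)) h3
    have hdvd : orderOf α ∣ m := orderOf_dvd_of_pow_eq_one hαm
    rw [Nat.card_zpowers]
    exact Nat.Coprime.coprime_dvd_left hdvd hm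
  · -- transitivity
    have hclos : ∀ a : ↥T, a ∈ Subgroup.closure {y : ↥T | ∃ ψ ∈ Subgroup.zpowers α, ∃ t : ↥T, y = ψ t * t⁻¹} →
        ι ⟨a, hTS a.2⟩ ∈ Subgroup.closure {y : L | ∃ k : ℤ, ∃ t ∈ (T.subgroupOf S).map ι,
          y = d ^ k * t * (d ^ k)⁻¹ * t⁻¹} := by
      intro a ha
      have hle : Subgroup.closure {y : ↥T | ∃ ψ ∈ Subgroup.zpowers α, ∃ t : ↥T, y = ψ t * t⁻¹} ≤
          (Subgroup.closure {y : L | ∃ k : ℤ, ∃ t ∈ (T.subgroupOf S).map ι,
            y = d ^ k * t * (d ^ k)⁻¹ * t⁻¹}).comap (ι.comp (Subgroup.inclusion hTS)) := by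
        rw [Subgroup.closure_le]
        rintro y ⟨ψ, hψ, t, rfl⟩
        obtain ⟨k, rfl⟩ := Subgroup.mem_zpowers_iff.1 hψ
        apply Subgroup.subset_closure
        refine ⟨k, ι ⟨t, hTS t.2⟩, hmemT' t, ?_⟩
        show ι (Subgroup.inclusion hTS ((α ^ k) t * t⁻¹)) = _
        rw [map_mul, map_mul, map_inv, map_inv]
        have := hrelZ k t
        show ι ⟨(((α ^ k) t : T) : Ω), _⟩ * (ι ⟨(t : Ω), _⟩)⁻¹ = _
        rw [this]
      exact hle ha
    intro a b ha hb ha1 hb1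
    have ha1' : ι ⟨a, hTS a.2⟩ ≠ 1 := by
      intro h
      apply ha1
      have h2 : (⟨a, hTS a.2⟩ : S) = 1 := hι (h.trans (map_one ι).symm)
      exact Subtype.ext (congrArg (fun z : S => (z : Ω)) h2)
    have hb1' : ι ⟨b, hTS b.2⟩ ≠ 1 := by
      intro h
      apply hb1
      have h2 : (⟨b, hTS b.2⟩ : S) = 1 := hι (h.trans (map_one ι).symm)
      exact Subtype.ext (congrArg (fun z : S => (z : Ω)) h2)
    obtain ⟨k, hk⟩ := htrans _ _ (hclos a ha) (hclos b hb) ha1' hb1'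
    refine ⟨α ^ k, Subgroup.zpow_mem_zpowers α k, ?_⟩
    have h1 := hrelZ k a
    rw [hk] at h1
    have h2 := hι h1
    exact Subtype.ext (congrArg (fun z : S => (z : Ω)) h2)

/-- **Model case**: in a system with a model `L`, a subgroup `T ≤ Z(S)` stabilized by `N_F(W(S))` is stabilized by the whole
system or `Aut_F(T)` has a torus subgroup, provided the corresponding statement holds in the group `L`. -/
theorem stab_of_model_of_group {W : ∀ (Q : Type u) [Group Q], Subgroup Q} (hW : IsCharPFunctor p W)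
    (hWZ : ∀ (Q : Type u) [Group Q] [Finite Q], IsPGroup p Q → Subgroup.center Q ≤ W Q)
    {Ω : Type u} [Group Ω] {S : Subgroup Ω} [Finite S] (hS : IsPGroup p S) (F : FusionSystem S)
    (L : Type u) [Group L] (ι : S →* L) (hM : F.IsModel p L ι)
    (hgrp : Finite L → ∀ (R : Sylow p L),
      Subgroup.centralizer ((pCore p L : Subgroup L) : Set L) ≤ pCore p L →
      ∀ T' : Subgroup L, T' ≤ (R : Subgroup L) ⊓ Subgroup.centralizer ((R : Subgroup L) : Set L) →
        Subgroup.normalizer (((W ↥(R : Subgroup L)).map (R : Subgroup L).subtype : Subgroup L) : Set L) ≤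
          Subgroup.normalizer (T' : Set L) →
        T'.Normal ∨ ∃ d : L, TorusOn p T' d)
    {T : Subgroup Ω} (hT : T ≤ S ⊓ Subgroup.centralizer (S : Set Ω)) (hfix : StabN F (inducedFunctor W S) T)
    (hno : ¬ HasTorusAut p F T) : Stab F T := by
  obtain ⟨hfin, hR, ⟨R, hRr⟩, hcen⟩ := hM
  haveI := hfin
  have hι : Function.Injective ι := hR.1
  have hTS : T ≤ S := hT.trans inf_le_left
  haveI : Finite ↥T := finite_of_le hTS
  have hmapW := ThompsonFus.map_inducedFunctor hW hS hι (R : Subgroup L) hRr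
  have hXS : inducedFunctor W S ≤ S := inducedFunctor_le W S
  haveI : Finite ↥(inducedFunctor W S) := finite_of_le hXS
  have hTX : T ≤ inducedFunctor W S := fun z hz => center_le_inducedFunctor hWZ hS (hT hz)
  have hmemT' : ∀ x : T, ι ⟨x, hTS x.2⟩ ∈ (T.subgroupOf S).map ι :=
    fun x => (ThompsonFus.mem_map_subgroupOf_iff hι T ⟨x, hTS x.2⟩).2 x.2
  -- `ι T ≤ Z(R)`
  have hT'R : (T.subgroupOf S).map ι ≤ (R : Subgroup L) ⊓ Subgroup.centralizer ((R : Subgroup L) : Set L) := by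
    rintro _ ⟨s, hs, rfl⟩
    have hsT : (s : Ω) ∈ T := Subgroup.mem_subgroupOf.1 hs
    refine Subgroup.mem_inf.2 ⟨hRr ▸ ⟨_, rfl⟩, ?_⟩
    rw [Subgroup.mem_centralizer_iff]
    intro r hr
    rw [SetLike.mem_coe, hRr] at hr
    obtain ⟨s', rfl⟩ := hr
    rw [← map_mul, ← map_mul]
    congr 1
    apply Subtype.ext
    exact (Subgroup.mem_centralizer_iff.1 (hT hsT).2) s' s'.2
  haveI : Finite ↥((T.subgroupOf S).map ι) := Finite.of_injective
    (fun x : ↥((T.subgroupOf S).map ι) => (x : L)) Subtype.val_injective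
  -- `N_L(W(R))` normalizes `ι T`
  have hN : Subgroup.normalizer (((W ↥(R : Subgroup L)).map (R : Subgroup L).subtype : Subgroup L) : Set L) ≤
      Subgroup.normalizer (((T.subgroupOf S).map ι : Subgroup L) : Set L) := by
    intro h hh
    have hh' : h ∈ Subgroup.normalizer (((((inducedFunctor W S).subgroupOf S).map ι : Subgroup L)) : Set L) := by
      rw [hmapW]
      exact hh
    have hmem : ∀ x : ↥(inducedFunctor W S), ι ⟨x, hXS x.2⟩ ∈ ((inducedFunctor W S).subgroupOf S).map ι :=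
      fun x => (ThompsonFus.mem_map_subgroupOf_iff hι _ ⟨x, hXS x.2⟩).2 x.2
    have hconj' : ∀ x : ↥(inducedFunctor W S),
        h * ι ⟨x, hXS x.2⟩ * h⁻¹ ∈ ((inducedFunctor W S).subgroupOf S).map ι :=
      fun x => (Subgroup.mem_normalizer_iff.1 hh' _).1 (hmem x)
    have hconj : ∀ x : ↥(inducedFunctor W S), h * ι ⟨x, hXS x.2⟩ * h⁻¹ ∈ ι.range := by
      intro x
      obtain ⟨s, -, hs⟩ := hconj' x
      exact ⟨s, hs⟩
    have hφ := Model.conjThrough_mem_hom F hR hXS h hconj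
    have hφX : ∀ x, Model.conjThrough ι hι hXS h hconj x ∈ inducedFunctor W S := by
      intro x
      have h1 := hconj' x
      rw [← Model.ι_conjThrough ι hι hXS h hconj x] at h1
      exact (ThompsonFus.mem_map_subgroupOf_iff hι _ _).1 h1
    apply Cfsg.Agent.Lib.Helper88.mem_normalizer_of_conj_mem_of_finite
    rintro _ ⟨s, hs, rfl⟩
    have hsT : (s : Ω) ∈ T := Subgroup.mem_subgroupOf.1 hs
    have h2 := hfix _ _ (mem_normalizerHom_self F hφ hφX) hTX ⟨s, hsT⟩
    have h3 := Model.ι_conjThrough ι hι hXS h hconj ⟨s, hTX hsT⟩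
    have h4 : ι ⟨(s : Ω), hXS (hTX hsT)⟩ = ι s := rfl
    rw [h4] at h3
    rw [← h3]
    exact (ThompsonFus.mem_map_subgroupOf_iff hι T _).2 h2
  rcases hgrp hfin R hcen _ hT'R hN with hnorm | ⟨d, hd⟩
  · -- `ι T` is normal in `L`
    intro P φ hφ hTP t
    have hP : P ≤ S := hom_le F hφ
    obtain ⟨g, hg⟩ := (hR.2 P hP φ (fun x => hom_map_mem F hφ x)).1 hφ
    have h1 := hg ⟨t, hTP t.2⟩
    have h2 : g * ι ⟨((⟨t, hTP t.2⟩ : P) : Ω), hP (hTP t.2)⟩ * g⁻¹ ∈ (T.subgroupOf S).map ι :=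
      hnorm.conj_mem _ (hmemT' t) g
    rw [← h1] at h2
    exact (ThompsonFus.mem_map_subgroupOf_iff hι T _).1 h2
  · exact absurd (hasTorusAut_of_torusOn F hR hTS hd) hno

end Cfsg.Agent.Lib.Helper88.StabWC
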