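/-
helper88: S5278, definitions for the passage from the minimal configuration to the action core: the data `ActData` of a
quotient `Hh` of `G` (with kernel `C_G(V)`) acting on `V₁ = Ω₁(V)` by conjugation, and the commutator subgroup `commOn T d`
generated by the `d ^ k * t * (d ^ k)⁻¹ * t⁻¹`.
-/
import Cfsg.Agent.Lib.Helper88.GlaubSubG1
import Cfsg.Agent.Lib.Helper88.StabModel

set_option autoImplicit false

universe u

namespace Cfsg.Agent.Lib.Helper88.GlaubSub

open Cfsg

variable {G : Type u} [Group G]

/-- the data of the action of a quotient `Hh` of `G` on `V₁` -/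
structure ActData (p : ℕ) (T : Subgroup G) {Hh : Type u} [Group Hh] [MulDistribMulAction Hh ↥(om p T)]
    (f : G →* Hh) : Prop where
  surj : Function.Surjective f
  ker : f.ker = cc T
  act : ∀ (g : G) (u : ↥(om p T)), ((f g • u : ↥(om p T)) : G) = g * (u : G) * g⁻¹

/-- `[T, d]` in the form used by `TorusOn` -/
def commOn (T : Subgroup G) (d : G) : Subgroup G :=
  Subgroup.closure {y : G | ∃ k : ℤ, ∃ t ∈ T, y = d ^ k * t * (d ^ k)⁻¹ * t⁻¹}

end Cfsg.Agent.Lib.Helper88.GlaubSub
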