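import Cfsg.Agent.Lib.Helper88.FusionNormalSubgroup
import Cfsg.Agent.Lib.Helper88.FusionAut
import Cfsg.Agent.Lib.Helper88.FusionFC

set_option autoImplicit false
open Cfsg

namespace Cfsg.Agent.Lib.Helper88.Invariance

open Cfsg.FusionSystem
open Cfsg.Agent.Lib.Helper87 Cfsg.Agent.Lib.Helper88

variable {Ω : Type*} [Group Ω] {S : Subgroup Ω}

/-- the invariance clause of `IsInvariantIn` -/
def InvClause {T : Subgroup Ω} (E : FusionSystem T) (F : FusionSystem S) : Prop :=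
  ∀ (P : Subgroup Ω) (hPT : P ≤ T) (φ : P →* Ω), φ ∈ E.Hom P → ∀ α ∈ F.autGroup T,
      ∃ χ ∈ E.Hom ((P.subgroupOf T).map (T.subtype.comp α.toMonoidHom)),
        ∀ (x : P) (hφx : φ x ∈ T)
          (hαx : ((α ⟨x, hPT x.2⟩ : T) : Ω) ∈ (P.subgroupOf T).map (T.subtype.comp α.toMonoidHom)),
          χ ⟨(α ⟨x, hPT x.2⟩ : T), hαx⟩ = ((α ⟨φ x, hφx⟩ : T) : Ω)

/-- **Invariance, pointwise iso form**: `f = α e₀ α⁻¹` on `A' = α(A)` is an isomorphism of `E`. -/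
theorem isIso_conj {T : Subgroup Ω} (E : FusionSystem T) (F : FusionSystem S) (hI : InvClause E F)
    {A B A' B' : Subgroup Ω} {e₀ : A ≃* B} (he₀ : IsIso E e₀) {α : MulAut T} (hα : α ∈ F.autGroup T)
    (f : A' ≃* B')
    (h1 : ∀ y : A', ∃ (x : A) (h : (x : Ω) ∈ T) (h' : ((e₀ x : B) : Ω) ∈ T),
      (y : Ω) = ((α ⟨x, h⟩ : T) : Ω) ∧ ((f y : B') : Ω) = ((α ⟨e₀ x, h'⟩ : T) : Ω))
    (h2 : ∀ (x : A) (h : (x : Ω) ∈ T), ((α ⟨x, h⟩ : T) : Ω) ∈ A') : IsIso E f := by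
  have hAT : A ≤ T := he₀.le_left
  have hBT : B ≤ T := he₀.le_right
  obtain ⟨χ, hχ, hχe⟩ := hI A hAT _ he₀ α hα
  have hsub : (A.subgroupOf T).map (T.subtype.comp α.toMonoidHom) = A' := by
    ext y
    constructor
    · rintro ⟨z, hz, rfl⟩
      exact h2 ⟨z, hz⟩ z.2
    · intro hy
      obtain ⟨x, h, -, hyx, -⟩ := h1 ⟨y, hy⟩
      exact ⟨⟨x, h⟩, x.2, hyx.symm⟩
  refine hom_of_eq_on E hsub hχ (fun y hy hy' => ?_)
  obtain ⟨x, h, h', hyx, hfx⟩ := h1 ⟨y, hy'⟩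
  show ((f ⟨y, hy'⟩ : B') : Ω) = χ ⟨y, hy⟩
  rw [hfx]
  have hαx : ((α ⟨x, hAT x.2⟩ : T) : Ω) ∈ (A.subgroupOf T).map (T.subtype.comp α.toMonoidHom) := by
    have : ((α ⟨x, hAT x.2⟩ : T) : Ω) = y := hyx.symm
    rw [this]; exact hy
  have h3 := hχe x h' hαx
  refine h3.symm.trans ?_
  congr 1
  exact Subtype.ext hyx.symm

/-- restriction of an automorphism of `T` to a subgroup, as a homomorphism -/
def resHom {T : Subgroup Ω} (α : MulAut T) (A : Subgroup Ω) (hA : A ≤ T) : A →* Ω :=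
  (T.subtype.comp α.toMonoidHom).comp (Subgroup.inclusion hA)

theorem resHom_injective {T : Subgroup Ω} (α : MulAut T) (A : Subgroup Ω) (hA : A ≤ T) :
    Function.Injective (resHom α A hA) := by
  intro a b hab
  have h1 : α (Subgroup.inclusion hA a) = α (Subgroup.inclusion hA b) := Subtype.ext hab
  exact Subgroup.inclusion_injective hA (α.injective h1)

/-- restriction of an automorphism of `T` to a subgroup, as an isomorphism onto the image -/
noncomputable def resAut {T : Subgroup Ω} (α : MulAut T) (A : Subgroup Ω) (hA : A ≤ T) :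
    A ≃* (resHom α A hA).range :=
  MonoidHom.ofInjective (resHom_injective α A hA)

theorem resAut_apply {T : Subgroup Ω} (α : MulAut T) (A : Subgroup Ω) (hA : A ≤ T) (x : A) :
    ((resAut α A hA x : (resHom α A hA).range) : Ω) = ((α ⟨x, hA x.2⟩ : T) : Ω) := rfl

/-- `e ∈ Aut_F(T) ∘ E` -/
def GI {T : Subgroup Ω} (E : FusionSystem T) (F : FusionSystem S) {P P' : Subgroup Ω} (e : P ≃* P') : Prop :=
  ∃ α ∈ F.autGroup T, ∃ (P₀ : Subgroup Ω) (e₀ : P ≃* P₀), IsIso E e₀ ∧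
    ∀ (x : P) (h : ((e₀ x : P₀) : Ω) ∈ T), ((e x : P') : Ω) = ((α ⟨e₀ x, h⟩ : T) : Ω)

theorem GI_of_E {T : Subgroup Ω} (E : FusionSystem T) (F : FusionSystem S) {P P' : Subgroup Ω} {e : P ≃* P'}
    (he : IsIso E e) : GI E F e :=
  ⟨1, Subgroup.one_mem _, P', e, he, fun _ _ => rfl⟩

theorem GI_trans {T : Subgroup Ω} (E : FusionSystem T) (F : FusionSystem S) (hI : InvClause E F)
    {P P' P'' : Subgroup Ω} {e : P ≃* P'} {e' : P' ≃* P''} (h : GI E F e) (h' : GI E F e') :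
    GI E F (e.trans e') := by
  obtain ⟨α₁, hα₁, P₁, e₁, he₁, h1⟩ := h
  obtain ⟨α₂, hα₂, P₂, e₂, he₂, h2⟩ := h'
  have hP₁T : P₁ ≤ T := he₁.le_right
  have hP₂T : P₂ ≤ T := he₂.le_right
  have hP'T : P' ≤ T := he₂.le_left
  -- a = restriction of α₁ to P₁
  have ha : ∀ y : P₁, (((e₁.symm.trans e) y : P') : Ω) = ((α₁ ⟨y, hP₁T y.2⟩ : T) : Ω) := by
    intro y
    have := h1 (e₁.symm y) (by rw [MulEquiv.apply_symm_apply]; exact hP₁T y.2)
    rw [show (e₁.symm.trans e) y = e (e₁.symm y) from rfl, this]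
    congr 2
    apply Subtype.ext
    exact congrArg (fun z : P₁ => (z : Ω)) (e₁.apply_symm_apply y)
  have hα₁' : α₁⁻¹ ∈ F.autGroup T := Subgroup.inv_mem _ hα₁
  -- f = α₁⁻¹ e₂ α₁ on P₁
  have hf : IsIso E ((e₁.symm.trans e).trans (e₂.trans (resAut α₁⁻¹ P₂ hP₂T))) := by
    refine isIso_conj E F hI he₂ hα₁' _ (fun y => ?_) (fun x h => ?_)
    · refine ⟨(e₁.symm.trans e) y, hP'T ((e₁.symm.trans e) y).2, hP₂T (e₂ _).2, ?_, ?_⟩
      · have h3 : (⟨(((e₁.symm.trans e) y : P') : Ω), hP'T ((e₁.symm.trans e) y).2⟩ : T) = α₁ ⟨y, hP₁T y.2⟩ :=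
          Subtype.ext (ha y)
        rw [h3, MulAut.inv_apply_self]
      · rfl
    · have h3 : (⟨(x : Ω), h⟩ : T) = α₁ ⟨(e₁.symm.trans e).symm x, hP₁T ((e₁.symm.trans e).symm x).2⟩ := by
        apply Subtype.ext
        rw [← ha, MulEquiv.apply_symm_apply]
      rw [h3, MulAut.inv_apply_self]
      exact ((e₁.symm.trans e).symm x).2
  refine ⟨α₂ * α₁, Subgroup.mul_mem _ hα₂ hα₁, _,
    e₁.trans ((e₁.symm.trans e).trans (e₂.trans (resAut α₁⁻¹ P₂ hP₂T))), he₁.trans hf, fun x h => ?_⟩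
  show ((e' (e x) : P'') : Ω) = _
  rw [h2 (e x) (hP₂T (e₂ (e x)).2), MulAut.mul_apply]
  congr 2
  apply Subtype.ext
  show ((e₂ (e x) : P₂) : Ω) = ((α₁ ⟨_, h⟩ : T) : Ω)
  have h4 : (⟨((((e₁.trans ((e₁.symm.trans e).trans (e₂.trans (resAut α₁⁻¹ P₂ hP₂T)))) x :
      (resHom α₁⁻¹ P₂ hP₂T).range)) : Ω), h⟩ : T) = α₁⁻¹ ⟨e₂ (e x), hP₂T (e₂ (e x)).2⟩ := by
    apply Subtype.ext
    show ((resAut α₁⁻¹ P₂ hP₂T (e₂ (e (e₁.symm (e₁ x)))) : _) : Ω) = _
    rw [MulEquiv.symm_apply_apply]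
    rfl
  rw [h4, MulAut.apply_inv_self]

theorem GI_symm {T : Subgroup Ω} (E : FusionSystem T) (F : FusionSystem S) (hI : InvClause E F)
    {P P' : Subgroup Ω} {e : P ≃* P'} (h : GI E F e) : GI E F e.symm := by
  obtain ⟨α, hα, P₁, e₁, he₁, h1⟩ := h
  have hP₁T : P₁ ≤ T := he₁.le_right
  have hPT : P ≤ T := he₁.le_left
  have ha : ∀ y : P₁, (((e₁.symm.trans e) y : P') : Ω) = ((α ⟨y, hP₁T y.2⟩ : T) : Ω) := by
    intro y
    have := h1 (e₁.symm y) (by rw [MulEquiv.apply_symm_apply]; exact hP₁T y.2)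
    rw [show (e₁.symm.trans e) y = e (e₁.symm y) from rfl, this]
    congr 2
    apply Subtype.ext
    exact congrArg (fun z : P₁ => (z : Ω)) (e₁.apply_symm_apply y)
  have hf : IsIso E ((e₁.symm.trans e).symm.trans (e₁.symm.trans (resAut α P hPT))) := by
    refine isIso_conj E F hI he₁.symm hα _ (fun y => ?_) (fun x h => ?_)
    · refine ⟨(e₁.symm.trans e).symm y, hP₁T ((e₁.symm.trans e).symm y).2,
        hPT (e₁.symm ((e₁.symm.trans e).symm y)).2, ?_, rfl⟩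
      rw [← ha, MulEquiv.apply_symm_apply]
    · have := ha x
      rw [← this]
      exact ((e₁.symm.trans e) x).2
  refine ⟨α⁻¹, Subgroup.inv_mem _ hα, _, _, hf, fun y h => ?_⟩
  have h4 : (⟨(((((e₁.symm.trans e).symm.trans (e₁.symm.trans (resAut α P hPT))) y :
      (resHom α P hPT).range)) : Ω), h⟩ : T) = α ⟨e.symm y, hPT (e.symm y).2⟩ := by
    apply Subtype.ext
    show ((resAut α P hPT (e₁.symm ((e₁.symm.trans e).symm y)) : _) : Ω) = _
    rw [resAut_apply]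
    congr 2
    apply Subtype.ext
    show ((e₁.symm (e₁ (e.symm y)) : P) : Ω) = _
    rw [MulEquiv.symm_apply_apply]
  rw [h4, MulAut.inv_apply_self]

/-- the maps in `Aut_F(T) ∘ E` -/
def InG {T : Subgroup Ω} (E : FusionSystem T) (F : FusionSystem S) {P : Subgroup Ω} (φ : P →* Ω) : Prop :=
  ∃ α ∈ F.autGroup T, ∃ φ₀ ∈ E.Hom P, ∀ (x : P) (hx : φ₀ x ∈ T), φ x = ((α ⟨φ₀ x, hx⟩ : T) : Ω)

theorem InG_restrict {T : Subgroup Ω} (E : FusionSystem T) (F : FusionSystem S) {P A : Subgroup Ω}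
    (hAP : A ≤ P) {φ : P →* Ω} (h : InG E F φ) : InG E F (φ.comp (Subgroup.inclusion hAP)) := by
  obtain ⟨α, hα, φ₀, hφ₀, h⟩ := h
  exact ⟨α, hα, φ₀.comp (Subgroup.inclusion hAP), restrict_mem E hφ₀ hAP, fun x hx => h _ hx⟩

theorem GI_of_InG {T : Subgroup Ω} (E : FusionSystem T) (F : FusionSystem S) {P P' : Subgroup Ω}
    (e : P ≃* P') {φ : P →* Ω} (h : InG E F φ) (he : ∀ x, ((e x : P') : Ω) = φ x) : GI E F e := by
  obtain ⟨α, hα, φ₀, hφ₀, h⟩ := h
  exact ⟨α, hα, φ₀.range, MonoidHom.ofInjective (E.injective_of_mem hφ₀), isIso_ofInjective E hφ₀,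
    fun x hx => (he x).trans (h x hx)⟩

theorem InG_of_GI {T : Subgroup Ω} (E : FusionSystem T) (F : FusionSystem S) {P P' : Subgroup Ω}
    {e : P ≃* P'} (h : GI E F e) {φ : P →* Ω} (he : ∀ x, φ x = ((e x : P') : Ω)) : InG E F φ := by
  obtain ⟨α, hα, P₀, e₀, he₀, h⟩ := h
  exact ⟨α, hα, P₀.subtype.comp e₀.toMonoidHom, he₀, fun x hx => (he x).trans (h x hx)⟩

theorem InG_top {T : Subgroup Ω} (E : FusionSystem T) (F : FusionSystem S) [Finite S]
    (hT : F.StronglyClosed T) {φ : T →* Ω} (hφ : φ ∈ F.Hom T) : InG E F φ := by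
  have hfinT : Finite T := finite_of_le hT.1
  have hle : φ.range ≤ T := by
    rintro _ ⟨x, rfl⟩
    exact hT.2 T le_rfl φ hφ x
  have hr : φ.range = T := by
    apply Subgroup.eq_of_le_of_card_ge hle
    exact le_of_eq (Nat.card_congr (MonoidHom.ofInjective (F.injective_of_mem hφ)).toEquiv)
  obtain ⟨α, hα, hαe⟩ := exists_aut_of_range_eq F hφ hr
  exact ⟨α, hα, T.subtype, subtype_mem E le_rfl, fun x hx => (hαe x).symm⟩

/-- the strong invariance condition -/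
def SIProp {T : Subgroup Ω} (E : FusionSystem T) (F : FusionSystem S) : Prop :=
  ∀ (P Q : Subgroup Ω) (hPQ : P ≤ Q) (_ : Q ≤ T) (φ : P →* Ω) (_ : φ ∈ E.Hom P) (hφQ : ∀ x : P, φ x ∈ Q) (ψ : Q →* Ω) (_ : ψ ∈ F.Hom Q), ∃ χ ∈ E.Hom ((P.subgroupOf Q).map ψ), ∀ (x : P) (hx : ψ (Subgroup.inclusion hPQ x) ∈ (P.subgroupOf Q).map ψ), χ ⟨ψ (Subgroup.inclusion hPQ x), hx⟩ = ψ ⟨φ x, hφQ x⟩

theorem invClause_of_SI {T : Subgroup Ω} (E : FusionSystem T) (F : FusionSystem S) (hTS : T ≤ S)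
    (hSI : SIProp E F) : InvClause E F := by
  intro P hPT φ hφ α hα
  have hφT : ∀ x : P, φ x ∈ T := (E.le_of_mem hφ).2
  have hαF : T.subtype.comp α.toMonoidHom ∈ F.Hom T := (mem_autGroup_iff F hTS).1 hα
  obtain ⟨χ, hχ, hχe⟩ := hSI P T hPT le_rfl φ hφ hφT _ hαF
  exact ⟨χ, hχ, fun x _ hαx => hχe x hαx⟩

/-- `Aut_E(R)` is normalized by `Aut_F(R)` -/
theorem autE_conj_mem {T : Subgroup Ω} (E : FusionSystem T) (F : FusionSystem S) (hTS : T ≤ S)
    (hSI : SIProp E F) {R : Subgroup Ω} (hRT : R ≤ T) {ε ψ : MulAut R} (hε : ε ∈ E.autGroup R)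
    (hψ : ψ ∈ F.autGroup R) : ψ * ε * ψ⁻¹ ∈ E.autGroup R := by
  have hεE : R.subtype.comp (ε : R ≃* R).toMonoidHom ∈ E.Hom R := (mem_autGroup_iff E hRT).1 hε
  have hψF : R.subtype.comp (ψ : R ≃* R).toMonoidHom ∈ F.Hom R := (mem_autGroup_iff F (hRT.trans hTS)).1 hψ
  obtain ⟨χ, hχ, hχe⟩ := hSI R R le_rfl hRT _ hεE (fun x => (ε x).2) _ hψF
  rw [mem_autGroup_iff E hRT]
  have hsub : (R.subgroupOf R).map (R.subtype.comp (ψ : R ≃* R).toMonoidHom) = R := by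
    ext y
    constructor
    · rintro ⟨z, -, rfl⟩
      exact (ψ z).2
    · intro hy
      refine ⟨ψ⁻¹ ⟨y, hy⟩, Subgroup.mem_subgroupOf.2 (ψ⁻¹ ⟨y, hy⟩).2, ?_⟩
      show ((ψ (ψ⁻¹ ⟨y, hy⟩) : R) : Ω) = y
      rw [MulAut.apply_inv_self]
  refine hom_of_eq_on E hsub hχ (fun y hy hy' => ?_)
  show (((ψ * ε * ψ⁻¹) ⟨y, hy'⟩ : R) : Ω) = χ ⟨y, hy⟩
  have hx : (R.subtype.comp (ψ : R ≃* R).toMonoidHom) (Subgroup.inclusion le_rfl (ψ⁻¹ ⟨y, hy'⟩)) ∈
      (R.subgroupOf R).map (R.subtype.comp (ψ : R ≃* R).toMonoidHom) := by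
    have : (R.subtype.comp (ψ : R ≃* R).toMonoidHom) (Subgroup.inclusion le_rfl (ψ⁻¹ ⟨y, hy'⟩)) = y := by
      show ((ψ (ψ⁻¹ ⟨y, hy'⟩) : R) : Ω) = y
      rw [MulAut.apply_inv_self]
    rw [this]; exact hy
  have h3 := hχe (ψ⁻¹ ⟨y, hy'⟩) hx
  have h4 : (⟨y, hy⟩ : (R.subgroupOf R).map (R.subtype.comp (ψ : R ≃* R).toMonoidHom)) =
      ⟨(R.subtype.comp (ψ : R ≃* R).toMonoidHom) (Subgroup.inclusion le_rfl (ψ⁻¹ ⟨y, hy'⟩)), hx⟩ := by
    apply Subtype.ext
    show y = ((ψ (ψ⁻¹ ⟨y, hy'⟩) : R) : Ω)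
    rw [MulAut.apply_inv_self]
  rw [h4, h3]
  rfl

/-- an element of `Aut_F(R)` normalizing `Σ = Aut_S(R) ∩ Aut_E(R)` extends to `N_T(R)`, hence lies in `𝔊` -/
theorem GI_of_normalizes {T : Subgroup Ω} (E : FusionSystem T) (F : FusionSystem S) [Finite S] {p : ℕ}
    [Fact p.Prime] (hS : IsPGroup p S) (hT : F.StronglyClosed T)
    {R : Subgroup Ω} (hRT : R ≤ T) (hne : R ≠ T) (hRr : F.IsReceptive R)
    (IH : ∀ P' : Subgroup Ω, P' ≤ T → Nat.card R < Nat.card P' → ∀ φ' ∈ F.Hom P', InG E F φ')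
    (γ : MulAut R) (hγ : γ ∈ F.autGroup R)
    (hγn : ∀ t (ht : t ∈ normalizerIn S R), t ∈ T → γ * conjAut R t ht.2 * γ⁻¹ ∈ autInducedBy S R) :
    GI E F (γ : R ≃* R) := by
  have hTS : T ≤ S := hT.1
  have hRS : R ≤ S := hRT.trans hTS
  have hfinT : Finite T := finite_of_le hTS
  have hTp : IsPGroup p T := by
    intro x
    obtain ⟨k, hk⟩ := hS ⟨x, hTS x.2⟩
    refine ⟨k, Subtype.ext ?_⟩
    have := congrArg (fun z : S => (z : Ω)) hk
    simpa using this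
  have hγF : R.subtype.comp (γ : R ≃* R).toMonoidHom ∈ F.Hom R := (mem_autGroup_iff F hRS).1 hγ
  have hr : (R.subtype.comp (γ : R ≃* R).toMonoidHom).range = R := range_subtype_comp _
  obtain ⟨ψ, hψ, hψe⟩ := hRr.2 R _ hγF hr
  -- N_T(R) ≤ N_γ
  have hle : normalizerIn S R ⊓ T ≤ extender S R (R.subtype.comp (γ : R ≃* R).toMonoidHom) := by
    rintro t ⟨htN, htT⟩
    rw [Cfsg.Agent.Lib.Helper85.mem_extender_iff]
    obtain ⟨h, hh, hhe⟩ := mem_autInducedBy_iff.1 (hγn t htN htT)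
    refine ⟨htN.1, htN.2, h, hh, fun x hx => ?_⟩
    have := hhe (γ x)
    rw [MulAut.mul_apply, MulAut.mul_apply, MulAut.inv_apply_self] at this
    exact this
  -- R < N_T(R)
  obtain ⟨x₀, hx₀N, hx₀R⟩ := exists_mem_normalizerIn_not_mem (S := T) hTp hRT hne
  have hRN : R ≤ normalizerIn S R ⊓ T := le_inf (le_normalizerIn hRS) hRT
  have hfinN : Finite (normalizerIn S R ⊓ T : Subgroup Ω) := finite_of_le (inf_le_right.trans hTS)
  have hcard : Nat.card R < Nat.card (normalizerIn S R ⊓ T : Subgroup Ω) := by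
    by_contra hlt
    push Not at hlt
    have := Subgroup.eq_of_le_of_card_ge hRN hlt
    apply hx₀R
    rw [this]
    exact ⟨⟨hTS hx₀N.1, hx₀N.2⟩, hx₀N.1⟩
  have hψN : ψ.comp (Subgroup.inclusion hle) ∈ F.Hom (normalizerIn S R ⊓ T) := restrict_mem F hψ hle
  have h1 := IH _ inf_le_right hcard _ hψN
  have h2 := InG_restrict E F hRN h1
  refine GI_of_InG E F _ h2 (fun x => ?_)
  exact (hψe x x.2 (hle (hRN x.2))).symm

/-- **Local step**: all of `Aut_F(R)` lies in `𝔊`. -/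
theorem GI_aut {T : Subgroup Ω} (E : FusionSystem T) (F : FusionSystem S) [Finite S] {p : ℕ}
    [Fact p.Prime] (hS : IsPGroup p S) (hT : F.StronglyClosed T) (hSI : SIProp E F)
    {R : Subgroup Ω} (hRT : R ≤ T) (hne : R ≠ T) (hRa : F.IsFullyAutomized p R) (hRr : F.IsReceptive R)
    (IH : ∀ P' : Subgroup Ω, P' ≤ T → Nat.card R < Nat.card P' → ∀ φ' ∈ F.Hom P', InG E F φ')
    (β : MulAut R) (hβ : β ∈ F.autGroup R) : GI E F (β : R ≃* R) := by
  have hTS : T ≤ S := hT.1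
  have hRS : R ≤ S := hRT.trans hTS
  have hfinR : Finite R := finite_of_le hRS
  have hfinA : Finite (F.autGroup R) := inferInstance
  have hI : InvClause E F := invClause_of_SI E F hTS hSI
  obtain ⟨-, Rsyl, hRsyl⟩ := hRa
  have hnormal : ((E.autGroup R).subgroupOf (F.autGroup R)).Normal := by
    constructor
    intro n hn g
    have := autE_conj_mem E F hTS hSI hRT (Subgroup.mem_subgroupOf.1 hn) g.2
    exact Subgroup.mem_subgroupOf.2 this
  obtain ⟨h, hh, n, hn, hβeq⟩ :=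
    frattini_inf Rsyl ((E.autGroup R).subgroupOf (F.autGroup R)) (⟨β, hβ⟩ : F.autGroup R)
  -- h normalizes Σ
  have hγ : GI E F ((h : MulAut R) : R ≃* R) := by
    refine GI_of_normalizes E F hS hT hRT hne hRr IH _ h.2 (fun t htN htT => ?_)
    have hcS : conjAut R t htN.2 ∈ autInducedBy S R := mem_autInducedBy_iff.2 ⟨t, htN.1, fun _ => rfl⟩
    have hcF : conjAut R t htN.2 ∈ F.autGroup R :=
      Cfsg.Agent.Lib.Helper87.autInducedBy_le_autGroup F hRS hcS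
    have hcE : conjAut R t htN.2 ∈ E.autGroup R := by
      rw [mem_autGroup_iff E hRT]
      exact hom_of_eq_on E rfl (E.conj_mem hRT htT) (fun x hx _ => rfl)
    have hSig : (⟨conjAut R t htN.2, hcF⟩ : F.autGroup R) ∈
        (Rsyl : Subgroup (F.autGroup R)) ⊓ (E.autGroup R).subgroupOf (F.autGroup R) := by
      refine ⟨?_, Subgroup.mem_subgroupOf.2 hcE⟩
      rw [hRsyl]
      exact Subgroup.mem_subgroupOf.2 hcS
    have h3 := (Subgroup.mem_normalizer_iff.mp hh _).mp hSig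
    have h4 := h3.1
    rw [hRsyl] at h4
    exact Subgroup.mem_subgroupOf.1 h4
  have hε : GI E F ((n : MulAut R) : R ≃* R) :=
    GI_of_E E F ((mem_autGroup_iff E hRT).1 (Subgroup.mem_subgroupOf.1 hn))
  have h5 := GI_trans E F hI hε hγ
  have h6 : (β : R ≃* R) = ((n : MulAut R) : R ≃* R).trans ((h : MulAut R) : R ≃* R) := by
    have : β = (h : MulAut R) * (n : MulAut R) := congrArg (fun z : F.autGroup R => (z : MulAut R)) hβeq
    rw [this]
    rfl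
  rw [h6]
  exact h5

/-- **Frattini condition from strong invariance.** -/
theorem frattini_of_SI {T : Subgroup Ω} (E : FusionSystem T) (F : FusionSystem S) [Finite S] {p : ℕ}
    [Fact p.Prime] (hS : IsPGroup p S) (hF : F.IsSaturated p) (hT : F.StronglyClosed T)
    (hSI : SIProp E F) :
    ∀ (P : Subgroup Ω), P ≤ T → ∀ (φ : P →* Ω), φ ∈ F.Hom P → InG E F φ := by
  have hTS : T ≤ S := hT.1
  have hfinT : Finite T := finite_of_le hTS
  have hTp : IsPGroup p T := by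
    intro x
    obtain ⟨k, hk⟩ := hS ⟨x, hTS x.2⟩
    refine ⟨k, Subtype.ext ?_⟩
    have := congrArg (fun z : S => (z : Ω)) hk
    simpa using this
  have hI : InvClause E F := invClause_of_SI E F hTS hSI
  intro P
  induction' hn : Nat.card T - Nat.card P using Nat.strong_induction_on with n ih generalizing P
  intro hPT φ hφ
  have hfinP : Finite P := finite_of_le (hPT.trans hTS)
  have hPS : P ≤ S := hPT.trans hTS
  -- the induction hypothesis
  have IH : ∀ P' : Subgroup Ω, P' ≤ T → Nat.card P < Nat.card P' → ∀ φ' ∈ F.Hom P', InG E F φ' := by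
    intro P' hP'T hlt φ' hφ'
    have hfinP' : Finite P' := finite_of_le (hP'T.trans hTS)
    have hle : Nat.card P' ≤ Nat.card T := Subgroup.card_le_of_le hP'T
    exact ih (Nat.card T - Nat.card P') (by omega) P' rfl hP'T φ' hφ'
  by_cases hPeq : P = T
  · subst hPeq
    exact InG_top E F hT hφ
  -- P < T
  have extend : ∀ (A R : Subgroup Ω) (hAT : A ≤ T), Nat.card A = Nat.card P → F.IsConj A R →
      F.IsFullyAutomized p R → F.IsReceptive R → ∃ e : A ≃* R, IsIso F e ∧ GI E F e := by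
    intro A R hAT hcardA hAR hRa hRr
    have hAS : A ≤ S := hAT.trans hTS
    have hfinA : Finite A := finite_of_le hAS
    have hAne : A ≠ T := by
      rintro rfl
      apply hPeq
      exact Subgroup.eq_of_le_of_card_ge hPT (le_of_eq hcardA)
    obtain ⟨χ, e, hχ, he, hχe⟩ := exists_extension F hS hRa hRr hAR
    obtain ⟨x₀, hx₀N, hx₀A⟩ := exists_mem_normalizerIn_not_mem (S := T) hTp hAT hAne
    have hAN : A ≤ normalizerIn S A ⊓ T := le_inf (le_normalizerIn hAS) hAT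
    have hfinN : Finite (normalizerIn S A ⊓ T : Subgroup Ω) := finite_of_le (inf_le_right.trans hTS)
    have hcard : Nat.card P < Nat.card (normalizerIn S A ⊓ T : Subgroup Ω) := by
      rw [← hcardA]
      by_contra hlt
      push Not at hlt
      have := Subgroup.eq_of_le_of_card_ge hAN hlt
      apply hx₀A
      rw [this]
      exact ⟨⟨hTS hx₀N.1, hx₀N.2⟩, hx₀N.1⟩
    have hχN : χ.comp (Subgroup.inclusion (inf_le_left : normalizerIn S A ⊓ T ≤ normalizerIn S A)) ∈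
        F.Hom (normalizerIn S A ⊓ T) := restrict_mem F hχ inf_le_left
    have h1 := IH _ inf_le_right hcard _ hχN
    have h2 := InG_restrict E F hAN h1
    refine ⟨e, he, GI_of_InG E F e h2 (fun x => ?_)⟩
    exact (hχe x x.2 (le_normalizerIn hAS x.2)).symm
  obtain ⟨R, hPR, hRa, hRr⟩ := hF P hPS
  have hRT : R ≤ T := by
    obtain ⟨ρ, hρ, rfl⟩ := hPR
    rintro _ ⟨x, rfl⟩
    exact hT.2 P hPT ρ hρ x
  have hQT : φ.range ≤ T := by
    rintro _ ⟨x, rfl⟩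
    exact hT.2 P hPT φ hφ x
  have hPQ : F.IsConj P φ.range := ⟨φ, hφ, rfl⟩
  have hfinR : Finite R := finite_of_le (hRT.trans hTS)
  have hRne : R ≠ T := by
    rintro rfl
    apply hPeq
    exact Subgroup.eq_of_le_of_card_ge hPT (le_of_eq (IsConj_card_eq hPR).symm)
  obtain ⟨e, he, hGe⟩ := extend P R hPT rfl hPR hRa hRr
  obtain ⟨e', he', hGe'⟩ := extend φ.range R hQT (IsConj_card_eq hPQ).symm
    (IsConj_trans (IsConj_symm hPQ) hPR) hRa hRr
  have heφ : IsIso F (MonoidHom.ofInjective (F.injective_of_mem hφ)) := isIso_ofInjective F hφ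
  have hβF : IsIso F (e.symm.trans ((MonoidHom.ofInjective (F.injective_of_mem hφ)).trans e')) :=
    he.symm.trans (heφ.trans he')
  have IH' : ∀ P' : Subgroup Ω, P' ≤ T → Nat.card R < Nat.card P' → ∀ φ' ∈ F.Hom P', InG E F φ' := by
    intro P' hP'T hlt
    exact IH P' hP'T (by rw [IsConj_card_eq hPR]; exact hlt)
  have hGβ : GI E F (e.symm.trans ((MonoidHom.ofInjective (F.injective_of_mem hφ)).trans e')) :=
    GI_aut E F hS hT hSI hRT hRne hRa hRr IH' _ ((mem_autGroup_iff F (hRT.trans hTS)).2 hβF)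
  have hG := GI_trans E F hI hGe (GI_trans E F hI hGβ (GI_symm E F hI hGe'))
  refine InG_of_GI E F hG (fun x => ?_)
  show φ x = ((e'.symm (e' ((MonoidHom.ofInjective (F.injective_of_mem hφ)) (e.symm (e x)))) : φ.range) : Ω)
  rw [MulEquiv.symm_apply_apply, MulEquiv.symm_apply_apply]
  rfl

/-- Let F be a saturated fusion system over a finite p-group S and E a subsystem of F over a subgroup T that is strongly closed in F. Then E is invariant in F (invariance under Aut_F(T) plus the Frattini condition) if and only if the strong invariance condition holds: for P ≤ Q ≤ T, every map φ of E from P into Q and every map ψ of F with source Q, the transported map ψ φ ψ⁻¹ on ψ(P) is a map of E. -/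
theorem invariant_iff_strong {Ω : Type*} [Group Ω] {S : Subgroup Ω} [Finite S] (p : ℕ) [Fact p.Prime] (hS : IsPGroup p S) (F : Cfsg.FusionSystem S) (hF : F.IsSaturated p) {T : Subgroup Ω} (E : Cfsg.FusionSystem T) (hE : E.IsSubsystemOf F) (hT : F.StronglyClosed T) : E.IsInvariantIn F ↔ ∀ (P Q : Subgroup Ω) (hPQ : P ≤ Q) (_ : Q ≤ T) (φ : P →* Ω) (_ : φ ∈ E.Hom P) (hφQ : ∀ x : P, φ x ∈ Q) (ψ : Q →* Ω) (_ : ψ ∈ F.Hom Q), ∃ χ ∈ E.Hom ((P.subgroupOf Q).map ψ), ∀ (x : P) (hx : ψ (Subgroup.inclusion hPQ x) ∈ (P.subgroupOf Q).map ψ), χ ⟨ψ (Subgroup.inclusion hPQ x), hx⟩ = ψ ⟨φ x, hφQ x⟩ := by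
  constructor
  · rintro ⟨-, -, hinv1, hfr⟩ P Q hPQ hQT φ hφ hφQ ψ hψ
    obtain ⟨α, hα, ψ₀, hψ₀, hψe⟩ := hfr Q hQT ψ hψ
    have hψ₀T : ∀ x : Q, ψ₀ x ∈ T := (E.le_of_mem hψ₀).2
    have hψ₀P : ψ₀.comp (Subgroup.inclusion hPQ) ∈ E.Hom P := restrict_mem E hψ₀ hPQ
    have he₀ : IsIso E (MonoidHom.ofInjective (E.injective_of_mem hψ₀P)) := isIso_ofInjective E hψ₀P
    have he₀s := he₀.symm
    have hP₀T : (ψ₀.comp (Subgroup.inclusion hPQ)).range ≤ T := by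
      rintro _ ⟨x, rfl⟩
      exact hψ₀T _
    have hθ₁ : φ.comp (MonoidHom.ofInjective (E.injective_of_mem hψ₀P)).symm.toMonoidHom ∈
        E.Hom (ψ₀.comp (Subgroup.inclusion hPQ)).range :=
      comp_mem' E he₀s hφ (fun x => ((MonoidHom.ofInjective (E.injective_of_mem hψ₀P)).symm x).2)
        (fun x => rfl)
    have hθ : ψ₀.comp ((φ.codRestrict Q hφQ).comp
        (MonoidHom.ofInjective (E.injective_of_mem hψ₀P)).symm.toMonoidHom) ∈
        E.Hom (ψ₀.comp (Subgroup.inclusion hPQ)).range :=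
      comp_mem' E hθ₁ hψ₀ (fun x => hφQ _) (fun x => rfl)
    obtain ⟨χ, hχ, hχe⟩ := hinv1 _ hP₀T _ hθ α hα
    have hsub : ((ψ₀.comp (Subgroup.inclusion hPQ)).range.subgroupOf T).map
        (T.subtype.comp α.toMonoidHom) = (P.subgroupOf Q).map ψ := by
      ext y
      constructor
      · rintro ⟨z, hz, rfl⟩
        obtain ⟨x, hx⟩ := hz
        refine ⟨Subgroup.inclusion hPQ x, Subgroup.mem_subgroupOf.2 x.2, ?_⟩
        rw [hψe _ (hψ₀T _)]
        show ((α ⟨ψ₀ (Subgroup.inclusion hPQ x), _⟩ : T) : Ω) = ((α z : T) : Ω)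
        congr 2
        exact Subtype.ext hx
      · rintro ⟨q, hq, rfl⟩
        refine ⟨⟨ψ₀ q, hψ₀T q⟩, ?_, (hψe q (hψ₀T q)).symm⟩
        refine Subgroup.mem_subgroupOf.2 ⟨⟨q, hq⟩, ?_⟩
        show ψ₀ (Subgroup.inclusion hPQ ⟨q, hq⟩) = ψ₀ q
        congr 1
    refine ⟨χ.comp (Subgroup.inclusion hsub.ge), hom_of_eq_on E hsub hχ (fun y hy hy' => rfl),
      fun x hx => ?_⟩
    have hαeq : ((α ⟨(MonoidHom.ofInjective (E.injective_of_mem hψ₀P) x : _), hP₀T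
        (MonoidHom.ofInjective (E.injective_of_mem hψ₀P) x).2⟩ : T) : Ω) =
        ψ (Subgroup.inclusion hPQ x) := (hψe _ (hψ₀T _)).symm
    have hαx : ((α ⟨(MonoidHom.ofInjective (E.injective_of_mem hψ₀P) x : _), hP₀T
        (MonoidHom.ofInjective (E.injective_of_mem hψ₀P) x).2⟩ : T) : Ω) ∈
        ((ψ₀.comp (Subgroup.inclusion hPQ)).range.subgroupOf T).map (T.subtype.comp α.toMonoidHom) := by
      rw [hαeq, hsub]; exact hx
    have h3 := hχe (MonoidHom.ofInjective (E.injective_of_mem hψ₀P) x) (hψ₀T _) hαx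
    show χ ⟨ψ (Subgroup.inclusion hPQ x), _⟩ = ψ ⟨φ x, hφQ x⟩
    have h4 : (⟨ψ (Subgroup.inclusion hPQ x), hsub.ge hx⟩ :
        ((ψ₀.comp (Subgroup.inclusion hPQ)).range.subgroupOf T).map (T.subtype.comp α.toMonoidHom)) =
        ⟨_, hαx⟩ := Subtype.ext hαeq.symm
    refine (congrArg χ h4).trans (h3.trans ?_)
    rw [hψe _ (hψ₀T _)]
    congr 2
    apply Subtype.ext
    show ψ₀ ⟨φ ((MonoidHom.ofInjective (E.injective_of_mem hψ₀P)).symm
      (MonoidHom.ofInjective (E.injective_of_mem hψ₀P) x)), _⟩ = ψ₀ ⟨φ x, hφQ x⟩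
    congr 2
    rw [MulEquiv.symm_apply_apply]
  · intro hSI
    exact ⟨hE, hT, invClause_of_SI E F hT.1 hSI,
      fun P hPT φ hφ => frattini_of_SI E F hS hF hT hSI P hPT φ hφ⟩

end Cfsg.Agent.Lib.Helper88.Invariance
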