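import Cfsg.Agent.Lib.Helper87.FusionCore
import Cfsg.Agent.Lib.Helper87.FusionSat
import Mathlib

/-!
The subsystem `N_F(S)` of maps that are restrictions of elements of `Aut_F(S)`, and the criterion
`F ≤ N_F(S) → S` is normal in `F`.
-/

set_option autoImplicit false

namespace Cfsg.Agent.Lib.Helper88

open Cfsg Cfsg.FusionSystem
open Cfsg.Agent.Lib.Helper87

variable {Ω : Type*} [Group Ω] {S : Subgroup Ω}

/-- The fusion system of restrictions of elements of `Aut_F(S)`. -/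
def autRestrictSystem (F : FusionSystem S) : FusionSystem S where
  Hom P := {φ | ∃ (hP : P ≤ S) (α : MulAut S), α ∈ F.autGroup S ∧ ∀ x : P, φ x = α ⟨x, hP x.2⟩}
  le_of_mem := by
    rintro P φ ⟨hP, α, -, hα⟩
    exact ⟨hP, fun x => by rw [hα]; exact (α _).2⟩
  injective_of_mem := by
    rintro P φ ⟨hP, α, -, hα⟩ a b hab
    rw [hα, hα] at hab
    have := α.injective (Subtype.ext hab)
    exact Subtype.ext (congrArg (fun z : S => (z : Ω)) this)
  conj_mem := by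
    intro P g hP hg
    refine ⟨hP, MulAut.conj (⟨g, hg⟩ : S), ?_, fun x => rfl⟩
    apply autInducedBy_le_autGroup F le_rfl
    rw [mem_autInducedBy_iff]
    exact ⟨g, hg, fun x => rfl⟩
  comp_mem := by
    rintro P Q φ ψ ⟨hP, α, hα, hαx⟩ ⟨hQ, β, hβ, hβx⟩ h
    refine ⟨hP, β * α, (F.autGroup S).mul_mem hβ hα, fun x => ?_⟩
    show ψ ⟨φ x, h x⟩ = _
    rw [hβx]
    show ((β ⟨φ x, _⟩ : S) : Ω) = ((β (α ⟨x, _⟩) : S) : Ω)
    congr 2
    apply Subtype.ext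
    exact hαx x
  inv_mem := by
    rintro P φ ⟨hP, α, hα, hαx⟩
    have hr : φ.range ≤ S := by
      rintro _ ⟨x, rfl⟩
      rw [hαx]; exact (α _).2
    refine ⟨(S.subtype.comp (α⁻¹).toMonoidHom).comp (Subgroup.inclusion hr),
      ⟨hr, α⁻¹, (F.autGroup S).inv_mem hα, fun x => rfl⟩, fun x => ?_⟩
    show ((α⁻¹ ⟨φ x, _⟩ : S) : Ω) = x
    have : (⟨φ x, hr ⟨x, rfl⟩⟩ : S) = α ⟨x, hP x.2⟩ := Subtype.ext (hαx x)
    rw [this, MulAut.inv_apply_self]

theorem mem_autRestrictSystem_hom (F : FusionSystem S) {P : Subgroup Ω} {φ : P →* Ω} :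
    φ ∈ (autRestrictSystem F).Hom P ↔
      ∃ (hP : P ≤ S) (α : MulAut S), α ∈ F.autGroup S ∧ ∀ x : P, φ x = α ⟨x, hP x.2⟩ := Iff.rfl

/-- elements of `Aut_F(S)` are isomorphisms of the restriction system -/
theorem isIso_autRestrictSystem (F : FusionSystem S) {α : MulAut S} (hα : α ∈ F.autGroup S) :
    IsIso (autRestrictSystem F) (α : S ≃* S) :=
  ⟨le_rfl, α, hα, fun _ => rfl⟩

/-- If every map of `F` is the restriction of an element of `Aut_F(S)`, then `S` is normal in `F`. -/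
theorem isNormal_top_of_le_autRestrictSystem (F : FusionSystem S)
    (h : ∀ P : Subgroup Ω, F.Hom P ⊆ (autRestrictSystem F).Hom P) : F.IsNormal S := by
  refine ⟨le_rfl, fun P φ hφ => ?_⟩
  obtain ⟨hP, α, hα, hαx⟩ := h P hφ
  have hle : P ⊔ S ≤ S := sup_le hP le_rfl
  have hαF : S.subtype.comp (α : S ≃* S).toMonoidHom ∈ F.Hom S := (mem_autGroup_iff F le_rfl).1 hα
  refine ⟨_, restrict_mem F hαF hle, fun x => (hαx x).symm, ?_⟩
  apply le_antisymm
  · rintro _ ⟨y, -, rfl⟩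
    exact (α _).2
  · intro s hs
    have hmem : ((α.symm ⟨s, hs⟩ : S) : Ω) ∈ P ⊔ S :=
      (le_sup_right : S ≤ P ⊔ S) (α.symm ⟨s, hs⟩).2
    refine ⟨⟨(α.symm ⟨s, hs⟩ : S), hmem⟩, ?_, ?_⟩
    · show _ ∈ S.subgroupOf (P ⊔ S)
      rw [Subgroup.mem_subgroupOf]
      exact (α.symm ⟨s, hs⟩).2
    · show ((α (Subgroup.inclusion hle ⟨(α.symm ⟨s, hs⟩ : S), hmem⟩) : S) : Ω) = s
      have : Subgroup.inclusion hle ⟨((α.symm ⟨s, hs⟩ : S) : Ω), hmem⟩
          = α.symm ⟨s, hs⟩ := Subtype.ext rfl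
      rw [this, MulEquiv.apply_symm_apply]

end Cfsg.Agent.Lib.Helper88
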