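import Mathlib
import Cfsg.Agent.Lib.Helper20.ReeM.Defs

/-! # REEM-[CP] (helper88, for helper20's project REEM = S2113): coordinate bookkeeping for a pairing -/

set_option autoImplicit false

open Cfsg.Agent.Lib.Helper20.ReeM

namespace Cfsg.Agent.Lib.Helper88.ReeM

/-- REEM-[CP] -/
theorem cp {P : Type*} [Group P] {A : Type*} [CommGroup A] {F : Type*} [Field F] :
    CPStmt P A F := by
  intro X Y X₀ Y₀ B πX πY hXadd hYadd hXsurj hYsurj hX0 hY0 hBl hBr hB0l hB0r φ hφX hφY cX cY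
    hπXφ hπYφ hBφ hpair
  have hX1 : πX 1 = 0 := by
    have := hXadd 1 X.one_mem 1 X.one_mem
    rw [one_mul] at this
    exact left_eq_add.mp this
  have hY1 : πY 1 = 0 := by
    have := hYadd 1 Y.one_mem 1 Y.one_mem
    rw [one_mul] at this
    exact left_eq_add.mp this
  have hXinv : ∀ x ∈ X, πX x⁻¹ = - πX x := by
    intro x hx
    have := hXadd x⁻¹ (X.inv_mem hx) x hx
    rw [inv_mul_cancel, hX1] at this
    exact eq_neg_of_add_eq_zero_left this.symm
  have hYinv : ∀ y ∈ Y, πY y⁻¹ = - πY y := by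
    intro y hy
    have := hYadd y⁻¹ (Y.inv_mem hy) y hy
    rw [inv_mul_cancel, hY1] at this
    exact eq_neg_of_add_eq_zero_left this.symm
  have keyX : ∀ x ∈ X, ∀ x' ∈ X, πX x = πX x' → ∀ y ∈ Y, B x' y = B x y := by
    intro x hx x' hx' h y hy
    have hq : x⁻¹ * x' ∈ X := X.mul_mem (X.inv_mem hx) hx'
    have hq0 : x⁻¹ * x' ∈ X₀ := by
      rw [← hX0 _ hq, hXadd _ (X.inv_mem hx) _ hx', hXinv x hx, h]
      ring
    have e : B x' y = B (x * (x⁻¹ * x')) y := by rw [mul_inv_cancel_left]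
    rw [e, hBl x hx _ hq y hy, hB0l _ hq0 y hy, mul_one]
  have keyY : ∀ x ∈ X, ∀ y ∈ Y, ∀ y' ∈ Y, πY y = πY y' → B x y' = B x y := by
    intro x hx y hy y' hy' h
    have hq : y⁻¹ * y' ∈ Y := Y.mul_mem (Y.inv_mem hy) hy'
    have hq0 : y⁻¹ * y' ∈ Y₀ := by
      rw [← hY0 _ hq, hYadd _ (Y.inv_mem hy) _ hy', hYinv y hy, h]
      ring
    have e : B x y' = B x (y * (y⁻¹ * y')) := by rw [mul_inv_cancel_left]
    rw [e, hBr x hx y hy _ hq, hB0r x hx _ hq0, mul_one]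
  choose gX hgX using hXsurj
  choose gY hgY using hYsurj
  have hBi : BiAdd (fun t u => B (gX t) (gY u)) := by
    refine ⟨fun t t' u => ?_, fun t u u' => ?_⟩
    · show B (gX (t + t')) (gY u) = B (gX t) (gY u) * B (gX t') (gY u)
      have h1 := keyX (gX t * gX t') (X.mul_mem (hgX t).1 (hgX t').1) (gX (t + t')) (hgX _).1
        (by rw [hXadd _ (hgX t).1 _ (hgX t').1, (hgX t).2, (hgX t').2, (hgX (t + t')).2])
        (gY u) (hgY u).1
      rw [h1, hBl _ (hgX t).1 _ (hgX t').1 _ (hgY u).1]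
    · show B (gX t) (gY (u + u')) = B (gX t) (gY u) * B (gX t) (gY u')
      have h1 := keyY (gX t) (hgX t).1 (gY u * gY u') (Y.mul_mem (hgY u).1 (hgY u').1)
        (gY (u + u')) (hgY _).1
        (by rw [hYadd _ (hgY u).1 _ (hgY u').1, (hgY u).2, (hgY u').2, (hgY (u + u')).2])
      rw [h1, hBr _ (hgX t).1 _ (hgY u).1 _ (hgY u').1]
  have hinv : ∀ t u, (fun t u => B (gX t) (gY u)) (cX * t) (cY * u)
      = (fun t u => B (gX t) (gY u)) t u := by
    intro t u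
    show B (gX (cX * t)) (gY (cY * u)) = B (gX t) (gY u)
    have h1 := keyX (φ (gX t)) (hφX _ (hgX t).1) (gX (cX * t)) (hgX _).1
      (by rw [hπXφ _ (hgX t).1, (hgX t).2, (hgX (cX * t)).2]) (gY (cY * u)) (hgY _).1
    have h2 := keyY (φ (gX t)) (hφX _ (hgX t).1) (φ (gY u)) (hφY _ (hgY u).1)
      (gY (cY * u)) (hgY _).1
      (by rw [hπYφ _ (hgY u).1, (hgY u).2, (hgY (cY * u)).2])
    rw [h1, h2, hBφ _ (hgX t).1 _ (hgY u).1]
  have hf := hpair _ hBi hinv
  intro x hx y hy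
  have h1 := keyX (gX (πX x)) (hgX _).1 x hx (hgX _).2 y hy
  have h2 := keyY (gX (πX x)) (hgX _).1 (gY (πY y)) (hgY _).1 y hy (hgY _).2
  rw [h1, h2]
  exact hf (πX x) (πY y)

end Cfsg.Agent.Lib.Helper88.ReeM
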