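import Mathlib
import Cfsg.Agent.Lib.Helper20.ReeM.Defs

/-! # REEM-[P13] (helper88, for helper20's project REEM = S2113): the pairing lemma with weights `(1, 2+n)` -/

set_option autoImplicit false

open Cfsg.Agent.Lib.Helper20.ReeM

namespace Cfsg.Agent.Lib.Helper88.ReeM

variable {F : Type*} [Field F] [Fintype F] [CharP F 3] {m : ℕ} {A : Type*} [CommGroup A]

/-- REEM-[P13] -/
theorem pair13 (hm : 1 ≤ m) (hF : Fintype.card F = 3 ^ (2 * m + 1)) (a : F)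
    (hgen : ∀ u : F, u ≠ 0 → ∃ j : ℕ, a ^ j = u) : PairStmt F A a 1 (2 + 3 * 3 ^ m) := by
  classical
  intro f hBi hinv
  obtain ⟨N, hN⟩ : ∃ N : ℕ, N = 3 * 3 ^ m := ⟨_, rfl⟩
  rw [← hN] at hinv
  have hodd : Odd N := by
    rw [hN]; exact (by norm_num : Odd 3).mul ((by norm_num : Odd 3).pow)
  haveI : Fact (Nat.Prime 3) := ⟨Nat.prime_three⟩
  have hfrob : ∀ y : F, (y + 1) ^ N = y ^ N + 1 := by
    intro y
    rw [hN, ← pow_succ', add_pow_char_pow, one_pow]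
  have hf0l : ∀ u, f 0 u = 1 := by
    intro u
    have := hBi.1 0 0 u
    rw [add_zero] at this
    exact left_eq_mul.mp this
  have hf0r : ∀ t, f t 0 = 1 := by
    intro t
    have := hBi.2 t 0 0
    rw [add_zero] at this
    exact left_eq_mul.mp this
  have hpow : ∀ k : ℕ, ∀ t u, f (a ^ k * t) ((a ^ k) ^ (2 + N) * u) = f t u := by
    intro k
    induction k with
    | zero => intro t u; simp
    | succ k ih =>
      intro t u
      have e1 : a ^ (k + 1) * t = a ^ 1 * (a ^ k * t) := by rw [pow_succ, pow_one]; ring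
      have e2 : (a ^ (k + 1)) ^ (2 + N) * u = a ^ (2 + N) * ((a ^ k) ^ (2 + N) * u) := by
        rw [pow_succ, mul_pow]; ring
      rw [e1, e2, hinv, ih]
  have hw : ∀ w : F, w ≠ 0 → ∀ t u, f (w * t) (w ^ (2 + N) * u) = f t u := by
    intro w hw0 t u
    obtain ⟨j, rfl⟩ := hgen w hw0
    exact hpow j t u
  have hrep : ∀ t : F, t ≠ 0 → ∀ u, f t u = f 1 (u * (t ^ (2 + N))⁻¹) := by
    intro t ht u
    have h := hw t ht 1 (u * (t ^ (2 + N))⁻¹)
    have hne : t ^ (2 + N) ≠ 0 := pow_ne_zero _ ht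
    have e : t ^ (2 + N) * (u * (t ^ (2 + N))⁻¹) = u := by
      rw [mul_comm u, mul_inv_cancel_left₀ hne]
    rw [mul_one, e] at h
    exact h
  have hℓadd : ∀ s s', f 1 (s + s') = f 1 s * f 1 s' := hBi.2 1
  have hℓneg : ∀ s, f 1 (-s) = (f 1 s)⁻¹ := by
    intro s
    have := hℓadd s (-s)
    rw [add_neg_cancel, hf0r] at this
    exact eq_inv_of_mul_eq_one_right this.symm
  have hstep : ∀ y : F, y ≠ 0 → y + 1 ≠ 0 →
      y ^ (2 + N) - (y + 1) ^ (2 + N) - y ^ (2 + N) * (y + 1) ^ (2 + N) ≠ 0 →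
      ∀ s, f 1 s = 1 := by
    intro y hy hy1 hE s
    have hY0 : y ^ (2 + N) ≠ 0 := pow_ne_zero _ hy
    have hY1 : (y + 1) ^ (2 + N) ≠ 0 := pow_ne_zero _ hy1
    have hA : ((y + 1) ^ (2 + N))⁻¹ * (y + 1) ^ (2 + N) = 1 := inv_mul_cancel₀ hY1
    have hB : (y ^ (2 + N))⁻¹ * y ^ (2 + N) = 1 := inv_mul_cancel₀ hY0
    have hD : ((y + 1) ^ (2 + N))⁻¹ - (y ^ (2 + N))⁻¹ - 1 ≠ 0 := by
      have : ((y + 1) ^ (2 + N))⁻¹ - (y ^ (2 + N))⁻¹ - 1
          = (y ^ (2 + N) - (y + 1) ^ (2 + N) - y ^ (2 + N) * (y + 1) ^ (2 + N))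
            / (y ^ (2 + N) * (y + 1) ^ (2 + N)) := by
        rw [eq_div_iff (mul_ne_zero hY0 hY1)]
        linear_combination (y ^ (2 + N)) * hA - ((y + 1) ^ (2 + N)) * hB
      rw [this]
      exact div_ne_zero hE (mul_ne_zero hY0 hY1)
    obtain ⟨u, hu⟩ : ∃ u : F, u * (((y + 1) ^ (2 + N))⁻¹ - (y ^ (2 + N))⁻¹ - 1) = s :=
      ⟨s * (((y + 1) ^ (2 + N))⁻¹ - (y ^ (2 + N))⁻¹ - 1)⁻¹, by
        rw [mul_assoc, inv_mul_cancel₀ hD, mul_one]⟩
    have h1 : f (y + 1) u = f y u * f 1 u := hBi.1 y 1 u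
    rw [hrep (y + 1) hy1 u, hrep y hy u] at h1
    have hs : s = u * ((y + 1) ^ (2 + N))⁻¹ + (-(u * (y ^ (2 + N))⁻¹) + -u) := by
      rw [← hu]; ring
    rw [hs, hℓadd, hℓadd, hℓneg, hℓneg, h1, mul_mul_mul_comm, mul_inv_cancel, mul_inv_cancel,
      one_mul]
  have hfin : (∀ s, f 1 s = 1) → ∀ t u, f t u = 1 := by
    intro hℓ t u
    by_cases ht : t = 0
    · rw [ht]; exact hf0l u
    · rw [hrep t ht u]; exact hℓ _
  -- the field facts
  have hcard : 3 < Fintype.card F := by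
    rw [hF]
    calc 3 = 3 ^ 1 := by norm_num
      _ < 3 ^ (2 * m + 1) := Nat.pow_lt_pow_right (by norm_num) (by omega)
  obtain ⟨x, hx⟩ : ∃ x : F, x ∉ ({0, 1, -1} : Finset F) := by
    by_contra h
    have h' : ∀ x : F, x ∈ ({0, 1, -1} : Finset F) := fun x => by
      by_contra hx; exact h ⟨x, hx⟩
    have hsub : (Finset.univ : Finset F) ⊆ {0, 1, -1} := fun x _ => h' x
    have h1 := Finset.card_le_card hsub
    rw [Finset.card_univ] at h1
    have h3 : ({0, 1, -1} : Finset F).card ≤ 3 := Finset.card_le_three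
    omega
  simp only [Finset.mem_insert, Finset.mem_singleton, not_or] at hx
  obtain ⟨hx0, hx1, hxm1⟩ := hx
  have hnsq : ¬ IsSquare (-1 : F) := by
    rw [FiniteField.isSquare_neg_one_iff]
    have h9 : 9 ^ m % 4 = 1 := by rw [Nat.pow_mod]; norm_num
    have e : 3 ^ (2 * m + 1) = 3 * 9 ^ m := by rw [pow_succ, pow_mul]; norm_num [mul_comm]
    have : Fintype.card F % 4 = 3 := by
      rw [hF, e, Nat.mul_mod, h9]
    exact fun h => h this
  have h2 : (2 : F) ≠ 0 := by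
    intro h
    have h' : ((2 : ℕ) : F) = 0 := by exact_mod_cast h
    rw [CharP.cast_eq_zero_iff F 3] at h'
    omega
  by_cases hE : x ^ (2 + N) - (x + 1) ^ (2 + N) - x ^ (2 + N) * (x + 1) ^ (2 + N) ≠ 0
  · exact hfin (hstep x hx0 (fun h => hxm1 (eq_neg_of_add_eq_zero_left h)) hE)
  by_cases hE' : (-x) ^ (2 + N) - (-x + 1) ^ (2 + N) - (-x) ^ (2 + N) * (-x + 1) ^ (2 + N) ≠ 0
  · exact hfin (hstep (-x) (neg_ne_zero.mpr hx0)
      (fun h => hx1 (by linear_combination -h)) hE')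
  exfalso
  have hEx := not_not.mp hE
  have hEmx := not_not.mp hE'
  have p1 : x ^ (2 + N) = x ^ 2 * x ^ N := pow_add x 2 N
  have p2 : (x + 1) ^ (2 + N) = (x + 1) ^ 2 * (x ^ N + 1) := by rw [pow_add, hfrob]
  have p3 : (-x) ^ (2 + N) = x ^ 2 * (-(x ^ N)) := by rw [pow_add, hodd.neg_pow, neg_sq]
  have p4 : (-x + 1) ^ (2 + N) = (-x + 1) ^ 2 * (-(x ^ N) + 1) := by
    rw [pow_add, hfrob, hodd.neg_pow]
  rw [p1, p2] at hEx
  rw [p3, p4] at hEmx
  have key : 2 * (x * x ^ N + 1) ^ 2 * (x ^ 2 + 1) = 0 := by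
    linear_combination (-1 : F) * hEx - hEmx
  have hx21 : x ^ 2 + 1 ≠ 0 := by
    intro h
    exact hnsq ⟨x, by linear_combination (-1 : F) * h⟩
  have hxs : x * x ^ N + 1 = 0 := by
    rcases mul_eq_zero.mp key with h | h
    · rcases mul_eq_zero.mp h with h | h
      · exact absurd h h2
      · exact (pow_eq_zero_iff (by norm_num)).mp h
    · exact absurd h hx21
  obtain ⟨k, hk⟩ := hodd.add_odd odd_one
  have hsq : x * x ^ N = x ^ k * x ^ k := by
    rw [← pow_succ', ← pow_add, hk]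
  exact hnsq ⟨x ^ k, by linear_combination (-1 : F) * hxs + hsq⟩

end Cfsg.Agent.Lib.Helper88.ReeM
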