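/-
helper88: module PF10V-[P3] for helper46: a non-abelian group of order `p ^ 3` has derived subgroup of index `p ^ 2`.
(The first lemma is a Mathlib-only copy of `card_center_of_nonab_cube` of `Lib/Helper87/PearlNonab.lean`.)
-/
import Mathlib

set_option autoImplicit false

namespace Cfsg.Agent.Lib.Helper88.PF10V

open scoped commutatorElement

section Cube

variable {E : Type*} [Group E] [Finite E] {p : ℕ} [hp : Fact p.Prime]

/-- The centre of a nonabelian group of order `p ^ 3` has order `p`. -/
theorem card_center_of_nonab_cube' (hc : Nat.card E = p ^ 3) (hna : ¬ IsMulCommutative E) :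
    Nat.card (Subgroup.center E) = p := by
  have hp1 := hp.out.one_lt
  have hE : IsPGroup p E := IsPGroup.of_card hc
  have hnt : Nontrivial E := by
    apply (Finite.one_lt_card_iff_nontrivial).mp
    rw [hc]; exact Nat.one_lt_pow (by norm_num) hp1
  have hZnt := hE.center_nontrivial
  have h1 : Nat.card (Subgroup.center E) ∣ p ^ 3 := by
    rw [← hc]; exact Subgroup.card_subgroup_dvd_card _
  obtain ⟨k, hk, hkc⟩ := (Nat.dvd_prime_pow hp.out).mp h1
  have hidx : Nat.card (E ⧸ Subgroup.center E) * p ^ k = p ^ 3 := by
    rw [← hkc, ← hc, ← Subgroup.index_eq_card, mul_comm]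
    exact Subgroup.card_mul_index _
  interval_cases k
  · exfalso
    rw [pow_zero] at hkc
    have := (Nat.card_eq_one_iff_unique.mp hkc).1
    exact not_subsingleton _ this
  · simpa using hkc
  · exfalso
    have h2 : Nat.card (E ⧸ Subgroup.center E) = p := by
      have : Nat.card (E ⧸ Subgroup.center E) * p ^ 2 = p * p ^ 2 := by rw [hidx]; ring
      exact Nat.eq_of_mul_eq_mul_right (by positivity) this
    have hcyc : IsCyclic (E ⧸ Subgroup.center E) := isCyclic_of_prime_card h2
    apply hna
    exact MonoidHom.isMulCommutative_of_isCyclic_of_ker_le_center (QuotientGroup.mk' (Subgroup.center E))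
      (by rw [QuotientGroup.ker_mk'])
  · exfalso
    have h2 : Subgroup.center E = ⊤ := by
      apply Subgroup.eq_top_of_card_eq
      rw [hkc, hc]
    apply hna
    refine ⟨⟨fun a b => ?_⟩⟩
    have : b ∈ Subgroup.center E := by rw [h2]; exact Subgroup.mem_top b
    exact (Subgroup.mem_center_iff.mp this a)

/-- The derived subgroup of a nonabelian group of order `p ^ 3` has index `p ^ 2`. -/
theorem index_commutator_of_card_cube (hc : Nat.card E = p ^ 3) (hnab : commutator E ≠ ⊥) :
    (commutator E).index = p ^ 2 := by
  have hppos : 0 < p := hp.out.pos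
  have hna : ¬ IsMulCommutative E := by
    intro hcomm
    apply hnab
    rw [commutator_def, Subgroup.commutator_eq_bot_iff_le_centralizer]
    intro a _
    rw [Subgroup.mem_centralizer_iff]
    intro b _
    exact hcomm.is_comm.comm b a
  have hZ := card_center_of_nonab_cube' hc hna
  have hq : Nat.card (E ⧸ Subgroup.center E) = p ^ 2 := by
    have h1 : Nat.card (E ⧸ Subgroup.center E) * p = p ^ 2 * p := by
      have := Subgroup.card_mul_index (Subgroup.center E)
      rw [hZ, hc, Subgroup.index_eq_card] at this
      rw [mul_comm, this]; ring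
    exact Nat.eq_of_mul_eq_mul_right hppos h1
  have hqc : ∀ a b : E ⧸ Subgroup.center E, a * b = b * a := fun a b =>
    (IsPGroup.isMulCommutative_of_card_eq_prime_sq hq).is_comm.comm a b
  have hle : commutator E ≤ Subgroup.center E := by
    rw [commutator_def, Subgroup.commutator_le]
    intro a _ b _
    rw [← QuotientGroup.eq_one_iff]
    have h2 : ((⁅a, b⁆ : E) : E ⧸ Subgroup.center E) = ⁅(a : E ⧸ Subgroup.center E), (b : E ⧸ Subgroup.center E)⁆ := rfl
    rw [h2, commutatorElement_eq_one_iff_mul_comm]
    exact hqc _ _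
  have hd : Nat.card (commutator E) ∣ p := by
    rw [← hZ]
    exact Subgroup.card_dvd_of_le hle
  have hcard : Nat.card (commutator E) = p := by
    rcases (Nat.dvd_prime hp.out).1 hd with h1 | h1
    · exfalso
      apply hnab
      exact Subgroup.card_eq_one.1 h1
    · exact h1
  have h3 := Subgroup.card_mul_index (commutator E)
  rw [hcard, hc] at h3
  have h4 : p * (commutator E).index = p * p ^ 2 := by rw [h3]; ring
  exact Nat.eq_of_mul_eq_mul_left hppos h4

end Cube

/-- [PF10V-P3] a non-abelian subgroup `H` of order `p ^ 3` has `|H : H'| = p ^ 2`. -/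
theorem relIndex_commutator_of_card_cube {G : Type*} [Group G] {p : ℕ} (hp : p.Prime) (H : Subgroup G)
    (hc : Nat.card H = p ^ 3) (hnab : ⁅H, H⁆ ≠ ⊥) : (⁅H, H⁆).relIndex H = p ^ 2 := by
  haveI : Fact p.Prime := ⟨hp⟩
  haveI : Finite ↥H := by
    apply Nat.finite_of_card_ne_zero
    rw [hc]
    exact pow_ne_zero _ hp.pos.ne'
  have hmap : (commutator ↥H).map H.subtype = ⁅H, H⁆ := Subgroup.map_subtype_commutator H
  have hsub : (⁅H, H⁆).subgroupOf H = commutator ↥H := by
    rw [← hmap]
    exact Subgroup.comap_map_eq_self_of_injective H.subtype_injective _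
  have hne : commutator ↥H ≠ ⊥ := by
    intro h0
    apply hnab
    rw [← hmap, h0, Subgroup.map_bot]
  have := index_commutator_of_card_cube hc hne
  rw [← hsub] at this
  exact this

end Cfsg.Agent.Lib.Helper88.PF10V
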