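import Mathlib

/-!
Project LS (statement S5286, Leary--Stancu): definitions.

Data: groups `S₀`, `K`, a homomorphism `lam : S₀ →* K`, an index type `I`, for each `i : I` a subgroup
`A i` of `S₀` and a homomorphism `e i : A i →* S₀`, and elements `tau i : K`.

From these we build the alphabet `Y` (disjoint union of the coset spaces `K ⧸ lam (e i (A i))`), the
semidirect product `M = FreeGroup Y ⋊ K` (with `K` permuting the basis), the elements `T i = (y_i, tau i)`
and the subgroup `Gsub` of `M` generated by `lam S₀` and the `T i`.
-/

set_option autoImplicit false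

namespace Cfsg.Agent.Lib.Helper88.LS

universe u

noncomputable section
variable {S₀ K I : Type u} [Group S₀] [Group K]
variable (lam : S₀ →* K) {A : I → Subgroup S₀} (e : ∀ i, A i →* S₀) (tau : I → K)

/-- The stabilizer of the `i`-th base letter: `lam (e i (A i))`. -/
def Hsub (i : I) : Subgroup K := ((e i).range).map lam

/-- The alphabet: the disjoint union of the coset spaces `K ⧸ Hsub i`, with `K` acting by left translation. -/
abbrev Y : Type u := Σ i : I, K ⧸ Hsub lam e i

/-- The action of `K` on the free group on `Y`, permuting the basis. -/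
def act : K →* MulAut (FreeGroup (Y lam e)) where
  toFun k := FreeGroup.freeGroupCongr (MulAction.toPerm k)
  map_one' := by
    apply MulEquiv.toMonoidHom_injective
    apply FreeGroup.ext_hom
    intro y
    simp
  map_mul' k₁ k₂ := by
    apply MulEquiv.toMonoidHom_injective
    apply FreeGroup.ext_hom
    intro y
    simp [mul_smul]

theorem act_of (k : K) (y : Y lam e) : act lam e k (FreeGroup.of y) = FreeGroup.of (k • y) := by
  simp [act]

/-- The ambient group `FreeGroup Y ⋊ K`. -/
abbrev M : Type u := SemidirectProduct (FreeGroup (Y lam e)) K (act lam e)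

/-- The `i`-th base letter: the trivial coset in `K ⧸ Hsub i`. -/
def yl (i : I) : Y lam e := ⟨i, ((1 : K) : K ⧸ Hsub lam e i)⟩

/-- The `i`-th stable letter `(y_i, tau i)`. -/
def T (i : I) : M lam e := ⟨FreeGroup.of (yl lam e i), tau i⟩

/-- The Leary--Stancu group: generated inside `M` by `lam S₀` and the stable letters. -/
def Gsub : Subgroup (M lam e) :=
  Subgroup.closure (Set.range (fun s : S₀ => (SemidirectProduct.inr (lam s) : M lam e)) ∪
    Set.range (T lam e tau))

/-- The embedding of `S₀` in the Leary--Stancu group. -/
def iota : S₀ →* Gsub lam e tau :=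
  ((SemidirectProduct.inr : K →* M lam e).comp lam).codRestrict _
    (fun s => Subgroup.subset_closure (Or.inl ⟨s, rfl⟩))

/-- The elementary step `lam s * T i` (`ε = true`) or `lam s * (T i)⁻¹` (`ε = false`). -/
def E (s : S₀) (i : I) (ε : Bool) : M lam e :=
  SemidirectProduct.inr (lam s) * (if ε then T lam e tau i else (T lam e tau i)⁻¹)

/-- The letter (with sign) of the elementary step: `(E s i ε).left = FreeGroup.mk [letE s i ε]`. -/
def letE (s : S₀) (i : I) (ε : Bool) : Y lam e × Bool :=
  if ε then (lam s • yl lam e i, true) else ((lam s * (tau i)⁻¹) • yl lam e i, false)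

/-- Elements with a normal form: `lam s`, or `E s i ε * g` with `g` good and no cancellation. -/
inductive Good [DecidableEq (Y lam e)] : M lam e → Prop
  | base (s : S₀) : Good (SemidirectProduct.inr (lam s))
  | step (s : S₀) (i : I) (ε : Bool) (g : M lam e) : Good g →
      FreeGroup.norm (E lam e tau s i ε * g).left = FreeGroup.norm g.left + 1 →
      Good (E lam e tau s i ε * g)

end

end Cfsg.Agent.Lib.Helper88.LS
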