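import Cfsg.Agent.Lib.Helper88.LSDefs

/-!
Project LS (S5286), module [STEP]: the elementary steps `E s i ε`, the relation `T_rel`, the stabilizer
lemma `E_stab` and the pinch lemma.
-/

set_option autoImplicit false

namespace Cfsg.Agent.Lib.Helper88.LS

universe u
open SemidirectProduct

noncomputable section
variable {S₀ K I : Type u} [Group S₀] [Group K]
variable (lam : S₀ →* K) {A : I → Subgroup S₀} (e : ∀ i, A i →* S₀) (tau : I → K)

theorem act_mk' (k : K) (L : List (Y lam e × Bool)) :
    act lam e k (FreeGroup.mk L) = FreeGroup.mk (L.map (fun p => (k • p.1, p.2))) := by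
  simp [act, FreeGroup.freeGroupCongr]

theorem smul_yl_iff (i : I) (k : K) : k • yl lam e i = yl lam e i ↔ k ∈ Hsub lam e i := by
  unfold yl
  rw [Sigma.smul_mk]
  constructor
  · intro h
    have h2 := eq_of_heq (Sigma.mk.inj h).2
    rw [MulAction.Quotient.smul_mk, QuotientGroup.eq] at h2
    have h3 := (Hsub lam e i).inv_mem h2
    simpa using h3
  · intro h
    congr 1
    rw [MulAction.Quotient.smul_mk, QuotientGroup.eq]
    have h3 := (Hsub lam e i).inv_mem h
    simpa using h3

theorem smul_yl_eq (i j : I) (k₁ k₂ : K) (h : k₁ • yl lam e i = k₂ • yl lam e j) :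
    i = j ∧ (k₂⁻¹ * k₁) ∈ Hsub lam e i := by
  have hij : i = j := congrArg Sigma.fst h
  subst hij
  refine ⟨rfl, ?_⟩
  rw [← smul_yl_iff, mul_smul, h, ← mul_smul, inv_mul_cancel, one_smul]

theorem mem_Hsub_iff (hlam : Function.Injective lam) (i : I) (x : S₀) :
    lam x ∈ Hsub lam e i ↔ ∃ a : A i, e i a = x := by
  unfold Hsub
  rw [Subgroup.mem_map]
  constructor
  · rintro ⟨y, ⟨a, rfl⟩, hy⟩
    exact ⟨a, hlam hy⟩
  · rintro ⟨a, rfl⟩
    exact ⟨e i a, ⟨a, rfl⟩, rfl⟩

theorem conj_mem_Hsub (hlam : Function.Injective lam)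
    (hc : ∀ i (a : A i), tau i * lam a = lam (e i a) * tau i) (i : I) (x : S₀)
    (h : tau i * lam x * (tau i)⁻¹ ∈ Hsub lam e i) : ∃ a : A i, (a : S₀) = x := by
  unfold Hsub at h
  rw [Subgroup.mem_map] at h
  obtain ⟨y, ⟨a, rfl⟩, hy⟩ := h
  refine ⟨a, hlam ?_⟩
  have h1 := hc i a
  have h2 : tau i * lam (a : S₀) = tau i * lam x := by
    rw [h1, hy, inv_mul_cancel_right]
  exact mul_left_cancel h2

theorem E_left (s : S₀) (i : I) (ε : Bool) :
    (E lam e tau s i ε).left = FreeGroup.mk [letE lam e tau s i ε] := by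
  cases ε
  · simp only [E, letE, Bool.false_eq_true, if_false, mul_left, left_inr, one_mul, right_inr,
      inv_left]
    unfold T
    simp only
    rw [FreeGroup.of, FreeGroup.inv_mk, act_mk', act_mk']
    simp [FreeGroup.invRev, mul_smul]
  · simp only [E, letE, if_true, mul_left, left_inr, one_mul, right_inr]
    unfold T
    simp only
    rw [FreeGroup.of, act_mk']
    simp

theorem E_right (s : S₀) (i : I) (ε : Bool) :
    (E lam e tau s i ε).right = lam s * (if ε then tau i else (tau i)⁻¹) := by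
  cases ε
  · simp [E, T]
  · simp [E, T]

theorem E_mem (s : S₀) (i : I) (ε : Bool) : E lam e tau s i ε ∈ Gsub lam e tau := by
  have h1 : (inr (lam s) : M lam e) ∈ Gsub lam e tau :=
    Subgroup.subset_closure (Or.inl ⟨s, rfl⟩)
  have h2 : T lam e tau i ∈ Gsub lam e tau := Subgroup.subset_closure (Or.inr ⟨i, rfl⟩)
  unfold E
  cases ε
  · simpa using (Gsub lam e tau).mul_mem h1 ((Gsub lam e tau).inv_mem h2)
  · simpa using (Gsub lam e tau).mul_mem h1 h2

theorem inr_mul_E (s₀ s : S₀) (i : I) (ε : Bool) :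
    (inr (lam s₀) : M lam e) * E lam e tau s i ε = E lam e tau (s₀ * s) i ε := by
  unfold E
  rw [map_mul, map_mul, mul_assoc]

theorem T_rel (hc : ∀ i (a : A i), tau i * lam a = lam (e i a) * tau i) (i : I) (a : A i) :
    T lam e tau i * inr (lam a) * (T lam e tau i)⁻¹ = inr (lam (e i a)) := by
  have hr : tau i * lam (a : S₀) * (tau i)⁻¹ = lam (e i a) := by
    rw [hc i a, mul_inv_cancel_right]
  have hfix : lam (e i a) • yl lam e i = yl lam e i := by
    rw [smul_yl_iff]
    exact ⟨e i a, ⟨a, rfl⟩, rfl⟩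
  ext
  · simp only [mul_left, mul_right, inv_left, left_inr, right_inr, map_one, mul_one]
    unfold T
    simp only
    rw [← MulAut.mul_apply, ← map_mul, hr, map_inv, act_of, hfix, mul_inv_cancel]
  · simp only [mul_right, inv_right, right_inr]
    exact hr

theorem conj_inr (s u : S₀) :
    (inr (lam s) : M lam e)⁻¹ * inr (lam u) * inr (lam s) = inr (lam (s⁻¹ * u * s)) := by
  simp only [map_mul, map_inv]

theorem E_stab (hlam : Function.Injective lam)
    (hc : ∀ i (a : A i), tau i * lam a = lam (e i a) * tau i)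
    (s : S₀) (i : I) (ε : Bool) (u : S₀)
    (hu : lam u • (letE lam e tau s i ε).1 = (letE lam e tau s i ε).1) :
    ∃ u' : S₀, (E lam e tau s i ε)⁻¹ * inr (lam u) * E lam e tau s i ε = inr (lam u') ∧
      (if ε then ∃ a : A i, e i a = s⁻¹ * u * s ∧ u' = a
        else ∃ a : A i, (a : S₀) = s⁻¹ * u * s ∧ u' = e i a) := by
  cases ε
  · simp only [letE, Bool.false_eq_true, if_false] at hu
    have h1 := (smul_yl_eq lam e i i (lam u * (lam s * (tau i)⁻¹)) (lam s * (tau i)⁻¹)
      (by rw [mul_smul]; exact hu)).2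
    have h2 : tau i * lam (s⁻¹ * u * s) * (tau i)⁻¹ ∈ Hsub lam e i := by
      have : tau i * lam (s⁻¹ * u * s) * (tau i)⁻¹ =
          (lam s * (tau i)⁻¹)⁻¹ * (lam u * (lam s * (tau i)⁻¹)) := by
        simp only [map_mul, map_inv, mul_inv_rev, inv_inv]
        group
      rw [this]
      exact h1
    obtain ⟨a, ha⟩ := conj_mem_Hsub lam e tau hlam hc i _ h2
    refine ⟨e i a, ?_, ?_⟩
    · have h3 := T_rel lam e tau hc i a
      have h4 := conj_inr lam e s u
      rw [← ha] at h4
      unfold E
      simp only [Bool.false_eq_true, if_false]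
      rw [← h3, ← h4]
      group
    · rw [if_neg Bool.false_ne_true]
      exact ⟨a, ha, rfl⟩
  · simp only [letE, if_true] at hu
    have h1 := (smul_yl_eq lam e i i (lam u * lam s) (lam s) (by rw [mul_smul]; exact hu)).2
    have h2 : lam (s⁻¹ * u * s) ∈ Hsub lam e i := by
      have : lam (s⁻¹ * u * s) = (lam s)⁻¹ * (lam u * lam s) := by
        simp only [map_mul, map_inv, mul_assoc]
      rw [this]
      exact h1
    obtain ⟨a, ha⟩ := (mem_Hsub_iff lam e hlam i _).mp h2
    refine ⟨a, ?_, ?_⟩
    · have h3 := T_rel lam e tau hc i a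
      have h4 := conj_inr lam e s u
      rw [← ha] at h4
      unfold E
      simp only [if_true]
      have h5 : (inr (lam s) * T lam e tau i)⁻¹ * inr (lam u) * (inr (lam s) * T lam e tau i) =
          (T lam e tau i)⁻¹ * ((inr (lam s))⁻¹ * inr (lam u) * inr (lam s)) * T lam e tau i := by
        group
      rw [h5, h4, ← h3]
      group
    · rw [if_pos rfl]
      exact ⟨a, ha, rfl⟩

theorem pinch (hlam : Function.Injective lam)
    (hc : ∀ i (a : A i), tau i * lam a = lam (e i a) * tau i)
    (j : I) (δ : Bool) (s : S₀) (i : I) (ε : Bool)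
    (h1 : ((E lam e tau 1 j δ).right • (letE lam e tau s i ε).1 = (letE lam e tau 1 j δ).1))
    (h2 : (letE lam e tau s i ε).2 = !(letE lam e tau 1 j δ).2) :
    ∃ s' : S₀, E lam e tau 1 j δ * E lam e tau s i ε = inr (lam s') := by
  rw [E_right] at h1
  cases δ
  · cases ε
    · simp [letE] at h2
    · simp only [letE, if_true, Bool.false_eq_true, if_false, map_one, one_mul] at h1
      obtain ⟨hij, h4⟩ := smul_yl_eq lam e i j ((tau j)⁻¹ * lam s) ((tau j)⁻¹)
        (by rw [mul_smul]; exact h1)
      subst hij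
      have h5 : lam s ∈ Hsub lam e i := by
        simpa [mul_assoc] using h4
      obtain ⟨a, ha⟩ := (mem_Hsub_iff lam e hlam i s).mp h5
      refine ⟨a, ?_⟩
      have h3 := T_rel lam e tau hc i a
      unfold E
      simp only [if_true, Bool.false_eq_true, if_false, map_one, one_mul]
      rw [← ha, ← h3]
      group
  · cases ε
    · simp only [letE, if_true, Bool.false_eq_true, if_false, map_one, one_mul] at h1
      obtain ⟨hij, h4⟩ := smul_yl_eq lam e i j (tau j * (lam s * (tau i)⁻¹)) 1
        (by rw [mul_smul]; exact h1)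
      subst hij
      have h5 : tau i * lam s * (tau i)⁻¹ ∈ Hsub lam e i := by
        simpa [mul_assoc] using h4
      obtain ⟨a, ha⟩ := conj_mem_Hsub lam e tau hlam hc i s h5
      refine ⟨e i a, ?_⟩
      have h3 := T_rel lam e tau hc i a
      unfold E
      simp only [if_true, Bool.false_eq_true, if_false, map_one, one_mul]
      rw [← ha, ← h3]
      group
    · simp [letE] at h2

end

end Cfsg.Agent.Lib.Helper88.LS
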