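/-
helper88: the functor `Z(J(-))` (abelian-version Thompson subgroup) as an isomorphism-invariant `p`-group functor, its
induced map on subgroups (`= Cfsg.centerThompsonAOf`), and the Glauberman-Thompson criterion for fusion systems:
for `p` odd, a saturated fusion system `F` over `S` is `PAut` as soon as `N_F(Z(J(S)))` is (`paut_of_npaut_zj`).
-/
import Cfsg.Agent.Lib.Helper88.FusionNilpFunctor
import Cfsg.Agent.Lib.Helper47.ThompsonA
import Cfsg.Agent.S0659

set_option autoImplicit false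

universe u

namespace Cfsg.Agent.Lib.Helper88.NilpRed

open Cfsg Cfsg.FusionSystem Cfsg.Agent.Lib.Helper87

/-- `Z(J(Q))` inside `Q`, for the abelian-version Thompson subgroup. -/
def zjA (Q : Type u) [Group Q] : Subgroup Q :=
  thompsonSubgroupA Q ⊓ Subgroup.centralizer ((thompsonSubgroupA Q : Subgroup Q) : Set Q)

theorem inducedFunctor_zjA {G : Type u} [Group G] (P : Subgroup G) :
    inducedFunctor zjA P = centerThompsonAOf P := by
  unfold inducedFunctor zjA centerThompsonAOf thompsonSubgroupAOf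
  ext x
  constructor
  · rintro ⟨y, ⟨hyJ, hyC⟩, rfl⟩
    refine ⟨⟨y, hyJ, rfl⟩, ?_⟩
    refine Subgroup.mem_centralizer_iff.2 ?_
    rintro _ ⟨z, hz, rfl⟩
    have := (Subgroup.mem_centralizer_iff.1 hyC) z hz
    exact congrArg (fun t : P => (t : G)) this
  · rintro ⟨⟨y, hyJ, rfl⟩, hC⟩
    refine ⟨y, ⟨hyJ, ?_⟩, rfl⟩
    refine Subgroup.mem_centralizer_iff.2 ?_
    intro z hz
    apply Subtype.ext
    exact (Subgroup.mem_centralizer_iff.1 hC) _ ⟨z, hz, rfl⟩

theorem isCharPFunctor_zjA (p : ℕ) [Fact p.Prime] : IsCharPFunctor.{u} p zjA := by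
  constructor
  · intro Q _ _ hQ hnt
    have hJne : thompsonSubgroupA Q ≠ ⊥ := Cfsg.Agent.Lib.Helper47.thompsonSubgroupA_ne_bot
    have hJnt : Nontrivial ↥(thompsonSubgroupA Q) := (Subgroup.nontrivial_iff_ne_bot _).2 hJne
    have hJp : IsPGroup p ↥(thompsonSubgroupA Q) := hQ.to_subgroup _
    have hc : Nontrivial (Subgroup.center ↥(thompsonSubgroupA Q)) := hJp.center_nontrivial
    obtain ⟨⟨z, hz⟩, hz1⟩ := exists_ne (1 : Subgroup.center ↥(thompsonSubgroupA Q))
    intro h
    have hmem : (z : Q) ∈ zjA Q := by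
      refine ⟨z.2, ?_⟩
      refine Subgroup.mem_centralizer_iff.2 ?_
      intro y hy
      have := (Subgroup.mem_center_iff.1 hz) ⟨y, hy⟩
      exact congrArg (fun t : ↥(thompsonSubgroupA Q) => (t : Q)) this
    rw [h, Subgroup.mem_bot] at hmem
    apply hz1
    apply Subtype.ext
    apply Subtype.ext
    exact hmem
  · intro Q R _ _ _ _ φ
    have hJ := Cfsg.Agent.Lib.Helper47.thompsonSubgroupA_map_equiv φ
    ext x
    constructor
    · rintro ⟨y, ⟨hyJ, hyC⟩, rfl⟩
      refine ⟨hJ ▸ ⟨y, hyJ, rfl⟩, ?_⟩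
      refine Subgroup.mem_centralizer_iff.2 ?_
      intro z' hz'
      rw [SetLike.mem_coe, ← hJ] at hz'
      obtain ⟨z, hz, rfl⟩ := hz'
      have := (Subgroup.mem_centralizer_iff.1 hyC) z hz
      show φ z * φ y = φ y * φ z
      rw [← map_mul, ← map_mul, this]
    · rintro ⟨hxJ, hxC⟩
      rw [← hJ] at hxJ
      obtain ⟨y, hyJ, rfl⟩ := hxJ
      refine ⟨y, ⟨hyJ, ?_⟩, rfl⟩
      refine Subgroup.mem_centralizer_iff.2 ?_
      intro z hz
      have hz' : φ z ∈ thompsonSubgroupA R := hJ ▸ ⟨z, hz, rfl⟩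
      have := (Subgroup.mem_centralizer_iff.1 hxC) _ hz'
      apply φ.injective
      rw [map_mul, map_mul]
      exact this

/-- **Glauberman-Thompson for fusion systems**, in `PAut`/`NPAut` form. -/
theorem paut_of_npaut_zj {p : ℕ} [Fact p.Prime] (hp : p ≠ 2) {Ω : Type u} [Group Ω] {S : Subgroup Ω} [Finite S]
    (hS : IsPGroup p S) (F : FusionSystem S) (hF : F.IsSaturated p)
    (h : NPAut F p (centerThompsonAOf S)) : PAut F p := by
  refine paut_of_wtest (W := zjA) (isCharPFunctor_zjA p) ?_ hS F hF ?_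
  · intro G _ _ P hN
    rw [inducedFunctor_zjA] at hN
    exact Cfsg.Agent.S0659.result hp P hN
  · rw [inducedFunctor_zjA]
    exact h

end Cfsg.Agent.Lib.Helper88.NilpRed
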