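/-
helper88: `p`-nilpotency reductions for saturated fusion systems, part E: minimal non-inner saturated subsystems.
* `morCount`: the number of morphisms of a fusion system over a finite `S`; strictly monotone in the system.
* `castSystem`: transport of a fusion system along an equality of the underlying subgroups.
* `isConstrained_of_normal_aux`: the constrained case of the reduction, without the test on the system itself.
* `exists_constrained_subsystem_zj`: for `p` odd, a saturated fusion system that is not `PAut` contains a saturated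
  constrained subsystem over the same `S` that is not `PAut`.
-/
import Cfsg.Agent.Lib.Helper88.FusionNilpZJ

set_option autoImplicit false

universe u

namespace Cfsg.Agent.Lib.Helper88.NilpRed

open Cfsg Cfsg.FusionSystem Cfsg.Agent.Lib.Helper87

section count

variable {Ω : Type*} [Group Ω] {S : Subgroup Ω}

theorem hom_finite [Finite S] (E : FusionSystem S) (P : Subgroup Ω) : (E.Hom P).Finite := by
  by_cases hP : P ≤ S
  · haveI : Finite P := finite_of_le hP
    have hinj : Function.Injective (fun φ : ↥(E.Hom P) => fun x : P => (⟨(φ : P →* Ω) x, hom_map_mem E φ.2 x⟩ : S)) := by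
      intro φ ψ h
      apply Subtype.ext
      ext x
      exact congrArg (fun t : S => (t : Ω)) (congrFun h x)
    exact Set.finite_coe_iff.1 (Finite.of_injective _ hinj)
  · have : E.Hom P = ∅ := by
      ext φ
      simp only [Set.mem_empty_iff_false, iff_false]
      intro hφ
      exact hP (hom_le E hφ)
    rw [this]
    exact Set.finite_empty

/-- The number of morphisms of a fusion system over a finite `S`. -/
noncomputable def morCount [Finite S] (E : FusionSystem S) : ℕ :=
  ∑ P ∈ (Cfsg.Agent.Lib.Helper85.finite_subgroups_le S).toFinset, (E.Hom P).ncard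

theorem morCount_lt [Finite S] {E' E : FusionSystem S} (hle : ∀ P, E'.Hom P ⊆ E.Hom P)
    (hne : ∃ P, E'.Hom P ≠ E.Hom P) : morCount E' < morCount E := by
  unfold morCount
  obtain ⟨P₀, hP₀⟩ := hne
  apply Finset.sum_lt_sum
  · intro P _
    exact Set.ncard_le_ncard (hle P) (hom_finite E P)
  · have hss : E'.Hom P₀ ⊂ E.Hom P₀ := ⟨hle P₀, fun h => hP₀ (Set.Subset.antisymm (hle P₀) h)⟩
    obtain ⟨φ, hφ, -⟩ := Set.exists_of_ssubset hss
    refine ⟨P₀, ?_, Set.ncard_lt_ncard hss (hom_finite E P₀)⟩
    rw [Set.Finite.mem_toFinset]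
    exact hom_le E hφ

/-- Transport of a fusion system along an equality of subgroups. -/
def castSystem {T T' : Subgroup Ω} (h : T = T') (E : FusionSystem T) : FusionSystem T' := h ▸ E

theorem castSystem_hom {T T' : Subgroup Ω} (h : T = T') (E : FusionSystem T) (P : Subgroup Ω) :
    (castSystem h E).Hom P = E.Hom P := by
  subst h
  rfl

theorem castSystem_isSaturated {T T' : Subgroup Ω} (h : T = T') (E : FusionSystem T) (p : ℕ) :
    (castSystem h E).IsSaturated p ↔ E.IsSaturated p := by
  subst h
  rfl

theorem castSystem_paut {T T' : Subgroup Ω} (h : T = T') (E : FusionSystem T) (p : ℕ) :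
    PAut (castSystem h E) p ↔ PAut E p := by
  subst h
  rfl

end count

variable {p : ℕ} [Fact p.Prime] (Test : ∀ {Ω : Type u} [Group Ω] {S : Subgroup Ω}, FusionSystem S → Prop)

/-- The constrained case of the reduction, without a test on the system itself: if `Q ≠ 1` is normal in the saturated
system `E` over `T` and the normalizer systems of the larger normal subgroups of `T` containing `Q` are `PAut`, then `E` is
constrained. -/
theorem isConstrained_of_normal_aux (H : TestHyp p Test) {Ω : Type u} [Group Ω] {T : Subgroup Ω} [Finite T]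
    (hT : IsPGroup p T) (E : FusionSystem T) (hE : E.IsSaturated p) (Q : Subgroup Ω) (hQ : E.IsNormal Q)
    (hmax : ∀ L : Subgroup Ω, Q ≤ L → Nat.card Q < Nat.card L → L ≤ T → normalizerIn T L = T → NPAut E p L) :
    E.IsConstrained p := by
  have hQT : Q ≤ T := hQ.1
  have hQsc : E.StronglyClosed Q := Cfsg.Agent.Lib.Helper84.stronglyClosed_of_isNormal E hQ
  haveI hn : (Q.subgroupOf T).Normal :=
    ⟨fun n hn g => Subgroup.mem_subgroupOf.2 (StronglyClosed_conj_mem hQsc g.2 (Subgroup.mem_subgroupOf.1 hn))⟩
  have hker : ∀ s : T, QuotientGroup.mk' (Q.subgroupOf T) s = 1 ↔ (s : Ω) ∈ Q := by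
    intro s
    rw [QuotientGroup.mk'_apply, QuotientGroup.eq_one_iff]
    exact Subgroup.mem_subgroupOf
  have hrange : (QuotientGroup.mk' (Q.subgroupOf T)).range = ⊤ :=
    MonoidHom.range_eq_top.2 (QuotientGroup.mk'_surjective _)
  have hĒ := Cfsg.Agent.Lib.Helper85.isFactorSystem_factorSystem E Q hQsc
    (QuotientGroup.mk' (Q.subgroupOf T)) hker hrange
  have hpquot : IsPGroup p (T ⧸ Q.subgroupOf T) := hT.to_quotient _
  have hptop : IsPGroup p (⊤ : Subgroup (T ⧸ Q.subgroupOf T)) := hpquot.to_subgroup _
  have hĒsat := Cfsg.Agent.Lib.Helper85.isSaturated_of_isFactorSystem hT E hE hQsc _ _ hĒ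
  have hPĒ : PAut (Cfsg.Agent.Lib.Helper85.factorSystem E Q hQsc
      (QuotientGroup.mk' (Q.subgroupOf T)) hker hrange) p := by
    by_contra hnot
    have hTnot : ¬ Test (Cfsg.Agent.Lib.Helper85.factorSystem E Q hQsc
        (QuotientGroup.mk' (Q.subgroupOf T)) hker hrange) :=
      fun h => hnot (paut_of_test Test H _ rfl hptop _ hĒsat h)
    obtain ⟨L, hQL, hcardL, hLT, hLN, hLnot⟩ := H.t3 hT E hE Q hQ _ _ hĒ hTnot
    exact hLnot (hmax L hQL hcardL hLT hLN)
  have hQP : QPAut E p Q := qpaut_of_paut_factor E hQsc _ _ hĒ hPĒ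
  exact isConstrained_of_qpaut hT E hE hQ hQP

/-- For `p` odd, a saturated fusion system over a finite `p`-group that is not `PAut` contains a saturated constrained
subsystem over the same group that is not `PAut`. -/
theorem exists_constrained_subsystem_zj (hp : p ≠ 2) {Ω : Type u} [Group Ω] {S : Subgroup Ω} [Finite S]
    (hS : IsPGroup p S) (F : FusionSystem S) (hF : F.IsSaturated p) (hnot : ¬ PAut F p) :
    ∃ E : FusionSystem S, (∀ P, E.Hom P ⊆ F.Hom P) ∧ E.IsConstrained p ∧ ¬ PAut E p := by
  -- a subsystem with the fewest morphisms among the saturated subsystems that are not `PAut`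
  obtain ⟨E, ⟨hEF, hEsat, hEnot⟩, hmin⟩ := WellFounded.has_min (measure (morCount (S := S))).wf
    {E : FusionSystem S | (∀ P, E.Hom P ⊆ F.Hom P) ∧ E.IsSaturated p ∧ ¬ PAut E p}
    ⟨F, fun _ => subset_rfl, hF, hnot⟩
  -- key: a normal subgroup of `S` whose normalizer system is not `PAut` is normal in `E`
  have key : ∀ L : Subgroup Ω, L ≤ S → normalizerIn S L = S → ¬ NPAut E p L → E.IsNormal L := by
    intro L hLS hLN hLnot
    have hLfn : E.IsFullyNormalized L := by
      refine ⟨hLS, fun L' _ => ?_⟩
      rw [hLN]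
      exact Nat.card_le_card_of_injective (Subgroup.inclusion inf_le_left) (Subgroup.inclusion_injective _)
    have hN := isNormalizerSystem_normalizerSystem E L hLS
    have hsat := isSaturated_of_isNormalizerSystem E hS hEsat hLfn hN
    have hnp : ¬ PAut (normalizerSystem E L hLS) p := fun h => hLnot (npaut_of_paut E hN h)
    have hsub : ∀ P, (castSystem hLN (normalizerSystem E L hLS)).Hom P ⊆ E.Hom P := by
      intro P φ hφ
      rw [castSystem_hom] at hφ
      exact hφ.1
    have hmem : castSystem hLN (normalizerSystem E L hLS) ∈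
        {E : FusionSystem S | (∀ P, E.Hom P ⊆ F.Hom P) ∧ E.IsSaturated p ∧ ¬ PAut E p} :=
      ⟨fun P => (hsub P).trans (hEF P), (castSystem_isSaturated hLN _ p).2 hsat,
        fun h => hnp ((castSystem_paut hLN _ p).1 h)⟩
    have heq : ∀ P, (castSystem hLN (normalizerSystem E L hLS)).Hom P = E.Hom P := by
      by_contra hne
      push Not at hne
      exact hmin _ hmem (morCount_lt hsub hne)
    refine ⟨hLS, fun P φ hφ => ?_⟩
    rw [← heq P, castSystem_hom] at hφ
    obtain ⟨-, -, -, ψ, hψ, hψ1, hψ2⟩ := hφ
    exact ⟨ψ, hψ, hψ1, hψ2⟩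
  -- `S` is nontrivial
  have hSne : S ≠ ⊥ := by
    rintro rfl
    apply hEnot
    intro P hP α _
    have : Subsingleton P := by
      constructor
      intro a b
      apply Subtype.ext
      rw [Subgroup.mem_bot.1 (hP a.2), Subgroup.mem_bot.1 (hP b.2)]
    refine ⟨0, ?_⟩
    ext x
    exact congrArg Subtype.val (Subsingleton.elim _ _)
  -- `Z(J(S))` is normal in `E`
  have hWS : centerThompsonAOf S ≤ S := by
    rw [← inducedFunctor_zjA]
    exact inducedFunctor_le zjA S
  have hWN : normalizerIn S (centerThompsonAOf S) = S := by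
    apply le_antisymm inf_le_left
    intro s hs
    refine ⟨hs, ?_⟩
    rw [← inducedFunctor_zjA]
    exact inducedFunctor_normalizer (isCharPFunctor_zjA p) hS (Subgroup.le_normalizer hs)
  have hWne : centerThompsonAOf S ≠ ⊥ := by
    rw [← inducedFunctor_zjA]
    exact inducedFunctor_ne_bot (isCharPFunctor_zjA p) hS hSne
  have hWnot : ¬ NPAut E p (centerThompsonAOf S) := fun h => hEnot (paut_of_npaut_zj hp hS E hEsat h)
  have hWnormal : E.IsNormal (centerThompsonAOf S) := key _ hWS hWN hWnot
  -- a normal subgroup of `E` of largest order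
  have hfin : {Q : Subgroup Ω | E.IsNormal Q}.Finite :=
    (Cfsg.Agent.Lib.Helper85.finite_subgroups_le S).subset fun Q hQ => hQ.1
  obtain ⟨Q, hQ, hQmax⟩ := Set.exists_max_image _ (fun Q : Subgroup Ω => Nat.card Q) hfin
    ⟨_, hWnormal⟩
  refine ⟨E, hEF, ?_, hEnot⟩
  have H : TestHyp p (@WTest p zjA) := testHyp_wtest (isCharPFunctor_zjA p) (by
    intro G _ _ P hN
    rw [inducedFunctor_zjA] at hN
    exact Cfsg.Agent.S0659.result hp P hN)
  refine isConstrained_of_normal_aux (@WTest p zjA) H hS E hEsat Q hQ ?_
  intro L _ hcard hLS hLN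
  by_contra hL
  have h1 : Nat.card L ≤ Nat.card Q := hQmax L (key L hLS hLN hL)
  omega

end Cfsg.Agent.Lib.Helper88.NilpRed
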