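import Cfsg.Agent.Lib.Helper85.FusionBasic
import Cfsg.Agent.Lib.Helper87.FusionCore
import Cfsg.Agent.Lib.Helper87.FusionSat
import Mathlib

/-!
Maps of a saturated fusion system that agree on a centric subgroup.

* `eq_comp_conj_of_eqOn_centric` : two maps `R → S` of a saturated system agreeing on a centric
  `P ⊴ R` differ by conjugation by an element of `Z(P)`.
* `mem_of_restrict_centric_mem` : for saturated `F' ≤ F`, a map of `F` on `R` whose restriction to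
  an `F`-centric subgroup `P ≤ R` lies in `F'` lies in `F'`.
-/

set_option autoImplicit false

namespace Cfsg.Agent.Lib.Helper88

open Cfsg Cfsg.FusionSystem
open Cfsg.Agent.Lib.Helper87

variable {Ω : Type*} [Group Ω] {S : Subgroup Ω}

theorem aut_pow_apply_mul_pow {G : Type*} [Group G] (β : MulAut G) (x b : G) (hx : β x = x * b)
    (hb : β b = b) (j : ℕ) : (β ^ j) x = x * b ^ j := by
  induction j with
  | zero => simp
  | succ j ih =>
    rw [pow_succ', MulAut.mul_apply, ih, map_mul, map_pow, hx, hb, pow_succ', mul_assoc]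

theorem isPGroup_of_le {p : ℕ} (hS : IsPGroup p S) {P : Subgroup Ω} (hP : P ≤ S) : IsPGroup p P := by
  intro x
  obtain ⟨k, hk⟩ := hS ⟨x, hP x.2⟩
  refine ⟨k, ?_⟩
  apply Subtype.ext
  have := congrArg (fun z : S => (z : Ω)) hk
  simpa using this

/-- centric subgroups: conjugates are centric -/
theorem isCentric_of_isConj (F : FusionSystem S) {P Q : Subgroup Ω} (hP : F.IsCentric P)
    (hPQ : F.IsConj P Q) : F.IsCentric Q :=
  ⟨IsConj_le_right hPQ, fun Q' hQQ' => hP.2 Q' (IsConj_trans hPQ hQQ')⟩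

/-- a map of the system from `P` with values in `P` (finite) is an automorphism in `Aut_F(P)` -/
theorem exists_aut_of_maps_into (F : FusionSystem S) [Finite S] {P : Subgroup Ω} {φ : P →* Ω}
    (hφ : φ ∈ F.Hom P) (hval : ∀ x : P, φ x ∈ P) :
    ∃ α : MulAut P, α ∈ F.autGroup P ∧ ∀ x : P, ((α x : P) : Ω) = φ x := by
  have hPS : P ≤ S := hom_le F hφ
  have : Finite P := finite_of_le hPS
  let f : P →* P := φ.codRestrict P hval
  have hinj : Function.Injective f := by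
    intro a b hab'
    apply F.injective_of_mem hφ
    exact congrArg (fun z : P => (z : Ω)) hab'
  let α : MulAut P := MulEquiv.ofBijective f (Finite.injective_iff_bijective.mp hinj)
  refine ⟨α, ?_, fun x => rfl⟩
  rw [mem_autGroup_iff F hPS]
  exact hom_of_eq_on F rfl hφ (fun x hx _ => rfl)

/-- the group of automorphisms in `Aut_F(R)` fixing `P` pointwise -/
def fixAutSub (F : FusionSystem S) (P R : Subgroup Ω) : Subgroup (MulAut R) where
  carrier := {β | β ∈ F.autGroup R ∧ ∀ x : R, (x : Ω) ∈ P → β x = x}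
  one_mem' := ⟨Subgroup.one_mem _, fun _ _ => rfl⟩
  mul_mem' := by
    rintro a b ⟨ha, ha'⟩ ⟨hb, hb'⟩
    refine ⟨Subgroup.mul_mem _ ha hb, fun x hx => ?_⟩
    rw [MulAut.mul_apply, hb' x hx, ha' x hx]
  inv_mem' := by
    rintro a ⟨ha, ha'⟩
    refine ⟨Subgroup.inv_mem _ ha, fun x hx => ?_⟩
    have := ha' x hx
    conv_lhs => rw [← this]
    exact MulAut.inv_apply_self _ _ _

/-- automorphisms of `R` in the system that fix a centric normal subgroup `P` pointwise form a `p`-group -/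
theorem fixAutSub_isPGroup (F : FusionSystem S) [Finite S] {p : ℕ} [Fact p.Prime] (hS : IsPGroup p S)
    {P R : Subgroup Ω} (hPR : P ≤ R) (hRS : R ≤ S) (hRN : R ≤ Subgroup.normalizer (P : Set Ω))
    (hPc : F.IsCentric P) : IsPGroup p (fixAutSub F P R) := by
  have hPS : P ≤ S := hPc.1
  have : Finite P := finite_of_le hPS
  obtain ⟨m, hm⟩ := IsPGroup.iff_card.mp (isPGroup_of_le hS hPS)
  have hcent : centralizerIn S P ≤ P := hPc.2 P (isConj_refl F hPS)
  rintro ⟨β, hβ, hβP⟩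
  refine ⟨m, ?_⟩
  apply Subtype.ext
  show β ^ p ^ m = 1
  ext g
  -- b := g⁻¹ β g lies in Z(P)
  have hbP : ((g⁻¹ * β g : R) : Ω) ∈ P := by
    apply hcent
    refine ⟨hRS (g⁻¹ * β g).2, ?_⟩
    show ((g⁻¹ * β g : R) : Ω) ∈ Subgroup.centralizer (P : Set Ω)
    rw [Subgroup.mem_centralizer_iff]
    intro x hx
    have hgx : (g : Ω) * x * (g : Ω)⁻¹ ∈ P := (Subgroup.mem_normalizer_iff.mp (hRN g.2) x).mp hx
    have h1 := hβP (g * ⟨x, hPR hx⟩ * g⁻¹) hgx
    rw [map_mul, map_mul, map_inv, hβP ⟨x, hPR hx⟩ hx] at h1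
    have h2 : ((β g : R) : Ω) * x * ((β g : R) : Ω)⁻¹ = (g : Ω) * x * (g : Ω)⁻¹ :=
      congrArg (fun z : R => (z : Ω)) h1
    show x * ((g : Ω)⁻¹ * ((β g : R) : Ω)) = (g : Ω)⁻¹ * ((β g : R) : Ω) * x
    calc x * ((g : Ω)⁻¹ * ((β g : R) : Ω))
        = (g : Ω)⁻¹ * ((g : Ω) * x * (g : Ω)⁻¹) * ((β g : R) : Ω) := by group
      _ = (g : Ω)⁻¹ * (((β g : R) : Ω) * x * ((β g : R) : Ω)⁻¹) * ((β g : R) : Ω) := by rw [h2]
      _ = (g : Ω)⁻¹ * ((β g : R) : Ω) * x := by group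
  have hβb : β (g⁻¹ * β g) = g⁻¹ * β g := hβP _ hbP
  have hβg : β g = g * (g⁻¹ * β g) := by group
  have hpow := aut_pow_apply_mul_pow β g (g⁻¹ * β g) hβg hβb (p ^ m)
  have hb1 : (g⁻¹ * β g) ^ p ^ m = 1 := by
    have h3 : (⟨((g⁻¹ * β g : R) : Ω), hbP⟩ : P) ^ Nat.card P = 1 := pow_card_eq_one'
    rw [hm] at h3
    apply Subtype.ext
    have := congrArg (fun z : P => (z : Ω)) h3
    simpa using this
  rw [hpow, hb1, mul_one]
  rfl

/-- **Maps agreeing on a centric normal subgroup.** -/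
theorem eq_comp_conj_of_eqOn_centric (F : FusionSystem S) [Finite S] {p : ℕ} [Fact p.Prime]
    (hS : IsPGroup p S) (hF : F.IsSaturated p) {P R : Subgroup Ω} (hPR : P ≤ R)
    (hRN : R ≤ Subgroup.normalizer (P : Set Ω)) (hPc : F.IsCentric P) {σ₁ σ₂ : R →* Ω}
    (h₁ : σ₁ ∈ F.Hom R) (h₂ : σ₂ ∈ F.Hom R) (heq : ∀ x : R, (x : Ω) ∈ P → σ₁ x = σ₂ x) :
    ∃ z : R, (z : Ω) ∈ P ∧ ∀ g : R, σ₁ g = σ₂ (z * g * z⁻¹) := by
  have hRS : R ≤ S := hom_le F h₁
  have hPS : P ≤ S := hPc.1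
  have hfinR : Finite R := finite_of_le hRS
  -- Step 1: σ₁ has values in the range of σ₂
  have hφ₁ : σ₁.comp (Subgroup.inclusion hPR) ∈ F.Hom P := restrict_mem F h₁ hPR
  have hP₁c : F.IsCentric (σ₁.comp (Subgroup.inclusion hPR)).range :=
    isCentric_of_isConj F hPc ⟨_, hφ₁, rfl⟩
  have hcent₁ := hP₁c.2 _ (isConj_refl F hP₁c.1)
  have hval : ∀ g : R, σ₁ g ∈ σ₂.range := by
    intro g
    have hc : (σ₂ g)⁻¹ * σ₁ g ∈ centralizerIn S (σ₁.comp (Subgroup.inclusion hPR)).range := by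
      refine ⟨S.mul_mem (S.inv_mem (hom_map_mem F h₂ g)) (hom_map_mem F h₁ g), ?_⟩
      show (σ₂ g)⁻¹ * σ₁ g ∈ Subgroup.centralizer _
      rw [Subgroup.mem_centralizer_iff]
      rintro _ ⟨x, rfl⟩
      show σ₁ (Subgroup.inclusion hPR x) * ((σ₂ g)⁻¹ * σ₁ g) =
        (σ₂ g)⁻¹ * σ₁ g * σ₁ (Subgroup.inclusion hPR x)
      set x' : R := Subgroup.inclusion hPR x with hx'
      have hx'P : (x' : Ω) ∈ P := x.2
      have hgx : ((g * x' * g⁻¹ : R) : Ω) ∈ P :=
        (Subgroup.mem_normalizer_iff.mp (hRN g.2) x').mp hx'P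
      have h3 := heq (g * x' * g⁻¹) hgx
      rw [map_mul, map_mul, map_inv, map_mul, map_mul, map_inv, ← heq x' hx'P] at h3
      calc σ₁ x' * ((σ₂ g)⁻¹ * σ₁ g)
          = (σ₂ g)⁻¹ * (σ₂ g * σ₁ x' * (σ₂ g)⁻¹) * σ₁ g := by group
        _ = (σ₂ g)⁻¹ * (σ₁ g * σ₁ x' * (σ₁ g)⁻¹) * σ₁ g := by rw [h3]
        _ = (σ₂ g)⁻¹ * σ₁ g * σ₁ x' := by group
    obtain ⟨x, hx⟩ := hcent₁ hc
    have hx2 : σ₁ (Subgroup.inclusion hPR x) = (σ₂ g)⁻¹ * σ₁ g := hx
    have hx3 : σ₂ (Subgroup.inclusion hPR x) = (σ₂ g)⁻¹ * σ₁ g := by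
      rw [← heq _ x.2]; exact hx2
    refine ⟨g * Subgroup.inclusion hPR x, ?_⟩
    rw [map_mul, hx3, mul_inv_cancel_left]
  -- Step 2: the automorphism β with σ₂ ∘ β = σ₁
  let e₂ : R ≃* σ₂.range := MonoidHom.ofInjective (F.injective_of_mem h₂)
  have he₂ : IsIso F e₂ := isIso_ofInjective F h₂
  let χ : R →* Ω := R.subtype.comp (e₂.symm.toMonoidHom.comp (σ₁.codRestrict σ₂.range hval))
  have hχ : χ ∈ F.Hom R := he₂.symm.comp_hom h₁ hval (fun x => rfl)
  obtain ⟨β, hβ, hβx⟩ := exists_aut_of_maps_into F hχ (fun x => (e₂.symm _).2)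
  have hσβ : ∀ g : R, σ₂ (β g) = σ₁ g := by
    intro g
    have h3 : β g = e₂.symm ⟨σ₁ g, hval g⟩ := Subtype.ext (hβx g)
    have h4 : e₂ (β g) = ⟨σ₁ g, hval g⟩ := by rw [h3, MulEquiv.apply_symm_apply]
    exact congrArg (fun z : σ₂.range => (z : Ω)) h4
  have hβP : ∀ x : R, (x : Ω) ∈ P → β x = x := by
    intro x hx
    apply F.injective_of_mem h₂
    rw [hσβ, heq x hx]
  have hβB : β ∈ fixAutSub F P R := ⟨hβ, hβP⟩
  -- Step 3/4: conjugate into Aut_S of a fully automized conjugate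
  obtain ⟨R', hRR', hR'a, -⟩ := hF R hRS
  obtain ⟨e, he⟩ := (isConj_iff F).1 hRR'
  have hR'S : R' ≤ S := he.le_right
  have hfinR' : Finite R' := finite_of_le hR'S
  obtain ⟨-, T, hT⟩ := hR'a
  let Φ := (MulAut.congr e).toMonoidHom
  let H : Subgroup (F.autGroup R') := ((fixAutSub F P R).map Φ).subgroupOf (F.autGroup R')
  have hH : IsPGroup p H := ((fixAutSub_isPGroup F hS hPR hRS hRN hPc).map Φ).comap_subtype
  obtain ⟨c, hc⟩ := exists_conj_mem_sylow T hH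
  have h1 : Φ β ∈ F.autGroup R' := congr_mem_autGroup F he hβ
  have h2 : (⟨Φ β, h1⟩ : F.autGroup R') ∈ H :=
    Subgroup.mem_subgroupOf.2 (Subgroup.mem_map_of_mem _ hβB)
  have h3 := hc _ h2
  have h4 : (c * ⟨Φ β, h1⟩ * c⁻¹ : F.autGroup R') ∈ (autInducedBy S R').subgroupOf (F.autGroup R') := by
    rw [← hT]; exact h3
  obtain ⟨s, hsS, hs⟩ := mem_autInducedBy_iff.1 (Subgroup.mem_subgroupOf.1 h4)
  let e' : R ≃* R' := e.trans (c : MulAut R')
  have he' : IsIso F e' := he.trans ((mem_autGroup_iff F hR'S).1 c.2)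
  have hkey : ∀ g : R, ((e' (β g) : R') : Ω) = s * (e' g : Ω) * s⁻¹ := by
    intro g
    rw [← hs (e' g)]
    have h6 : ((c * ⟨Φ β, h1⟩ * c⁻¹ : F.autGroup R') : MulAut R') (e' g) = e' (β g) := by
      simp [e', Φ, MulAut.congr]
    rw [h6]
  -- s centralizes e'(P), hence lies in e'(P)
  let φ' : P →* Ω := R'.subtype.comp (e'.toMonoidHom.comp (Subgroup.inclusion hPR))
  have hφ' : φ' ∈ F.Hom P := he'.restrict_hom hPR (fun x => rfl)
  have hP'c : F.IsCentric φ'.range := isCentric_of_isConj F hPc ⟨_, hφ', rfl⟩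
  have hcent' := hP'c.2 _ (isConj_refl F hP'c.1)
  have hsC : s ∈ centralizerIn S φ'.range := by
    refine ⟨hsS, ?_⟩
    show s ∈ Subgroup.centralizer _
    rw [Subgroup.mem_centralizer_iff]
    rintro _ ⟨x, rfl⟩
    have h7 := hkey (Subgroup.inclusion hPR x)
    rw [hβP _ x.2] at h7
    show ((e' (Subgroup.inclusion hPR x) : R') : Ω) * s = s * ((e' (Subgroup.inclusion hPR x) : R') : Ω)
    calc ((e' (Subgroup.inclusion hPR x) : R') : Ω) * s
        = s * ((e' (Subgroup.inclusion hPR x) : R') : Ω) * s⁻¹ * s := by rw [← h7]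
      _ = s * ((e' (Subgroup.inclusion hPR x) : R') : Ω) := by group
  obtain ⟨z, hz⟩ := hcent' hsC
  have hz' : ((e' (Subgroup.inclusion hPR z) : R') : Ω) = s := hz
  refine ⟨Subgroup.inclusion hPR z, z.2, fun g => ?_⟩
  rw [← hσβ g]
  congr 1
  apply e'.injective
  apply Subtype.ext
  rw [hkey g, map_mul, map_mul, map_inv]
  show s * (e' g : Ω) * s⁻¹ = ((e' (Subgroup.inclusion hPR z) : R') : Ω) * (e' g : Ω) *
    ((e' (Subgroup.inclusion hPR z) : R') : Ω)⁻¹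
  rw [hz']

/-- overgroups (inside `S`) of centric subgroups are centric -/
theorem isCentric_of_le (F : FusionSystem S) {P N : Subgroup Ω} (hP : F.IsCentric P) (hPN : P ≤ N)
    (hNS : N ≤ S) : F.IsCentric N := by
  refine ⟨hNS, fun N' hNN' => ?_⟩
  obtain ⟨e, he⟩ := (isConj_iff F).1 hNN'
  let φ' : P →* Ω := N'.subtype.comp (e.toMonoidHom.comp (Subgroup.inclusion hPN))
  have hφ' : φ' ∈ F.Hom P := he.restrict_hom hPN (fun x => rfl)
  have h1 := hP.2 _ ⟨_, hφ', rfl⟩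
  intro c hc
  have h2 : c ∈ centralizerIn S φ'.range := by
    refine ⟨hc.1, ?_⟩
    show c ∈ Subgroup.centralizer _
    rw [Subgroup.mem_centralizer_iff]
    rintro _ ⟨x, rfl⟩
    exact Subgroup.mem_centralizer_iff.mp hc.2 _ (e (Subgroup.inclusion hPN x)).2
  obtain ⟨x, hx⟩ := h1 h2
  rw [← hx]
  exact (e (Subgroup.inclusion hPN x)).2

/-- normal case of `mem_of_restrict_centric_mem` -/
theorem mem_of_restrict_centric_mem_normal (F F' : FusionSystem S) [Finite S] {p : ℕ} [Fact p.Prime]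
    (hS : IsPGroup p S) (hF : F.IsSaturated p) (hF' : F'.IsSaturated p)
    (hle : ∀ P : Subgroup Ω, F'.Hom P ⊆ F.Hom P) {P N : Subgroup Ω} (hPN : P ≤ N)
    (hNn : N ≤ Subgroup.normalizer (P : Set Ω)) (hPc : F.IsCentric P) {ψ : N →* Ω}
    (hψ : ψ ∈ F.Hom N) (hres : ψ.comp (Subgroup.inclusion hPN) ∈ F'.Hom P) : ψ ∈ F'.Hom N := by
  have hNS : N ≤ S := hom_le F hψ
  have hPS : P ≤ S := hPc.1
  -- the fully automized receptive F'-conjugate of ψ(P)
  have hP₁S : (ψ.comp (Subgroup.inclusion hPN)).range ≤ S := hom_range_le F' hres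
  obtain ⟨P', hP₁P', hP'a, hP'r⟩ := hF' _ hP₁S
  obtain ⟨θ, e, hθ, he, hθe⟩ := exists_extension F' hS hP'a hP'r hP₁P'
  -- ψ maps N into the normalizer of ψ(P)
  have hconj : ∀ g : N, ∀ y ∈ (ψ.comp (Subgroup.inclusion hPN)).range,
      ψ g * y * (ψ g)⁻¹ ∈ (ψ.comp (Subgroup.inclusion hPN)).range := by
    rintro g _ ⟨x, rfl⟩
    have hgx : (g : Ω) * x * (g : Ω)⁻¹ ∈ P := (Subgroup.mem_normalizer_iff.mp (hNn g.2) x).mp x.2
    refine ⟨⟨(g : Ω) * x * (g : Ω)⁻¹, hgx⟩, ?_⟩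
    show ψ (Subgroup.inclusion hPN ⟨(g : Ω) * x * (g : Ω)⁻¹, hgx⟩) =
      ψ g * ψ (Subgroup.inclusion hPN x) * (ψ g)⁻¹
    rw [← map_inv, ← map_mul, ← map_mul]
    rfl
  have hψN : ∀ g : N, ψ g ∈ normalizerIn S (ψ.comp (Subgroup.inclusion hPN)).range := by
    intro g
    refine ⟨hom_map_mem F hψ g, ?_⟩
    show ψ g ∈ Subgroup.normalizer _
    rw [Subgroup.mem_normalizer_iff]
    intro y
    constructor
    · exact hconj g y
    · intro hy
      have := hconj g⁻¹ _ hy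
      rw [map_inv] at this
      have e2 : (ψ g)⁻¹ * (ψ g * y * (ψ g)⁻¹) * (ψ g)⁻¹⁻¹ = y := by group
      rwa [e2] at this
  -- τ = θ ∘ ψ
  have hθF : θ ∈ F.Hom _ := hle _ hθ
  have hτ : θ.comp (ψ.codRestrict _ hψN) ∈ F.Hom N := F.comp_mem hψ hθF hψN
  set τ : N →* Ω := θ.comp (ψ.codRestrict _ hψN) with hτdef
  have hτapply : ∀ g : N, τ g = θ ⟨ψ g, hψN g⟩ := fun g => rfl
  have hτP : τ.comp (Subgroup.inclusion hPN) ∈ F'.Hom P := by
    refine comp_mem' F' hres hθ (fun x => hψN (Subgroup.inclusion hPN x)) (fun x => rfl)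
  have hτPr : (τ.comp (Subgroup.inclusion hPN)).range = P' := by
    apply le_antisymm
    · rintro _ ⟨x, rfl⟩
      have h5 := hθe (ψ (Subgroup.inclusion hPN x)) ⟨x, rfl⟩ (hψN _)
      show θ ⟨ψ (Subgroup.inclusion hPN x), _⟩ ∈ P'
      rw [h5]
      exact (e _).2
    · intro y hy
      obtain ⟨x, hx⟩ := (e.symm ⟨y, hy⟩).2
      refine ⟨x, ?_⟩
      have h5 := hθe (ψ (Subgroup.inclusion hPN x)) ⟨x, rfl⟩ (hψN _)
      show θ ⟨ψ (Subgroup.inclusion hPN x), _⟩ = y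
      rw [h5]
      have : (⟨ψ (Subgroup.inclusion hPN x), ⟨x, rfl⟩⟩ : (ψ.comp (Subgroup.inclusion hPN)).range)
          = e.symm ⟨y, hy⟩ := Subtype.ext hx
      rw [this, MulEquiv.apply_symm_apply]
  obtain ⟨ρ, hρ, hρe⟩ := hP'r.2 P _ hτP hτPr
  have hNext : N ≤ extender S P (τ.comp (Subgroup.inclusion hPN)) := by
    intro g hg
    rw [Cfsg.Agent.Lib.Helper85.mem_extender_iff]
    refine ⟨hNS hg, hNn hg, τ ⟨g, hg⟩, hom_map_mem F hτ _, fun x hx => ?_⟩
    show τ (Subgroup.inclusion hPN ⟨g * (x : Ω) * g⁻¹, hx⟩) =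
      τ ⟨g, hg⟩ * τ (Subgroup.inclusion hPN x) * (τ ⟨g, hg⟩)⁻¹
    rw [← map_inv, ← map_mul, ← map_mul]
    rfl
  have hρ' : ρ.comp (Subgroup.inclusion hNext) ∈ F'.Hom N := restrict_mem F' hρ hNext
  have hagree : ∀ x : N, (x : Ω) ∈ P → τ x = (ρ.comp (Subgroup.inclusion hNext)) x := by
    intro x hx
    exact (hρe x hx (hNext x.2)).symm
  obtain ⟨z, hzP, hz⟩ := eq_comp_conj_of_eqOn_centric F hS hF hPN hNn hPc hτ (hle _ hρ') hagree
  -- τ ∈ F'
  have hτ' : τ ∈ F'.Hom N := by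
    have hcz : conjHom N (z : Ω) ∈ F'.Hom N := F'.conj_mem hNS (hNS z.2)
    have hczval : ∀ g : N, conjHom N (z : Ω) g ∈ N := fun g => (z * g * z⁻¹).2
    refine comp_mem' F' hcz hρ' hczval (fun g => ?_)
    rw [hz g]
    rfl
  -- ψ = θ⁻¹ ∘ τ
  let eθ := MonoidHom.ofInjective (F'.injective_of_mem hθ)
  have heθ : IsIso F' eθ := isIso_ofInjective F' hθ
  have hτval : ∀ g : N, τ g ∈ θ.range := fun g => ⟨⟨ψ g, hψN g⟩, rfl⟩
  refine heθ.symm.comp_hom hτ' hτval (fun g => ?_)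
  have : (⟨τ g, hτval g⟩ : θ.range) = eθ ⟨ψ g, hψN g⟩ := rfl
  rw [this, MulEquiv.symm_apply_apply]

/-- **Extension from a centric subgroup.** For saturated `F' ≤ F`, a map of `F` on `R` whose
restriction to an `F`-centric subgroup `P ≤ R` lies in `F'` lies in `F'`. -/
theorem mem_of_restrict_centric_mem (F F' : FusionSystem S) [Finite S] {p : ℕ} [Fact p.Prime]
    (hS : IsPGroup p S) (hF : F.IsSaturated p) (hF' : F'.IsSaturated p)
    (hle : ∀ P : Subgroup Ω, F'.Hom P ⊆ F.Hom P) {P R : Subgroup Ω} (hPR : P ≤ R)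
    (hPc : F.IsCentric P) {ψ : R →* Ω} (hψ : ψ ∈ F.Hom R)
    (hres : ψ.comp (Subgroup.inclusion hPR) ∈ F'.Hom P) : ψ ∈ F'.Hom R := by
  have hRS : R ≤ S := hom_le F hψ
  have hfinR : Finite R := finite_of_le hRS
  induction' hn : Nat.card R - Nat.card P using Nat.strong_induction_on with n ih generalizing P
  by_cases hne : P = R
  · subst hne
    exact hom_of_eq_on F' rfl hres (fun x hx _ => rfl)
  · have hpR : IsPGroup p R := isPGroup_of_le hS hRS
    obtain ⟨x, hxN, hxP⟩ := exists_mem_normalizerIn_not_mem (S := R) hpR hPR hne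
    have hPN : P ≤ normalizerIn R P := le_normalizerIn hPR
    have hNR : normalizerIn R P ≤ R := normalizerIn_le R P
    have hNn : normalizerIn R P ≤ Subgroup.normalizer (P : Set Ω) := inf_le_right
    have hψN : ψ.comp (Subgroup.inclusion hNR) ∈ F.Hom (normalizerIn R P) := restrict_mem F hψ hNR
    have hresN : (ψ.comp (Subgroup.inclusion hNR)).comp (Subgroup.inclusion hPN) ∈ F'.Hom P :=
      hom_of_eq_on F' rfl hres (fun x hx _ => rfl)
    have hN' : ψ.comp (Subgroup.inclusion hNR) ∈ F'.Hom (normalizerIn R P) :=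
      mem_of_restrict_centric_mem_normal F F' hS hF hF' hle hPN hNn hPc hψN hresN
    have hNc : F.IsCentric (normalizerIn R P) := isCentric_of_le F hPc hPN (hNR.trans hRS)
    have hfinN : Finite (normalizerIn R P) := finite_of_le (hNR.trans hRS)
    have hlt : Nat.card P < Nat.card (normalizerIn R P) := by
      by_contra hle'
      have heq := Subgroup.eq_of_le_of_card_ge hPN (not_lt.mp hle')
      exact hxP (heq ▸ hxN)
    have hleNR : Nat.card (normalizerIn R P) ≤ Nat.card R := Subgroup.card_le_of_le hNR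
    exact ih (Nat.card R - Nat.card (normalizerIn R P)) (by omega) hNR hNc hN' rfl

end Cfsg.Agent.Lib.Helper88
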