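import Cfsg.Agent.Lib.Helper88.FusionInvariance
import Cfsg.Agent.Lib.Helper88.FusionAlperinCR
import Cfsg.Agent.Lib.Helper87.FusionFully

set_option autoImplicit false
open Cfsg

namespace Cfsg.Agent.Lib.Helper88.Core

open Cfsg.FusionSystem
open Cfsg.Agent.Lib.Helper87 Cfsg.Agent.Lib.Helper88
open Cfsg.Agent.Lib.Helper88.Invariance

variable {Ω : Type*} [Group Ω] {S : Subgroup Ω}

/-- the maps of `E` all of whose transports by elements of `Aut_F(S)` lie in `E` -/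
def DHom (E F : FusionSystem S) (P : Subgroup Ω) : Set (P →* Ω) :=
  {φ | φ ∈ E.Hom P ∧ ∀ α ∈ F.autGroup S,
    ∃ χ ∈ E.Hom ((P.subgroupOf S).map (S.subtype.comp α.toMonoidHom)),
      ∀ (x : P) (hx : (x : Ω) ∈ S) (hφx : φ x ∈ S)
        (hαx : ((α ⟨x, hx⟩ : S) : Ω) ∈ (P.subgroupOf S).map (S.subtype.comp α.toMonoidHom)),
        χ ⟨(α ⟨x, hx⟩ : S), hαx⟩ = ((α ⟨φ x, hφx⟩ : S) : Ω)}

theorem mem_map_iff (α : MulAut S) (P : Subgroup Ω) (y : Ω) :
    y ∈ (P.subgroupOf S).map (S.subtype.comp α.toMonoidHom) ↔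
      ∃ z : S, (z : Ω) ∈ P ∧ ((α z : S) : Ω) = y := by
  constructor
  · rintro ⟨z, hz, rfl⟩
    exact ⟨z, hz, rfl⟩
  · rintro ⟨z, hz, rfl⟩
    exact ⟨z, hz, rfl⟩

theorem map_le (α : MulAut S) (P : Subgroup Ω) :
    (P.subgroupOf S).map (S.subtype.comp α.toMonoidHom) ≤ S := by
  rintro _ ⟨z, -, rfl⟩
  exact (α z).2

theorem mem_map_of_mem (α : MulAut S) {P : Subgroup Ω} {x : Ω} (hx : x ∈ P) (hxS : x ∈ S) :
    ((α ⟨x, hxS⟩ : S) : Ω) ∈ (P.subgroupOf S).map (S.subtype.comp α.toMonoidHom) :=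
  ⟨⟨x, hxS⟩, hx, rfl⟩

/-- the largest `Aut_F(S)`-invariant subsystem of `E` -/
def coreSystem (E F : FusionSystem S) : FusionSystem S where
  Hom P := DHom E F P
  le_of_mem := fun h => E.le_of_mem h.1
  injective_of_mem := fun h => E.injective_of_mem h.1
  conj_mem := by
    intro P g hP hg
    refine ⟨E.conj_mem hP hg, fun α _ => ⟨conjHom _ ((α ⟨g, hg⟩ : S) : Ω),
      E.conj_mem (map_le α P) (α ⟨g, hg⟩).2, fun x hx hφx hαx => ?_⟩⟩
    show ((α ⟨g, hg⟩ : S) : Ω) * ((α ⟨x, hx⟩ : S) : Ω) * ((α ⟨g, hg⟩ : S) : Ω)⁻¹ = _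
    have : (⟨conjHom P g x, hφx⟩ : S) = ⟨g, hg⟩ * ⟨x, hx⟩ * ⟨g, hg⟩⁻¹ := rfl
    rw [this, map_mul, map_mul, map_inv]
    rfl
  comp_mem := by
    intro P Q φ ψ hφ hψ h
    refine ⟨E.comp_mem hφ.1 hψ.1 h, fun α hα => ?_⟩
    have hPS : P ≤ S := (E.le_of_mem hφ.1).1
    have hQS : Q ≤ S := (E.le_of_mem hψ.1).1
    have hφS : ∀ x : P, φ x ∈ S := (E.le_of_mem hφ.1).2
    have hψS : ∀ x : Q, ψ x ∈ S := (E.le_of_mem hψ.1).2
    obtain ⟨χφ, hχφ, hχφe⟩ := hφ.2 α hα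
    obtain ⟨χψ, hχψ, hχψe⟩ := hψ.2 α hα
    have h' : ∀ y : ↥((P.subgroupOf S).map (S.subtype.comp α.toMonoidHom)),
        χφ y ∈ (Q.subgroupOf S).map (S.subtype.comp α.toMonoidHom) := by
      intro y
      obtain ⟨z, hz, hzy⟩ := (mem_map_iff α P y).1 y.2
      have hm : ((α ⟨((⟨(z : Ω), hz⟩ : P) : Ω), z.2⟩ : S) : Ω) ∈
          (P.subgroupOf S).map (S.subtype.comp α.toMonoidHom) := mem_map_of_mem α hz z.2
      have hy : y = ⟨((α ⟨((⟨(z : Ω), hz⟩ : P) : Ω), z.2⟩ : S) : Ω), hm⟩ := Subtype.ext hzy.symm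
      rw [hy, hχφe ⟨(z : Ω), hz⟩ z.2 (hφS _) hm]
      exact mem_map_of_mem α (h ⟨(z : Ω), hz⟩) _
    refine ⟨χψ.comp (χφ.codRestrict _ h'), E.comp_mem hχφ hχψ h', fun x hx hφx hαx => ?_⟩
    have e1 := hχφe x hx (hφS x) hαx
    have hm : ((α ⟨φ x, hφS x⟩ : S) : Ω) ∈ (Q.subgroupOf S).map (S.subtype.comp α.toMonoidHom) :=
      mem_map_of_mem α (h x) _
    have e2 := hχψe ⟨φ x, h x⟩ (hφS x) hφx hm
    show χψ ⟨χφ ⟨(α ⟨x, hx⟩ : S), hαx⟩, _⟩ = _
    refine Eq.trans ?_ e2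
    congr 1
    exact Subtype.ext e1
  inv_mem := by
    intro P φ hφ
    obtain ⟨ψ, hψ, hψe⟩ := E.inv_mem hφ.1
    refine ⟨ψ, ⟨hψ, fun α hα => ?_⟩, hψe⟩
    have hPS : P ≤ S := (E.le_of_mem hφ.1).1
    have hφS : ∀ x : P, φ x ∈ S := (E.le_of_mem hφ.1).2
    obtain ⟨χ, hχ, hχe⟩ := hφ.2 α hα
    obtain ⟨χ', hχ', hχ'e⟩ := E.inv_mem hχ
    have hrange : χ.range = (φ.range.subgroupOf S).map (S.subtype.comp α.toMonoidHom) := by
      ext w
      rw [mem_map_iff]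
      constructor
      · rintro ⟨y, rfl⟩
        obtain ⟨z, hz, hzy⟩ := (mem_map_iff α P y).1 y.2
        have hm : ((α ⟨((⟨(z : Ω), hz⟩ : P) : Ω), z.2⟩ : S) : Ω) ∈
            (P.subgroupOf S).map (S.subtype.comp α.toMonoidHom) := mem_map_of_mem α hz z.2
        have hy : y = ⟨((α ⟨((⟨(z : Ω), hz⟩ : P) : Ω), z.2⟩ : S) : Ω), hm⟩ := Subtype.ext hzy.symm
        refine ⟨⟨φ ⟨(z : Ω), hz⟩, hφS _⟩, ⟨⟨(z : Ω), hz⟩, rfl⟩, ?_⟩
        rw [hy]
        exact (hχe ⟨(z : Ω), hz⟩ z.2 (hφS _) hm).symm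
      · rintro ⟨z, ⟨x, hx⟩, rfl⟩
        refine ⟨⟨(α ⟨x, hPS x.2⟩ : S), mem_map_of_mem α x.2 _⟩, ?_⟩
        rw [hχe x (hPS x.2) (hφS x) (mem_map_of_mem α x.2 _)]
        congr 2
        exact Subtype.ext hx
    refine ⟨χ'.comp (Subgroup.inclusion hrange.ge), hom_of_eq_on E hrange hχ' (fun _ _ _ => rfl),
      fun y hy hψy hαy => ?_⟩
    obtain ⟨_, ⟨x, rfl⟩⟩ := y
    have e1 := hχe x (hPS x.2) (hφS x) (mem_map_of_mem α x.2 _)
    have e2 := hχ'e ⟨(α ⟨x, hPS x.2⟩ : S), mem_map_of_mem α x.2 _⟩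
    have e3 : (⟨ψ ⟨φ x, ⟨x, rfl⟩⟩, hψy⟩ : S) = ⟨x, hPS x.2⟩ := Subtype.ext (hψe x)
    rw [e3]
    refine Eq.trans ?_ e2
    show χ' ⟨_, _⟩ = χ' ⟨_, _⟩
    congr 1
    exact Subtype.ext e1.symm

theorem core_le (E F : FusionSystem S) : (coreSystem E F).IsSubsystemOf E := fun _ _ h => h.1

theorem map_map_eq (α β : MulAut S) (P : Subgroup Ω) :
    ((((P.subgroupOf S).map (S.subtype.comp α.toMonoidHom)).subgroupOf S).map
      (S.subtype.comp β.toMonoidHom)) =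
      (P.subgroupOf S).map (S.subtype.comp (β * α).toMonoidHom) := by
  ext y
  rw [mem_map_iff, mem_map_iff]
  constructor
  · rintro ⟨z, hz, rfl⟩
    obtain ⟨w, hw, hwz⟩ := (mem_map_iff α P z).1 hz
    refine ⟨w, hw, ?_⟩
    have : α w = z := Subtype.ext hwz
    rw [MulAut.mul_apply, this]
  · rintro ⟨w, hw, rfl⟩
    exact ⟨α w, mem_map_of_mem α hw w.2, rfl⟩

/-- the core is invariant under `Aut_F(S)` -/
theorem invClause_core (E F : FusionSystem S) : InvClause (coreSystem E F) F := by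
  intro P hPS φ hφ α hα
  have hφS : ∀ x : P, φ x ∈ S := (E.le_of_mem hφ.1).2
  obtain ⟨χ, hχ, hχe⟩ := hφ.2 α hα
  refine ⟨χ, ⟨hχ, fun β hβ => ?_⟩, fun x hφx hαx => hχe x (hPS x.2) hφx hαx⟩
  obtain ⟨χ'', hχ'', hχ''e⟩ := hφ.2 (β * α) (Subgroup.mul_mem _ hβ hα)
  have hsub := map_map_eq α β P
  refine ⟨χ''.comp (Subgroup.inclusion hsub.le), hom_of_eq_on E hsub.symm hχ'' (fun _ _ _ => rfl),
    fun y hy hχy hβy => ?_⟩
  obtain ⟨z, hz, hzy⟩ := (mem_map_iff α P y).1 y.2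
  have hm : ((α ⟨((⟨(z : Ω), hz⟩ : P) : Ω), z.2⟩ : S) : Ω) ∈
      (P.subgroupOf S).map (S.subtype.comp α.toMonoidHom) := mem_map_of_mem α hz z.2
  have hyeq : y = ⟨((α ⟨((⟨(z : Ω), hz⟩ : P) : Ω), z.2⟩ : S) : Ω), hm⟩ := Subtype.ext hzy.symm
  subst hyeq
  have e1 := hχe ⟨(z : Ω), hz⟩ z.2 (hφS _) hm
  have hm2 : (((β * α) ⟨((⟨(z : Ω), hz⟩ : P) : Ω), z.2⟩ : S) : Ω) ∈
      (P.subgroupOf S).map (S.subtype.comp (β * α).toMonoidHom) := mem_map_of_mem (β * α) hz z.2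
  have e2 := hχ''e ⟨(z : Ω), hz⟩ z.2 (hφS _) hm2
  show χ'' ⟨_, _⟩ = _
  have e3 : (⟨χ ⟨((α ⟨((⟨(z : Ω), hz⟩ : P) : Ω), z.2⟩ : S) : Ω), hm⟩, hχy⟩ : S) =
      α ⟨φ ⟨(z : Ω), hz⟩, hφS _⟩ := Subtype.ext e1
  rw [e3]
  refine Eq.trans ?_ e2
  congr 1

theorem isCentric_of_isConj {F : FusionSystem S} {P Q : Subgroup Ω} (hP : F.IsCentric P)
    (hPQ : F.IsConj P Q) : F.IsCentric Q :=
  ⟨IsConj_le_right hPQ, fun Q' hQQ' => hP.2 Q' (IsConj_trans hPQ hQQ')⟩

theorem resHom_range (β : MulAut S) {P : Subgroup Ω} (hP : P ≤ S) :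
    (resHom β P hP).range = (P.subgroupOf S).map (S.subtype.comp β.toMonoidHom) := by
  ext y
  rw [mem_map_iff]
  constructor
  · rintro ⟨x, rfl⟩
    exact ⟨⟨x, hP x.2⟩, x.2, rfl⟩
  · rintro ⟨z, hz, rfl⟩
    exact ⟨⟨z, hz⟩, rfl⟩

theorem isIso_resAut (F : FusionSystem S) {β : MulAut S} (hβ : β ∈ F.autGroup S) {P : Subgroup Ω}
    (hP : P ≤ S) : IsIso F (resAut β P hP) := by
  have h1 := restrict_mem F ((mem_autGroup_iff F le_rfl).1 hβ) hP
  exact hom_of_eq_on F rfl h1 (fun _ _ _ => rfl)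

/-- for `F`-centric `P`, the core contains the `p`-elements of `Aut_F(P)` -/
theorem aut_mem_core {p : ℕ} (E F : FusionSystem S)
    (h : ∀ P : Subgroup Ω, F.IsCentric P →
      (Subgroup.closure {α : ↥(F.autGroup P) | ∃ k : ℕ, orderOf α = p ^ k}).map (F.autGroup P).subtype ≤
        E.autGroup P)
    {P : Subgroup Ω} (hP : F.IsCentric P) :
    (Subgroup.closure {α : ↥(F.autGroup P) | ∃ k : ℕ, orderOf α = p ^ k}).map (F.autGroup P).subtype ≤
      (coreSystem E F).autGroup P := by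
  have hPS := hP.1
  rw [Subgroup.map_le_iff_le_comap, Subgroup.closure_le]
  rintro α ⟨k, hk⟩
  show (α : MulAut P) ∈ (coreSystem E F).autGroup P
  rw [mem_autGroup_iff _ hPS]
  have hαE : (α : MulAut P) ∈ E.autGroup P :=
    h P hP (Subgroup.mem_map_of_mem _ (Subgroup.subset_closure ⟨k, hk⟩))
  refine ⟨(mem_autGroup_iff E hPS).1 hαE, fun β hβ => ?_⟩
  have he : IsIso F (resAut β P hPS) := isIso_resAut F hβ hPS
  have hα' : MulAut.congr (resAut β P hPS) (α : MulAut P) ∈ F.autGroup (resHom β P hPS).range :=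
    congr_mem_autGroup F he α.2
  have hcen : F.IsCentric (resHom β P hPS).range :=
    isCentric_of_isConj hP (show F.IsConj P (resHom β P hPS).range from ⟨_, he, range_subtype_comp _⟩)
  have hord : orderOf (⟨_, hα'⟩ : F.autGroup (resHom β P hPS).range) = p ^ k := by
    rw [← hk, ← Subgroup.orderOf_coe, ← Subgroup.orderOf_coe]
    exact MulEquiv.orderOf_eq (MulAut.congr (resAut β P hPS)) _
  have hE' : MulAut.congr (resAut β P hPS) (α : MulAut P) ∈ E.autGroup (resHom β P hPS).range :=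
    h _ hcen (Subgroup.mem_map_of_mem (F.autGroup _).subtype (Subgroup.subset_closure
      (show (⟨_, hα'⟩ : F.autGroup (resHom β P hPS).range) ∈
        {α : ↥(F.autGroup (resHom β P hPS).range) | ∃ k : ℕ, orderOf α = p ^ k} from ⟨k, hord⟩)))
  have hiso := (mem_autGroup_iff E hcen.1).1 hE'
  have hrg := resHom_range β hPS
  refine ⟨((resHom β P hPS).range.subtype.comp
      ((MulAut.congr (resAut β P hPS) (α : MulAut P) : MulAut _) : _ ≃* _).toMonoidHom).comp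
      (Subgroup.inclusion hrg.ge), hom_of_eq_on E hrg hiso (fun _ _ _ => rfl), fun x hx hφx hαx => ?_⟩
  have hx' : (resAut β P hPS).symm ⟨((β ⟨x, hx⟩ : S) : Ω), hrg.ge hαx⟩ = x := by
    rw [MulEquiv.symm_apply_eq]
    rfl
  show (((resAut β P hPS) ((α : MulAut P) ((resAut β P hPS).symm ⟨((β ⟨x, hx⟩ : S) : Ω), hrg.ge hαx⟩)) :
    (resHom β P hPS).range) : Ω) = _
  rw [hx']
  rfl

/-- **Frattini factorization from a local step.** -/
theorem frattini_of_local {T : Subgroup Ω} (E : FusionSystem T) (F : FusionSystem S) [Finite S] {p : ℕ}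
    [Fact p.Prime] (hS : IsPGroup p S) (hF : F.IsSaturated p) (hT : F.StronglyClosed T)
    (hI : InvClause E F)
    (hloc : ∀ R : Subgroup Ω, R ≤ T → R ≠ T → F.IsFullyAutomized p R → F.IsReceptive R →
      (∀ P' : Subgroup Ω, P' ≤ T → Nat.card R < Nat.card P' → ∀ φ' ∈ F.Hom P', InG E F φ') →
      ∀ β : MulAut R, β ∈ F.autGroup R → GI E F (β : R ≃* R)) :
    ∀ (P : Subgroup Ω), P ≤ T → ∀ (φ : P →* Ω), φ ∈ F.Hom P → InG E F φ := by
  have hTS : T ≤ S := hT.1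
  have hfinT : Finite T := finite_of_le hTS
  have hTp : IsPGroup p T := by
    intro x
    obtain ⟨k, hk⟩ := hS ⟨x, hTS x.2⟩
    refine ⟨k, Subtype.ext ?_⟩
    have := congrArg (fun z : S => (z : Ω)) hk
    simpa using this
  intro P
  induction' hn : Nat.card T - Nat.card P using Nat.strong_induction_on with n ih generalizing P
  intro hPT φ hφ
  have hfinP : Finite P := finite_of_le (hPT.trans hTS)
  have hPS : P ≤ S := hPT.trans hTS
  -- the induction hypothesis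
  have IH : ∀ P' : Subgroup Ω, P' ≤ T → Nat.card P < Nat.card P' → ∀ φ' ∈ F.Hom P', InG E F φ' := by
    intro P' hP'T hlt φ' hφ'
    have hfinP' : Finite P' := finite_of_le (hP'T.trans hTS)
    have hle : Nat.card P' ≤ Nat.card T := Subgroup.card_le_of_le hP'T
    exact ih (Nat.card T - Nat.card P') (by omega) P' rfl hP'T φ' hφ'
  by_cases hPeq : P = T
  · subst hPeq
    exact InG_top E F hT hφ
  -- P < T
  have extend : ∀ (A R : Subgroup Ω) (hAT : A ≤ T), Nat.card A = Nat.card P → F.IsConj A R →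
      F.IsFullyAutomized p R → F.IsReceptive R → ∃ e : A ≃* R, IsIso F e ∧ GI E F e := by
    intro A R hAT hcardA hAR hRa hRr
    have hAS : A ≤ S := hAT.trans hTS
    have hfinA : Finite A := finite_of_le hAS
    have hAne : A ≠ T := by
      rintro rfl
      apply hPeq
      exact Subgroup.eq_of_le_of_card_ge hPT (le_of_eq hcardA)
    obtain ⟨χ, e, hχ, he, hχe⟩ := exists_extension F hS hRa hRr hAR
    obtain ⟨x₀, hx₀N, hx₀A⟩ := exists_mem_normalizerIn_not_mem (S := T) hTp hAT hAne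
    have hAN : A ≤ normalizerIn S A ⊓ T := le_inf (le_normalizerIn hAS) hAT
    have hfinN : Finite (normalizerIn S A ⊓ T : Subgroup Ω) := finite_of_le (inf_le_right.trans hTS)
    have hcard : Nat.card P < Nat.card (normalizerIn S A ⊓ T : Subgroup Ω) := by
      rw [← hcardA]
      by_contra hlt
      push Not at hlt
      have := Subgroup.eq_of_le_of_card_ge hAN hlt
      apply hx₀A
      rw [this]
      exact ⟨⟨hTS hx₀N.1, hx₀N.2⟩, hx₀N.1⟩
    have hχN : χ.comp (Subgroup.inclusion (inf_le_left : normalizerIn S A ⊓ T ≤ normalizerIn S A)) ∈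
        F.Hom (normalizerIn S A ⊓ T) := restrict_mem F hχ inf_le_left
    have h1 := IH _ inf_le_right hcard _ hχN
    have h2 := InG_restrict E F hAN h1
    refine ⟨e, he, GI_of_InG E F e h2 (fun x => ?_)⟩
    exact (hχe x x.2 (le_normalizerIn hAS x.2)).symm
  obtain ⟨R, hPR, hRa, hRr⟩ := hF P hPS
  have hRT : R ≤ T := by
    obtain ⟨ρ, hρ, rfl⟩ := hPR
    rintro _ ⟨x, rfl⟩
    exact hT.2 P hPT ρ hρ x
  have hQT : φ.range ≤ T := by
    rintro _ ⟨x, rfl⟩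
    exact hT.2 P hPT φ hφ x
  have hPQ : F.IsConj P φ.range := ⟨φ, hφ, rfl⟩
  have hfinR : Finite R := finite_of_le (hRT.trans hTS)
  have hRne : R ≠ T := by
    rintro rfl
    apply hPeq
    exact Subgroup.eq_of_le_of_card_ge hPT (le_of_eq (IsConj_card_eq hPR).symm)
  obtain ⟨e, he, hGe⟩ := extend P R hPT rfl hPR hRa hRr
  obtain ⟨e', he', hGe'⟩ := extend φ.range R hQT (IsConj_card_eq hPQ).symm
    (IsConj_trans (IsConj_symm hPQ) hPR) hRa hRr
  have heφ : IsIso F (MonoidHom.ofInjective (F.injective_of_mem hφ)) := isIso_ofInjective F hφ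
  have hβF : IsIso F (e.symm.trans ((MonoidHom.ofInjective (F.injective_of_mem hφ)).trans e')) :=
    he.symm.trans (heφ.trans he')
  have IH' : ∀ P' : Subgroup Ω, P' ≤ T → Nat.card R < Nat.card P' → ∀ φ' ∈ F.Hom P', InG E F φ' := by
    intro P' hP'T hlt
    exact IH P' hP'T (by rw [IsConj_card_eq hPR]; exact hlt)
  have hGβ : GI E F (e.symm.trans ((MonoidHom.ofInjective (F.injective_of_mem hφ)).trans e')) :=
    hloc R hRT hRne hRa hRr IH' _ ((mem_autGroup_iff F (hRT.trans hTS)).2 hβF)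
  have hG := GI_trans E F hI hGe (GI_trans E F hI hGβ (GI_symm E F hI hGe'))
  refine InG_of_GI E F hG (fun x => ?_)
  show φ x = ((e'.symm (e' ((MonoidHom.ofInjective (F.injective_of_mem hφ)) (e.symm (e x)))) : φ.range) : Ω)
  rw [MulEquiv.symm_apply_apply, MulEquiv.symm_apply_apply]
  rfl


/-- a fully automized receptive subgroup containing its centralizer is centric -/
theorem isCentric_of_centralizerIn_le (F : FusionSystem S) [Finite S] {p : ℕ} [Fact p.Prime]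
    (hS : IsPGroup p S) {R : Subgroup Ω} (hRa : F.IsFullyAutomized p R) (hRr : F.IsReceptive R)
    (hC : centralizerIn S R ≤ R) : F.IsCentric R := by
  refine ⟨hRa.1, fun Q hRQ => ?_⟩
  obtain ⟨χ, e, hχ, he, hχe⟩ := exists_extension F hS hRa hRr (IsConj_symm hRQ)
  have hQS : Q ≤ S := he.le_left
  intro c hc
  have hcN : c ∈ normalizerIn S Q := centralizerIn_le_normalizerIn S Q hc
  have h1 := map_mem_centralizerIn F hQS hχ e hχe ⟨c, hcN⟩ hc
  have h2 : χ ⟨c, hcN⟩ ∈ R := hC h1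
  have hq := (e.symm ⟨χ ⟨c, hcN⟩, h2⟩).2
  have h3 : χ ⟨((e.symm ⟨χ ⟨c, hcN⟩, h2⟩ : Q) : Ω), le_normalizerIn hQS hq⟩ = χ ⟨c, hcN⟩ := by
    rw [hχe _ hq (le_normalizerIn hQS hq)]
    simp
  have h4 := F.injective_of_mem hχ h3
  have h5 : ((e.symm ⟨χ ⟨c, hcN⟩, h2⟩ : Q) : Ω) = c := congrArg (fun z : normalizerIn S Q => (z : Ω)) h4
  rw [← h5]
  exact hq

theorem le_extender_of_mem (F : FusionSystem S) {P : Subgroup Ω} {φ : P →* Ω} (hφ : φ ∈ F.Hom P) :
    P ≤ extender S P φ := by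
  intro u hu
  rw [Cfsg.Agent.Lib.Helper85.mem_extender_iff]
  refine ⟨hom_le F hφ hu, Subgroup.le_normalizer hu, φ ⟨u, hu⟩, hom_map_mem F hφ _, fun x hx => ?_⟩
  rw [← map_inv, ← map_mul, ← map_mul]
  rfl

theorem closure_pElements_normal {G : Type*} [Group G] (p : ℕ) :
    (Subgroup.closure {α : G | ∃ k : ℕ, orderOf α = p ^ k}).Normal := by
  refine ⟨fun n hn g => ?_⟩
  induction hn using Subgroup.closure_induction with
  | mem x hx =>
    obtain ⟨k, hk⟩ := hx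
    apply Subgroup.subset_closure
    refine ⟨k, ?_⟩
    have := MulEquiv.orderOf_eq (MulAut.conj g) x
    rw [MulAut.conj_apply] at this
    rw [this, hk]
  | one => simp
  | mul x y _ _ hx hy =>
    have : g * (x * y) * g⁻¹ = (g * x * g⁻¹) * (g * y * g⁻¹) := by group
    rw [this]
    exact Subgroup.mul_mem _ hx hy
  | inv x _ hx =>
    have : g * x⁻¹ * g⁻¹ = (g * x * g⁻¹)⁻¹ := by group
    rw [this]
    exact Subgroup.inv_mem _ hx

/-- **Local step** for the core system. -/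
theorem local_step (E F : FusionSystem S) [Finite S] {p : ℕ} [Fact p.Prime] (hS : IsPGroup p S)
    (h : ∀ P : Subgroup Ω, F.IsCentric P →
      (Subgroup.closure {α : ↥(F.autGroup P) | ∃ k : ℕ, orderOf α = p ^ k}).map (F.autGroup P).subtype ≤
        E.autGroup P)
    (R : Subgroup Ω) (hRS : R ≤ S) (hne : R ≠ S) (hRa : F.IsFullyAutomized p R) (hRr : F.IsReceptive R)
    (IH : ∀ P' : Subgroup Ω, P' ≤ S → Nat.card R < Nat.card P' → ∀ φ' ∈ F.Hom P',
      InG (coreSystem E F) F φ')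
    (β : MulAut R) (hβ : β ∈ F.autGroup R) : GI (coreSystem E F) F (β : R ≃* R) := by
  have hT : F.StronglyClosed S := ⟨le_rfl, fun _ _ _ hφ x => (F.le_of_mem hφ).2 x⟩
  have hfinR : Finite R := finite_of_le hRS
  have hI := invClause_core E F
  by_cases hC : centralizerIn S R ≤ R
  · -- `R` is centric: Frattini argument
    have hcen : F.IsCentric R := isCentric_of_centralizerIn_le F hS hRa hRr hC
    have hfinA : Finite (F.autGroup R) := inferInstance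
    obtain ⟨-, Rsyl, hRsyl⟩ := hRa
    have hnormal : (Subgroup.closure {α : ↥(F.autGroup R) | ∃ k : ℕ, orderOf α = p ^ k}).Normal :=
      closure_pElements_normal p
    have hle : (Rsyl : Subgroup (F.autGroup R)) ≤
        Subgroup.closure {α : ↥(F.autGroup R) | ∃ k : ℕ, orderOf α = p ^ k} := by
      intro x hx
      apply Subgroup.subset_closure
      obtain ⟨k, hk⟩ := (IsPGroup.iff_orderOf.1 Rsyl.isPGroup') ⟨x, hx⟩
      refine ⟨k, ?_⟩
      rw [← hk]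
      exact Subgroup.orderOf_coe (⟨x, hx⟩ : (Rsyl : Subgroup (F.autGroup R)))
    obtain ⟨hh, hhn, n, hn, hβeq⟩ := frattini_inf Rsyl
      (Subgroup.closure {α : ↥(F.autGroup R) | ∃ k : ℕ, orderOf α = p ^ k}) (⟨β, hβ⟩ : F.autGroup R)
    rw [inf_eq_left.2 hle] at hhn
    have hγ : GI (coreSystem E F) F ((hh : MulAut R) : R ≃* R) := by
      refine GI_of_normalizes (coreSystem E F) F hS hT hRS hne hRr IH _ hh.2 (fun t htN _ => ?_)
      have hcS : conjAut R t htN.2 ∈ autInducedBy S R := mem_autInducedBy_iff.2 ⟨t, htN.1, fun _ => rfl⟩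
      have hcF : conjAut R t htN.2 ∈ F.autGroup R :=
        Cfsg.Agent.Lib.Helper87.autInducedBy_le_autGroup F hRS hcS
      have hSig : (⟨conjAut R t htN.2, hcF⟩ : F.autGroup R) ∈ (Rsyl : Subgroup (F.autGroup R)) := by
        rw [hRsyl]
        exact Subgroup.mem_subgroupOf.2 hcS
      have h3 := (Subgroup.mem_normalizer_iff.mp hhn _).mp hSig
      rw [hRsyl] at h3
      exact Subgroup.mem_subgroupOf.1 h3
    have hε : GI (coreSystem E F) F ((n : MulAut R) : R ≃* R) := by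
      refine GI_of_E (coreSystem E F) F ((mem_autGroup_iff (coreSystem E F) hRS).1 ?_)
      exact aut_mem_core E F h hcen (Subgroup.mem_map_of_mem _ hn)
    have h5 := GI_trans (coreSystem E F) F hI hε hγ
    have h6 : (β : R ≃* R) = ((n : MulAut R) : R ≃* R).trans ((hh : MulAut R) : R ≃* R) := by
      have : β = (hh : MulAut R) * (n : MulAut R) := congrArg (fun z : F.autGroup R => (z : MulAut R)) hβeq
      rw [this]
      rfl
    rw [h6]
    exact h5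
  · -- `β` extends to `R C_S(R) > R`
    have hβF : R.subtype.comp (β : R ≃* R).toMonoidHom ∈ F.Hom R := (mem_autGroup_iff F hRS).1 hβ
    have hr : (R.subtype.comp (β : R ≃* R).toMonoidHom).range = R := range_subtype_comp _
    obtain ⟨ψ, hψ, hψe⟩ := hRr.2 R _ hβF hr
    have hRN : R ≤ extender S R (R.subtype.comp (β : R ≃* R).toMonoidHom) := le_extender_of_mem F hβF
    have hCN : centralizerIn S R ≤ extender S R (R.subtype.comp (β : R ≃* R).toMonoidHom) :=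
      centralizerIn_le_extender _
    have hNS : extender S R (R.subtype.comp (β : R ≃* R).toMonoidHom) ≤ S :=
      (extender_le S R _).trans inf_le_left
    have hfinN : Finite (extender S R (R.subtype.comp (β : R ≃* R).toMonoidHom)) := finite_of_le hNS
    have hcard : Nat.card R < Nat.card (extender S R (R.subtype.comp (β : R ≃* R).toMonoidHom)) := by
      by_contra hlt
      push Not at hlt
      have := Subgroup.eq_of_le_of_card_ge hRN hlt
      exact hC (hCN.trans this.ge)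
    have h1 := IH _ hNS hcard _ hψ
    have h2 := InG_restrict (coreSystem E F) F hRN h1
    refine GI_of_InG (coreSystem E F) F _ h2 (fun x => ?_)
    exact (hψe x x.2 (hRN x.2)).symm

/-- Let F be a saturated fusion system over a finite p-group S and E a fusion system over S contained in F. If Aut_E(P) contains the subgroup of Aut_F(P) generated by its elements of p-power order for every subgroup P that is centric in F, then the same holds for every subgroup of S (E has index prime to p in F), every map of F with source a subgroup P of S is an element of Aut_F(S) composed with a map of E, and a subgroup is centric in E exactly when it is centric in F. -/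
theorem prime_to_p_index_of_automizers {Ω : Type*} [Group Ω] {S : Subgroup Ω} [Finite S] (p : ℕ) [Fact p.Prime] (hS : IsPGroup p S) (F : Cfsg.FusionSystem S) (hF : F.IsSaturated p) (E : Cfsg.FusionSystem S) (hEF : E.IsSubsystemOf F) (h : ∀ P : Subgroup Ω, F.IsCentric P → (Subgroup.closure {α : ↥(F.autGroup P) | ∃ k : ℕ, orderOf α = p ^ k}).map (F.autGroup P).subtype ≤ E.autGroup P) : E.HasPrimeToPIndexIn F p ∧ (∀ (P : Subgroup Ω) (φ : P →* Ω), φ ∈ F.Hom P → ∃ α ∈ F.autGroup S, ∃ φ₀ ∈ E.Hom P, ∀ (x : P) (hx : φ₀ x ∈ S), φ x = ((α ⟨φ₀ x, hx⟩ : S) : Ω)) ∧ ∀ P : Subgroup Ω, E.IsCentric P ↔ F.IsCentric P := by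
  have hT : F.StronglyClosed S := ⟨le_rfl, fun _ _ _ hφ x => (F.le_of_mem hφ).2 x⟩
  have key : ∀ (P : Subgroup Ω), P ≤ S → ∀ (φ : P →* Ω), φ ∈ F.Hom P → InG (coreSystem E F) F φ :=
    frattini_of_local (coreSystem E F) F hS hF hT (invClause_core E F)
      (fun R hRS hne hRa hRr IH β hβ => local_step E F hS h R hRS hne hRa hRr IH β hβ)
  have part2 : ∀ (P : Subgroup Ω) (φ : P →* Ω), φ ∈ F.Hom P → ∃ α ∈ F.autGroup S, ∃ φ₀ ∈ E.Hom P,
      ∀ (x : P) (hx : φ₀ x ∈ S), φ x = ((α ⟨φ₀ x, hx⟩ : S) : Ω) := by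
    intro P φ hφ
    obtain ⟨α, hα, φ₀, hφ₀, hφe⟩ := key P (hom_le F hφ) φ hφ
    exact ⟨α, hα, φ₀, hφ₀.1, hφe⟩
  refine ⟨⟨hEF, fun P hP => ?_⟩, part2, fun P => ⟨fun hP => ?_, fun hP => ?_⟩⟩
  · -- index prime to p
    have hfinP : Finite P := finite_of_le hP
    rw [Subgroup.map_le_iff_le_comap, Subgroup.closure_le]
    rintro α ⟨k, hk⟩
    show (α : MulAut P) ∈ E.autGroup P
    rw [mem_autGroup_iff E hP]
    obtain ⟨Q, hPQ, hQa, hQr⟩ := hF P hP
    obtain ⟨e₀, he₀⟩ := (isConj_iff F).1 hPQ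
    have hQS : Q ≤ S := he₀.le_right
    have hfinQ : Finite Q := finite_of_le hQS
    have hfinA : Finite (F.autGroup Q) := inferInstance
    have hα' : MulAut.congr e₀ (α : MulAut P) ∈ F.autGroup Q := congr_mem_autGroup F he₀ α.2
    obtain ⟨-, Rsyl, hRsyl⟩ := hQa
    have hord : orderOf (⟨_, hα'⟩ : F.autGroup Q) = p ^ k := by
      rw [← hk, ← Subgroup.orderOf_coe, ← Subgroup.orderOf_coe]
      exact MulEquiv.orderOf_eq (MulAut.congr e₀) _
    have hH : IsPGroup p (Subgroup.zpowers (⟨_, hα'⟩ : F.autGroup Q)) :=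
      IsPGroup.of_card (n := k) (by rw [Nat.card_zpowers, hord])
    obtain ⟨c, hc⟩ := exists_conj_mem_sylow Rsyl hH
    have h1 := hc _ (Subgroup.mem_zpowers _)
    have h1' : c * (⟨_, hα'⟩ : F.autGroup Q) * c⁻¹ ∈ (Rsyl : Subgroup (F.autGroup Q)) := h1
    rw [hRsyl, Subgroup.mem_subgroupOf] at h1'
    obtain ⟨s, hs, hse⟩ := mem_autInducedBy_iff.1 h1'
    have hcF : IsIso F ((c : MulAut Q) : Q ≃* Q) := (mem_autGroup_iff F hQS).1 c.2
    have hψ : IsIso F (e₀.trans ((c : MulAut Q) : Q ≃* Q)) := he₀.trans hcF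
    obtain ⟨β, hβ, ψ₀, hψ₀, hψe⟩ := key P hP _ hψ
    have hψ₀E : ψ₀ ∈ E.Hom P := hψ₀.1
    have hψ₀S : ∀ x : P, ψ₀ x ∈ S := (E.le_of_mem hψ₀E).2
    -- ψ (α x) = s ψ(x) s⁻¹
    have h2 : ∀ x : P, (((c : MulAut Q) (e₀ ((α : MulAut P) x)) : Q) : Ω) =
        s * (((c : MulAut Q) (e₀ x) : Q) : Ω) * s⁻¹ := by
      intro x
      rw [← hse]
      show _ = ((((c : MulAut Q) * MulAut.congr e₀ (α : MulAut P) * (c : MulAut Q)⁻¹)
        ((c : MulAut Q) (e₀ x)) : Q) : Ω)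
      rw [MulAut.mul_apply, MulAut.mul_apply, MulAut.inv_apply_self]
      show _ = (((c : MulAut Q) (e₀ ((α : MulAut P) (e₀.symm (e₀ x)))) : Q) : Ω)
      rw [MulEquiv.symm_apply_apply]
    -- ψ₀ (α x) = t ψ₀(x) t⁻¹ with t = β⁻¹ s
    have h3 : ∀ x : P, ψ₀ ((α : MulAut P) x) =
        ((β⁻¹ ⟨s, hs⟩ : S) : Ω) * ψ₀ x * ((β⁻¹ ⟨s, hs⟩ : S) : Ω)⁻¹ := by
      intro x
      have e1 := hψe ((α : MulAut P) x) (hψ₀S _)
      have e2 := hψe x (hψ₀S _)
      have e3 : ((β ⟨ψ₀ ((α : MulAut P) x), hψ₀S _⟩ : S) : Ω) =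
          s * ((β ⟨ψ₀ x, hψ₀S _⟩ : S) : Ω) * s⁻¹ := by
        rw [← e1, ← e2]
        exact h2 x
      have e4 : β ⟨ψ₀ ((α : MulAut P) x), hψ₀S _⟩ = ⟨s, hs⟩ * β ⟨ψ₀ x, hψ₀S _⟩ * ⟨s, hs⟩⁻¹ :=
        Subtype.ext e3
      have e5 := congrArg (DFunLike.coe (β⁻¹ : MulAut S)) e4
      rw [MulAut.inv_apply_self, map_mul, map_mul, map_inv, MulAut.inv_apply_self] at e5
      exact congrArg (fun z : S => (z : Ω)) e5
    have he₁ : IsIso E (MonoidHom.ofInjective (E.injective_of_mem hψ₀E)) := isIso_ofInjective E hψ₀E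
    have hrS : ψ₀.range ≤ S := hom_range_le E hψ₀E
    have hθ₁ : (conjHom ψ₀.range ((β⁻¹ ⟨s, hs⟩ : S) : Ω)).comp
        (MonoidHom.ofInjective (E.injective_of_mem hψ₀E)).toMonoidHom ∈ E.Hom P :=
      comp_mem' E he₁ (E.conj_mem hrS (β⁻¹ ⟨s, hs⟩ : S).2)
        (fun x => ((MonoidHom.ofInjective (E.injective_of_mem hψ₀E)) x).2) (fun x => rfl)
    have hval : ∀ x : P, ((conjHom ψ₀.range ((β⁻¹ ⟨s, hs⟩ : S) : Ω)).comp
        (MonoidHom.ofInjective (E.injective_of_mem hψ₀E)).toMonoidHom) x ∈ ψ₀.range := by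
      intro x
      refine ⟨(α : MulAut P) x, ?_⟩
      rw [h3 x]
      rfl
    refine comp_mem' E hθ₁ he₁.symm hval (fun x => ?_)
    show (((α : MulAut P) x : P) : Ω) = _
    have : (⟨_, hval x⟩ : ψ₀.range) = (MonoidHom.ofInjective (E.injective_of_mem hψ₀E)) ((α : MulAut P) x) := by
      apply Subtype.ext
      show ((β⁻¹ ⟨s, hs⟩ : S) : Ω) * ψ₀ x * ((β⁻¹ ⟨s, hs⟩ : S) : Ω)⁻¹ = ψ₀ ((α : MulAut P) x)
      exact (h3 x).symm
    rw [this]
    simp
  · -- E-centric implies F-centric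
    refine ⟨hP.1, fun Q hPQ => ?_⟩
    obtain ⟨φ, hφ, rfl⟩ := hPQ
    obtain ⟨α, hα, φ₀, hφ₀, hφe⟩ := part2 P φ hφ
    have hφ₀S : ∀ x : P, φ₀ x ∈ S := (E.le_of_mem hφ₀).2
    intro c hc
    have hcS : c ∈ S := hc.1
    have hc' : ((α⁻¹ ⟨c, hcS⟩ : S) : Ω) ∈ centralizerIn S φ₀.range := by
      refine ⟨(α⁻¹ ⟨c, hcS⟩ : S).2, ?_⟩
      show _ ∈ Subgroup.centralizer (φ₀.range : Set Ω)
      rw [Subgroup.mem_centralizer_iff]
      rintro _ ⟨x, rfl⟩
      have h1 := Subgroup.mem_centralizer_iff.1 hc.2 (φ x) ⟨x, rfl⟩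
      rw [hφe x (hφ₀S x)] at h1
      have h2 : α ⟨φ₀ x, hφ₀S x⟩ * ⟨c, hcS⟩ = ⟨c, hcS⟩ * α ⟨φ₀ x, hφ₀S x⟩ := Subtype.ext h1
      have h3 := congrArg (DFunLike.coe (α⁻¹ : MulAut S)) h2
      rw [map_mul, map_mul, MulAut.inv_apply_self] at h3
      exact congrArg (fun z : S => (z : Ω)) h3
    obtain ⟨x₀, hx₀⟩ := (hP.2 φ₀.range ⟨φ₀, hφ₀, rfl⟩) hc'
    refine ⟨x₀, ?_⟩
    rw [hφe x₀ (hφ₀S x₀)]
    have : (⟨φ₀ x₀, hφ₀S x₀⟩ : S) = α⁻¹ ⟨c, hcS⟩ := Subtype.ext hx₀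
    rw [this, MulAut.apply_inv_self]
  · -- F-centric implies E-centric
    refine ⟨hP.1, fun Q hPQ => hP.2 Q ?_⟩
    obtain ⟨φ, hφ, hr⟩ := hPQ
    exact ⟨φ, hEF P hφ, hr⟩

end Cfsg.Agent.Lib.Helper88.Core

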