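/-
helper88: normality criterion via Alperin (centric-radical form).
A strongly closed subgroup `Q` of a saturated fusion system `F` which is contained in every fully normalized, centric,
radical subgroup is normal in `F`.
All declarations live in `Cfsg.Agent.Lib.Helper88.NormalCR`.
-/
import Cfsg.Agent.Lib.Helper84.KLBasic

set_option autoImplicit false

namespace Cfsg.Agent.Lib.Helper88.NormalCR

open Cfsg Cfsg.FusionSystem Cfsg.Agent.Lib.Helper87 Cfsg.Agent.Lib.Helper84.KL

universe u

variable {Ω : Type u} [Group Ω] {S : Subgroup Ω}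

/-- A strongly closed subgroup is normalized by `S`. -/
theorem normalizerIn_eq_of_stronglyClosed (F : FusionSystem S) {Q : Subgroup Ω} (hQ : F.StronglyClosed Q) :
    normalizerIn S Q = S := by
  apply normalizerIn_eq_of_le_normalizer
  intro g hg
  rw [Subgroup.mem_normalizer_iff]
  intro x
  constructor
  · intro hx
    exact StronglyClosed_conj_mem hQ hg hx
  · intro hx
    have := StronglyClosed_conj_mem hQ (S.inv_mem hg) hx
    have e : g⁻¹ * (g * x * g⁻¹) * g⁻¹⁻¹ = x := by group
    rwa [e] at this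

/-- An `F`-automorphism of `R ≥ Q`, `Q` strongly closed, lies in the normalizer system of `Q`. -/
theorem aut_mem_normalizerHom (F : FusionSystem S) {Q R : Subgroup Ω} (hQ : F.StronglyClosed Q)
    (hRS : R ≤ S) (hQR : Q ≤ R) (α : MulAut R) (hα : α ∈ F.autGroup R) :
    R.subtype.comp α.toMonoidHom ∈ F.normalizerHom Q R := by
  have hN := normalizerIn_eq_of_stronglyClosed F hQ
  have hφ : R.subtype.comp α.toMonoidHom ∈ F.Hom R := (Cfsg.Agent.Lib.Helper87.mem_autGroup_iff F hRS).1 hα
  have hφi : R.subtype.comp (α⁻¹ : MulAut R).toMonoidHom ∈ F.Hom R :=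
    (Cfsg.Agent.Lib.Helper87.mem_autGroup_iff F hRS).1 ((F.autGroup R).inv_mem hα)
  have hle : R ⊔ Q ≤ R := sup_le le_rfl hQR
  refine ⟨hφ, ?_, ?_, (R.subtype.comp α.toMonoidHom).comp (Subgroup.inclusion hle),
    Cfsg.Agent.Lib.Helper87.restrict_mem F hφ hle, fun x => rfl, ?_⟩
  · rw [hN]; exact hRS
  · intro x
    rw [hN]
    exact hRS (α x).2
  · rw [map_subgroupOf_eq_iff]
    constructor
    · intro x hx
      have := hQ.2 Q le_rfl _ (Cfsg.Agent.Lib.Helper87.restrict_mem F hφ hQR) ⟨(x : Ω), hx⟩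
      exact this
    · intro q hq
      have h1 := hQ.2 Q le_rfl _ (Cfsg.Agent.Lib.Helper87.restrict_mem F hφi hQR) ⟨q, hq⟩
      refine ⟨⟨((α⁻¹ : MulAut R) ⟨q, hQR hq⟩ : Ω), (le_sup_left : R ≤ R ⊔ Q) ((α⁻¹ : MulAut R) ⟨q, hQR hq⟩).2⟩, h1, ?_⟩
      show ((α ((α⁻¹ : MulAut R) ⟨q, hQR hq⟩) : R) : Ω) = q
      rw [MulAut.apply_inv_self]

/-- **Normality criterion.** In a saturated fusion system, a strongly closed subgroup contained in every fully normalized,
centric, radical subgroup is normal. -/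
theorem isNormal_of_le_centric_radical (F : FusionSystem S) [Finite S] {p : ℕ} [Fact p.Prime] (hS : IsPGroup p S)
    (hF : F.IsSaturated p) {Q : Subgroup Ω} (hQ : F.StronglyClosed Q)
    (h : ∀ R : Subgroup Ω, F.IsFullyNormalized R → F.IsCentric R → F.IsRadical p R → Q ≤ R) :
    F.IsNormal Q := by
  have hN := normalizerIn_eq_of_stronglyClosed F hQ
  apply isNormal_of_le_normSysS F hQ.1 hN
  apply Cfsg.Agent.Lib.Helper88.alperin_cr F (normSysS F Q hQ.1 hN) hS hF
  intro R hfn hc hr hfa _ α hα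
  show R.subtype.comp ((α : R ≃* R)).toMonoidHom ∈ (normSysS F Q hQ.1 hN).Hom R
  rw [normSysS_hom]
  exact aut_mem_normalizerHom F hQ hfa.1 (h R hfn hc hr) α hα

/-- A strongly closed subgroup of a finite `S` is weakly closed. -/
theorem weaklyClosed_of_stronglyClosed (F : FusionSystem S) [Finite S] {Q : Subgroup Ω} (hQ : F.StronglyClosed Q) :
    F.WeaklyClosed Q := by
  refine ⟨hQ.1, fun φ hφ => ?_⟩
  haveI : Finite Q := finite_of_le hQ.1
  have hle : φ.range ≤ Q := by
    rintro _ ⟨x, rfl⟩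
    exact hQ.2 Q le_rfl φ hφ x
  apply Subgroup.eq_of_le_of_card_ge hle
  have hinj := F.injective_of_mem hφ
  rw [Nat.card_congr (MonoidHom.ofInjective hinj).toEquiv]

/-- A strongly closed subgroup of a finite `S` is fully normalized. -/
theorem isFullyNormalized_of_stronglyClosed (F : FusionSystem S) [Finite S] {Q : Subgroup Ω}
    (hQ : F.StronglyClosed Q) : F.IsFullyNormalized Q := by
  refine ⟨hQ.1, ?_⟩
  rintro Q' ⟨φ, hφ, rfl⟩
  rw [(weaklyClosed_of_stronglyClosed F hQ).2 φ hφ]

/-- A strongly closed subgroup of a saturated system is fully automized (`Aut_S(Q)` is Sylow in `Aut_F(Q)`) and receptive. -/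
theorem fullyAutomized_receptive_of_stronglyClosed (F : FusionSystem S) [Finite S] {p : ℕ} [Fact p.Prime]
    (hS : IsPGroup p S) (hF : F.IsSaturated p) {Q : Subgroup Ω} (hQ : F.StronglyClosed Q) :
    F.IsFullyAutomized p Q ∧ F.IsReceptive Q :=
  fullyAutomized_receptive_of_fullyNormalized F hS hF (isFullyNormalized_of_stronglyClosed F hQ)

end Cfsg.Agent.Lib.Helper88.NormalCR
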