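import Cfsg.Agent.Lib.Helper85.FusionRealized
import Cfsg.Agent.Lib.Helper87.FusionCore
import Mathlib

/-!
The inner fusion system of a finite `p`-group is saturated.
-/

set_option autoImplicit false

namespace Cfsg.Agent.Lib.Helper88

open Cfsg Cfsg.FusionSystem

variable {Ω : Type*} [Group Ω]

/-- `F_Q(Q)` is realized by the identity of `Q`. -/
theorem inner_isRealizedBy (Q : Subgroup Ω) :
    (innerFusionSystem Q).IsRealizedBy (MonoidHom.id Q) := by
  refine ⟨fun _ _ h => h, fun P hP φ hφ => ?_⟩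
  constructor
  · rintro ⟨-, g, hg, h⟩
    refine ⟨⟨g, hg⟩, fun x => ?_⟩
    apply Subtype.ext
    exact h x
  · rintro ⟨g, hg⟩
    refine ⟨hP, g, g.2, fun x => ?_⟩
    exact congrArg (fun z : Q => (z : Ω)) (hg x)

/-- The inner fusion system of a finite `p`-group is saturated. -/
theorem inner_isSaturated {Q : Subgroup Ω} [Finite Q] {p : ℕ} [Fact p.Prime] (hQ : IsPGroup p Q) :
    (innerFusionSystem Q).IsSaturated p := by
  have htop : IsPGroup p (⊤ : Subgroup Q) := by
    intro x
    obtain ⟨k, hk⟩ := hQ (x : Q)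
    exact ⟨k, Subtype.ext (by simpa using hk)⟩
  obtain ⟨T, hT⟩ := htop.exists_le_sylow
  have hT' : (T : Subgroup Q) = (MonoidHom.id Q).range := by
    rw [MonoidHom.range_eq_top.2 (fun x => ⟨x, rfl⟩)]
    exact top_le_iff.1 hT
  exact Cfsg.Agent.Lib.Helper85.isSaturated_of_isRealizedBy (inner_isRealizedBy Q) T hT'

end Cfsg.Agent.Lib.Helper88
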