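import Cfsg.Agent.Lib.Helper84.TateAux
import Cfsg.Prelude.Def_BaumannBlocks

/-!
# The general form of Tate's theorem (helper88), on top of helper84's central lifting lemma

`P` a `p`-subgroup of index prime to `p` in the finite group `G`, `P ≤ H ≤ G`.  If `H` controls `p`-transfer
(`P ∩ G' ≤ H'`), then `O^p(H) = O^p(G) ∩ H`.
-/

set_option autoImplicit false
open Cfsg
open scoped commutatorElement

namespace Cfsg.Agent.Lib.Helper88.Tate

open Cfsg.Agent.Lib.Helper84

/-- relative version of `commutator_top_ne_of_ne_bot`: in a nilpotent group, for normal `R₀ ≤ R` with `R ≰ R₀`,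
`R₀ [R, P] ≠ R`. -/
theorem sup_commutator_top_ne {P : Type*} [Group P] [hnil : Group.IsNilpotent P]
    (R R₀ : Subgroup P) [hR₀ : R₀.Normal] (hne : ¬ R ≤ R₀) :
    R₀ ⊔ ⁅R, (⊤ : Subgroup P)⁆ ≠ R := by
  intro heq
  set q := QuotientGroup.mk' R₀ with hq
  have hqs : Function.Surjective q := QuotientGroup.mk'_surjective R₀
  have h1 : R.map q ≠ ⊥ := by
    intro h
    apply hne
    intro x hx
    have : q x ∈ R.map q := Subgroup.mem_map_of_mem q hx
    rw [h, Subgroup.mem_bot] at this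
    exact (QuotientGroup.eq_one_iff x).1 this
  apply commutator_top_ne_of_ne_bot (R.map q) h1
  have h2 : (⊤ : Subgroup (P ⧸ R₀)) = (⊤ : Subgroup P).map q :=
    (Subgroup.map_top_of_surjective q hqs).symm
  rw [h2, ← Subgroup.map_commutator]
  conv_rhs => rw [← heq]
  rw [Subgroup.map_sup]
  have h3 : R₀.map q = ⊥ := by
    rw [eq_bot_iff]
    rintro _ ⟨x, hx, rfl⟩
    exact Subgroup.mem_bot.2 ((QuotientGroup.eq_one_iff x).2 hx)
  rw [h3, bot_sup_eq]

variable {G : Type*} [Group G] [Finite G] {p : ℕ} [hp : Fact p.Prime]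

/-- the hyperfocal subgroup lies in the focal subgroup -/
theorem inf_pResidual_le_commutator (P : Subgroup G) (hP : IsPGroup p P) :
    P ⊓ pResidual p G ≤ commutator G := by
  intro x hx
  have hK := pResidual_pResidual_eq_top p G
  have hT : IsPGroup p ((P.subgroupOf (pResidual p G))) := hP.comap_subtype
  have h1 := le_commutator_of_pResidual_eq_top hK hT
  have hx' : (⟨x, hx.2⟩ : pResidual p G) ∈ P.subgroupOf (pResidual p G) := Subgroup.mem_subgroupOf.2 hx.1
  have h2 := h1 hx'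
  have h3 : (commutator (pResidual p G)).map (pResidual p G).subtype ≤ commutator G := by
    rw [commutator_def, commutator_def, Subgroup.map_commutator]
    exact Subgroup.commutator_mono le_top le_top
  exact h3 ⟨_, h2, rfl⟩

theorem pResidualOf_le (H : Subgroup G) : pResidualOf p H ≤ pResidual p G ⊓ H := by
  refine le_inf (map_pResidual_le p H.subtype) ?_
  rintro _ ⟨x, -, rfl⟩
  exact x.2

/-- two homomorphisms that differ by central elements agree on the commutator subgroup -/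
theorem eq_on_commutator_of_central {H E : Type*} [Group H] [Group E] (a b : H →* E)
    (hc : ∀ h, (a h)⁻¹ * b h ∈ Subgroup.center E) : ∀ h ∈ commutator H, a h = b h := by
  have hmul : ∀ x y : H, (a (x * y))⁻¹ * b (x * y) = ((a x)⁻¹ * b x) * ((a y)⁻¹ * b y) := by
    intro x y
    have hcx := Subgroup.mem_center_iff.1 (hc x) (a y)⁻¹
    rw [map_mul, map_mul, mul_inv_rev]
    calc (a y)⁻¹ * (a x)⁻¹ * (b x * b y)
        = ((a y)⁻¹ * ((a x)⁻¹ * b x)) * b y := by group
      _ = (((a x)⁻¹ * b x) * (a y)⁻¹) * b y := by rw [hcx]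
      _ = ((a x)⁻¹ * b x) * ((a y)⁻¹ * b y) := by group
  let δ : H →* E := MonoidHom.mk' (fun h => (a h)⁻¹ * b h) hmul
  have hδ : ∀ h, δ h = (a h)⁻¹ * b h := fun _ => rfl
  have hδker : commutator H ≤ δ.ker := by
    rw [commutator_def, Subgroup.commutator_le]
    intro x _ y _
    rw [MonoidHom.mem_ker, map_commutatorElement, commutatorElement_eq_one_iff_commute]
    have := Subgroup.mem_center_iff.1 (hc y) (δ x)
    rw [← hδ] at this
    exact this
  intro h hh
  have h1 : δ h = 1 := hδker hh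
  rw [hδ] at h1
  exact inv_mul_eq_one.1 h1

/-- the natural map `P → P/R₁` extends to `H` when `R₁ ⊇ P ∩ O^p(H)` -/
theorem exists_extension_to (P : Subgroup G) (hidx : ¬ p ∣ P.index) (H : Subgroup G) (hPH : P ≤ H)
    (R₁ : Subgroup P) [R₁.Normal] (hR₁ : (pResidualOf p H).subgroupOf P ≤ R₁) :
    ∃ μH : ↥H →* P ⧸ R₁, (∀ x : P, μH (Subgroup.inclusion hPH x) = QuotientGroup.mk' R₁ x) ∧
      ∀ h ∈ pResidual p ↥H, μH h = 1 := by
  have hL'n : (pResidual p ↥H).Normal := Cfsg.Agent.Lib.Helper34.pResidual_normal p ↥H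
  have hidxH : ¬ p ∣ (P.subgroupOf H).index := by
    intro h
    apply hidx
    rw [← Subgroup.relIndex_mul_index hPH]
    exact Dvd.dvd.mul_right h _
  have hsupH : pResidual p ↥H ⊔ P.subgroupOf H = ⊤ :=
    Cfsg.Agent.Lib.Helper34.pResidual_sup_eq_top p (P.subgroupOf H) hidxH
  let f : P →* ↥H ⧸ pResidual p ↥H := (QuotientGroup.mk' (pResidual p ↥H)).comp (Subgroup.inclusion hPH)
  have hf : Function.Surjective f := by
    intro y
    obtain ⟨h, rfl⟩ := QuotientGroup.mk'_surjective _ y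
    have hh : h ∈ pResidual p ↥H ⊔ P.subgroupOf H := by rw [hsupH]; exact Subgroup.mem_top h
    rw [← SetLike.mem_coe, Subgroup.normal_mul] at hh
    obtain ⟨k, hk, x, hx, rfl⟩ := hh
    refine ⟨⟨(x : G), Subgroup.mem_subgroupOf.1 hx⟩, ?_⟩
    have hk1 : QuotientGroup.mk' (pResidual p ↥H) k = 1 := (QuotientGroup.eq_one_iff k).2 hk
    show QuotientGroup.mk' (pResidual p ↥H) _ = QuotientGroup.mk' (pResidual p ↥H) (k * x)
    rw [map_mul, hk1, one_mul]
    rfl
  have hfker : f.ker ≤ R₁ := by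
    intro x hx
    apply hR₁
    have h1 : (Subgroup.inclusion hPH x) ∈ pResidual p ↥H := (QuotientGroup.eq_one_iff _).1 hx
    exact Subgroup.mem_subgroupOf.2 ⟨_, h1, rfl⟩
  let e := QuotientGroup.quotientKerEquivOfSurjective f hf
  let g₀ : P ⧸ f.ker →* P ⧸ R₁ := QuotientGroup.map f.ker R₁ (MonoidHom.id P) hfker
  refine ⟨g₀.comp (e.symm.toMonoidHom.comp (QuotientGroup.mk' (pResidual p ↥H))), ?_, ?_⟩
  · intro x
    have h1 : e.symm (QuotientGroup.mk' (pResidual p ↥H) (Subgroup.inclusion hPH x)) =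
        (QuotientGroup.mk x : P ⧸ f.ker) := by
      rw [MulEquiv.symm_apply_eq]
      rfl
    show g₀ (e.symm (QuotientGroup.mk' (pResidual p ↥H) (Subgroup.inclusion hPH x))) = _
    rw [h1]
    rfl
  · intro h hh
    have hh1 : QuotientGroup.mk' (pResidual p ↥H) h = 1 := (QuotientGroup.eq_one_iff h).2 hh
    show g₀ (e.symm (QuotientGroup.mk' (pResidual p ↥H) h)) = 1
    rw [hh1, map_one, map_one]

/-- **General Tate theorem**, Sylow part: focal control gives hyperfocal control. -/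
theorem inf_pResidual_le_pResidualOf (P : Subgroup G) (hP : IsPGroup p P) (hidx : ¬ p ∣ P.index)
    (H : Subgroup G) (hPH : P ≤ H) (hfoc : P ⊓ commutator G ≤ ⁅H, H⁆) :
    P ⊓ pResidual p G ≤ pResidualOf p H := by
  classical
  have hKn : (pResidual p G).Normal := Cfsg.Agent.Lib.Helper34.pResidual_normal p G
  have hL'n : (pResidual p ↥H).Normal := Cfsg.Agent.Lib.Helper34.pResidual_normal p ↥H
  have hLK : pResidualOf p H ≤ pResidual p G := (pResidualOf_le H).trans inf_le_left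
  have hnil : Group.IsNilpotent P := hP.isNilpotent
  -- the subgroups of `P`
  set R : Subgroup P := (pResidual p G).subgroupOf P with hRdef
  set R₀ : Subgroup P := (pResidualOf p H).subgroupOf P with hR₀def
  have hR₀R : R₀ ≤ R := fun x hx => hLK hx
  have hR₀n : R₀.Normal := by
    refine ⟨fun x hx y => ?_⟩
    obtain ⟨z, hz, hzx⟩ := (Subgroup.mem_subgroupOf.1 hx : (x : G) ∈ pResidualOf p H)
    refine Subgroup.mem_subgroupOf.2 ⟨(⟨y, hPH y.2⟩ : H) * z * (⟨y, hPH y.2⟩ : H)⁻¹,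
      hL'n.conj_mem z hz _, ?_⟩
    show (y : G) * (z : G) * (y : G)⁻¹ = (y : G) * (x : G) * (y : G)⁻¹
    rw [show (z : G) = (x : G) from hzx]
  by_contra hcon
  have hne : ¬ R ≤ R₀ := by
    intro h
    apply hcon
    intro x hx
    exact h (show (⟨x, hx.1⟩ : P) ∈ R from Subgroup.mem_subgroupOf.2 hx.2)
  set R₁ : Subgroup P := R₀ ⊔ ⁅R, (⊤ : Subgroup P)⁆ with hR₁def
  have hR₁ne : R₁ ≠ R := sup_commutator_top_ne R R₀ hne
  have hRn : R.Normal := inferInstance
  have hcomn : (⁅R, (⊤ : Subgroup P)⁆).Normal := Subgroup.commutator_normal _ _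
  have hR₁n : R₁.Normal := Subgroup.sup_normal _ _
  have hR₁le : R₁ ≤ R := sup_le hR₀R (Subgroup.commutator_le_left _ _)
  -- the groups and maps
  let π : G →* G ⧸ pResidual p G := QuotientGroup.mk' (pResidual p G)
  have hπ : ∀ g : G, π g = 1 ↔ g ∈ pResidual p G := fun g => QuotientGroup.eq_one_iff g
  let μ : P →* P ⧸ R₁ := QuotientGroup.mk' R₁
  have hle : R₁ ≤ (π.comp P.subtype).ker := by
    intro x hx
    rw [MonoidHom.mem_ker]
    show π (x : G) = 1
    exact (hπ _).mpr (hR₁le hx)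
  let ρ : P ⧸ R₁ →* G ⧸ pResidual p G := QuotientGroup.lift R₁ (π.comp P.subtype) hle
  have hρμ : ∀ x : P, ρ (μ x) = π x := fun x => rfl
  have hker : ∀ e, e ∈ ρ.ker ↔ ∃ x : P, x ∈ R ∧ μ x = e := by
    intro e
    constructor
    · intro he
      obtain ⟨x, rfl⟩ := QuotientGroup.mk'_surjective _ e
      refine ⟨x, ?_, rfl⟩
      have h1 : π (x : G) = 1 := he
      exact (hπ _).mp h1
    · rintro ⟨x, hx, rfl⟩
      rw [MonoidHom.mem_ker, hρμ]
      exact (hπ _).mpr hx
  have hsup : pResidual p G ⊔ P = ⊤ := Cfsg.Agent.Lib.Helper34.pResidual_sup_eq_top p P hidx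
  have hsurj : ∀ g : G, ∃ e, ρ e = π g := by
    intro g
    have hg : g ∈ pResidual p G ⊔ P := by rw [hsup]; exact Subgroup.mem_top g
    rw [← SetLike.mem_coe, Subgroup.normal_mul] at hg
    obtain ⟨k, hk, x, hx, rfl⟩ := hg
    refine ⟨μ ⟨x, hx⟩, ?_⟩
    rw [hρμ, map_mul]
    have : π k = 1 := (hπ _).mpr hk
    rw [this, one_mul]
  have hcent : ρ.ker ≤ Subgroup.center _ := by
    intro e he
    obtain ⟨x, hx, rfl⟩ := (hker e).mp he
    rw [Subgroup.mem_center_iff]
    intro e'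
    obtain ⟨y, rfl⟩ := QuotientGroup.mk'_surjective _ e'
    rw [← map_mul, ← map_mul]
    show (QuotientGroup.mk (y * x) : P ⧸ _) = QuotientGroup.mk (x * y)
    rw [QuotientGroup.eq]
    have h1 : (y * x)⁻¹ * (x * y) = ⁅x⁻¹, y⁻¹⁆ := by
      rw [commutatorElement_def]; group
    rw [h1]
    exact le_sup_right (α := Subgroup P)
      (Subgroup.commutator_mem_commutator (Subgroup.inv_mem _ hx) (Subgroup.mem_top _))
  have hE : IsPGroup p (P ⧸ R₁) := hP.to_quotient _
  have hcop : (Nat.card ρ.ker).Coprime P.index := by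
    obtain ⟨n, hn⟩ := (hE.to_subgroup ρ.ker).exists_card_eq
    rw [hn]
    exact Nat.Coprime.pow_left n ((Nat.Prime.coprime_iff_not_dvd hp.out).mpr hidx)
  obtain ⟨l, hl⟩ := exists_lift_of_central_of_coprime P ρ π μ hρμ hsurj hcent hcop
  -- `O^p(G)` lies in the kernel of `l`
  have hlK : ∀ g ∈ pResidual p G, l g = 1 := by
    intro g hg
    have h1 : (pResidual p G).map l ≤ pResidual p (P ⧸ R₁) := map_pResidual_le p l
    have h2 : pResidual p (P ⧸ R₁) = ⊥ := pResidual_eq_bot_of_isPGroup hE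
    rw [h2] at h1
    exact Subgroup.mem_bot.1 (h1 ⟨g, hg, rfl⟩)
  -- the extension `μH` of `μ` to `H`
  have hidxH : ¬ p ∣ (P.subgroupOf H).index := by
    intro h
    apply hidx
    rw [← Subgroup.relIndex_mul_index hPH]
    exact Dvd.dvd.mul_right h _
  have hsupH : pResidual p ↥H ⊔ P.subgroupOf H = ⊤ :=
    Cfsg.Agent.Lib.Helper34.pResidual_sup_eq_top p (P.subgroupOf H) hidxH
  obtain ⟨μH, hμH, hμHL⟩ := exists_extension_to P hidx H hPH R₁ (le_sup_left (α := Subgroup P))
  -- both `ρ ∘ μH` and `π` restricted to `H` agree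
  have hagree : ∀ h : ↥H, ρ (μH h) = π (h : G) := by
    intro h
    have hh : h ∈ pResidual p ↥H ⊔ P.subgroupOf H := by rw [hsupH]; exact Subgroup.mem_top h
    rw [← SetLike.mem_coe, Subgroup.normal_mul] at hh
    obtain ⟨k, hk, x, hx, rfl⟩ := hh
    have hx' : (x : G) ∈ P := Subgroup.mem_subgroupOf.1 hx
    have e1 : μH x = μ ⟨(x : G), hx'⟩ := hμH ⟨(x : G), hx'⟩
    rw [map_mul, hμHL k hk, one_mul, Subgroup.coe_mul, map_mul]
    have hkK : ((k : ↥H) : G) ∈ pResidual p G := hLK ⟨k, hk, rfl⟩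
    rw [(hπ _).2 hkK, one_mul, e1, hρμ]
  -- the difference homomorphism into the centre
  have hδmem : ∀ h : ↥H, (μH h)⁻¹ * (l.comp H.subtype) h ∈ Subgroup.center (P ⧸ R₁) := by
    intro h
    apply hcent
    rw [MonoidHom.mem_ker, map_mul, map_inv, hagree]
    show (π (h : G))⁻¹ * ρ (l (h : G)) = 1
    rw [hl, inv_mul_cancel]
  have hδ := eq_on_commutator_of_central μH (l.comp H.subtype) hδmem
  -- conclusion: `R ≤ R₁`
  apply hR₁ne
  apply le_antisymm hR₁le
  intro x hx
  have hxK : (x : G) ∈ pResidual p G := Subgroup.mem_subgroupOf.1 hx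
  have hxG' : (x : G) ∈ ⁅H, H⁆ := hfoc ⟨x.2, inf_pResidual_le_commutator P hP ⟨x.2, hxK⟩⟩
  rw [← Subgroup.map_subtype_commutator] at hxG'
  obtain ⟨y, hy, hyx⟩ := hxG'
  have hyi : y = Subgroup.inclusion hPH x := Subtype.ext hyx
  have h2 : μH y = (l.comp H.subtype) y := hδ y hy
  rw [hyi, hμH] at h2
  have h3 : (l.comp H.subtype) (Subgroup.inclusion hPH x) = 1 := hlK _ hxK
  rw [h3] at h2
  exact (QuotientGroup.eq_one_iff x).1 h2

/-- **General Tate theorem**: if `P ≤ H ≤ G`, `P` a `p`-subgroup of index prime to `p`, and `P ∩ G' ≤ H'`,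
then `O^p(H) = O^p(G) ∩ H`. -/
theorem pResidualOf_eq_of_focal (P : Subgroup G) (hP : IsPGroup p P) (hidx : ¬ p ∣ P.index)
    (H : Subgroup G) (hPH : P ≤ H) (hfoc : P ⊓ commutator G ≤ ⁅H, H⁆) :
    pResidualOf p H = pResidual p G ⊓ H := by
  apply le_antisymm (pResidualOf_le H)
  rintro h ⟨hhK, hhH⟩
  have hL'n : (pResidual p ↥H).Normal := Cfsg.Agent.Lib.Helper34.pResidual_normal p ↥H
  have hidxH : ¬ p ∣ (P.subgroupOf H).index := by
    intro h'
    apply hidx
    rw [← Subgroup.relIndex_mul_index hPH]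
    exact Dvd.dvd.mul_right h' _
  have hsupH : pResidual p ↥H ⊔ P.subgroupOf H = ⊤ :=
    Cfsg.Agent.Lib.Helper34.pResidual_sup_eq_top p (P.subgroupOf H) hidxH
  have hh : (⟨h, hhH⟩ : ↥H) ∈ pResidual p ↥H ⊔ P.subgroupOf H := by rw [hsupH]; exact Subgroup.mem_top _
  rw [← SetLike.mem_coe, Subgroup.normal_mul] at hh
  obtain ⟨k, hk, x, hx, hkx⟩ := hh
  have hkL : (k : G) ∈ pResidualOf p H := ⟨k, hk, rfl⟩
  have hkK : (k : G) ∈ pResidual p G := ((pResidualOf_le H) hkL).1
  have hxP : (x : G) ∈ P := Subgroup.mem_subgroupOf.1 hx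
  have hh' : h = (k : G) * (x : G) := by
    have := congrArg Subtype.val hkx
    simpa using this.symm
  have hxK : (x : G) ∈ pResidual p G := by
    have : (x : G) = (k : G)⁻¹ * h := by rw [hh']; group
    rw [this]
    exact Subgroup.mul_mem _ (Subgroup.inv_mem _ hkK) hhK
  have hxL : (x : G) ∈ pResidualOf p H :=
    inf_pResidual_le_pResidualOf P hP hidx H hPH hfoc ⟨hxP, hxK⟩
  rw [hh']
  exact Subgroup.mul_mem _ hkL hxL

end Cfsg.Agent.Lib.Helper88.Tate
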