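/-
helper88: fusion systems realized by a finite group `G` on a Sylow `p`-subgroup, and normal `p`-complements.
* `hasNPC_normalizer_of_npaut`: if `U ≤ S` is normal in `S` and the normalizer system of `U` is `PAut`, then `N_G(ι U)` has a
  normal `p`-complement (Frobenius).
* `paut_of_hasNPC`: if `G` has a normal `p`-complement then the system is `PAut`.
* `isStronglyClosed_image`: a strongly closed subgroup of the system maps to a strongly closed subgroup of the Sylow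
  subgroup with respect to `G`.
-/
import Cfsg.Agent.Lib.Helper88.FusionNilpFunctor
import Cfsg.Prelude.Def_TwoFusion

set_option autoImplicit false

universe u

namespace Cfsg.Agent.Lib.Helper88.NilpRed

open Cfsg Cfsg.FusionSystem Cfsg.Agent.Lib.Helper87

variable {p : ℕ} [Fact p.Prime] {Ω : Type u} [Group Ω] {S : Subgroup Ω}

omit [Fact p.Prime] in
theorem coe_mem_iff_map_mem_imageAlong {G : Type*} [Group G] (ι : S →* G) (hι : Function.Injective ι) (U : Subgroup Ω)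
    (s : S) : (s : Ω) ∈ U ↔ ι s ∈ imageAlong ι U := by
  constructor
  · intro h
    exact ⟨s, Subgroup.mem_subgroupOf.2 h, rfl⟩
  · rintro ⟨s', hs', heq⟩
    have : s' = s := hι heq
    rw [← this]
    exact Subgroup.mem_subgroupOf.1 hs'

omit [Fact p.Prime] in
theorem imageAlong_le_range {G : Type*} [Group G] (ι : S →* G) (U : Subgroup Ω) : imageAlong ι U ≤ ι.range := by
  rintro _ ⟨s, -, rfl⟩
  exact ⟨s, rfl⟩

omit [Fact p.Prime] in
/-- The image of `S` normalizes the image of a subgroup normalized by `S`. -/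
theorem range_le_normalizer_imageAlong {G : Type*} [Group G] [Finite G] (ι : S →* G) (U : Subgroup Ω)
    (hSN : S ≤ normalizerIn S U) :
    ι.range ≤ Subgroup.normalizer ((imageAlong ι U : Subgroup G) : Set G) := by
  rintro _ ⟨s, rfl⟩
  apply mem_normalizer_of_conj_mem_of_finite
  rintro _ ⟨u, hu, rfl⟩
  have hu' : (u : Ω) ∈ U := Subgroup.mem_subgroupOf.1 hu
  have h1 : (s : Ω) * (u : Ω) * (s : Ω)⁻¹ ∈ U := (Subgroup.mem_normalizer_iff.1 (hSN s.2).2 _).1 hu'
  refine ⟨s * u * s⁻¹, Subgroup.mem_subgroupOf.2 h1, ?_⟩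
  rw [map_mul, map_mul, map_inv]

open Cfsg.Agent.Lib.Helper85 in
/-- Frobenius in `N_G(ι U)`. -/
theorem hasNPC_normalizer_of_npaut [Finite S] (F : FusionSystem S) {G : Type u} [Group G] [Finite G] (ι : S →* G)
    (hR : F.IsRealizedBy ι) (T : Sylow p G) (hTr : (T : Subgroup G) = ι.range) (U : Subgroup Ω) (hUS : U ≤ S)
    (hSN : S ≤ normalizerIn S U) (hT : NPAut F p U) :
    HasNormalPComplement p ↥(Subgroup.normalizer ((imageAlong ι U : Subgroup G) : Set G)) := by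
  have hι : Function.Injective ι := hR.1
  have hWiff : ∀ s : S, (s : Ω) ∈ U ↔ ι s ∈ imageAlong ι U := coe_mem_iff_map_mem_imageAlong ι hι U
  have hWT : imageAlong ι U ≤ ι.range := imageAlong_le_range ι U
  have hTN : (T : Subgroup G) ≤ Subgroup.normalizer ((imageAlong ι U : Subgroup G) : Set G) :=
    hTr ▸ range_le_normalizer_imageAlong ι U hSN
  refine ⟨T.subtype hTN, ?_⟩
  apply (Cfsg.Agent.S0071.result (T.subtype hTN)).2
  intro V hV h hhN hcop
  have hVT : V.map (Subgroup.subtype _) ≤ ι.range := by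
    rintro _ ⟨v, hv, rfl⟩
    have h1 := hV hv
    rw [Sylow.coe_subtype, Subgroup.mem_subgroupOf] at h1
    exact hTr ▸ h1
  have hgV : (h : G) ∈ Subgroup.normalizer ((V.map (Subgroup.subtype _) : Subgroup G) : Set G) := by
    apply mem_normalizer_of_conj_mem_of_finite
    rintro _ ⟨v, hv, rfl⟩
    exact ⟨h * v * h⁻¹, (Subgroup.mem_normalizer_iff.1 hhN v).1 hv, rfl⟩
  have hgW : (h : G) ∈ Subgroup.normalizer ((imageAlong ι U : Subgroup G) : Set G) := h.2
  have hgVW := mem_normalizer_sup hgV hgW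
  have hsup : V.map (Subgroup.subtype _) ⊔ imageAlong ι U ≤ ι.range := sup_le hVT hWT
  have hRS : preimageAlong ι (V.map (Subgroup.subtype _) ⊔ imageAlong ι U) ≤ S := preimageAlong_le ι _
  have hWR : U ≤ preimageAlong ι (V.map (Subgroup.subtype _) ⊔ imageAlong ι U) := by
    intro x hx
    have hxS : x ∈ S := hUS hx
    rw [mem_preimageAlong_iff]
    exact ⟨hxS, le_sup_right (a := V.map (Subgroup.subtype _)) ((hWiff ⟨x, hxS⟩).1 hx)⟩
  have hmemR : ∀ x : ↥(preimageAlong ι (V.map (Subgroup.subtype _) ⊔ imageAlong ι U)),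
      ι ⟨x, hRS x.2⟩ ∈ V.map (Subgroup.subtype _) ⊔ imageAlong ι U :=
    fun x => ((mem_preimageAlong_iff ι _ x).1 x.2).2
  have hconj' : ∀ x : ↥(preimageAlong ι (V.map (Subgroup.subtype _) ⊔ imageAlong ι U)),
      (h : G) * ι ⟨x, hRS x.2⟩ * (h : G)⁻¹ ∈ V.map (Subgroup.subtype _) ⊔ imageAlong ι U :=
    fun x => (Subgroup.mem_normalizer_iff.1 hgVW _).1 (hmemR x)
  have hconj : ∀ x : ↥(preimageAlong ι (V.map (Subgroup.subtype _) ⊔ imageAlong ι U)),
      (h : G) * ι ⟨x, hRS x.2⟩ * (h : G)⁻¹ ∈ ι.range := fun x => hsup (hconj' x)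
  have hφ := Model.conjThrough_mem_hom F hR hRS (h : G) hconj
  have hφR : ∀ x, Model.conjThrough ι hι hRS (h : G) hconj x ∈
      preimageAlong ι (V.map (Subgroup.subtype _) ⊔ imageAlong ι U) := by
    intro x
    rw [mem_preimageAlong_iff]
    refine ⟨Model.conjThrough_mem ι hι hRS (h : G) hconj x, ?_⟩
    rw [Model.ι_conjThrough]
    exact hconj' x
  haveI : Finite ↥(preimageAlong ι (V.map (Subgroup.subtype _) ⊔ imageAlong ι U)) := finite_of_le hRS
  obtain ⟨β, hβ, hβx⟩ := exists_aut_of_maps_into' F hφ hφR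
  have hιβ : ∀ x : ↥(preimageAlong ι (V.map (Subgroup.subtype _) ⊔ imageAlong ι U)),
      ι ⟨(β x : ↥(preimageAlong ι (V.map (Subgroup.subtype _) ⊔ imageAlong ι U))),
        hRS (β x).2⟩ = (h : G) * ι ⟨x, hRS x.2⟩ * (h : G)⁻¹ := by
    intro x
    have h1 : (⟨(β x : ↥(preimageAlong ι (V.map (Subgroup.subtype _) ⊔ imageAlong ι U))),
        hRS (β x).2⟩ : S) = ⟨Model.conjThrough ι hι hRS (h : G) hconj x,
          Model.conjThrough_mem ι hι hRS (h : G) hconj x⟩ := Subtype.ext (hβx x)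
    rw [h1]
    exact Model.ι_conjThrough ι hι hRS (h : G) hconj x
  have hβW : ∀ x : ↥(preimageAlong ι (V.map (Subgroup.subtype _) ⊔ imageAlong ι U)),
      (x : Ω) ∈ U ↔
        ((β x : ↥(preimageAlong ι (V.map (Subgroup.subtype _) ⊔ imageAlong ι U))) : Ω) ∈ U := by
    intro x
    have h1 := hWiff ⟨x, hRS x.2⟩
    have h2 := hWiff ⟨(β x : ↥(preimageAlong ι (V.map (Subgroup.subtype _) ⊔ imageAlong ι U))), hRS (β x).2⟩
    rw [hιβ x] at h2
    exact h1.trans ((Subgroup.mem_normalizer_iff.1 hgW _).trans h2.symm)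
  obtain ⟨k, hk⟩ := hT _ hWR (hRS.trans hSN) β hβ hβW
  have hcent : ∀ v ∈ V, (h : G) ^ p ^ k * (v : G) = (v : G) * (h : G) ^ p ^ k := by
    intro v hv
    have hvr : (v : G) ∈ ι.range := hVT ⟨v, hv, rfl⟩
    obtain ⟨s, hs⟩ := hvr
    have hsR : (s : Ω) ∈ preimageAlong ι (V.map (Subgroup.subtype _) ⊔ imageAlong ι U) := by
      rw [mem_preimageAlong_iff]
      refine ⟨s.2, le_sup_left (b := imageAlong ι U) ?_⟩
      rw [hs]
      exact ⟨v, hv, rfl⟩
    have h1 := ι_pow_apply ι hRS β (h : G) hιβ (p ^ k) ⟨s, hsR⟩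
    rw [hk] at h1
    have h2 : ι ⟨(s : Ω), hRS hsR⟩ = (v : G) := hs
    have h1' : ι ⟨(s : Ω), hRS hsR⟩ =
        (h : G) ^ p ^ k * ι ⟨(s : Ω), hRS hsR⟩ * ((h : G) ^ p ^ k)⁻¹ := h1
    rw [h2] at h1'
    have h6 : (h : G) ^ p ^ k * (v : G) =
        ((h : G) ^ p ^ k * (v : G) * ((h : G) ^ p ^ k)⁻¹) * (h : G) ^ p ^ k := by group
    rw [h6, ← h1']
  have hcop' : (p ^ k).Coprime (orderOf (h : G)) := by
    rw [Subgroup.orderOf_coe]
    exact (Nat.Coprime.pow_left k hcop.symm)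
  obtain ⟨m, hm⟩ := exists_pow_eq_self_of_coprime hcop'
  rw [Subgroup.mem_centralizer_iff]
  intro v hv
  apply Subtype.ext
  show (v : G) * (h : G) = (h : G) * (v : G)
  have h4 : Commute ((h : G) ^ p ^ k) (v : G) := hcent v hv
  have h5 : Commute (((h : G) ^ p ^ k) ^ m) (v : G) := h4.pow_left m
  rw [hm] at h5
  exact h5.eq.symm

/-- If `G` has a normal `p`-complement then the system it realizes on a Sylow `p`-subgroup is `PAut`. -/
theorem paut_of_hasNPC [Finite S] (F : FusionSystem S) {G : Type u} [Group G] [Finite G] (ι : S →* G)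
    (hR : F.IsRealizedBy ι) (T : Sylow p G) (hTr : (T : Subgroup G) = ι.range)
    (hnpcG : HasNormalPComplement p G) : PAut F p := by
  have hι : Function.Injective ι := hR.1
  obtain ⟨N, hNn, hNc⟩ := Cfsg.Agent.Lib.Helper2.exists_normal_complement_of_hasNormalPComplement hnpcG T
  have hfrob := (Cfsg.Agent.S0071.result T).1 ⟨N, hNn, hNc⟩
  intro P hP α hα
  have hαF : P.subtype.comp (α : P ≃* P).toMonoidHom ∈ F.Hom P := (Cfsg.Agent.Lib.Helper87.mem_autGroup_iff F hP).1 hα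
  obtain ⟨g, hg⟩ := (hR.2 P hP _ (fun x => hP (α x).2)).1 hαF
  have hg' : ∀ x : P, ι ⟨(α x : P), hP (α x).2⟩ = g * ι ⟨x, hP x.2⟩ * g⁻¹ := fun x => hg x
  have hQT : (P.subgroupOf S).map ι ≤ (T : Subgroup G) := by
    rintro _ ⟨s, -, rfl⟩
    rw [hTr]
    exact ⟨s, rfl⟩
  have hgN : g ∈ Subgroup.normalizer (((P.subgroupOf S).map ι : Subgroup G) : Set G) := by
    apply mem_normalizer_of_conj_mem_of_finite
    rintro _ ⟨s, hs, rfl⟩
    have hsP : (s : Ω) ∈ P := Subgroup.mem_subgroupOf.1 hs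
    have h1 := hg' ⟨s, hsP⟩
    exact Subgroup.mem_map.2 ⟨⟨(α ⟨s, hsP⟩ : P), hP (α ⟨s, hsP⟩).2⟩,
      Subgroup.mem_subgroupOf.2 (α ⟨s, hsP⟩).2, h1⟩
  have hp : p.Prime := Fact.out
  obtain ⟨e', m, hm, hord⟩ := Nat.exists_eq_pow_mul_and_not_dvd (orderOf_pos g).ne' p hp.ne_one
  have hpow : (g ^ p ^ e') ^ m = 1 := by
    rw [← pow_mul, ← hord, pow_orderOf_eq_one]
  have hdvd : orderOf (g ^ p ^ e') ∣ m := orderOf_dvd_of_pow_eq_one hpow
  have hcop : (orderOf (g ^ p ^ e')).Coprime p :=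
    Nat.Coprime.coprime_dvd_left hdvd ((Nat.Prime.coprime_iff_not_dvd hp).2 hm).symm
  have hcen := hfrob _ hQT (g ^ p ^ e') (Subgroup.pow_mem _ hgN _) hcop
  refine ⟨e', ?_⟩
  ext x
  have h1 := ι_pow_apply ι hP α g hg' (p ^ e') x
  have h2 : ι ⟨x, hP x.2⟩ ∈ (P.subgroupOf S).map ι := ⟨⟨x, hP x.2⟩, Subgroup.mem_subgroupOf.2 x.2, rfl⟩
  have h3 := (Subgroup.mem_centralizer_iff.1 hcen) _ h2
  rw [← h3, mul_inv_cancel_right] at h1
  have h4 := hι h1
  exact congrArg (fun z : S => (z : Ω)) h4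

/-- A subgroup strongly closed in the system maps to a subgroup of the Sylow subgroup that is strongly closed with
respect to `G`. -/
theorem isStronglyClosed_image (F : FusionSystem S) {G : Type u} [Group G] (ι : S →* G)
    (hR : F.IsRealizedBy ι) {D : Subgroup Ω} (hD : F.StronglyClosed D) :
    Cfsg.IsStronglyClosed (imageAlong ι D) ι.range := by
  have hι : Function.Injective ι := hR.1
  refine ⟨imageAlong_le_range ι D, ?_⟩
  rintro _ ⟨d, hd, rfl⟩ g hg
  have hdD : (d : Ω) ∈ D := Subgroup.mem_subgroupOf.1 hd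
  have hZS : Subgroup.zpowers (d : Ω) ≤ S := by
    rw [Subgroup.zpowers_le]
    exact d.2
  have hZD : Subgroup.zpowers (d : Ω) ≤ D := by
    rw [Subgroup.zpowers_le]
    exact hdD
  have hconj : ∀ x : ↥(Subgroup.zpowers (d : Ω)), g * ι ⟨x, hZS x.2⟩ * g⁻¹ ∈ ι.range := by
    rintro ⟨x, hx⟩
    obtain ⟨k, rfl⟩ := Subgroup.mem_zpowers_iff.1 hx
    have h1 : (⟨(d : Ω) ^ k, hZS hx⟩ : S) = d ^ k := Subtype.ext (by simp)
    rw [h1, map_zpow]
    have h2 : g * ι d ^ k * g⁻¹ = (g * ι d * g⁻¹) ^ k := by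
      rw [conj_zpow]
    rw [h2]
    exact Subgroup.zpow_mem _ hg k
  have hφ := Model.conjThrough_mem_hom F hR hZS g hconj
  have h3 := hD.2 _ hZD _ hφ ⟨(d : Ω), Subgroup.mem_zpowers _⟩
  have h4 := Model.ι_conjThrough ι hι hZS g hconj ⟨(d : Ω), Subgroup.mem_zpowers _⟩
  have h5 : ι ⟨(d : Ω), hZS (Subgroup.mem_zpowers _)⟩ = ι d := rfl
  rw [h5] at h4
  rw [← h4]
  exact ⟨_, Subgroup.mem_subgroupOf.2 h3, rfl⟩

end Cfsg.Agent.Lib.Helper88.NilpRed
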