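import Mathlib

/-!
# Transfer of a right-free biset

`S` a group, `X` a finite `S × S`-set (an `S`-`S`-biset: `(a, b) • x = a x b⁻¹`) on which the right
action (`(1, b) • ·`) is free.  For a *trivialization* `d : X → S` (`d ((1,b) • x) = b * d x`) the
function `tauFun d f = ∏_{x | d x = 1} [d (f x)]` is a homomorphism from the group of permutations of
`X` commuting with the right action to the abelianization of `S`.  Composing with the left action
gives the transfer `S →* Abelianization S` of the biset.

* stability is free because the target is abelian (`transfer_eq_of_perm`);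
* for a central `z` acting "diagonally freely" the transfer of `z` is `[z]⁻¹ ^ (|X| / |S|)`.
-/

set_option autoImplicit false

namespace Cfsg.Agent.Lib.Helper88.BisetTransfer

open scoped Classical

variable {S : Type*} [Group S] {X : Type*} [MulAction (S × S) X]

/-- Existence of a trivialization of the right action, invariant under a subgroup `C` commuting with
the right action and acting freely relative to it. -/
theorem exists_triv (C : Subgroup (S × S))
    (hcomm : ∀ c ∈ C, ∀ b : S, c * ((1 : S), b) = ((1 : S), b) * c)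
    (hfree : ∀ c ∈ C, ∀ (b : S) (x : X), (c * ((1 : S), b)) • x = x → b = 1) :
    ∃ d : X → S, (∀ (b : S) (x : X), d (((1 : S), b) • x) = b * d x) ∧
      ∀ c ∈ C, ∀ x, d (c • x) = d x := by
  -- the homomorphism `C × S → S × S`
  let μ : ↥C × S →* S × S := MonoidHom.noncommCoprod C.subtype (MonoidHom.inr S S)
    (fun c b => hcomm c.1 c.2 b)
  have hμ : ∀ q : ↥C × S, μ q = (q.1 : S × S) * ((1 : S), q.2) := fun q => rfl
  -- orbit relation
  let r : Setoid X :=
    { r := fun x y => ∃ q : ↥C × S, μ q • x = y
      iseqv := ⟨fun x => ⟨1, by simp⟩,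
        fun {x y} ⟨q, h⟩ => ⟨q⁻¹, by rw [← h, ← mul_smul, ← map_mul, inv_mul_cancel, map_one, one_smul]⟩,
        fun {x y z} ⟨q, h⟩ ⟨q', h'⟩ => ⟨q' * q, by rw [map_mul, mul_smul, h, h']⟩⟩ }
  let base : X → X := fun x => Quotient.out (Quotient.mk r x)
  have hbase : ∀ x, ∃ q : ↥C × S, μ q • base x = x := by
    intro x
    have h : r.r (base x) x := Quotient.exact (Quotient.out_eq (Quotient.mk r x))
    exact h
  have hbase_eq : ∀ (q : ↥C × S) (x : X), base (μ q • x) = base x := by
    intro q x
    have : Quotient.mk r (μ q • x) = Quotient.mk r x := Quotient.sound ⟨q⁻¹, by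
      rw [← mul_smul, ← map_mul, inv_mul_cancel, map_one, one_smul]⟩
    change Quotient.out (Quotient.mk r (μ q • x)) = Quotient.out (Quotient.mk r x)
    rw [this]
  -- uniqueness of the `S`-coordinate
  have huniq : ∀ (y : X) (q q' : ↥C × S), μ q • y = μ q' • y → q.2 = q'.2 := by
    intro y q q' h
    have h1 : μ (q'⁻¹ * q) • y = y := by
      rw [map_mul, mul_smul, h, ← mul_smul, ← map_mul, inv_mul_cancel, map_one, one_smul]
    rw [hμ] at h1
    have h2 := hfree _ (q'⁻¹ * q).1.2 _ _ h1
    have h3 : (q'⁻¹ * q).2 = q'.2⁻¹ * q.2 := rfl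
    rw [h3] at h2
    exact (inv_mul_eq_one.1 h2).symm
  let d : X → S := fun x => (Classical.choose (hbase x)).2
  have hd_spec : ∀ (x : X) (q : ↥C × S), μ q • base x = x → d x = q.2 := by
    intro x q hq
    exact huniq (base x) _ _ ((Classical.choose_spec (hbase x)).trans hq.symm)
  have hd_smul : ∀ (q : ↥C × S) (x : X), d (μ q • x) = q.2 * d x := by
    intro q x
    obtain ⟨p, hp⟩ := hbase x
    have h1 : μ (q * p) • base (μ q • x) = μ q • x := by
      rw [hbase_eq, map_mul, mul_smul, hp]
    rw [hd_spec _ _ h1, hd_spec _ _ hp]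
    rfl
  refine ⟨d, fun b x => ?_, fun c hc x => ?_⟩
  · have := hd_smul ((1 : ↥C), b) x
    rw [hμ] at this
    simpa using this
  · have := hd_smul ((⟨c, hc⟩ : ↥C), (1 : S)) x
    rw [hμ] at this
    have h1 : ((1 : S), (1 : S)) = (1 : S × S) := rfl
    simpa [h1] using this

section Tau

variable [Fintype X]

/-- The product defining the transfer. -/
noncomputable def tauFun (d : X → S) (f : X → X) : Abelianization S :=
  ∏ x ∈ Finset.univ.filter (fun x => d x = 1), Abelianization.of (d (f x))

/-- the "return to the transversal" map -/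
def ret (d : X → S) (g : X → X) (x : X) : X := ((1 : S), (d (g x))⁻¹) • g x

variable {d : X → S} (hd : ∀ (b : S) (x : X), d (((1 : S), b) • x) = b * d x)

omit [Fintype X] in
include hd in
theorem d_ret (g : X → X) (x : X) : d (ret d g x) = 1 := by
  unfold ret
  rw [hd, inv_mul_cancel]

omit [Fintype X] in
theorem smul_ret (g : X → X) (x : X) : ((1 : S), d (g x)) • ret d g x = g x := by
  unfold ret
  rw [← mul_smul, Prod.mk_mul_mk, one_mul, mul_inv_cancel]
  exact one_smul _ _

omit [Fintype X] in
include hd in
theorem ret_symm_ret (g : Equiv.Perm X)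
    (hg : ∀ (b : S) (x : X), g (((1 : S), b) • x) = ((1 : S), b) • g x) (x : X) (hx : d x = 1) :
    ret d g.symm (ret d g x) = x := by
  have hgs : ∀ (b : S) (x : X), g.symm (((1 : S), b) • x) = ((1 : S), b) • g.symm x := by
    intro b x
    apply g.injective
    rw [hg, Equiv.apply_symm_apply, Equiv.apply_symm_apply]
  have h1 : g.symm (ret d g x) = ((1 : S), (d (g x))⁻¹) • x := by
    unfold ret
    rw [hgs, Equiv.symm_apply_apply]
  unfold ret at h1 ⊢
  rw [h1, hd, hx, mul_one, inv_inv, ← mul_smul, Prod.mk_mul_mk, one_mul, mul_inv_cancel]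
  exact one_smul _ _

include hd in
theorem tauFun_mul (f g : Equiv.Perm X)
    (hf : ∀ (b : S) (x : X), f (((1 : S), b) • x) = ((1 : S), b) • f x)
    (hg : ∀ (b : S) (x : X), g (((1 : S), b) • x) = ((1 : S), b) • g x) :
    tauFun d (fun x => f (g x)) = tauFun d f * tauFun d g := by
  have hgs : ∀ (b : S) (x : X), g.symm (((1 : S), b) • x) = ((1 : S), b) • g.symm x := by
    intro b x
    apply g.injective
    rw [hg, Equiv.apply_symm_apply, Equiv.apply_symm_apply]
  have key : ∀ x, d (f (g x)) = d (g x) * d (f (ret d g x)) := by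
    intro x
    conv_lhs => rw [← smul_ret (d := d) g x, hf, hd]
  unfold tauFun
  simp only [key, map_mul]
  rw [Finset.prod_mul_distrib, mul_comm]
  congr 1
  refine Finset.prod_nbij' (fun x => ret d g x) (fun x => ret d g.symm x) ?_ ?_ ?_ ?_ ?_
  · intro x _
    simp only [Finset.mem_filter, Finset.mem_univ, true_and]
    exact d_ret hd _ _
  · intro x _
    simp only [Finset.mem_filter, Finset.mem_univ, true_and]
    exact d_ret hd _ _
  · intro x hx
    simp only [Finset.mem_filter, Finset.mem_univ, true_and] at hx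
    exact ret_symm_ret hd g hg x hx
  · intro x hx
    simp only [Finset.mem_filter, Finset.mem_univ, true_and] at hx
    have := ret_symm_ret hd g.symm hgs x hx
    simpa using this
  · intro x _
    rfl

/-- permutations of `X` commuting with the right action -/
def eqv (S : Type*) [Group S] (X : Type*) [MulAction (S × S) X] : Subgroup (Equiv.Perm X) where
  carrier := {f | ∀ (b : S) (x : X), f (((1 : S), b) • x) = ((1 : S), b) • f x}
  mul_mem' := by
    intro f g hf hg b x
    rw [Equiv.Perm.mul_apply, hg, hf, Equiv.Perm.mul_apply]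
  one_mem' := by
    intro b x
    rfl
  inv_mem' := by
    intro f hf b x
    apply f.injective
    rw [hf]
    change (f * f⁻¹) _ = ((1 : S), b) • (f * f⁻¹) x
    rw [mul_inv_cancel]
    rfl

omit [Fintype X] in
theorem mem_eqv (f : Equiv.Perm X) :
    f ∈ eqv S X ↔ ∀ (b : S) (x : X), f (((1 : S), b) • x) = ((1 : S), b) • f x := Iff.rfl

/-- `tauFun` as a homomorphism on `eqv`. -/
noncomputable def tau : ↥(eqv S X) →* Abelianization S :=
  MonoidHom.mk' (fun f => tauFun d (f : Equiv.Perm X)) (by
    intro f g
    exact tauFun_mul hd f.1 g.1 f.2 g.2)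

/-- the left action as a homomorphism into `eqv`. -/
def leftHom (S : Type*) [Group S] (X : Type*) [MulAction (S × S) X] : S →* ↥(eqv S X) :=
  ((MulAction.toPermHom (S × S) X).comp (MonoidHom.inl S S)).codRestrict (eqv S X) (by
    intro g b x
    change (g, (1 : S)) • (((1 : S), b) • x) = ((1 : S), b) • ((g, (1 : S)) • x)
    rw [← mul_smul, ← mul_smul]
    simp)

omit [Fintype X] in
theorem leftHom_apply (g : S) (x : X) : ((leftHom S X g : Equiv.Perm X)) x = (g, (1 : S)) • x := rfl

/-- the transfer of the biset -/
noncomputable def transfer : S →* Abelianization S := (tau hd).comp (leftHom S X)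

theorem transfer_apply (g : S) :
    transfer hd g = ∏ x ∈ Finset.univ.filter (fun x => d x = 1),
      Abelianization.of (d ((g, (1 : S)) • x)) := rfl

/-- **Stability.** Two elements whose left actions are intertwined by a permutation commuting with the
right action have the same transfer. -/
theorem transfer_eq_of_perm (e : Equiv.Perm X) (g g' : S)
    (he : ∀ (b : S) (x : X), e ((g, b) • x) = (g', b) • e x) :
    transfer hd g = transfer hd g' := by
  have he1 : e ∈ eqv S X := by
    intro b x
    have h1 := he b ((g⁻¹, (1 : S)) • x)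
    have h2 := he 1 ((g⁻¹, (1 : S)) • x)
    rw [← mul_smul] at h1 h2
    have e1 : ((g, b) : S × S) * (g⁻¹, (1 : S)) = ((1 : S), b) := by simp
    have e2 : ((g, (1 : S)) : S × S) * (g⁻¹, (1 : S)) = 1 := by simp
    rw [e1] at h1
    rw [e2, one_smul] at h2
    rw [h1, h2, ← mul_smul]
    simp
  have hconj : (⟨e, he1⟩ : ↥(eqv S X)) * leftHom S X g = leftHom S X g' * ⟨e, he1⟩ := by
    apply Subtype.ext
    ext x
    change e ((g, (1 : S)) • x) = (g', (1 : S)) • e x
    exact he 1 x
  have := congrArg (tau hd) hconj
  rw [map_mul, map_mul, mul_comm] at this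
  exact mul_right_cancel this

/-- **Central elements.** -/
theorem transfer_central (z : S) (hdz : ∀ x, d ((z, z) • x) = d x) :
    transfer hd z = (Abelianization.of z)⁻¹ ^ (Finset.univ.filter (fun x : X => d x = 1)).card := by
  rw [transfer_apply, Finset.prod_eq_pow_card]
  intro x hx
  simp only [Finset.mem_filter, Finset.mem_univ, true_and] at hx
  have e1 : ((z, (1 : S)) : S × S) = ((1 : S), z⁻¹) * (z, z) := by simp
  rw [e1, mul_smul, hd, hdz, hx, mul_one, map_inv]

omit [Fintype X] in
include hd in
theorem card_eq [Finite X] : Nat.card {x : X // d x = 1} * Nat.card S = Nat.card X := by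
  rw [← Nat.card_prod]
  refine Nat.card_congr
    { toFun := fun p => ((1 : S), p.2) • (p.1 : X)
      invFun := fun x => (⟨((1 : S), (d x)⁻¹) • x, by rw [hd, inv_mul_cancel]⟩, d x)
      left_inv := ?_
      right_inv := ?_ }
  · rintro ⟨⟨r, hr⟩, b⟩
    have h1 : d (((1 : S), b) • r) = b := by rw [hd, hr, mul_one]
    apply Prod.ext
    · apply Subtype.ext
      change ((1 : S), (d (((1 : S), b) • r))⁻¹) • (((1 : S), b) • r) = r
      rw [h1, ← mul_smul, Prod.mk_mul_mk, one_mul, inv_mul_cancel]
      exact one_smul _ _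
    · exact h1
  · intro x
    change ((1 : S), d x) • (((1 : S), (d x)⁻¹) • x) = x
    rw [← mul_smul, Prod.mk_mul_mk, one_mul, mul_inv_cancel]
    exact one_smul _ _

end Tau

/-- **Transfer of a right-free finite biset**: packaged existence statement. For a central `z` acting
"diagonally freely" there is a homomorphism `t : S →* Abelianization S`, stable under every
permutation intertwining two left actions, with `t z = [z]⁻¹ ^ m`, `m * |S| = |X|`. -/
theorem exists_transfer [Finite X] (z : S) (hz : z ∈ Subgroup.center S)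
    (hfree : ∀ (n : ℤ) (b : S) (x : X), ((z ^ n, z ^ n * b) : S × S) • x = x → b = 1) :
    ∃ (t : S →* Abelianization S) (m : ℕ), m * Nat.card S = Nat.card X ∧
      t z = (Abelianization.of z)⁻¹ ^ m ∧
      ∀ (e : Equiv.Perm X) (g g' : S),
        (∀ (b : S) (x : X), e ((g, b) • x) = (g', b) • e x) → t g = t g' := by
  have : Fintype X := Fintype.ofFinite X
  have hpow : ∀ n : ℤ, ((z, z) : S × S) ^ n = (z ^ n, z ^ n) := by
    intro n
    exact Prod.ext rfl rfl
  obtain ⟨d, hd, hdC⟩ := exists_triv (X := X) (Subgroup.zpowers ((z, z) : S × S))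
    (by
      rintro c ⟨n, rfl⟩ b
      simp only [hpow, Prod.mk_mul_mk, one_mul, mul_one]
      rw [(Subgroup.mem_center_iff.1 (Subgroup.zpow_mem _ hz n) b)])
    (by
      rintro c ⟨n, rfl⟩ b x hx
      simp only [hpow, Prod.mk_mul_mk, mul_one] at hx
      exact hfree n b x hx)
  refine ⟨transfer hd, (Finset.univ.filter (fun x : X => d x = 1)).card, ?_, ?_, ?_⟩
  · rw [← card_eq hd, Nat.card_eq_fintype_card (α := {x : X // d x = 1}), Fintype.card_subtype]
  · exact transfer_central hd z (fun x => hdC _ (Subgroup.mem_zpowers _) x)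
  · intro e g g' he
    exact transfer_eq_of_perm hd e g g' he

end Cfsg.Agent.Lib.Helper88.BisetTransfer
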