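import Mathlib
import Cfsg.Agent.Lib.Helper88.BisetTransfer

/-!
# Transfer of an involution through a right-free biset

For `i` with `i * i = 1` the `2`-cycles of `i` on the right orbits cancel in the transfer; only the
right orbits fixed by `i` contribute, each by its "label" `j` (`(i, j) • x = x`).
-/

set_option autoImplicit false

namespace Cfsg.Agent.Lib.Helper88.BisetTransfer

open scoped Classical

variable {S : Type*} [Group S] {X : Type*} [MulAction (S × S) X] [Fintype X]
variable {d : X → S} (hd : ∀ (b : S) (x : X), d (((1 : S), b) • x) = b * d x)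

/-- the return map of the left action of `i` -/
def retL (d : X → S) (i : S) (x : X) : X := ret d (fun y => (i, (1 : S)) • y) x

omit [Fintype X] in
include hd in
theorem d_retL (i : S) (x : X) : d (retL d i x) = 1 := d_ret hd _ x

omit [Fintype X] in
theorem smul_retL (i : S) (x : X) :
    ((1 : S), d ((i, (1 : S)) • x)) • retL d i x = (i, (1 : S)) • x :=
  smul_ret (d := d) (fun y => (i, (1 : S)) • y) x

omit [Fintype X] in
include hd in
theorem retL_retL (i : S) (hi : i * i = 1) (x : X) (hx : d x = 1) : retL d i (retL d i x) = x := by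
  have h := ret_symm_ret hd (MulAction.toPerm ((i, (1 : S)) : S × S)) (by
    intro b y
    change (i, (1 : S)) • (((1 : S), b) • y) = ((1 : S), b) • ((i, (1 : S)) • y)
    rw [← mul_smul, ← mul_smul]
    simp) x hx
  have hsymm : ∀ y : X, (MulAction.toPerm ((i, (1 : S)) : S × S)).symm y = (i, (1 : S)) • y := by
    intro y
    rw [Equiv.symm_apply_eq]
    change y = (i, (1 : S)) • ((i, (1 : S)) • y)
    rw [← mul_smul, Prod.mk_mul_mk, hi, mul_one]
    exact (one_smul _ _).symm
  unfold retL
  unfold ret at h ⊢
  simp only [hsymm, MulAction.toPerm_apply] at h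
  exact h

omit [Fintype X] in
include hd in
/-- the labels of `x` and of its image under the return map are inverse to each other -/
theorem d_smul_retL (i : S) (hi : i * i = 1) (x : X) (hx : d x = 1) :
    d ((i, (1 : S)) • retL d i x) = (d ((i, (1 : S)) • x))⁻¹ := by
  have h1 : retL d i x = ((1 : S), (d ((i, (1 : S)) • x))⁻¹) • ((i, (1 : S)) • x) := rfl
  rw [h1, ← mul_smul, ← mul_smul]
  have e : ((i, (1 : S)) : S × S) * ((1 : S), (d ((i, (1 : S)) • x))⁻¹) * (i, (1 : S)) =
      ((1 : S), (d ((i, (1 : S)) • x))⁻¹) := by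
    simp [hi]
  rw [e, hd, hx, mul_one]

omit [Fintype X] in
include hd in
theorem retL_eq_self_iff (i : S) (x : X) (hx : d x = 1) :
    retL d i x = x ↔ ∃ b : S, (i, (1 : S)) • x = ((1 : S), b) • x := by
  constructor
  · intro h
    refine ⟨d ((i, (1 : S)) • x), ?_⟩
    have := smul_retL (d := d) i x
    rw [h] at this
    exact this.symm
  · rintro ⟨b, hb⟩
    have h1 : d ((i, (1 : S)) • x) = b := by rw [hb, hd, hx, mul_one]
    have h2 : retL d i x = ((1 : S), (d ((i, (1 : S)) • x))⁻¹) • ((i, (1 : S)) • x) := rfl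
    rw [h2, h1, hb, ← mul_smul, Prod.mk_mul_mk, one_mul, inv_mul_cancel]
    exact one_smul _ _

include hd in
/-- **Cancellation of `2`-cycles.** -/
theorem prod_eq_prod_fixed {A : Type*} [CommGroup A] (i : S) (hi : i * i = 1) (f : X → A)
    (hf : ∀ x, d x = 1 → f x * f (retL d i x) = 1) :
    ∏ x ∈ Finset.univ.filter (fun x => d x = 1), f x =
      ∏ x ∈ Finset.univ.filter (fun x => d x = 1 ∧ retL d i x = x), f x := by
  have hsplit := Finset.prod_filter_mul_prod_filter_not (Finset.univ.filter (fun x : X => d x = 1))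
    (fun x => retL d i x = x) f
  rw [← hsplit, Finset.filter_filter, Finset.filter_filter]
  have hone : ∏ x ∈ Finset.univ.filter (fun x : X => d x = 1 ∧ ¬ retL d i x = x), f x = 1 := by
    refine Finset.prod_involution (fun x _ => retL d i x) ?_ ?_ ?_ ?_
    · intro x hx
      simp only [Finset.mem_filter, Finset.mem_univ, true_and] at hx
      exact hf x hx.1
    · intro x hx _
      simp only [Finset.mem_filter, Finset.mem_univ, true_and] at hx
      exact hx.2
    · intro x hx
      simp only [Finset.mem_filter, Finset.mem_univ, true_and] at hx ⊢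
      refine ⟨d_retL hd i x, ?_⟩
      rw [retL_retL hd i hi x hx.1]
      exact fun h => hx.2 h.symm
    · intro x hx
      simp only [Finset.mem_filter, Finset.mem_univ, true_and] at hx
      exact retL_retL hd i hi x hx.1
  rw [hone, mul_one]

include hd in
/-- The transfer of an involution followed by a homomorphism to a commutative group. -/
theorem lift_transfer_involution {A : Type*} [CommGroup A] (π : S →* A) (i : S) (hi : i * i = 1) :
    Abelianization.lift π (transfer hd i) =
      ∏ x ∈ Finset.univ.filter (fun x => d x = 1 ∧ retL d i x = x), π (d ((i, (1 : S)) • x)) := by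
  rw [transfer_apply, map_prod]
  simp only [Abelianization.lift_apply_of]
  refine prod_eq_prod_fixed hd i hi (fun x => π (d ((i, (1 : S)) • x))) ?_
  intro x hx
  rw [d_smul_retL hd i hi x hx, map_inv, mul_inv_cancel]

include hd in
/-- **Parity criterion.** If `π` takes only the values `1` and `a` (`a ≠ 1`, `a * a = 1`), the number of
right orbits is odd and the number of right orbits fixed by `i` whose label lies in the kernel of `π` is
even, then the transfer of `i` is not killed by `π`. -/
theorem lift_transfer_involution_ne_one {A : Type*} [CommGroup A] (π : S →* A) (a : A) (ha : a ≠ 1)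
    (ha2 : a * a = 1) (hπ : ∀ s, π s = 1 ∨ π s = a) (i : S) (hi : i * i = 1)
    (hodd : Odd (Finset.univ.filter (fun x : X => d x = 1)).card)
    (heven : Even (Finset.univ.filter
      (fun x : X => d x = 1 ∧ ∃ j : S, π j = 1 ∧ (i, j) • x = x)).card) :
    Abelianization.lift π (transfer hd i) ≠ 1 := by
  have hpow : ∀ n : ℕ, a ^ n = 1 ↔ Even n := by
    intro n
    constructor
    · intro h
      by_contra hn
      rw [Nat.not_even_iff_odd] at hn
      obtain ⟨k, rfl⟩ := hn
      rw [pow_succ, pow_mul, pow_two, ha2, one_pow, one_mul] at h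
      exact ha h
    · rintro ⟨k, rfl⟩
      rw [← two_mul, pow_mul, pow_two, ha2, one_pow]
  -- the number of fixed right orbits is odd
  have hfix_odd : Odd (Finset.univ.filter (fun x : X => d x = 1 ∧ retL d i x = x)).card := by
    have h := prod_eq_prod_fixed hd i hi (fun _ : X => a) (fun _ _ => ha2)
    rw [Finset.prod_const, Finset.prod_const] at h
    by_contra hne
    rw [Nat.not_odd_iff_even] at hne
    rw [(hpow _).2 hne] at h
    have := (hpow _).1 h
    exact (Nat.not_even_iff_odd.2 hodd) this
  -- description of the "inside" fixed orbits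
  have hin : Finset.univ.filter (fun x : X => d x = 1 ∧ ∃ j : S, π j = 1 ∧ (i, j) • x = x) =
      (Finset.univ.filter (fun x : X => d x = 1 ∧ retL d i x = x)).filter
        (fun x => π (d ((i, (1 : S)) • x)) = 1) := by
    ext x
    simp only [Finset.mem_filter, Finset.mem_univ, true_and]
    constructor
    · rintro ⟨hx, j, hj, hjx⟩
      have h1 : (i, (1 : S)) • x = ((1 : S), j⁻¹) • x := by
        conv_rhs => rw [← hjx, ← mul_smul]
        simp
      refine ⟨⟨hx, (retL_eq_self_iff hd i x hx).2 ⟨j⁻¹, h1⟩⟩, ?_⟩
      rw [h1, hd, hx, mul_one, map_inv, hj, inv_one]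
    · rintro ⟨⟨hx, hfix⟩, hπx⟩
      obtain ⟨b, hb⟩ := (retL_eq_self_iff hd i x hx).1 hfix
      have h1 : d ((i, (1 : S)) • x) = b := by rw [hb, hd, hx, mul_one]
      refine ⟨hx, b⁻¹, ?_, ?_⟩
      · rw [map_inv, ← h1, hπx, inv_one]
      · have e : ((i, b⁻¹) : S × S) = ((1 : S), b⁻¹) * (i, (1 : S)) := by simp
        rw [e, mul_smul, hb, ← mul_smul, Prod.mk_mul_mk, one_mul, inv_mul_cancel]
        exact one_smul _ _
  rw [lift_transfer_involution hd π i hi]
  rw [← Finset.prod_filter_mul_prod_filter_not
    (Finset.univ.filter (fun x : X => d x = 1 ∧ retL d i x = x))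
    (fun x => π (d ((i, (1 : S)) • x)) = 1)]
  have h1 : ∏ x ∈ (Finset.univ.filter (fun x : X => d x = 1 ∧ retL d i x = x)).filter
      (fun x => π (d ((i, (1 : S)) • x)) = 1), π (d ((i, (1 : S)) • x)) = 1 := by
    refine Finset.prod_eq_one (fun x hx => ?_)
    exact (Finset.mem_filter.1 hx).2
  have h2 : ∏ x ∈ (Finset.univ.filter (fun x : X => d x = 1 ∧ retL d i x = x)).filter
      (fun x => ¬ π (d ((i, (1 : S)) • x)) = 1), π (d ((i, (1 : S)) • x)) =
      a ^ ((Finset.univ.filter (fun x : X => d x = 1 ∧ retL d i x = x)).filter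
      (fun x => ¬ π (d ((i, (1 : S)) • x)) = 1)).card := by
    refine Finset.prod_eq_pow_card (fun x hx => ?_)
    exact (hπ _).resolve_left (Finset.mem_filter.1 hx).2
  rw [h1, h2, one_mul]
  intro h
  have hev := (hpow _).1 h
  have hcard := Finset.card_filter_add_card_filter_not (s := Finset.univ.filter
    (fun x : X => d x = 1 ∧ retL d i x = x)) (fun x => π (d ((i, (1 : S)) • x)) = 1)
  rw [← hin] at hcard
  have : Even (Finset.univ.filter (fun x : X => d x = 1 ∧ retL d i x = x)).card := by
    rw [← hcard]
    exact heven.add hev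
  exact (Nat.not_even_iff_odd.2 hfix_odd) this

omit [Fintype X] in
include hd in
/-- counting a right-invariant subset through the transversal `{x | d x = 1}` -/
theorem card_pred_eq (Pr : X → Prop) (hPr : ∀ (b : S) (x : X), Pr (((1 : S), b) • x) ↔ Pr x) :
    Nat.card {x : X // d x = 1 ∧ Pr x} * Nat.card S = Nat.card {x : X // Pr x} := by
  rw [← Nat.card_prod]
  refine Nat.card_congr
    { toFun := fun p => ⟨((1 : S), p.2) • (p.1 : X), (hPr _ _).2 p.1.2.2⟩
      invFun := fun x => (⟨((1 : S), (d x.1)⁻¹) • x.1, by rw [hd, inv_mul_cancel],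
        (hPr _ _).2 x.2⟩, d x.1)
      left_inv := ?_
      right_inv := ?_ }
  · rintro ⟨⟨r, hr, hp⟩, b⟩
    have h1 : d (((1 : S), b) • r) = b := by rw [hd, hr, mul_one]
    apply Prod.ext
    · apply Subtype.ext
      change ((1 : S), (d (((1 : S), b) • r))⁻¹) • (((1 : S), b) • r) = r
      rw [h1, ← mul_smul, Prod.mk_mul_mk, one_mul, inv_mul_cancel]
      exact one_smul _ _
    · exact h1
  · intro x
    apply Subtype.ext
    change ((1 : S), d x.1) • (((1 : S), (d x.1)⁻¹) • x.1) = x.1
    rw [← mul_smul, Prod.mk_mul_mk, one_mul, mul_inv_cancel]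
    exact one_smul _ _

end Cfsg.Agent.Lib.Helper88.BisetTransfer
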