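import Mathlib

/-!
# A Burnside-type congruence for fixed points

`G` acts on a finite set `X`; `D ≤ N ≤ N_G(D)` with `N` finite.  Burnside's lemma for `N` acting on
the fixed points `X^D` reads `∑_{n ∈ N} |X^{⟨D, n⟩}| = |N| · #orbits`.  Consequently, if two such
pairs `(D, N)`, `(D', N')` are matched by a bijection `N ≃ N'` carrying `D` to `D'` such that the
subgroups `⟨D, n⟩` and `⟨D', ι n⟩` have equally many fixed points for all `n ∉ D`, then
`|X^D| ≡ |X^{D'}|` modulo `|N| / |D|`.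
-/

set_option autoImplicit false

namespace Cfsg.Agent.Lib.Helper88.BurnsideCongr

open MulAction

variable {G : Type*} [Group G] {X : Type*} [MulAction G X]

/-- the fixed points of `D`, as a sub-action of a subgroup `N` of the normalizer -/
def fixedSub (D N : Subgroup G) (hN : N ≤ Subgroup.normalizer (D : Set G)) : SubMulAction ↥N X where
  carrier := fixedPoints D X
  smul_mem' := by
    intro n y hy d
    have hn : ((n : G)⁻¹) ∈ Subgroup.normalizer (D : Set G) := (Subgroup.normalizer (D : Set G)).inv_mem (hN n.2)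
    have h1 : (n : G)⁻¹ * (d : G) * ((n : G)⁻¹)⁻¹ ∈ D := (Subgroup.mem_normalizer_iff.1 hn d).1 d.2
    have h2 := hy ⟨_, h1⟩
    change (d : G) • ((n : G) • y) = (n : G) • y
    change ((n : G)⁻¹ * (d : G) * ((n : G)⁻¹)⁻¹) • y = y at h2
    rw [inv_inv, mul_smul, mul_smul, inv_smul_eq_iff] at h2
    exact h2

theorem mem_fixedPoints_sup_zpowers (D : Subgroup G) (n : G) (y : X) :
    y ∈ fixedPoints ↥(D ⊔ Subgroup.zpowers n) X ↔ y ∈ fixedPoints ↥D X ∧ n • y = y := by
  constructor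
  · intro hy
    refine ⟨fun d => hy ⟨d, le_sup_left (a := D) d.2⟩, ?_⟩
    exact hy ⟨n, le_sup_right (a := D) (Subgroup.mem_zpowers n)⟩
  · rintro ⟨hD, hn⟩ ⟨g, hg⟩
    change g • y = y
    have : D ⊔ Subgroup.zpowers n ≤ MulAction.stabilizer G y := by
      refine sup_le (fun d hd => ?_) ?_
      · exact hD ⟨d, hd⟩
      · rw [Subgroup.zpowers_le]
        exact hn
    exact this hg

/-- **Burnside's lemma on the fixed points of a normal subgroup.** -/
theorem sum_card_fixedPoints_sup_zpowers [Finite X] (D N : Subgroup G) [Finite ↥N]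
    (hN : N ≤ Subgroup.normalizer (D : Set G)) [Fintype ↥N] :
    ∃ k : ℕ, ∑ n : ↥N, Nat.card (fixedPoints ↥(D ⊔ Subgroup.zpowers (n : G)) X) = k * Nat.card ↥N := by
  classical
  let Y := fixedSub (X := X) D N hN
  have : Finite ↥Y := Subtype.finite
  have : Fintype ↥Y := Fintype.ofFinite _
  have : Fintype (Quotient (orbitRel ↥N ↥Y)) := Fintype.ofFinite _
  have hB := MulAction.sum_card_fixedBy_eq_card_orbits_mul_card_group ↥N ↥Y
  refine ⟨Fintype.card (Quotient (orbitRel ↥N ↥Y)), ?_⟩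
  rw [Nat.card_eq_fintype_card, ← hB]
  refine Finset.sum_congr rfl (fun n _ => ?_)
  rw [← Nat.card_eq_fintype_card]
  refine Nat.card_congr
    { toFun := fun y => ⟨⟨y.1, ((mem_fixedPoints_sup_zpowers D (n : G) y.1).1 y.2).1⟩, ?_⟩
      invFun := fun y => ⟨y.1.1, (mem_fixedPoints_sup_zpowers D (n : G) y.1.1).2 ⟨y.1.2, ?_⟩⟩
      left_inv := fun y => rfl
      right_inv := fun y => rfl }
  · rw [MulAction.mem_fixedBy]
    apply Subtype.ext
    exact ((mem_fixedPoints_sup_zpowers D (n : G) y.1).1 y.2).2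
  · have := y.2
    rw [MulAction.mem_fixedBy] at this
    exact congrArg Subtype.val this

theorem sup_zpowers_eq_of_mem (D : Subgroup G) {n : G} (hn : n ∈ D) : D ⊔ Subgroup.zpowers n = D := by
  apply le_antisymm
  · exact sup_le le_rfl (by rw [Subgroup.zpowers_le]; exact hn)
  · exact le_sup_left

/-- **Congruence of fixed point counts.** -/
theorem card_fixedPoints_modEq [Finite X] (D N D' N' : Subgroup G) [Finite ↥N]
    (hDN : D ≤ N) (hN : N ≤ Subgroup.normalizer (D : Set G)) (hDN' : D' ≤ N') (hN' : N' ≤ Subgroup.normalizer (D' : Set G))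
    (ι : ↥N ≃ ↥N') (hιD : ∀ n : ↥N, (n : G) ∈ D ↔ (ι n : G) ∈ D')
    (hfix : ∀ n : ↥N, (n : G) ∉ D →
      Nat.card (fixedPoints ↥(D ⊔ Subgroup.zpowers (n : G)) X) =
        Nat.card (fixedPoints ↥(D' ⊔ Subgroup.zpowers (ι n : G)) X)) :
    Nat.card ↥D * Nat.card (fixedPoints ↥D X) ≡ Nat.card ↥D * Nat.card (fixedPoints ↥D' X)
      [MOD Nat.card ↥N] := by
  classical
  have : Finite ↥N' := Finite.of_equiv _ ι
  have : Fintype ↥N := Fintype.ofFinite _
  have : Fintype ↥N' := Fintype.ofFinite _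
  obtain ⟨k, hk⟩ := sum_card_fixedPoints_sup_zpowers (X := X) D N hN
  obtain ⟨k', hk'⟩ := sum_card_fixedPoints_sup_zpowers (X := X) D' N' hN'
  have hcardN : Nat.card ↥N' = Nat.card ↥N := (Nat.card_congr ι).symm
  -- split the sums
  have hsplit : ∀ (D N : Subgroup G) [Fintype ↥N] (hDN : D ≤ N),
      ∑ n : ↥N, Nat.card (fixedPoints ↥(D ⊔ Subgroup.zpowers (n : G)) X) =
        Nat.card ↥D * Nat.card (fixedPoints ↥D X) +
        ∑ n : ↥N, (if (n : G) ∈ D then 0 else
          Nat.card (fixedPoints ↥(D ⊔ Subgroup.zpowers (n : G)) X)) := by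
    intro D N _ hDN
    have h1 : ∀ n : ↥N, Nat.card (fixedPoints ↥(D ⊔ Subgroup.zpowers (n : G)) X) =
        (if (n : G) ∈ D then Nat.card (fixedPoints ↥D X) else 0) +
        (if (n : G) ∈ D then 0 else
          Nat.card (fixedPoints ↥(D ⊔ Subgroup.zpowers (n : G)) X)) := by
      intro n
      split_ifs with h
      · rw [sup_zpowers_eq_of_mem D h, add_zero]
      · rw [zero_add]
    rw [Finset.sum_congr rfl (fun n _ => h1 n), Finset.sum_add_distrib]
    congr 1
    rw [← Finset.sum_filter, Finset.sum_const, smul_eq_mul]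
    congr 1
    rw [← Fintype.card_subtype, ← Nat.card_eq_fintype_card]
    exact Nat.card_congr
      { toFun := fun n => ⟨n.1.1, n.2⟩
        invFun := fun d => ⟨⟨d.1, hDN d.2⟩, d.2⟩
        left_inv := fun n => rfl
        right_inv := fun d => rfl }
  rw [hsplit D N hDN] at hk
  rw [hsplit D' N' hDN'] at hk'
  have hsum : ∑ n : ↥N', (if (n : G) ∈ D' then 0 else
      Nat.card (fixedPoints ↥(D' ⊔ Subgroup.zpowers (n : G)) X)) =
      ∑ n : ↥N, (if (n : G) ∈ D then 0 else
      Nat.card (fixedPoints ↥(D ⊔ Subgroup.zpowers (n : G)) X)) := by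
    symm
    refine Fintype.sum_equiv ι _ _ (fun n => ?_)
    by_cases h : (n : G) ∈ D
    · rw [if_pos h, if_pos ((hιD n).1 h)]
    · rw [if_neg h, if_neg (fun h' => h ((hιD n).2 h')), hfix n h]
  have hcardD : Nat.card ↥D' = Nat.card ↥D := by
    symm
    refine Nat.card_congr
      { toFun := fun d => ⟨(ι ⟨d.1, hDN d.2⟩ : G), (hιD ⟨d.1, hDN d.2⟩).1 d.2⟩
        invFun := fun d => ⟨(ι.symm ⟨d.1, hDN' d.2⟩ : G), (hιD _).2 (by
          rw [Equiv.apply_symm_apply]; exact d.2)⟩
        left_inv := ?_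
        right_inv := ?_ }
    · intro d
      apply Subtype.ext
      simp
    · intro d
      apply Subtype.ext
      simp
  rw [hsum, hcardD, hcardN] at hk'
  -- now compare
  set T := ∑ n : ↥N, (if (n : G) ∈ D then 0 else
      Nat.card (fixedPoints ↥(D ⊔ Subgroup.zpowers (n : G)) X)) with hT
  have h1 : Nat.card ↥D * Nat.card (fixedPoints ↥D X) + T ≡ 0 [MOD Nat.card ↥N] := by
    rw [hk]
    exact (Nat.modEq_zero_iff_dvd.2 (Dvd.intro_left _ rfl))
  have h2 : Nat.card ↥D * Nat.card (fixedPoints ↥D' X) + T ≡ 0 [MOD Nat.card ↥N] := by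
    rw [hk']
    exact (Nat.modEq_zero_iff_dvd.2 (Dvd.intro_left _ rfl))
  exact Nat.ModEq.add_right_cancel' T (h1.trans h2.symm)

/-- **Congruence of fixed point counts**, divided form: modulo the index `|N| / |D|`. -/
theorem card_fixedPoints_modEq_index [Finite X] (D N D' N' : Subgroup G) [Finite ↥N]
    (hDN : D ≤ N) (hN : N ≤ Subgroup.normalizer (D : Set G)) (hDN' : D' ≤ N')
    (hN' : N' ≤ Subgroup.normalizer (D' : Set G))
    (ι : ↥N ≃ ↥N') (hιD : ∀ n : ↥N, (n : G) ∈ D ↔ (ι n : G) ∈ D')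
    (hfix : ∀ n : ↥N, (n : G) ∉ D →
      Nat.card (fixedPoints ↥(D ⊔ Subgroup.zpowers (n : G)) X) =
        Nat.card (fixedPoints ↥(D' ⊔ Subgroup.zpowers (ι n : G)) X)) :
    Nat.card (fixedPoints ↥D X) ≡ Nat.card (fixedPoints ↥D' X)
      [MOD Nat.card ↥N / Nat.card ↥D] := by
  have h := card_fixedPoints_modEq (X := X) D N D' N' hDN hN hDN' hN' ι hιD hfix
  have hfinD : Finite ↥D := Finite.of_injective (Subgroup.inclusion hDN) (Subgroup.inclusion_injective hDN)
  have hdvd : Nat.card ↥D ∣ Nat.card ↥N := Subgroup.card_dvd_of_le hDN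
  have hpos : Nat.card ↥D ≠ 0 := Nat.card_pos.ne'
  rw [← Nat.mul_div_cancel' hdvd] at h
  exact Nat.ModEq.mul_left_cancel' hpos h

end Cfsg.Agent.Lib.Helper88.BurnsideCongr
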