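import Mathlib
import Cfsg.Prelude.Def_FusionSystem
import Cfsg.Agent.Lib.Helper85.FusionBasic
import Cfsg.Agent.Lib.Helper85.FusionRS
import Cfsg.Agent.Lib.Helper88.BisetInvolution

/-!
# Thompson–Lyons transfer for fusion systems, from a stable biset

Given a finite `S × S`-set `X` whose stabilizer elements are pairs of `F`-conjugate elements, with
`|X| / |S|` odd and such that the left actions of `u` and `φ u` are intertwined for every map `φ` of the
system, an involution `i` all of whose fully normalized conjugates lie outside a subgroup `T` of index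
`2` is not in the focal subgroup.
-/

set_option autoImplicit false

namespace Cfsg.Agent.Lib.Helper88.ThompsonTransfer

open Cfsg Cfsg.FusionSystem Cfsg.Agent.Lib.Helper85

variable {Ω : Type*} [Group Ω] {S : Subgroup Ω}

theorem isConjElt_one (F : FusionSystem S) {b : Ω} (h : F.IsConjElt 1 b) : b = 1 := by
  obtain ⟨φ, _, hφ⟩ := h
  rw [← hφ]
  have : (⟨1, Subgroup.mem_zpowers (1 : Ω)⟩ : Subgroup.zpowers (1 : Ω)) = 1 := rfl
  rw [this, map_one]

theorem isConjElt_eq_one (F : FusionSystem S) {a : Ω} (h : F.IsConjElt a 1) : a = 1 := by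
  obtain ⟨φ, hφm, hφ⟩ := h
  have h1 : φ ⟨a, Subgroup.mem_zpowers a⟩ = φ 1 := by rw [hφ, map_one]
  have := F.injective_of_mem hφm h1
  exact congrArg Subtype.val this

/-- the range of a homomorphism on `zpowers i` -/
theorem range_eq_zpowers {i : Ω} (φ : Subgroup.zpowers i →* Ω) :
    φ.range = Subgroup.zpowers (φ ⟨i, Subgroup.mem_zpowers i⟩) := by
  ext y
  constructor
  · rintro ⟨⟨u, hu⟩, rfl⟩
    obtain ⟨k, rfl⟩ := Subgroup.mem_zpowers_iff.1 hu
    have : (⟨i ^ k, hu⟩ : Subgroup.zpowers i) = (⟨i, Subgroup.mem_zpowers i⟩ : Subgroup.zpowers i) ^ k :=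
      Subtype.ext rfl
    rw [this, map_zpow]
    exact Subgroup.zpow_mem_zpowers _ k
  · rintro ⟨k, rfl⟩
    exact ⟨(⟨i, Subgroup.mem_zpowers i⟩ : Subgroup.zpowers i) ^ k, by rw [map_zpow]⟩

theorem isConj_of_isConjElt (F : FusionSystem S) {i j : Ω} (h : F.IsConjElt i j) :
    F.IsConj (Subgroup.zpowers i) (Subgroup.zpowers j) := by
  obtain ⟨φ, hφm, hφ⟩ := h
  exact ⟨φ, hφm, by rw [range_eq_zpowers, hφ]⟩

theorem exists_isConjElt_of_isConj (F : FusionSystem S) {i : Ω} {Q : Subgroup Ω}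
    (h : F.IsConj (Subgroup.zpowers i) Q) : ∃ j, F.IsConjElt i j ∧ Q = Subgroup.zpowers j := by
  obtain ⟨φ, hφm, hφ⟩ := h
  exact ⟨φ ⟨i, Subgroup.mem_zpowers i⟩, ⟨φ, hφm, rfl⟩, by rw [← hφ, range_eq_zpowers]⟩

theorem isConjElt_trans (F : FusionSystem S) {i j k : Ω} (h₁ : F.IsConjElt i j)
    (h₂ : F.IsConjElt j k) : F.IsConjElt i k := by
  obtain ⟨φ, hφm, hφ⟩ := h₁
  obtain ⟨ψ, hψm, hψ⟩ := h₂
  have hr : ∀ x : Subgroup.zpowers i, φ x ∈ Subgroup.zpowers j := by
    intro x
    have : φ x ∈ φ.range := ⟨x, rfl⟩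
    rwa [range_eq_zpowers, hφ] at this
  refine ⟨ψ.comp (φ.codRestrict _ hr), F.comp_mem hφm hψm hr, ?_⟩
  change ψ ⟨φ ⟨i, _⟩, _⟩ = k
  rw [← hψ]
  congr 1
  exact Subtype.ext hφ

theorem isConjElt_mem (F : FusionSystem S) {i j : Ω} (h : F.IsConjElt i j) : i ∈ S ∧ j ∈ S := by
  obtain ⟨φ, hφm, hφ⟩ := h
  refine ⟨(F.le_of_mem hφm).1 (Subgroup.mem_zpowers i), ?_⟩
  rw [← hφ]
  exact (F.le_of_mem hφm).2 _

theorem isConjElt_mul_self (F : FusionSystem S) {i j : Ω} (h : F.IsConjElt i j) (hi : i * i = 1) :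
    j * j = 1 := by
  obtain ⟨φ, hφm, hφ⟩ := h
  rw [← hφ, ← map_mul]
  have : (⟨i, Subgroup.mem_zpowers i⟩ : Subgroup.zpowers i) * ⟨i, Subgroup.mem_zpowers i⟩ = 1 :=
    Subtype.ext hi
  rw [this, map_one]

theorem inv_mul_mem_focal (F : FusionSystem S) {i j : Ω} (h : F.IsConjElt i j) :
    i⁻¹ * j ∈ F.focalSubgroup := by
  obtain ⟨φ, hφm, hφ⟩ := h
  exact Subgroup.subset_closure ⟨_, φ, ⟨i, Subgroup.mem_zpowers i⟩, hφm, by rw [hφ]⟩

/-- For an element with `j * j = 1` the normalizer of `zpowers j` in `S` is the image of the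
centralizer of `j` in `↥S`. -/
theorem normalizerIn_zpowers_eq {j : Ω} (hj : j ∈ S) (hj2 : j * j = 1) :
    normalizerIn S (Subgroup.zpowers j) =
      (Subgroup.centralizer ({(⟨j, hj⟩ : ↥S)} : Set ↥S)).map S.subtype := by
  have hz : ∀ y ∈ Subgroup.zpowers j, y = 1 ∨ y = j := by
    rintro y ⟨k, rfl⟩
    change j ^ k = 1 ∨ j ^ k = j
    rcases Int.even_or_odd k with ⟨m, rfl⟩ | ⟨m, rfl⟩
    · left
      rw [zpow_add, ← (Commute.refl j).mul_zpow, hj2, one_zpow]
    · right
      rw [zpow_add, zpow_one, two_mul, zpow_add, ← (Commute.refl j).mul_zpow, hj2, one_zpow, one_mul]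
  ext g
  constructor
  · rintro ⟨hgS, hgN⟩
    refine ⟨⟨g, hgS⟩, Subgroup.mem_centralizer_iff.2 ?_, rfl⟩
    intro y hy
    rw [Set.mem_singleton_iff] at hy
    subst hy
    apply Subtype.ext
    change j * g = g * j
    have h1 : g * j * g⁻¹ ∈ Subgroup.zpowers j :=
      (Subgroup.mem_normalizer_iff.1 hgN j).1 (Subgroup.mem_zpowers j)
    rcases hz _ h1 with h | h
    · have : j = 1 := by
        have := congrArg (fun t => g⁻¹ * t * g) h
        simpa [mul_assoc] using this
      rw [this, one_mul, mul_one]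
    · have h2 : g * j = j * g := by
        have := congrArg (fun t => t * g) h
        simpa [mul_assoc] using this
      exact h2.symm
  · rintro ⟨⟨g, hgS⟩, hg, rfl⟩
    refine ⟨hgS, ?_⟩
    replace hg := Subgroup.mem_centralizer_iff.1 hg
    have hc : j * g = g * j := congrArg Subtype.val (hg ⟨j, hj⟩ rfl)
    change g ∈ Subgroup.normalizer _
    rw [Subgroup.mem_normalizer_iff]
    intro y
    have hcy : ∀ y ∈ Subgroup.zpowers j, g * y * g⁻¹ = y := by
      intro y hy
      rcases hz y hy with rfl | rfl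
      · simp
      · rw [← hc, mul_inv_cancel_right]
    constructor
    · intro hy
      rw [hcy y hy]
      exact hy
    · intro hy
      have := hcy _ hy
      have h2 : g * y * g⁻¹ = y := by
        have h3 := congrArg (fun t => g⁻¹ * t * g) this
        simp only [mul_assoc, inv_mul_cancel_left, inv_mul_cancel, mul_one] at h3
        rw [mul_assoc]
        exact h3
      rw [← h2]
      exact hy

/-- class formula divisibility: if `q` divides every orbit length then `q` divides the cardinality -/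
theorem dvd_card_of_forall_stabilizer {G Y : Type*} [Group G] [MulAction G Y] [Finite G] [Finite Y]
    (q : ℕ) (h : ∀ y : Y, q ∣ Nat.card G / Nat.card (MulAction.stabilizer G y)) : q ∣ Nat.card Y := by
  classical
  have : Fintype G := Fintype.ofFinite G
  have : Fintype Y := Fintype.ofFinite Y
  have : Fintype (Quotient (MulAction.orbitRel G Y)) := Fintype.ofFinite _
  rw [Nat.card_eq_fintype_card, MulAction.card_eq_sum_card_group_div_card_stabilizer G Y]
  refine Finset.dvd_sum (fun ω _ => ?_)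
  have := h (Quotient.out ω)
  rw [Nat.card_eq_fintype_card, Nat.card_eq_fintype_card] at this
  convert this

section Main

open BisetTransfer

variable [Finite S] (F : FusionSystem S) {X : Type*} [MulAction (↥S × ↥S) X]

omit [Finite S] in
/-- the kernel of the biset transfer contains the focal subgroup -/
theorem transfer_focal_eq_one
    (H4 : ∀ (P : Subgroup Ω) (φ : P →* Ω) (hφ : φ ∈ F.Hom P) (u : P),
      ∃ e : Equiv.Perm X, ∀ (b : ↥S) (x : X),
        e (((⟨φ u, (F.le_of_mem hφ).2 u⟩ : ↥S), b) • x) =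
          ((⟨u, (F.le_of_mem hφ).1 u.2⟩ : ↥S), b) • e x)
    [Fintype X] {d : X → ↥S} (hd : ∀ (b : ↥S) (x : X), d (((1 : ↥S), b) • x) = b * d x)
    (y : Ω) (hy : y ∈ F.focalSubgroup) (hyS : y ∈ S) :
    transfer hd ⟨y, hyS⟩ = 1 := by
  have hle : F.focalSubgroup ≤ (transfer hd).ker.map S.subtype := by
    unfold FusionSystem.focalSubgroup
    rw [Subgroup.closure_le]
    rintro y ⟨P, φ, u, hφ, rfl⟩
    refine ⟨(⟨u, (F.le_of_mem hφ).1 u.2⟩ : ↥S)⁻¹ * ⟨φ u, (F.le_of_mem hφ).2 u⟩,
      MonoidHom.mem_ker.2 ?_, rfl⟩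
    rw [map_mul, map_inv, inv_mul_eq_one]
    obtain ⟨e, he⟩ := H4 P φ hφ u
    exact (transfer_eq_of_perm hd e _ _ he).symm
  obtain ⟨s, hs, hsy⟩ := hle hy
  have : s = ⟨y, hyS⟩ := Subtype.ext hsy
  rw [← this]
  exact hs

omit [Finite S] in
theorem smul_eq_of_stab {x : X} {g h : ↥S × ↥S} (hg : g • x = x) (hh : h • x = x) :
    (g * h) • x = x := by rw [mul_smul, hh, hg]

omit [Finite S] in
theorem inv_smul_eq_of_stab {x : X} {g : ↥S × ↥S} (hg : g • x = x) : g⁻¹ • x = x := by
  rw [inv_smul_eq_iff, hg]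

/-- the stabilizer in `C_S(js) × S` of a point fixed by `(js, j)` embeds into `C_S(j)` -/
theorem card_stabilizer_le
    (H1 : ∀ (x : X) (a b : ↥S), (a, b) • x = x → F.IsConjElt (a : Ω) (b : Ω))
    (js j : ↥S) (x : X) (hx : (js, j) • x = x) :
    Nat.card (MulAction.stabilizer
      ↥((Subgroup.centralizer ({js} : Set ↥S)).prod (⊤ : Subgroup ↥S)) x) ≤
      Nat.card (Subgroup.centralizer ({j} : Set ↥S)) := by
  have hmem : ∀ k : MulAction.stabilizer
      ↥((Subgroup.centralizer ({js} : Set ↥S)).prod (⊤ : Subgroup ↥S)) x,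
      ((k : ↥((Subgroup.centralizer ({js} : Set ↥S)).prod (⊤ : Subgroup ↥S))) : ↥S × ↥S) • x = x :=
    fun k => k.2
  have hC : ∀ k : MulAction.stabilizer
      ↥((Subgroup.centralizer ({js} : Set ↥S)).prod (⊤ : Subgroup ↥S)) x,
      js * ((k : ↥((Subgroup.centralizer ({js} : Set ↥S)).prod (⊤ : Subgroup ↥S))) : ↥S × ↥S).1 =
        ((k : ↥((Subgroup.centralizer ({js} : Set ↥S)).prod (⊤ : Subgroup ↥S))) : ↥S × ↥S).1 * js := by
    intro k
    have := (Subgroup.mem_prod.1 k.1.2).1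
    exact Subgroup.mem_centralizer_iff.1 this js rfl
  refine Nat.card_le_card_of_injective (fun k => ⟨((k : ↥((Subgroup.centralizer
    ({js} : Set ↥S)).prod (⊤ : Subgroup ↥S))) : ↥S × ↥S).2, ?_⟩) ?_
  · rw [Subgroup.mem_centralizer_iff]
    intro y hy
    rw [Set.mem_singleton_iff] at hy
    subst hy
    obtain ⟨⟨⟨c, b⟩, hk⟩, hkx⟩ := k
    have hkx' : ((c, b) : ↥S × ↥S) • x = x := hkx
    have hcc : js * c = c * js := hC ⟨⟨⟨c, b⟩, hk⟩, hkx⟩
    change y * b = b * y
    have h1 : (((c, b) : ↥S × ↥S) * (js, y) * (c, b)⁻¹ * (js, y)⁻¹) • x = x :=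
      smul_eq_of_stab (smul_eq_of_stab (smul_eq_of_stab hkx' hx) (inv_smul_eq_of_stab hkx'))
        (inv_smul_eq_of_stab hx)
    have h2 : ((c, b) : ↥S × ↥S) * (js, y) * (c, b)⁻¹ * (js, y)⁻¹ =
        ((1 : ↥S), b * y * b⁻¹ * y⁻¹) := by
      apply Prod.ext
      · change c * js * c⁻¹ * js⁻¹ = 1
        rw [← hcc]
        group
      · rfl
    rw [h2] at h1
    have h3 := isConjElt_one F (H1 x _ _ h1)
    have h4 : b * y * b⁻¹ * y⁻¹ = 1 := Subtype.ext h3
    have h5 : b * y = y * b := by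
      have := congrArg (fun t => t * y * b) h4
      simpa [mul_assoc] using this
    exact h5.symm
  · intro k k' hkk
    obtain ⟨⟨⟨c, b⟩, hk⟩, hkx⟩ := k
    obtain ⟨⟨⟨c', b'⟩, hk'⟩, hkx'⟩ := k'
    have hb : b = b' := congrArg Subtype.val hkk
    subst hb
    have h1 : ((c, b) : ↥S × ↥S) • x = x := hkx
    have h2 : ((c', b) : ↥S × ↥S) • x = x := hkx'
    have h3 : (((c, b) : ↥S × ↥S)⁻¹ * (c', b)) • x = x :=
      smul_eq_of_stab (inv_smul_eq_of_stab h1) h2
    have h4 : ((c, b) : ↥S × ↥S)⁻¹ * (c', b) = (c⁻¹ * c', (1 : ↥S)) := by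
      apply Prod.ext
      · rfl
      · change b⁻¹ * b = 1
        exact inv_mul_cancel b
    rw [h4] at h3
    have h5 := isConjElt_eq_one F (H1 x _ _ h3)
    have h6 : c⁻¹ * c' = 1 := Subtype.ext h5
    have h7 : c = c' := by
      rw [inv_mul_eq_one] at h6
      exact h6
    subst h7
    rfl

/-- **Thompson–Lyons transfer from a stable biset.** -/
theorem not_mem_focal_of_biset [Finite X] (hS : IsPGroup 2 ↥S) (T : Subgroup Ω)
    (hT : T.relIndex S = 2) (i : Ω) (hi : i ∈ S) (hi2 : i * i = 1)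
    (h : ∀ j : Ω, F.IsConjElt i j → F.IsFullyNormalized (Subgroup.zpowers j) → j ∉ T)
    (H1 : ∀ (x : X) (a b : ↥S), (a, b) • x = x → F.IsConjElt (a : Ω) (b : Ω))
    (H3 : ∀ m : ℕ, m * Nat.card ↥S = Nat.card X → Odd m)
    (H4 : ∀ (P : Subgroup Ω) (φ : P →* Ω) (hφ : φ ∈ F.Hom P) (u : P),
      ∃ e : Equiv.Perm X, ∀ (b : ↥S) (x : X),
        e (((⟨φ u, (F.le_of_mem hφ).2 u⟩ : ↥S), b) • x) =
          ((⟨u, (F.le_of_mem hφ).1 u.2⟩ : ↥S), b) • e x) :
    i ∉ F.focalSubgroup := by
  classical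
  have : Fintype X := Fintype.ofFinite X
  intro hif
  -- right freeness and a trivialization
  have hfreeR : ∀ (b : ↥S) (x : X), ((1 : ↥S), b) • x = x → b = 1 := by
    intro b x hx
    exact Subtype.ext (isConjElt_one F (H1 x 1 b hx))
  obtain ⟨d, hd, -⟩ := exists_triv (X := X) (⊥ : Subgroup (↥S × ↥S))
    (by
      intro c hc b
      rw [Subgroup.mem_bot.1 hc, one_mul, mul_one])
    (by
      intro c hc b x hx
      rw [Subgroup.mem_bot.1 hc, one_mul] at hx
      exact hfreeR b x hx)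
  -- a fully normalized conjugate
  have hzi : Subgroup.zpowers i ≤ S := by
    rw [Subgroup.zpowers_le]
    exact hi
  obtain ⟨Q, hQc, hQfn⟩ := exists_fullyNormalized_conj F hzi
  obtain ⟨js, hijs, rfl⟩ := exists_isConjElt_of_isConj F hQc
  have hjsS : js ∈ S := (isConjElt_mem F hijs).2
  have hjs2 : js * js = 1 := isConjElt_mul_self F hijs hi2
  have hjsf : js ∈ F.focalSubgroup := by
    have h1 := F.focalSubgroup.mul_mem hif (inv_mul_mem_focal F hijs)
    rwa [mul_inv_cancel_left] at h1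
  have ht1 : transfer hd ⟨js, hjsS⟩ = 1 := transfer_focal_eq_one F H4 hd js hjsf hjsS
  -- the quotient of order two
  set T' : Subgroup ↥S := T.subgroupOf S with hT'
  have hidx : T'.index = 2 := hT
  have hnorm : T'.Normal := Subgroup.normal_of_index_eq_two hidx
  have hcard2 : Nat.card (↥S ⧸ T') = 2 := by rw [← Subgroup.index_eq_card]; exact hidx
  have : Fact (Nat.Prime 2) := ⟨Nat.prime_two⟩
  have hcyc : IsCyclic (↥S ⧸ T') := isCyclic_of_prime_card (p := 2) hcard2
  letI : CommGroup (↥S ⧸ T') := IsCyclic.commGroup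
  let π : ↥S →* ↥S ⧸ T' := QuotientGroup.mk' T'
  have hπ1 : ∀ s : ↥S, π s = 1 ↔ (s : Ω) ∈ T := by
    intro s
    rw [QuotientGroup.mk'_apply, QuotientGroup.eq_one_iff]
    exact Subgroup.mem_subgroupOf
  obtain ⟨a, ha1, hauniq⟩ := (Nat.card_eq_two_iff' (1 : ↥S ⧸ T')).1 hcard2
  have ha2 : a * a = 1 := by
    have := pow_card_eq_one' (G := ↥S ⧸ T') (x := a)
    rwa [hcard2, pow_two] at this
  have hπa : ∀ s : ↥S, π s = 1 ∨ π s = a := by
    intro s
    by_cases hs : π s = 1
    · exact Or.inl hs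
    · exact Or.inr (hauniq _ hs)
  refine lift_transfer_involution_ne_one hd π a ha1 ha2 hπa ⟨js, hjsS⟩ (Subtype.ext hjs2) ?_ ?_
    (by rw [ht1, map_one])
  · -- odd number of right orbits
    apply H3
    rw [← card_eq hd, Nat.card_eq_fintype_card (α := {x : X // d x = 1}), Fintype.card_subtype]
    congr!
  · -- even number of fixed right orbits with label in `T`
    set Pr : X → Prop := fun x => ∃ j : ↥S, π j = 1 ∧ ((⟨js, hjsS⟩ : ↥S), j) • x = x with hPr
    have hPr1 : ∀ (c b : ↥S), (⟨js, hjsS⟩ : ↥S) * c = c * ⟨js, hjsS⟩ → ∀ x : X, Pr x →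
        Pr ((c, b) • x) := by
      rintro c b hc x ⟨j, hj, hjx⟩
      refine ⟨b * j * b⁻¹, ?_, ?_⟩
      · rw [map_mul, map_mul, hj, mul_one, map_inv, mul_inv_cancel]
      · rw [← mul_smul]
        have e : (((⟨js, hjsS⟩ : ↥S), b * j * b⁻¹) : ↥S × ↥S) * (c, b) =
            (c, b) * ((⟨js, hjsS⟩ : ↥S), j) := by
          apply Prod.ext
          · exact hc
          · change b * j * b⁻¹ * b = b * j
            rw [inv_mul_cancel_right]
        rw [e, mul_smul, hjx]
    have hPr2 : ∀ (b : ↥S) (x : X), Pr (((1 : ↥S), b) • x) ↔ Pr x := by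
      intro b x
      constructor
      · intro hx
        have := hPr1 1 b⁻¹ (by rw [mul_one, one_mul]) _ hx
        rw [← mul_smul] at this
        have e : (((1 : ↥S), b⁻¹) : ↥S × ↥S) * ((1 : ↥S), b) = 1 := by
          apply Prod.ext
          · exact one_mul _
          · exact inv_mul_cancel b
        rwa [e, one_smul] at this
      · exact hPr1 1 b (by rw [mul_one, one_mul]) x
    have hcount := card_pred_eq hd Pr hPr2
    -- the group `C × S` acts on the points satisfying `Pr`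
    set C : Subgroup ↥S := Subgroup.centralizer ({(⟨js, hjsS⟩ : ↥S)} : Set ↥S) with hC
    set K : Subgroup (↥S × ↥S) := C.prod (⊤ : Subgroup ↥S) with hK
    let Y : SubMulAction ↥K X :=
      { carrier := {x | Pr x}
        smul_mem' := by
          rintro ⟨⟨c, b⟩, hk⟩ x hx
          have hc : c ∈ C := (Subgroup.mem_prod.1 hk).1
          exact hPr1 c b (Subgroup.mem_centralizer_iff.1 hc _ rfl) x hx }
    have hYcard : Nat.card ↥Y = Nat.card {x : X // Pr x} := rfl
    have hCcard : Nat.card ↥K = Nat.card ↥C * Nat.card ↥S := by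
      rw [Nat.card_congr (Subgroup.prodEquiv C (⊤ : Subgroup ↥S)).toEquiv, Nat.card_prod,
        Subgroup.card_top]
    obtain ⟨nC, hnC⟩ := IsPGroup.exists_card_eq (hS.to_subgroup C)
    obtain ⟨nS, hnS⟩ := IsPGroup.exists_card_eq hS
    have hdvd : 2 * Nat.card ↥S ∣ Nat.card ↥Y := by
      apply dvd_card_of_forall_stabilizer (G := ↥K) (Y := ↥Y)
      rintro ⟨x, hx⟩
      rw [SubMulAction.stabilizer_of_subMul]
      change 2 * Nat.card ↥S ∣ Nat.card ↥K / Nat.card (MulAction.stabilizer ↥K x)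
      obtain ⟨j, hj, hjx⟩ := hx
      -- the stabilizer is small
      have h1 := card_stabilizer_le F H1 ⟨js, hjsS⟩ j x hjx
      have hjjs : F.IsConjElt js (j : Ω) := H1 x _ _ hjx
      have hij : F.IsConjElt i (j : Ω) := isConjElt_trans F hijs hjjs
      have hjT : (j : Ω) ∈ T := (hπ1 j).1 hj
      have hj2 : (j : Ω) * (j : Ω) = 1 := isConjElt_mul_self F hij hi2
      have hnfn : ¬ F.IsFullyNormalized (Subgroup.zpowers (j : Ω)) := fun hfn => h _ hij hfn hjT
      have hzj : Subgroup.zpowers (j : Ω) ≤ S := by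
        rw [Subgroup.zpowers_le]
        exact j.2
      have h2 : ∃ Q', F.IsConj (Subgroup.zpowers (j : Ω)) Q' ∧
          Nat.card (normalizerIn S (Subgroup.zpowers (j : Ω))) < Nat.card (normalizerIn S Q') := by
        by_contra hne
        apply hnfn
        refine ⟨hzj, fun Q' hQ' => ?_⟩
        by_contra hlt
        exact hne ⟨Q', hQ', not_le.1 hlt⟩
      obtain ⟨Q', hQ'c, hQ'lt⟩ := h2
      have h3 : Nat.card (normalizerIn S Q') ≤ Nat.card (normalizerIn S (Subgroup.zpowers js)) :=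
        hQfn.2 Q' (isConj_trans F (isConj_of_isConjElt F hjjs) hQ'c)
      have h4 : Nat.card (Subgroup.centralizer ({j} : Set ↥S)) < Nat.card ↥C := by
        have e1 := normalizerIn_zpowers_eq (S := S) j.2 hj2
        have e2 := normalizerIn_zpowers_eq (S := S) hjsS hjs2
        have c1 : Nat.card (normalizerIn S (Subgroup.zpowers (j : Ω))) =
            Nat.card (Subgroup.centralizer ({j} : Set ↥S)) := by
          rw [e1]
          exact Subgroup.card_map_of_injective S.subtype_injective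
        have c2 : Nat.card (normalizerIn S (Subgroup.zpowers js)) = Nat.card ↥C := by
          rw [e2]
          exact Subgroup.card_map_of_injective S.subtype_injective
        rw [← c1, ← c2]
        exact lt_of_lt_of_le hQ'lt h3
      have h5 : Nat.card (MulAction.stabilizer ↥K x) < Nat.card ↥C := lt_of_le_of_lt h1 h4
      have h6 : Nat.card (MulAction.stabilizer ↥K x) ∣ Nat.card ↥K :=
        Subgroup.card_subgroup_dvd_card _
      rw [hCcard, hnC, hnS, ← pow_add] at h6
      obtain ⟨a', ha'le, ha'⟩ := (Nat.dvd_prime_pow Nat.prime_two).1 h6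
      rw [ha', hnC] at h5
      have hlt : a' < nC := (Nat.pow_lt_pow_iff_right (by norm_num)).1 h5
      rw [hCcard, ha', hnC]
      have e3 : 2 ^ nC * Nat.card ↥S / 2 ^ a' = 2 ^ (nC - a') * Nat.card ↥S := by
        have : 2 ^ nC = 2 ^ a' * 2 ^ (nC - a') := by
          rw [← pow_add]
          congr 1
          omega
        rw [this, mul_assoc, Nat.mul_div_cancel_left _ (by positivity)]
      rw [e3]
      have : 2 ^ (nC - a') = 2 * 2 ^ (nC - a' - 1) := by
        rw [← pow_succ']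
        congr 1
        omega
      rw [this, mul_assoc, mul_comm (2 ^ (nC - a' - 1)), ← mul_assoc]
      exact Dvd.intro _ rfl
    rw [hYcard, ← hcount] at hdvd
    have hpos : 0 < Nat.card ↥S := Nat.card_pos
    have hev : 2 ∣ Nat.card {x : X // d x = 1 ∧ Pr x} := by
      have := (Nat.mul_dvd_mul_iff_right hpos).1 hdvd
      exact this
    rw [Nat.card_eq_fintype_card, Fintype.card_subtype] at hev
    obtain ⟨k, hk⟩ := hev
    refine ⟨k, ?_⟩
    rw [← two_mul, ← hk]
    congr!

end Main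

end Cfsg.Agent.Lib.Helper88.ThompsonTransfer
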