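import Mathlib
import Cfsg.Agent.Lib.Helper85.FusionBiset
import Cfsg.Agent.Lib.Helper88.ThompsonTransferFusion

/-!
# From the characteristic biset to the transfer interface

The characteristic biset of `Lib/Helper85/FusionBiset` (stabilizers are graphs `{(φ x, x)}`, fixed point
counts depend only on the class of the domain) satisfies the elementwise interface `H1`, `H4` used by
`Lib/Helper88/ThompsonTransferFusion` and `Lib/Helper88/BisetTransfer`.
-/

set_option autoImplicit false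

namespace Cfsg.Agent.Lib.Helper88.CharBiset

open Cfsg Cfsg.FusionSystem MulAction Cfsg.Agent.S5328 Cfsg.Agent.Lib.Helper85
open Cfsg.Agent.Lib.Helper88.ThompsonTransfer

universe u

variable {Ω : Type u} [Group Ω] {S : Subgroup Ω}

theorem isConjElt_symm (F : FusionSystem S) {a b : Ω} (h : F.IsConjElt a b) : F.IsConjElt b a := by
  obtain ⟨φ, hφm, hφ⟩ := h
  subst hφ
  obtain ⟨ψ, hψ, hψinv, -⟩ := exists_inv F hφm (range_eq_zpowers φ)
  exact ⟨ψ, hψ, hψinv ⟨a, Subgroup.mem_zpowers a⟩ _⟩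

/-- `H1`: stabilizer elements are pairs of conjugate elements. -/
theorem isConjElt_of_stab (F : FusionSystem S) {X : Type*} [MulAction (S × S) X]
    (hstab : ∀ x : X, IsGraph F (stabilizer (S × S) x)) (x : X) (a b : S)
    (h : ((a, b) : S × S) • x = x) : F.IsConjElt (a : Ω) (b : Ω) := by
  obtain ⟨P, φ, hφ, hK⟩ := hstab x
  obtain ⟨y, h1, h2⟩ := (hK (a, b)).1 (mem_stabilizer_iff.2 h)
  change (a : Ω) = φ y at h1
  change (b : Ω) = y at h2
  apply isConjElt_symm
  have hle : Subgroup.zpowers (b : Ω) ≤ P := by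
    rw [Subgroup.zpowers_le, h2]
    exact y.2
  refine ⟨φ.comp (Subgroup.inclusion hle), restrict_mem F hφ hle, ?_⟩
  rw [h1]
  change φ _ = φ y
  congr 1
  exact Subtype.ext h2

/-- `H4`: the left actions of `u` and `φ u` are intertwined by a permutation commuting with the right
action. -/
theorem exists_perm_of_stable [Finite S] (F : FusionSystem S) {X : Type*} [Finite X]
    [MulAction (S × S) X]
    (hstab : ∀ x : X, IsGraph F (stabilizer (S × S) x))
    (hst : ∀ L L', grel F L L' → Nat.card (fixedPoints L X) = Nat.card (fixedPoints L' X))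
    {P : Subgroup Ω} (φ : P →* Ω) (hφm : φ ∈ F.Hom P) :
    ∃ e : Equiv.Perm X, ∀ (u : P) (b : S) (x : X),
      e (((⟨φ u, (F.le_of_mem hφm).2 u⟩ : S), b) • x) =
        ((⟨u, (F.le_of_mem hφm).1 u.2⟩ : S), b) • e x := by
  have hP : P ≤ S := (F.le_of_mem hφm).1
  have hφ : ∀ x : P, φ x ∈ S := (F.le_of_mem hφm).2
  have hempty : ∀ L : Subgroup (S × S), ¬ IsGraph F L → Nat.card (fixedPoints L X) = 0 := by
    intro L hL
    rw [Nat.card_eq_zero]
    left
    constructor
    rintro ⟨x, hx⟩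
    apply hL
    exact isGraph_of_le F (hstab x) (fun l hl => hx ⟨l, hl⟩)
  -- the two homomorphisms
  let φ' : P.subgroupOf S →* S :=
    { toFun := fun u => ⟨φ ⟨u.1, u.2⟩, hφ _⟩
      map_one' := by
        apply Subtype.ext
        change φ ⟨((1 : P.subgroupOf S) : S), _⟩ = 1
        have : (⟨(((1 : P.subgroupOf S) : S) : Ω), (1 : P.subgroupOf S).2⟩ : P) = 1 := rfl
        rw [this, map_one]
      map_mul' := by
        intro a b
        apply Subtype.ext
        change φ ⟨((a * b : P.subgroupOf S) : S), _⟩ = φ ⟨(a : S), a.2⟩ * φ ⟨(b : S), b.2⟩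
        rw [← map_mul]
        rfl }
  have hφ'inj : Function.Injective φ' := by
    intro a b hab
    have := F.injective_of_mem hφm (congrArg Subtype.val hab)
    have h3 : ((a : S) : Ω) = ((b : S) : Ω) := congrArg (fun z : P => (z : Ω)) this
    exact Subtype.ext (Subtype.ext h3)
  let j₁ : (P.subgroupOf S) × S →* S × S := (P.subgroupOf S).subtype.prodMap (MonoidHom.id S)
  let j₂ : (P.subgroupOf S) × S →* S × S := φ'.prodMap (MonoidHom.id S)
  obtain ⟨ψ, hψ, hψinv, -⟩ := exists_inv F hφm rfl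
  have hmarks : ∀ K' : Subgroup ((P.subgroupOf S) × S),
      Nat.card (fixedPoints (K'.map j₁) X) = Nat.card (fixedPoints (K'.map j₂) X) := by
    intro K'
    have hR1 : ∀ z ∈ K'.map j₁, ((z.1 : S) : Ω) ∈ P := by
      rintro _ ⟨⟨a, b⟩, -, rfl⟩
      exact a.2
    have hR2 : ∀ z ∈ K'.map j₂, ((z.1 : S) : Ω) ∈ φ.range := by
      rintro _ ⟨⟨a, b⟩, -, rfl⟩
      exact ⟨⟨a.1, a.2⟩, rfl⟩
    have hdom : gdom (K'.map j₁) = gdom (K'.map j₂) := by
      ext y
      rw [mem_gdom_iff, mem_gdom_iff]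
      constructor
      · rintro ⟨_, ⟨⟨a, b⟩, hab, rfl⟩, rfl⟩
        exact ⟨j₂ (a, b), ⟨(a, b), hab, rfl⟩, rfl⟩
      · rintro ⟨_, ⟨⟨a, b⟩, hab, rfl⟩, rfl⟩
        exact ⟨j₁ (a, b), ⟨(a, b), hab, rfl⟩, rfl⟩
    by_cases h1 : IsGraph F (K'.map j₁)
    · have h2 : IsGraph F (K'.map j₂) := by
        refine isGraph_of_comp F h1 hφm hR1 (fun w => ?_)
        constructor
        · rintro ⟨⟨a, b⟩, hab, rfl⟩
          exact ⟨j₁ (a, b), ⟨(a, b), hab, rfl⟩, rfl, rfl⟩
        · rintro ⟨_, ⟨⟨a, b⟩, hab, rfl⟩, h1', h2'⟩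
          refine ⟨(a, b), hab, ?_⟩
          ext
          · exact h1'.symm
          · rw [h2']; rfl
      refine hst _ _ ⟨h1, h2, ?_⟩
      rw [hdom]
      exact isConj_refl F (gdom_le _)
    · have h2 : ¬ IsGraph F (K'.map j₂) := by
        intro h2
        apply h1
        refine isGraph_of_comp F h2 hψ hR2 (fun w => ?_)
        constructor
        · rintro ⟨⟨a, b⟩, hab, rfl⟩
          refine ⟨j₂ (a, b), ⟨(a, b), hab, rfl⟩, ?_, rfl⟩
          exact (hψinv ⟨a.1, a.2⟩ _).symm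
        · rintro ⟨_, ⟨⟨a, b⟩, hab, rfl⟩, h1', h2'⟩
          refine ⟨(a, b), hab, ?_⟩
          ext
          · rw [h1']
            exact (hψinv ⟨a.1, a.2⟩ _).symm
          · rw [h2']; rfl
      rw [hempty _ h1, hempty _ h2]
  obtain ⟨e, he⟩ := exists_perm_of_card_fixedPoints_map_eq j₁ j₂ hmarks
  refine ⟨e.symm, fun u b x => ?_⟩
  have := he ((⟨⟨u, hP u.2⟩, u.2⟩ : P.subgroupOf S), b) (e.symm x)
  change e ((((⟨u, hP u.2⟩ : S), b) : S × S) • e.symm x) =
    (((⟨φ u, hφ u⟩ : S), b) : S × S) • e (e.symm x) at this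
  rw [Equiv.apply_symm_apply] at this
  rw [← this, Equiv.symm_apply_apply]

end Cfsg.Agent.Lib.Helper88.CharBiset
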