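/-
helper88 (hedge), project FW (helper2, S3211): module [FW-M5a] `sl2_normal_form`.
-/
import Mathlib
import Cfsg.Agent.Lib.Helper2.FWDefs

set_option autoImplicit false

namespace Cfsg.Agent.Lib.Helper88.FW

open Cfsg.Agent.Lib.Helper2.FW Polynomial

/-- every element of a finite field of odd order is a sum of two squares -/
theorem sum_two_sq {F : Type*} [Field F] [Fintype F] (hF : Odd (Fintype.card F)) (x : F) :
    ∃ α β : F, α ^ 2 + β ^ 2 = x := by
  let f : F[X] := X ^ 2
  let g : F[X] := X ^ 2 - C x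
  obtain ⟨a, b, hab⟩ : ∃ a b, f.eval a + g.eval b = 0 :=
    FiniteField.exists_root_sum_quadratic (f := f) (g := g) (degree_X_pow 2)
      (degree_X_pow_sub_C (by decide) _) (Nat.odd_iff.mp hF)
  refine ⟨a, b, ?_⟩
  rw [← sub_eq_zero]
  simpa only [f, g, eval_C, eval_X, eval_pow, eval_sub, ← add_sub_assoc] using hab

/-- [FW-M5a] normal form of a square root of `-1` in `SL₂(F)`, `F` a finite field of odd order. -/
theorem sl2_normal_form {F : Type*} [Field F] [Fintype F] (hF : Odd (Fintype.card F))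
    (a : Matrix.SpecialLinearGroup (Fin 2) F) (ha : a * a = -1) :
    ∃ g : Matrix.SpecialLinearGroup (Fin 2) F,
      (g : Matrix (Fin 2) (Fin 2) F) * (a : Matrix (Fin 2) (Fin 2) F) =
        !![0, -1; 1, 0] * (g : Matrix (Fin 2) (Fin 2) F) := by
  have h2 : (2 : F) ≠ 0 := by
    apply Ring.two_ne_zero
    intro h
    have := FiniteField.even_card_iff_char_two.mp h
    rw [Nat.odd_iff] at hF; omega
  set A : Matrix (Fin 2) (Fin 2) F := (a : Matrix (Fin 2) (Fin 2) F) with hA
  have hAA : A * A = -1 := by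
    have := congrArg
      (fun x : Matrix.SpecialLinearGroup (Fin 2) F => (x : Matrix (Fin 2) (Fin 2) F)) ha
    simpa using this
  have hdet : A 0 0 * A 1 1 - A 0 1 * A 1 0 = 1 := by
    have := a.2
    rwa [Matrix.det_fin_two] at this
  have e00 : A 0 0 * A 0 0 + A 0 1 * A 1 0 = -1 := by
    have := congrFun (congrFun hAA 0) 0
    simpa [Matrix.mul_apply, Fin.sum_univ_two] using this
  have e01 : A 0 0 * A 0 1 + A 0 1 * A 1 1 = 0 := by
    have := congrFun (congrFun hAA 0) 1
    simpa [Matrix.mul_apply, Fin.sum_univ_two] using this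
  have e10 : A 1 0 * A 0 0 + A 1 1 * A 1 0 = 0 := by
    have := congrFun (congrFun hAA 1) 0
    simpa [Matrix.mul_apply, Fin.sum_univ_two] using this
  have e11 : A 1 0 * A 0 1 + A 1 1 * A 1 1 = -1 := by
    have := congrFun (congrFun hAA 1) 1
    simpa [Matrix.mul_apply, Fin.sum_univ_two] using this
  -- trace zero
  have htr : A 0 0 + A 1 1 = 0 := by
    have : (A 0 0 + A 1 1) ^ 2 = 0 := by linear_combination e00 + e11 + 2 * hdet
    exact pow_eq_zero_iff (two_ne_zero) |>.mp this
  -- a vector with nonzero "determinant"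
  obtain ⟨w1, w2, hd⟩ : ∃ w1 w2 : F,
      w1 * (-(w1 * A 0 1 + w2 * A 1 1)) - w2 * (-(w1 * A 0 0 + w2 * A 1 0)) ≠ 0 := by
    by_cases hq : A 0 1 = 0
    · by_cases hr : A 1 0 = 0
      · refine ⟨1, 1, ?_⟩
        have hp : A 0 0 ≠ 0 := by
          intro h0
          rw [h0, hq] at e00
          simp at e00
        have : (1 : F) * (-(1 * A 0 1 + 1 * A 1 1)) - 1 * (-(1 * A 0 0 + 1 * A 1 0))
            = 2 * A 0 0 := by
          rw [hq, hr]; linear_combination (-1 : F) * htr
        rw [this]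
        exact mul_ne_zero h2 hp
      · refine ⟨0, 1, ?_⟩
        simpa using hr
    · refine ⟨1, 0, ?_⟩
      simpa using hq
  set d : F := w1 * (-(w1 * A 0 1 + w2 * A 1 1)) - w2 * (-(w1 * A 0 0 + w2 * A 1 0)) with hd_def
  obtain ⟨α, β, hαβ⟩ := sum_two_sq hF d⁻¹
  set G0 : Matrix (Fin 2) (Fin 2) F :=
    !![w1, w2; -(w1 * A 0 0 + w2 * A 1 0), -(w1 * A 0 1 + w2 * A 1 1)] with hG0
  set m : Matrix (Fin 2) (Fin 2) F := !![α, -β; β, α] with hm
  have hAeta : A = !![A 0 0, A 0 1; A 1 0, A 1 1] := Matrix.eta_fin_two A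
  have h1 : G0 * A = !![0, -1; 1, 0] * G0 := by
    rw [hG0]
    conv_lhs => rw [hAeta]
    rw [Matrix.mul_fin_two, Matrix.mul_fin_two]
    ext i j
    fin_cases i <;> fin_cases j <;> simp <;>
      first
        | ring1
        | linear_combination (-w1) * e00 + (-w2) * e10
        | linear_combination (-w1) * e01 + (-w2) * e11
  have h3 : m * !![0, -1; 1, 0] = !![0, -1; 1, 0] * m := by
    rw [hm, Matrix.mul_fin_two, Matrix.mul_fin_two]
    ext i j
    fin_cases i <;> fin_cases j <;> simp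
  have hdetm : (m * G0).det = 1 := by
    rw [Matrix.det_mul, hm, hG0, Matrix.det_fin_two_of, Matrix.det_fin_two_of]
    have : α * α - -β * β = α ^ 2 + β ^ 2 := by ring
    rw [this, hαβ]
    exact inv_mul_cancel₀ hd
  refine ⟨⟨m * G0, hdetm⟩, ?_⟩
  show m * G0 * A = !![0, -1; 1, 0] * (m * G0)
  rw [Matrix.mul_assoc, h1, ← Matrix.mul_assoc, h3, Matrix.mul_assoc]

end Cfsg.Agent.Lib.Helper88.FW
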