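import Cfsg.Agent.Lib.Helper85.FusionBasic
import Mathlib

/-!
Saturated fusion systems over an abelian `S`: every map is the restriction of an automorphism of `S`
in the system, and `Aut_F(S)` has order prime to `p`.
-/

set_option autoImplicit false

namespace Cfsg.Agent.Lib.Helper88

open Cfsg Cfsg.FusionSystem
open Cfsg.Agent.Lib.Helper85

variable {Ω : Type*} [Group Ω] {S : Subgroup Ω}

/-- For abelian `S` the extender of any homomorphism from `P ≤ S` is all of `S`. -/
theorem extender_eq_of_abelian (hab : ∀ x ∈ S, ∀ y ∈ S, x * y = y * x) {P : Subgroup Ω} (hP : P ≤ S)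
    (φ : P →* Ω) : extender S P φ = S := by
  apply le_antisymm
  · intro g hg
    exact ((mem_extender_iff S P φ g).1 hg).1
  · intro g hg
    rw [mem_extender_iff]
    have hconj : ∀ x ∈ P, g * x * g⁻¹ = x := by
      intro x hx
      rw [hab g hg x (hP hx), mul_inv_cancel_right]
    refine ⟨hg, ?_, 1, S.one_mem, ?_⟩
    · rw [Subgroup.mem_normalizer_iff]
      intro x
      constructor
      · intro hx
        rw [hconj x hx]; exact hx
      · intro hx
        have : x = g⁻¹ * (g * x * g⁻¹) * g := by group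
        rw [this]
        have h2 : g⁻¹ * (g * x * g⁻¹) * g = g * x * g⁻¹ := by
          have := hab g⁻¹ (S.inv_mem hg) (g * x * g⁻¹) (hP hx)
          rw [this, mul_assoc, inv_mul_cancel, mul_one]
        rw [h2]
        exact hx
    · intro x hx
      have : (⟨g * (x : Ω) * g⁻¹, hx⟩ : P) = x := Subtype.ext (hconj x x.2)
      rw [this]
      simp

/-- An injective map `S → S` in the system is an automorphism of `S` in the system. -/
theorem exists_aut_of_mem_hom_top [Finite S] (F : FusionSystem S) {ψ : S →* Ω} (hψ : ψ ∈ F.Hom S) :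
    ∃ α : MulAut S, α ∈ F.autGroup S ∧ ∀ x : S, ((α x : S) : Ω) = ψ x := by
  have hval : ∀ x : S, ψ x ∈ S := fun x => apply_mem_of_mem_Hom F hψ x
  let f : S →* S := ψ.codRestrict S hval
  have hinj : Function.Injective f := by
    intro a b hab'
    apply F.injective_of_mem hψ
    exact congrArg (fun z : S => (z : Ω)) hab'
  have hbij : Function.Bijective f := Finite.injective_iff_bijective.mp hinj
  let α : MulAut S := MulEquiv.ofBijective f hbij
  refine ⟨α, ?_, fun x => rfl⟩
  rw [mem_autGroup_iff F le_rfl]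
  have : S.subtype.comp α.toMonoidHom = ψ := by
    ext x
    rfl
  rw [this]
  exact hψ

/-- In a saturated fusion system over an abelian `S`, a map onto a receptive subgroup extends to `S`. -/
theorem exists_extension_of_receptive_abelian [Finite S] (F : FusionSystem S)
    (hab : ∀ x ∈ S, ∀ y ∈ S, x * y = y * x) {P Q : Subgroup Ω} {φ : P →* Ω} (hφ : φ ∈ F.Hom P)
    (hr : φ.range = Q) (hQ : F.IsReceptive Q) :
    ∃ α : MulAut S, α ∈ F.autGroup S ∧ ∀ (x : P) (hx : (x : Ω) ∈ S), ((α ⟨x, hx⟩ : S) : Ω) = φ x := by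
  have hPS : P ≤ S := le_of_mem_Hom F hφ
  obtain ⟨ψ, hψ, hψx⟩ := hQ.2 P φ hφ hr
  have hext : extender S P φ = S := extender_eq_of_abelian hab hPS φ
  have hle : S ≤ extender S P φ := hext.ge
  have hψ' : ψ.comp (Subgroup.inclusion hle) ∈ F.Hom S := restrict_mem F hψ hle
  obtain ⟨α, hα, hαx⟩ := exists_aut_of_mem_hom_top F hψ'
  refine ⟨α, hα, fun x hx => ?_⟩
  rw [hαx]
  exact hψx x x.2 (hle hx)

/-- In a saturated fusion system over an abelian `S`, every map is the restriction of an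
automorphism of `S` belonging to the system. -/
theorem exists_aut_extension_of_abelian [Finite S] (F : FusionSystem S) (p : ℕ)
    (hF : F.IsSaturated p) (hab : ∀ x ∈ S, ∀ y ∈ S, x * y = y * x) {P : Subgroup Ω} {φ : P →* Ω}
    (hφ : φ ∈ F.Hom P) :
    ∃ α : MulAut S, α ∈ F.autGroup S ∧ ∀ (x : P) (hx : (x : Ω) ∈ S), ((α ⟨x, hx⟩ : S) : Ω) = φ x := by
  have hPS : P ≤ S := le_of_mem_Hom F hφ
  have hrS : φ.range ≤ S := range_le_of_mem_Hom F hφ
  obtain ⟨Q, ⟨χ, hχ, hχr⟩, -, hQrec⟩ := hF φ.range hrS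
  have hval : ∀ x : P, φ x ∈ φ.range := fun x => ⟨x, rfl⟩
  have hcomp : χ.comp (φ.codRestrict φ.range hval) ∈ F.Hom P := F.comp_mem hφ hχ hval
  have hcr : (χ.comp (φ.codRestrict φ.range hval)).range = Q := by
    rw [← hχr]
    apply le_antisymm
    · rintro _ ⟨x, rfl⟩
      exact ⟨_, rfl⟩
    · rintro _ ⟨⟨_, x, rfl⟩, rfl⟩
      exact ⟨x, rfl⟩
  obtain ⟨α₁, hα₁, hα₁x⟩ := exists_extension_of_receptive_abelian F hab hcomp hcr hQrec
  obtain ⟨α₂, hα₂, hα₂x⟩ := exists_extension_of_receptive_abelian F hab hχ hχr hQrec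
  refine ⟨α₂⁻¹ * α₁, (F.autGroup S).mul_mem ((F.autGroup S).inv_mem hα₂) hα₁, fun x hx => ?_⟩
  have h1 := hα₁x x hx
  have h2 := hα₂x ⟨φ x, hval x⟩ (hrS (hval x))
  have h3 : α₁ ⟨x, hx⟩ = α₂ ⟨φ x, hrS (hval x)⟩ := by
    apply Subtype.ext
    rw [h1, h2]
    rfl
  rw [MulAut.mul_apply, h3, MulAut.inv_apply_self]

/-- `Aut_S(S)` is trivial for abelian `S`. -/
theorem autInducedBy_self_eq_bot_of_abelian (hab : ∀ x ∈ S, ∀ y ∈ S, x * y = y * x) :
    autInducedBy S S = ⊥ := by
  rw [eq_bot_iff]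
  intro α hα
  rw [mem_autInducedBy_iff] at hα
  obtain ⟨g, hg, hgα⟩ := hα
  rw [Subgroup.mem_bot]
  ext x
  rw [hgα x, hab g hg x x.2, mul_inv_cancel_right]
  rfl

/-- In a saturated fusion system over an abelian `S`, `Aut_F(S)` has order prime to `p`. -/
theorem card_autGroup_top_coprime_of_abelian [Finite S] (F : FusionSystem S) (p : ℕ) [Fact p.Prime]
    (hF : F.IsSaturated p) (hab : ∀ x ∈ S, ∀ y ∈ S, x * y = y * x) :
    (Nat.card (F.autGroup S)).Coprime p := by
  obtain ⟨Q, ⟨χ, hχ, hχr⟩, ⟨-, R, hR⟩, -⟩ := hF S le_rfl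
  have hQS : Q = S := by
    obtain ⟨α, -, hαx⟩ := exists_aut_of_mem_hom_top F hχ
    rw [← hχr]
    apply le_antisymm (range_le_of_mem_Hom F hχ)
    intro x hx
    refine ⟨α.symm ⟨x, hx⟩, ?_⟩
    rw [← hαx]
    simp
  subst hQS
  rw [autInducedBy_self_eq_bot_of_abelian hab] at hR
  have hRbot : (R : Subgroup (F.autGroup Q)) = ⊥ := by
    rw [hR]
    exact Subgroup.bot_subgroupOf _
  have hcard := Sylow.card_eq_multiplicity R
  rw [hRbot, Subgroup.card_bot] at hcard
  have hp : p.Prime := Fact.out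
  have hfac : (Nat.card (F.autGroup Q)).factorization p = 0 := by
    by_contra h
    have : 1 < p ^ (Nat.card (F.autGroup Q)).factorization p :=
      Nat.one_lt_pow h hp.one_lt
    omega
  have hne : Nat.card (F.autGroup Q) ≠ 0 := Nat.card_pos.ne'
  have hnd : ¬ p ∣ Nat.card (F.autGroup Q) := by
    intro hd
    have := (hp.dvd_iff_one_le_factorization hne).1 hd
    omega
  exact ((Nat.Prime.coprime_iff_not_dvd hp).2 hnd).symm

end Cfsg.Agent.Lib.Helper88
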