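/-
helper88: fusion-system version of the Camina–Herzog theorem (every element of the 2-group `S` is conjugate in the
saturated system into `Z(S)` implies `S` abelian), following the elementary argument found by helper1 for groups.
All declarations live in `Cfsg.Agent.Lib.Helper88.CaminaHerzog`.
-/
import Cfsg.Agent.Lib.Helper87.FusionFully

set_option autoImplicit false

namespace Cfsg.Agent.Lib.Helper88.CaminaHerzog

open Cfsg Cfsg.FusionSystem Cfsg.Agent.Lib.Helper87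

variable {Ω : Type*} [Group Ω] {S : Subgroup Ω}

/-- A subgroup of `S` centralized by `S` is fully normalized. -/
theorem isFullyNormalized_of_central (F : FusionSystem S) [Finite S] {Q : Subgroup Ω} (hQ : Q ≤ S)
    (hc : ∀ g ∈ S, ∀ y ∈ Q, g * y = y * g) : F.IsFullyNormalized Q := by
  have h1 : normalizerIn S Q = S := by
    apply le_antisymm inf_le_left
    intro g hg
    refine ⟨hg, ?_⟩
    show g ∈ Subgroup.normalizer (Q : Set Ω)
    rw [Subgroup.mem_normalizer_iff]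
    intro y
    constructor
    · intro hy
      have : g * y * g⁻¹ = y := by rw [hc g hg y hy]; group
      rwa [this]
    · intro hy
      have h2 := hc g hg _ hy
      have h3 : g * (g * y * g⁻¹) = g * y := by rw [h2]; group
      have h4 : g * y * g⁻¹ = y := mul_left_cancel h3
      rwa [h4] at hy
  refine ⟨hQ, fun R _ => ?_⟩
  rw [h1]
  exact Subgroup.card_le_of_le inf_le_left

/-- In a saturated system, a `p`-element of `Aut_F(Q)` is trivial when `Q` is centralized by `S`. -/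
theorem aut_eq_one_of_central (F : FusionSystem S) [Finite S] {p : ℕ} [Fact p.Prime] (hS : IsPGroup p S)
    (hF : F.IsSaturated p) {Q : Subgroup Ω} (hQ : Q ≤ S) (hc : ∀ g ∈ S, ∀ y ∈ Q, g * y = y * g)
    {β : MulAut Q} (hβ : β ∈ F.autGroup Q) {k : ℕ} (hk : β ^ p ^ k = 1) : β = 1 := by
  obtain ⟨⟨-, R, hR⟩, -⟩ :=
    fullyAutomized_receptive_of_fullyNormalized F hS hF (isFullyNormalized_of_central F hQ hc)
  have hbot : autInducedBy S Q = ⊥ := by
    rw [Subgroup.eq_bot_iff_forall]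
    intro α hα
    obtain ⟨g, hg, hgα⟩ := mem_autInducedBy_iff.1 hα
    refine MulEquiv.ext (fun y => Subtype.ext ?_)
    rw [hgα y, hc g hg y y.2]
    simp
  have hR' : (R : Subgroup (F.autGroup Q)) = ⊥ := by rw [hR, hbot, Subgroup.bot_subgroupOf]
  have : Finite Q := finite_of_le hQ
  have hb : (⟨β, hβ⟩ : F.autGroup Q) ^ p ^ k = 1 := Subtype.ext (by simpa using hk)
  have hH : IsPGroup p (Subgroup.zpowers (⟨β, hβ⟩ : F.autGroup Q)) := by
    rintro ⟨g, hg⟩
    obtain ⟨n, rfl⟩ := Subgroup.mem_zpowers_iff.1 hg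
    refine ⟨k, Subtype.ext ?_⟩
    show ((⟨β, hβ⟩ : F.autGroup Q) ^ n) ^ p ^ k = 1
    rw [← zpow_natCast, ← zpow_mul, mul_comm, zpow_mul, zpow_natCast, hb, one_zpow]
  obtain ⟨c, hc'⟩ := exists_conj_mem_sylow R hH
  have h1 : c * ⟨β, hβ⟩ * c⁻¹ ∈ (R : Subgroup (F.autGroup Q)) := hc' _ (Subgroup.mem_zpowers _)
  rw [hR', Subgroup.mem_bot] at h1
  have h2 : (⟨β, hβ⟩ : F.autGroup Q) = 1 := by
    have := congrArg (fun t => c⁻¹ * t * c) h1
    simpa [mul_assoc] using this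
  exact congrArg Subtype.val h2

/-- The image of a map defined on a cyclic group whose generator goes into the centralizer of `S` is centralized
by `S`. -/
theorem range_central_of_map_zpowers {a z : Ω} (φ : Subgroup.zpowers a →* Ω)
    (hφa : φ ⟨a, Subgroup.mem_zpowers a⟩ = z) (hz : z ∈ Subgroup.centralizer (S : Set Ω)) :
    ∀ g ∈ S, ∀ y ∈ φ.range, g * y = y * g := by
  rintro g hg _ ⟨w, rfl⟩
  obtain ⟨n, hn⟩ := Subgroup.mem_zpowers_iff.1 w.2
  have hw : w = (⟨a, Subgroup.mem_zpowers a⟩ : Subgroup.zpowers a) ^ n :=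
    Subtype.ext (by rw [Subgroup.coe_zpow]; exact hn.symm)
  rw [hw, map_zpow, hφa]
  exact Subgroup.mem_centralizer_iff.1 (Subgroup.zpow_mem _ hz n) g hg

/-- **No element of `S` acts nontrivially on a cyclic subgroup.** -/
theorem conj_eq_of_mem_zpowers (F : FusionSystem S) [Finite S] {p : ℕ} [Fact p.Prime] (hS : IsPGroup p S)
    (hF : F.IsSaturated p)
    (h : ∀ x ∈ S, ∃ z ∈ S ⊓ Subgroup.centralizer (S : Set Ω), F.IsConjElt x z)
    {x v : Ω} (hx : x ∈ S) (hv : v ∈ S) (hxv : x * v * x⁻¹ ∈ Subgroup.zpowers v) :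
    x * v * x⁻¹ = v := by
  obtain ⟨z, hz, φ, hφ, hφv⟩ := h v hv
  have hPS : Subgroup.zpowers v ≤ S := hom_le F hφ
  have hfin : Finite (Subgroup.zpowers v) := finite_of_le hPS
  have hmap : ∀ d : Subgroup.zpowers v, conjHom (Subgroup.zpowers v) x d ∈ Subgroup.zpowers v := by
    intro d
    obtain ⟨n, hn⟩ := Subgroup.mem_zpowers_iff.1 d.2
    have h1 : conjHom (Subgroup.zpowers v) x d = (x * v * x⁻¹) ^ n := by
      rw [conjHom_apply, ← hn, conj_zpow]
    rw [h1]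
    exact Subgroup.zpow_mem _ hxv n
  let f : Subgroup.zpowers v →* Subgroup.zpowers v :=
    (conjHom (Subgroup.zpowers v) x).codRestrict (Subgroup.zpowers v) hmap
  have hinj : Function.Injective f := by
    intro a b hab
    have h1 : x * (a : Ω) * x⁻¹ = x * (b : Ω) * x⁻¹ := congrArg Subtype.val hab
    exact Subtype.ext (mul_left_cancel (mul_right_cancel h1))
  have hbij : Function.Bijective f := Finite.injective_iff_bijective.1 hinj
  let α : MulAut (Subgroup.zpowers v) := MulEquiv.ofBijective f hbij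
  have hαapp : ∀ y : Subgroup.zpowers v, ((α y : Subgroup.zpowers v) : Ω) = x * (y : Ω) * x⁻¹ := fun y => rfl
  have hα : α ∈ F.autGroup (Subgroup.zpowers v) := by
    rw [mem_autGroup_iff F hPS]
    exact hom_of_eq_on F rfl (F.conj_mem hPS hx) (fun y hy _ => rfl)
  obtain ⟨k, hk⟩ := hS ⟨x, hx⟩
  have hxk : x ^ p ^ k = 1 := by simpa using congrArg Subtype.val hk
  have hαk : α ^ p ^ k = 1 := by
    refine MulEquiv.ext (fun y => Subtype.ext ?_)
    rw [conj_pow_apply hαapp, hxk]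
    simp
  have he := isIso_ofInjective F hφ
  have hβ := congr_mem_autGroup F he hα
  have hβk : (MulAut.congr (MonoidHom.ofInjective (F.injective_of_mem hφ)) α) ^ p ^ k = 1 := by
    rw [← map_pow, hαk, map_one]
  have hcen := range_central_of_map_zpowers (S := S) φ hφv hz.2
  have hβ1 := aut_eq_one_of_central F hS hF (hom_range_le F hφ) hcen hβ hβk
  have hα1 : α = 1 :=
    (MulAut.congr (MonoidHom.ofInjective (F.injective_of_mem hφ))).injective (by rw [hβ1, map_one])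
  have := hαapp ⟨v, Subgroup.mem_zpowers v⟩
  rw [hα1] at this
  exact this.symm

/-- **Extension to the centralizer of a square.** -/
theorem exists_extension_sq (F : FusionSystem S) [Finite S] {p : ℕ} [Fact p.Prime] (hS : IsPGroup p S)
    (hF : F.IsSaturated p)
    (h : ∀ x ∈ S, ∃ z ∈ S ⊓ Subgroup.centralizer (S : Set Ω), F.IsConjElt x z)
    {u : Ω} (hu : u ∈ S) :
    ∃ (N : Subgroup Ω) (ψ : N →* Ω) (z : Ω), ψ ∈ F.Hom N ∧ z ∈ S ∧ (∀ s ∈ S, s * z = z * s) ∧
      (∀ g ∈ S, g * u ^ 2 = u ^ 2 * g → g ∈ N) ∧ ∀ hN : u ^ 2 ∈ N, ψ ⟨u ^ 2, hN⟩ = z ^ 2 := by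
  obtain ⟨z, hz, φ, hφ, hφu⟩ := h u hu
  have hle : Subgroup.zpowers (u ^ 2) ≤ Subgroup.zpowers u := by
    rw [Subgroup.zpowers_le]
    exact Subgroup.pow_mem _ (Subgroup.mem_zpowers u) 2
  obtain ⟨φ', hφ'def⟩ : ∃ φ' : Subgroup.zpowers (u ^ 2) →* Ω, φ' = φ.comp (Subgroup.inclusion hle) := ⟨_, rfl⟩
  have hφ' : φ' ∈ F.Hom (Subgroup.zpowers (u ^ 2)) := by
    rw [hφ'def]; exact restrict_mem F hφ hle
  have hφ'u : φ' ⟨u ^ 2, Subgroup.mem_zpowers _⟩ = z ^ 2 := by
    rw [hφ'def, ← hφu, ← map_pow]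
    rfl
  have hz2 : z ^ 2 ∈ Subgroup.centralizer (S : Set Ω) := Subgroup.pow_mem _ hz.2 2
  have hcen := range_central_of_map_zpowers (S := S) φ' hφ'u hz2
  have hQS : φ'.range ≤ S := hom_range_le F hφ'
  obtain ⟨-, hQr⟩ :=
    fullyAutomized_receptive_of_fullyNormalized F hS hF (isFullyNormalized_of_central F hQS hcen)
  obtain ⟨ψ, hψ, hψe⟩ := hQr.2 _ φ' hφ' rfl
  refine ⟨extender S (Subgroup.zpowers (u ^ 2)) φ', ψ, z, hψ, hz.1, ?_, ?_, ?_⟩
  · intro s hs
    exact Subgroup.mem_centralizer_iff.1 hz.2 s hs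
  · intro g hg hgu
    apply Subgroup.subset_closure
    have hcomm : ∀ y ∈ Subgroup.zpowers (u ^ 2), g * y * g⁻¹ = y := by
      intro y hy
      obtain ⟨n, rfl⟩ := Subgroup.mem_zpowers_iff.1 hy
      have h1 : Commute g ((u ^ 2) ^ n) := (show Commute g (u ^ 2) from hgu).zpow_right n
      rw [h1.eq]; group
    refine ⟨hg, ?_, 1, S.one_mem, ?_⟩
    · rw [Subgroup.mem_normalizer_iff]
      intro y
      constructor
      · intro hy; rw [hcomm y hy]; exact hy
      · intro hy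
        have h2 : g * (g * y * g⁻¹) * g⁻¹ = g * y * g⁻¹ := hcomm _ hy
        have h3 : g * y * g⁻¹ = y := mul_left_cancel (mul_right_cancel h2)
        rwa [h3] at hy
    · intro y hy
      have h4 : (⟨g * (y : Ω) * g⁻¹, hy⟩ : Subgroup.zpowers (u ^ 2)) = y := Subtype.ext (hcomm y y.2)
      rw [h4]; simp
  · intro hN
    rw [hψe (u ^ 2) (Subgroup.mem_zpowers _) hN, hφ'u]

/-- The purely group-theoretic core of the argument. -/
theorem abelian_core (S : Subgroup Ω) (hS : IsPGroup 2 S)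
    (hA : ∀ x ∈ S, ∀ v ∈ S, x * v * x⁻¹ = v⁻¹ → v⁻¹ = v)
    (hB : ∀ u ∈ S, ∃ (N : Subgroup Ω) (ψ : N →* Ω) (z : Ω), Function.Injective ψ ∧ (∀ n : N, ψ n ∈ S) ∧
      z ∈ S ∧ (∀ s ∈ S, s * z = z * s) ∧ (∀ g ∈ S, g * u ^ 2 = u ^ 2 * g → g ∈ N) ∧
      ∀ hN : u ^ 2 ∈ N, ψ ⟨u ^ 2, hN⟩ = z ^ 2) :
    ∀ x ∈ S, ∀ y ∈ S, x * y = y * x := by
  have invol_comm : ∀ a ∈ S, ∀ b ∈ S, a ^ 2 = 1 → b ^ 2 = 1 → a * b = b * a := by
    intro a ha b hb ha2 hb2
    have haa : a * a = 1 := by rw [← sq]; exact ha2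
    have hbb : b * b = 1 := by rw [← sq]; exact hb2
    have ha' : a⁻¹ = a := inv_eq_of_mul_eq_one_right haa
    have hb' : b⁻¹ = b := inv_eq_of_mul_eq_one_right hbb
    have key : a * (a * b) * a⁻¹ = (a * b)⁻¹ := by
      rw [mul_inv_rev, ha', hb', ← mul_assoc, haa, one_mul]
    have h1 := hA a ha (a * b) (S.mul_mem ha hb) key
    rw [mul_inv_rev, ha', hb'] at h1
    exact h1.symm
  have step : ∀ x ∈ S, ∀ e ∈ S, e * x ^ 2 = x ^ 2 * e →
      (∀ t ∈ S, t ^ 2 = 1 → ∀ (N : Subgroup Ω) (ψ : N →* Ω) (he : e ∈ N), (∀ n : N, ψ n ∈ S) →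
        t * ψ ⟨e, he⟩ = ψ ⟨e, he⟩ * t) → x * e = e * x := by
    intro x hx e he hex hC
    obtain ⟨N, ψ, z, hinj, hψS, hzS, hzc, hN, hψu⟩ := hB x hx
    have hxN : x ∈ N := hN x hx (pow_mul_comm' x 2).symm
    have heN : e ∈ N := hN e he hex
    have hx2N : x ^ 2 ∈ N := N.pow_mem hxN 2
    have hψx2 := hψu hx2N
    obtain ⟨X, hX⟩ : ∃ X, X = ψ ⟨x, hxN⟩ := ⟨_, rfl⟩
    obtain ⟨E, hE⟩ : ∃ E, E = ψ ⟨e, heN⟩ := ⟨_, rfl⟩
    have hXS : X ∈ S := by rw [hX]; exact hψS _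
    have hES : E ∈ S := by rw [hE]; exact hψS _
    have hXX : X * X = z ^ 2 := by
      rw [← hψx2, hX, ← map_mul]
      congr 1
      exact Subtype.ext (sq x).symm
    have hzX : X * z = z * X := hzc X hXS
    have hzE : E * z = z * E := hzc E hES
    obtain ⟨t, ht⟩ : ∃ t, t = X * z⁻¹ := ⟨_, rfl⟩
    have htS : t ∈ S := by rw [ht]; exact S.mul_mem hXS (S.inv_mem hzS)
    have hzX' : z⁻¹ * X = X * z⁻¹ := by
      calc z⁻¹ * X = z⁻¹ * (X * z) * z⁻¹ := by group
        _ = z⁻¹ * (z * X) * z⁻¹ := by rw [hzX]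
        _ = X * z⁻¹ := by group
    have ht2 : t ^ 2 = 1 := by
      calc t ^ 2 = X * (z⁻¹ * X) * z⁻¹ := by rw [ht, sq]; group
        _ = X * X * z⁻¹ * z⁻¹ := by rw [hzX']; group
        _ = 1 := by rw [hXX]; group
    have hcomm : t * E = E * t := by rw [hE]; exact hC t htS ht2 N ψ heN hψS
    have hXt : X = t * z := by rw [ht]; group
    have hXE : X * E = E * X := by
      rw [hXt]
      calc t * z * E = t * (z * E) := by group
        _ = t * (E * z) := by rw [hzE]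
        _ = (t * E) * z := by group
        _ = E * t * z := by rw [hcomm]
        _ = E * (t * z) := by group
    have h2 : ψ (⟨x, hxN⟩ * ⟨e, heN⟩) = ψ (⟨e, heN⟩ * ⟨x, hxN⟩) := by
      rw [map_mul, map_mul, ← hX, ← hE]; exact hXE
    exact congrArg Subtype.val (hinj h2)
  have hP : ∀ n : ℕ, ∀ x ∈ S, x ^ 2 ^ n = 1 → ∀ e ∈ S, e ^ 2 = 1 → x * e = e * x := by
    intro n
    induction n with
    | zero =>
      intro x _ hx1 e _ _
      rw [pow_zero, pow_one] at hx1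
      rw [hx1, one_mul, mul_one]
    | succ n ih =>
      intro x hx hxn e he he2
      have hx2 : (x ^ 2) ^ 2 ^ n = 1 := by rw [← pow_mul, ← pow_succ']; exact hxn
      apply step x hx e he (ih (x ^ 2) (S.pow_mem hx 2) hx2 e he he2).symm
      intro t ht ht2 N ψ heN hψS
      apply invol_comm t ht _ (hψS _) ht2
      rw [← map_pow]
      have h3 : (⟨e, heN⟩ : N) ^ 2 = 1 := Subtype.ext (by simpa using he2)
      rw [h3, map_one]
  have hInv : ∀ t ∈ S, t ^ 2 = 1 → ∀ s ∈ S, t * s = s * t := by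
    intro t ht ht2 s hs
    obtain ⟨n, hn⟩ := hS ⟨s, hs⟩
    have hn' : s ^ 2 ^ n = 1 := by simpa using congrArg Subtype.val hn
    exact (hP n s hs hn' t ht ht2).symm
  have hQ : ∀ n : ℕ, ∀ x ∈ S, x ^ 2 ^ n = 1 → ∀ s ∈ S, x * s = s * x := by
    intro n
    induction n with
    | zero =>
      intro x _ hx1 s _
      rw [pow_zero, pow_one] at hx1
      rw [hx1, one_mul, mul_one]
    | succ n ih =>
      intro x hx hxn s hs
      have hx2 : (x ^ 2) ^ 2 ^ n = 1 := by rw [← pow_mul, ← pow_succ']; exact hxn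
      apply step x hx s hs (ih (x ^ 2) (S.pow_mem hx 2) hx2 s hs).symm
      intro t ht ht2 N ψ hsN hψS
      exact hInv t ht ht2 _ (hψS _)
  intro x hx y hy
  obtain ⟨n, hn⟩ := hS ⟨x, hx⟩
  have hn' : x ^ 2 ^ n = 1 := by simpa using congrArg Subtype.val hn
  exact hQ n x hx hn' y hy

/-- **Camina–Herzog for fusion systems.** -/
theorem abelian_of_conj_into_center (F : FusionSystem S) [Finite S] (hS : IsPGroup 2 S)
    (hF : F.IsSaturated 2)
    (h : ∀ x ∈ S, ∃ z ∈ S ⊓ Subgroup.centralizer (S : Set Ω), F.IsConjElt x z) :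
    ∀ x ∈ S, ∀ y ∈ S, x * y = y * x := by
  haveI : Fact (Nat.Prime 2) := ⟨Nat.prime_two⟩
  refine abelian_core S hS (fun x hx v hv hxv => ?_) (fun u hu => ?_)
  · have h1 : x * v * x⁻¹ ∈ Subgroup.zpowers v := by
      rw [hxv]; exact Subgroup.inv_mem _ (Subgroup.mem_zpowers v)
    rw [← hxv]
    exact conj_eq_of_mem_zpowers F hS hF h hx hv h1
  · obtain ⟨N, ψ, z, hψ, hzS, hzc, hN, hψu⟩ := exists_extension_sq F hS hF h hu
    exact ⟨N, ψ, z, F.injective_of_mem hψ, hom_map_mem F hψ, hzS, hzc, hN, hψu⟩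

end Cfsg.Agent.Lib.Helper88.CaminaHerzog
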