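/-
helper88: `p`-nilpotency reductions for saturated fusion systems, part C': the general reduction, second form.
Same as `FusionNilpMain`, but the climbing and factor-system properties of the test may use that the ambient system passes
the test, and the factor-system property may alternatively conclude that the system is `PAut` (`TestHyp'`,
`paut_of_test'`).
-/
import Cfsg.Agent.Lib.Helper88.FusionNilpMain

set_option autoImplicit false

universe u

namespace Cfsg.Agent.Lib.Helper88.NilpRed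

open Cfsg Cfsg.FusionSystem Cfsg.Agent.Lib.Helper87

/-- The four properties of a test predicate needed for the reduction. -/
structure TestHyp' (p : ℕ) (Test : ∀ {Ω : Type u} [Group Ω] {S : Subgroup Ω}, FusionSystem S → Prop) : Prop where
  t1 : ∀ {Ω : Type u} [Group Ω] {S : Subgroup Ω} [Finite S], IsPGroup p S → ∀ (F : FusionSystem S) (Q : Subgroup Ω),
    Q ≤ S → normalizerIn S Q = S → ∀ E : FusionSystem (normalizerIn S Q), F.IsNormalizerSystem Q E → Test F → Test E
  t2 : ∀ {Ω : Type u} [Group Ω] {S : Subgroup Ω} [Finite S], IsPGroup p S → ∀ (F : FusionSystem S),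
    F.IsSaturated p → Test F → ∀ (U : Subgroup Ω), F.IsFullyNormalized U → U ≠ ⊥ → normalizerIn S U ≠ S →
    ∀ E : FusionSystem (normalizerIn S U), F.IsNormalizerSystem U E → ¬ Test E →
    ∃ X : Subgroup Ω, X ≠ ⊥ ∧ X ≤ normalizerIn S U ∧
      normalizerIn S (normalizerIn S U) ≤ normalizerIn S X ∧ ¬ NPAut F p X
  t3 : ∀ {Ω : Type u} [Group Ω] {S : Subgroup Ω} [Finite S], IsPGroup p S → ∀ (F : FusionSystem S),
    F.IsSaturated p → Test F → ∀ (Q : Subgroup Ω), F.IsNormal Q →
    ∀ {Ω' : Type u} [Group Ω'] {S' : Subgroup Ω'} (θ : S →* Ω') (E : FusionSystem S'), F.IsFactorSystem Q θ E →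
    ¬ Test E →
    (∃ L : Subgroup Ω, Q ≤ L ∧ Nat.card Q < Nat.card L ∧ L ≤ S ∧ normalizerIn S L = S ∧ ¬ NPAut F p L) ∨
      PAut F p
  t4 : ∀ {Ω : Type u} [Group Ω] {S : Subgroup Ω} [Finite S], IsPGroup p S → ∀ (F : FusionSystem S) (G : Type u)
    [Group G] (ι : S →* G), F.IsModel p G ι → Test F → PAut F p

variable {p : ℕ} [Fact p.Prime] (Test : ∀ {Ω : Type u} [Group Ω] {S : Subgroup Ω}, FusionSystem S → Prop)

/-- The case of a nontrivial normal subgroup `Q` such that the normalizer systems of the larger normal subgroups of `T`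
containing `Q` are `PAut`. -/
theorem paut_of_normal_aux' (H : TestHyp' p Test) {Ω : Type u} [Group Ω] {T : Subgroup Ω} [Finite T]
    (hT : IsPGroup p T)
    (IH : ∀ m < Nat.card T, ∀ {Ω' : Type u} [Group Ω'] {S' : Subgroup Ω'} [Finite S'], Nat.card S' = m →
      IsPGroup p S' → ∀ F' : FusionSystem S', F'.IsSaturated p → Test F' → PAut F' p)
    (E : FusionSystem T) (hE : E.IsSaturated p) (Q : Subgroup Ω) (hQ : E.IsNormal Q) (hQne : Q ≠ ⊥)
    (hTest : Test E)
    (hmax : ∀ L : Subgroup Ω, Q ≤ L → Nat.card Q < Nat.card L → L ≤ T → normalizerIn T L = T → NPAut E p L) :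
    PAut E p := by
  have hQT : Q ≤ T := hQ.1
  have hQsc : E.StronglyClosed Q := Cfsg.Agent.Lib.Helper84.stronglyClosed_of_isNormal E hQ
  haveI hn : (Q.subgroupOf T).Normal :=
    ⟨fun n hn g => Subgroup.mem_subgroupOf.2 (StronglyClosed_conj_mem hQsc g.2 (Subgroup.mem_subgroupOf.1 hn))⟩
  have hker : ∀ s : T, QuotientGroup.mk' (Q.subgroupOf T) s = 1 ↔ (s : Ω) ∈ Q := by
    intro s
    rw [QuotientGroup.mk'_apply, QuotientGroup.eq_one_iff]
    exact Subgroup.mem_subgroupOf
  have hrange : (QuotientGroup.mk' (Q.subgroupOf T)).range = ⊤ :=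
    MonoidHom.range_eq_top.2 (QuotientGroup.mk'_surjective _)
  have hĒ := Cfsg.Agent.Lib.Helper85.isFactorSystem_factorSystem E Q hQsc
    (QuotientGroup.mk' (Q.subgroupOf T)) hker hrange
  have hpquot : IsPGroup p (T ⧸ Q.subgroupOf T) := hT.to_quotient _
  have hptop : IsPGroup p (⊤ : Subgroup (T ⧸ Q.subgroupOf T)) := hpquot.to_subgroup _
  have hĒsat := Cfsg.Agent.Lib.Helper85.isSaturated_of_isFactorSystem hT E hE hQsc _ _ hĒ
  have hcard : Nat.card (⊤ : Subgroup (T ⧸ Q.subgroupOf T)) < Nat.card T := by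
    rw [Subgroup.card_top]
    have h1 := Subgroup.card_eq_card_quotient_mul_card_subgroup (Q.subgroupOf T)
    have h2 : 1 < Nat.card (Q.subgroupOf T) := by
      rw [Subgroup.one_lt_card_iff_ne_bot]
      intro h
      rw [Subgroup.subgroupOf_eq_bot] at h
      apply hQne
      rw [← inf_of_le_left hQT]
      exact disjoint_iff.1 h
    have h3 : 0 < Nat.card (T ⧸ Q.subgroupOf T) := Nat.card_pos
    nlinarith
  by_cases hPĒ : PAut (Cfsg.Agent.Lib.Helper85.factorSystem E Q hQsc
      (QuotientGroup.mk' (Q.subgroupOf T)) hker hrange) p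
  swap
  · have hTnot : ¬ Test (Cfsg.Agent.Lib.Helper85.factorSystem E Q hQsc
        (QuotientGroup.mk' (Q.subgroupOf T)) hker hrange) :=
      fun h => hPĒ (IH _ hcard rfl hptop _ hĒsat h)
    rcases H.t3 hT E hE hTest Q hQ _ _ hĒ hTnot with ⟨L, hQL, hcardL, hLT, hLN, hLnot⟩ | hP
    · exact absurd (hmax L hQL hcardL hLT hLN) hLnot
    · exact hP
  have hQP : QPAut E p Q := qpaut_of_paut_factor E hQsc _ _ hĒ hPĒ
  have hcon : E.IsConstrained p := isConstrained_of_qpaut hT E hE hQ hQP
  obtain ⟨G, _, ι, hM⟩ := Cfsg.Agent.S5090.result p hT E hcon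
  exact H.t4 hT E G ι hM hTest

/-- **The reduction.** A saturated fusion system passing a test with the properties `TestHyp` has all its automizers
`p`-groups. -/
theorem paut_of_test' (H : TestHyp' p Test) :
    ∀ (n : ℕ) {Ω : Type u} [Group Ω] {S : Subgroup Ω} [Finite S], Nat.card S = n → IsPGroup p S →
      ∀ F : FusionSystem S, F.IsSaturated p → Test F → PAut F p := by
  intro n
  induction n using Nat.strong_induction_on with
  | _ n IH =>
  intro Ω _ S _ hn hS F hF hT
  by_contra hnot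
  obtain ⟨U₀, hU₀ne, hU₀fn, hU₀⟩ := exists_fn_not_npaut F hnot
  -- Step 2: a witness with `N_S(U) = S`
  have hfin𝒩 : {U : Subgroup Ω | U ≠ ⊥ ∧ F.IsFullyNormalized U ∧ ¬ NPAut F p U}.Finite :=
    (Cfsg.Agent.Lib.Helper85.finite_subgroups_le S).subset fun U hU => hU.2.1.1
  obtain ⟨U, ⟨hUne, hUfn, hUN⟩, hUmax⟩ := Set.exists_max_image _ (fun U => Nat.card (normalizerIn S U)) hfin𝒩
    ⟨U₀, hU₀ne, hU₀fn, hU₀⟩
  have hUS : U ≤ S := hUfn.1
  have hNU : normalizerIn S U = S := by
    by_contra hne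
    have hTS : normalizerIn S U ≤ S := inf_le_left
    haveI : Finite (normalizerIn S U) := finite_of_le hTS
    have hlt : Nat.card (normalizerIn S U) < Nat.card S := by
      by_contra hge
      push Not at hge
      exact hne (Subgroup.eq_of_le_of_card_ge hTS hge)
    have hE := isNormalizerSystem_normalizerSystem F U hUS
    have hEsat := isSaturated_of_isNormalizerSystem F hS hF hUfn hE
    have hEnot : ¬ PAut (normalizerSystem F U hUS) p := fun h => hUN (npaut_of_paut F hE h)
    have hTnot : ¬ Test (normalizerSystem F U hUS) :=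
      fun h => hEnot (IH _ (hn ▸ hlt) rfl (hS.to_le hTS) _ hEsat h)
    obtain ⟨X, hXne, hXT, hNX, hXN⟩ := H.t2 hS F hF hT U hUfn hUne hne _ hE hTnot
    have hXS : X ≤ S := hXT.trans hTS
    obtain ⟨X', hXX', hX'fn⟩ := Cfsg.Agent.Lib.Helper85.exists_fullyNormalized_conj F hXS
    obtain ⟨hX'a, hX'r⟩ := fullyAutomized_receptive_of_fullyNormalized F hS hF hX'fn
    obtain ⟨ψ, e, hψ, he, hψe⟩ := exists_extension F hS hX'a hX'r hXX'
    have hX'N : ¬ NPAut F p X' := fun h => hXN (npaut_transport F hXS hψ e hψe h)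
    have hX'ne : X' ≠ ⊥ := by
      rintro rfl
      apply hXne
      apply Subgroup.eq_bot_of_card_eq
      rw [IsConj_card_eq hXX', Subgroup.card_bot]
    have h1 := hUmax X' ⟨hX'ne, hX'fn, hX'N⟩
    have h2 : Nat.card (normalizerIn S X) ≤ Nat.card (normalizerIn S X') := hX'fn.2 X (IsConj_symm hXX')
    haveI : Finite (normalizerIn S X) := finite_of_le inf_le_left
    have h3 : Nat.card (normalizerIn S (normalizerIn S U)) ≤ Nat.card (normalizerIn S X) :=
      Nat.card_le_card_of_injective (Subgroup.inclusion hNX) (Subgroup.inclusion_injective _)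
    have h4 : Nat.card (normalizerIn S U) < Nat.card (normalizerIn S (normalizerIn S U)) :=
      card_lt_card_normalizerIn hS hTS hne
    have h1' : Nat.card (normalizerIn S X') ≤ Nat.card (normalizerIn S U) := h1
    omega
  -- Step 3: a largest such `Q`
  have hfin𝒩₀ : {U : Subgroup Ω | U ≠ ⊥ ∧ U ≤ S ∧ normalizerIn S U = S ∧ ¬ NPAut F p U}.Finite :=
    (Cfsg.Agent.Lib.Helper85.finite_subgroups_le S).subset fun U hU => hU.2.1
  obtain ⟨Q, ⟨hQne, hQS, hQN, hQnot⟩, hQmax⟩ := Set.exists_max_image _ (fun U : Subgroup Ω => Nat.card U) hfin𝒩₀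
    ⟨U, hUne, hUS, hNU, hUN⟩
  have hQfn : F.IsFullyNormalized Q := by
    refine ⟨hQS, fun Q' _ => ?_⟩
    rw [hQN]
    exact Nat.card_le_card_of_injective (Subgroup.inclusion inf_le_left) (Subgroup.inclusion_injective _)
  have hE₁ := isNormalizerSystem_normalizerSystem F Q hQS
  have hE₁sat := isSaturated_of_isNormalizerSystem F hS hF hQfn hE₁
  have hE₁not : ¬ PAut (normalizerSystem F Q hQS) p := fun h => hQnot (npaut_of_paut F hE₁ h)
  have hTS : normalizerIn S Q ≤ S := inf_le_left
  haveI : Finite (normalizerIn S Q) := finite_of_le hTS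
  have hcardT : Nat.card (normalizerIn S Q) = n := by
    rw [hQN]
    exact hn
  apply hE₁not
  refine paut_of_normal_aux' Test H (hS.to_le hTS) ?_ _ hE₁sat Q (isNormal_of_isNormalizerSystem F hQS hE₁) hQne
    (H.t1 hS F Q hQS hQN _ hE₁ hT) ?_
  · intro m hm
    exact IH m (hcardT ▸ hm)
  · intro L hQL hcard hLT hLN
    apply npaut_of_npaut_normalizer F hE₁
    by_contra hL
    have hLS : L ≤ S := hLT.trans hTS
    have hLN' : normalizerIn S L = S := by
      rw [hQN] at hLN
      exact hLN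
    have hLne : L ≠ ⊥ := by
      rintro rfl
      exact hQne (le_bot_iff.1 hQL)
    have h1 : Nat.card L ≤ Nat.card Q := hQmax L ⟨hLne, hLS, hLN', hL⟩
    omega

end Cfsg.Agent.Lib.Helper88.NilpRed
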