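/-
helper88: the Glauberman-Thompson criterion for fusion systems relative to a strongly closed subgroup `D` (`p` odd):
if the normalizer system of `Z(J(D))` is `PAut` then so is `F` (`paut_of_npaut_zj_stronglyClosed`).
The test `DTest p F` (some nontrivial strongly closed `D` with `N_F(Z(J(D)))` `PAut`) satisfies `TestHyp'`; the group input
is the Glauberman-Thompson theorem for strongly closed subgroups (S3082).
-/
import Cfsg.Agent.Lib.Helper88.FusionNilpMainD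
import Cfsg.Agent.Lib.Helper88.FusionNilpModel
import Cfsg.Agent.Lib.Helper88.FusionNilpZJ
import Cfsg.Agent.S3082

set_option autoImplicit false

universe u

namespace Cfsg.Agent.Lib.Helper88.NilpRed

open Cfsg Cfsg.FusionSystem Cfsg.Agent.Lib.Helper87

variable {p : ℕ} [Fact p.Prime]

/-- The test: some nontrivial strongly closed subgroup `D` has `N_F(Z(J(D)))` `PAut`. -/
def DTest (p : ℕ) {Ω : Type u} [Group Ω] {S : Subgroup Ω} (F : FusionSystem S) : Prop :=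
  ∃ D : Subgroup Ω, F.StronglyClosed D ∧ D ≠ ⊥ ∧ NPAut F p (centerThompsonAOf D)

section general

variable {Ω : Type u} [Group Ω] {S : Subgroup Ω}

/-- A nontrivial subgroup of the finite `p`-group `S` normalized by `S` contains a nontrivial element central in `S`. -/
theorem exists_central_mem_of_normal [Finite S] (hS : IsPGroup p S) {D : Subgroup Ω} (hDS : D ≤ S) (hDne : D ≠ ⊥)
    (hDn : ∀ g ∈ S, ∀ x ∈ D, g * x * g⁻¹ ∈ D) : ∃ z ∈ D, z ≠ 1 ∧ ∀ s ∈ S, s * z = z * s := by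
  haveI hn : (D.subgroupOf S).Normal :=
    ⟨fun n hn g => Subgroup.mem_subgroupOf.2 (hDn g g.2 n (Subgroup.mem_subgroupOf.1 hn))⟩
  letI : MulAction S (D.subgroupOf S) := MulAction.compHom _ (MulAut.conjNormal (H := D.subgroupOf S))
  have hdvd : p ∣ Nat.card (D.subgroupOf S) := by
    rcases (hS.to_subgroup (D.subgroupOf S)).card_eq_or_dvd with h1 | h1
    · exfalso
      apply hDne
      rw [Subgroup.card_eq_one, Subgroup.subgroupOf_eq_bot] at h1
      rw [← inf_of_le_left hDS]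
      exact disjoint_iff.1 h1
    · exact h1
  have h1 : (1 : D.subgroupOf S) ∈ MulAction.fixedPoints S (D.subgroupOf S) := by
    intro g
    show MulAut.conjNormal g 1 = 1
    exact map_one _
  obtain ⟨b, hb, hb1⟩ := hS.exists_fixed_point_of_prime_dvd_card_of_fixed_point (D.subgroupOf S) hdvd h1
  refine ⟨((b : S) : Ω), Subgroup.mem_subgroupOf.1 b.2, ?_, ?_⟩
  · intro h
    apply hb1
    apply Subtype.ext
    apply Subtype.ext
    exact h.symm
  · intro s hs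
    have h2 : MulAut.conjNormal (⟨s, hs⟩ : S) b = b := hb ⟨s, hs⟩
    have h3 := congrArg (fun t : D.subgroupOf S => ((t : S) : Ω)) h2
    have h4 : s * ((b : S) : Ω) * s⁻¹ = ((b : S) : Ω) := by
      simpa [MulAut.conjNormal_apply] using h3
    calc s * ((b : S) : Ω) = (s * ((b : S) : Ω) * s⁻¹) * s := by group
      _ = ((b : S) : Ω) * s := by rw [h4]

theorem zjOf_le (D : Subgroup Ω) : centerThompsonAOf D ≤ D := by
  rw [← inducedFunctor_zjA]
  exact inducedFunctor_le zjA D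

theorem zjOf_ne_bot {D : Subgroup Ω} [Finite D] (hD : IsPGroup p D) (hne : D ≠ ⊥) : centerThompsonAOf D ≠ ⊥ := by
  rw [← inducedFunctor_zjA]
  exact inducedFunctor_ne_bot (isCharPFunctor_zjA p) hD hne

theorem zjOf_normalizer {D : Subgroup Ω} [Finite D] (hD : IsPGroup p D) {g : Ω}
    (hg : g ∈ Subgroup.normalizer (D : Set Ω)) :
    g ∈ Subgroup.normalizer ((centerThompsonAOf D : Subgroup Ω) : Set Ω) := by
  rw [← inducedFunctor_zjA]
  exact inducedFunctor_normalizer (isCharPFunctor_zjA p) hD hg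

theorem zjOf_equiv {Ω' : Type u} [Group Ω'] {D : Subgroup Ω} {D' : Subgroup Ω'} [Finite D] (hD : IsPGroup p D)
    (e : D ≃* D') (x : D) : (x : Ω) ∈ centerThompsonAOf D ↔ ((e x : D') : Ω') ∈ centerThompsonAOf D' := by
  rw [← inducedFunctor_zjA, ← inducedFunctor_zjA]
  exact inducedFunctor_equiv (isCharPFunctor_zjA p) hD e x

/-- An automorphism of an overgroup of `D` preserving `D` preserves `Z(J(D))`. -/
theorem zjOf_mem_iff_of_aut {R D : Subgroup Ω} (hDR : D ≤ R) [Finite D] (hpD : IsPGroup p D) (β : MulAut R)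
    (hβD : ∀ x : R, (x : Ω) ∈ D ↔ ((β x : R) : Ω) ∈ D) (x : R) :
    (x : Ω) ∈ centerThompsonAOf D ↔ ((β x : R) : Ω) ∈ centerThompsonAOf D := by
  let e : D ≃* D :=
    { toFun := fun d => ⟨β ⟨d, hDR d.2⟩, (hβD _).1 d.2⟩
      invFun := fun d => ⟨β.symm ⟨d, hDR d.2⟩, (hβD _).2 (by rw [MulEquiv.apply_symm_apply]; exact d.2)⟩
      left_inv := fun d => by
        apply Subtype.ext
        show ((β.symm ⟨((β ⟨d, hDR d.2⟩ : R) : Ω), _⟩ : R) : Ω) = d
        have : (⟨((β ⟨d, hDR d.2⟩ : R) : Ω), hDR ((hβD _).1 d.2)⟩ : R) = β ⟨d, hDR d.2⟩ := rfl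
        rw [this, MulEquiv.symm_apply_apply]
      right_inv := fun d => by
        apply Subtype.ext
        show ((β ⟨((β.symm ⟨d, hDR d.2⟩ : R) : Ω), _⟩ : R) : Ω) = d
        have : (⟨((β.symm ⟨d, hDR d.2⟩ : R) : Ω),
            hDR ((hβD _).2 (by rw [MulEquiv.apply_symm_apply]; exact d.2))⟩ : R) = β.symm ⟨d, hDR d.2⟩ := rfl
        rw [this, MulEquiv.apply_symm_apply]
      map_mul' := fun a b => by
        apply Subtype.ext
        show ((β ⟨((a * b : D) : Ω), _⟩ : R) : Ω) = ((β ⟨a, hDR a.2⟩ : R) : Ω) * ((β ⟨b, hDR b.2⟩ : R) : Ω)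
        have : (⟨((a * b : D) : Ω), hDR (a * b).2⟩ : R) = ⟨a, hDR a.2⟩ * ⟨b, hDR b.2⟩ := rfl
        rw [this, map_mul]
        rfl }
  constructor
  · intro hx
    have hxD : (x : Ω) ∈ D := zjOf_le D hx
    exact (zjOf_equiv hpD e ⟨x, hxD⟩).1 hx
  · intro hx
    have hxD : (x : Ω) ∈ D := (hβD x).2 (zjOf_le D hx)
    exact (zjOf_equiv hpD e ⟨x, hxD⟩).2 hx

omit [Fact p.Prime] in
/-- The join of a subgroup normal in the system and a strongly closed subgroup is strongly closed (after helper87). -/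
theorem stronglyClosed_sup_of_isNormal' {F : FusionSystem S} {A B : Subgroup Ω} (hA : F.IsNormal A)
    (hB : F.StronglyClosed B) : F.StronglyClosed (A ⊔ B) := by
  have hAS : A ≤ S := hA.1
  have hAn : ∀ k ∈ B, ∀ a ∈ A, k * a * k⁻¹ ∈ A := fun k hk a ha =>
    StronglyClosed_conj_mem (Cfsg.Agent.Lib.Helper84.stronglyClosed_of_isNormal F hA) (hB.1 hk) ha
  refine ⟨sup_le hAS hB.1, fun P hP φ hφ y => ?_⟩
  obtain ⟨a, ha, b, hb, hy⟩ := exists_mul_of_mem_sup hAn (hP y.2)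
  obtain ⟨ψ, hψ, hψP, hψA⟩ := hA.2 P φ hφ
  rw [map_subgroupOf_eq_iff] at hψA
  have haPA : a ∈ P ⊔ A := (le_sup_right : A ≤ P ⊔ A) ha
  have hbPA : b ∈ P ⊔ A := by
    have : b = a⁻¹ * (y : Ω) := by rw [hy]; group
    rw [this]
    exact Subgroup.mul_mem _ (Subgroup.inv_mem _ haPA) ((le_sup_left : P ≤ P ⊔ A) y.2)
  have h1 : Subgroup.inclusion (le_sup_left : P ≤ P ⊔ A) y = ⟨a, haPA⟩ * ⟨b, hbPA⟩ := Subtype.ext hy
  rw [← hψP, h1, map_mul]
  exact Subgroup.mul_mem _ ((le_sup_left : A ≤ A ⊔ B) (hψA.1 ⟨a, haPA⟩ ha))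
    ((le_sup_right : B ≤ A ⊔ B) (StronglyClosed_map_mem hB hψ (x := ⟨b, hbPA⟩) hb))

/-- If `S` normalizes `D` then `S` normalizes `Z(J(D))`. -/
theorem le_normalizerIn_zjOf [Finite S] (hS : IsPGroup p S) {D : Subgroup Ω} (hDS : D ≤ S)
    (hDn : ∀ g ∈ S, ∀ x ∈ D, g * x * g⁻¹ ∈ D) : S ≤ normalizerIn S (centerThompsonAOf D) := by
  haveI : Finite D := finite_of_le hDS
  intro s hs
  exact ⟨hs, zjOf_normalizer (hS.to_le hDS) (le_normalizerIn_of_conj_mem hDn hs).2⟩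

/-- If the strongly closed `D` lies in a normal subgroup of `F` and `N_F(Z(J(D)))` is `PAut`, then `F` is `PAut`. -/
theorem paut_of_npaut_zj_le_normal [Finite S] (hS : IsPGroup p S) (F : FusionSystem S) {Q D : Subgroup Ω}
    (hQ : F.IsNormal Q) (hD : F.StronglyClosed D) (hDQ : D ≤ Q) (h : NPAut F p (centerThompsonAOf D)) :
    PAut F p := by
  intro P hP α hα
  have hφ : P.subtype.comp (α : P ≃* P).toMonoidHom ∈ F.Hom P := (Cfsg.Agent.Lib.Helper87.mem_autGroup_iff F hP).1 hα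
  obtain ⟨ψ, hψ, hψ1, hψ2⟩ := hQ.2 P _ hφ
  have hψ2' := (map_subgroupOf_eq_iff ψ).1 hψ2
  have hRS : P ⊔ Q ≤ S := sup_le hP hQ.1
  haveI : Finite ↥(P ⊔ Q) := finite_of_le hRS
  haveI : Finite D := finite_of_le hD.1
  have hval : ∀ x, ψ x ∈ P ⊔ Q := by
    intro x
    refine map_sup_mem ψ (fun x => ?_) (fun x => ?_) x
    · rw [hψ1 x]
      exact (le_sup_left : P ≤ P ⊔ Q) (α x).2
    · exact (le_sup_right : Q ≤ P ⊔ Q) (hψ2'.1 _ x.2)
  obtain ⟨β, hβ, hβx⟩ := exists_aut_of_maps_into' F hψ hval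
  have hDR : D ≤ P ⊔ Q := hDQ.trans le_sup_right
  have hβD : ∀ x : ↥(P ⊔ Q), (x : Ω) ∈ D ↔ ((β x : ↥(P ⊔ Q)) : Ω) ∈ D := by
    intro x
    rw [hβx x]
    exact (Cfsg.Agent.Lib.Helper85.stronglyClosed_apply_mem_iff F hD hψ x).symm
  have hDn : ∀ g ∈ S, ∀ x ∈ D, g * x * g⁻¹ ∈ D := fun g hg x hx => StronglyClosed_conj_mem hD hg hx
  obtain ⟨k, hk⟩ := h (P ⊔ Q) ((zjOf_le D).trans hDR) (hRS.trans (le_normalizerIn_zjOf hS hD.1 hDn)) β hβ
    (zjOf_mem_iff_of_aut hDR (hS.to_le hD.1) β hβD)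
  refine ⟨k, ?_⟩
  ext x
  have h1 := Cfsg.Agent.Lib.Helper85.pow_apply_of_restrict (le_sup_left : P ≤ P ⊔ Q) α β (fun y => by
    rw [hβx]
    exact hψ1 y) (p ^ k) x
  rw [hk] at h1
  exact h1.symm

end general

section tests

variable {Ω : Type u} [Group Ω] {S : Subgroup Ω}

omit [Fact p.Prime] in
theorem dtest_t1 (F : FusionSystem S) (Q : Subgroup Ω) (hN : normalizerIn S Q = S)
    (E : FusionSystem (normalizerIn S Q)) (hE : F.IsNormalizerSystem Q E) (h : DTest p F) : DTest p E := by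
  obtain ⟨D, hD, hDne, hDN⟩ := h
  refine ⟨D, ⟨le_of_le_of_eq hD.1 hN.symm, fun R hRD φ hφ x => ?_⟩, hDne, npaut_of_npaut_normalizer F hE hDN⟩
  have h1 : φ ∈ F.Hom R := by
    rw [hE R] at hφ
    exact hφ.1
  exact hD.2 R hRD φ h1 x

theorem dtest_t2 [Finite S] (hS : IsPGroup p S) (F : FusionSystem S) (hTest : DTest p F) (U : Subgroup Ω)
    (hUS : U ≤ S) (E : FusionSystem (normalizerIn S U)) (hE : F.IsNormalizerSystem U E) (h : ¬ DTest p E) :
    ∃ X : Subgroup Ω, X ≠ ⊥ ∧ X ≤ normalizerIn S U ∧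
      normalizerIn S (normalizerIn S U) ≤ normalizerIn S X ∧ ¬ NPAut F p X := by
  obtain ⟨D, hD, hDne, -⟩ := hTest
  have hDn : ∀ g ∈ S, ∀ x ∈ D, g * x * g⁻¹ ∈ D := fun g hg x hx => StronglyClosed_conj_mem hD hg hx
  obtain ⟨z, hzD, hz1, hzc⟩ := exists_central_mem_of_normal hS hD.1 hDne hDn
  haveI : Finite U := finite_of_le hUS
  have hzT : z ∈ normalizerIn S U := by
    refine ⟨hD.1 hzD, ?_⟩
    apply mem_normalizer_of_conj_mem_of_finite
    intro u hu
    rw [← hzc u (hUS hu), mul_inv_cancel_right]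
    exact hu
  have hD'ne : D ⊓ normalizerIn S U ≠ ⊥ := by
    intro h0
    have : z ∈ D ⊓ normalizerIn S U := ⟨hzD, hzT⟩
    rw [h0, Subgroup.mem_bot] at this
    exact hz1 this
  have hD'sc : E.StronglyClosed (D ⊓ normalizerIn S U) := by
    refine ⟨inf_le_right, fun R hR φ hφ x => ⟨?_, (E.le_of_mem hφ).2 x⟩⟩
    have h1 : φ ∈ F.Hom R := by
      rw [hE R] at hφ
      exact hφ.1
    exact hD.2 R (hR.trans inf_le_left) φ h1 x
  have hD'S : D ⊓ normalizerIn S U ≤ S := inf_le_left.trans hD.1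
  haveI : Finite ↥(D ⊓ normalizerIn S U) := finite_of_le hD'S
  have hpD' : IsPGroup p ↥(D ⊓ normalizerIn S U) := hS.to_le hD'S
  refine ⟨centerThompsonAOf (D ⊓ normalizerIn S U), zjOf_ne_bot hpD' hD'ne,
    (zjOf_le _).trans inf_le_right, ?_, ?_⟩
  · intro g hg
    refine ⟨hg.1, zjOf_normalizer hpD' ?_⟩
    have hgD : g ∈ Subgroup.normalizer (D : Set Ω) := (le_normalizerIn_of_conj_mem hDn hg.1).2
    have hgT : g ∈ Subgroup.normalizer ((normalizerIn S U : Subgroup Ω) : Set Ω) := hg.2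
    rw [Subgroup.mem_normalizer_iff] at hgD hgT ⊢
    intro x
    exact ⟨fun hx => ⟨(hgD x).1 hx.1, (hgT x).1 hx.2⟩, fun hx => ⟨(hgD x).2 hx.1, (hgT x).2 hx.2⟩⟩
  · intro h1
    exact h ⟨_, hD'sc, hD'ne, npaut_of_npaut_normalizer F hE h1⟩

open Cfsg.Agent.Lib.Helper85 in
/-- The image of a strongly closed subgroup in the factor system by a normal subgroup is strongly closed. -/
theorem stronglyClosed_imageAlong (F : FusionSystem S) {Q D : Subgroup Ω} (hQ : F.IsNormal Q)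
    (hD : F.StronglyClosed D) {Ω' : Type*} [Group Ω'] {S' : Subgroup Ω'} (θ : S →* Ω') (E : FusionSystem S')
    (hE : F.IsFactorSystem Q θ E) : E.StronglyClosed (imageAlong θ D) := by
  obtain ⟨hQS, hker, hrange, hHom⟩ := hE
  have hQsc : F.StronglyClosed Q := Cfsg.Agent.Lib.Helper84.stronglyClosed_of_isNormal F hQ
  have hDQ : F.StronglyClosed (Q ⊔ D) := stronglyClosed_sup_of_isNormal' hQ hD
  refine ⟨?_, fun R' hR' φ' hφ' y => ?_⟩
  · rintro _ ⟨x, -, rfl⟩
    rw [← hrange]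
    exact ⟨x, rfl⟩
  · rw [hHom] at hφ'
    obtain ⟨hR'S, φ, hφ, hP, hφS, hθP, hind⟩ := hφ'
    have hy : (y : Ω') ∈ θ.range := hrange ▸ hR'S y.2
    obtain ⟨s, hs⟩ := hy
    have hsR : (s : Ω) ∈ preimageAlong θ R' := (mem_preimageAlong_iff θ R' s).2 ⟨s.2, hs ▸ y.2⟩
    have h1 := hind ⟨s, hsR⟩
    have e1 : (⟨θ ⟨(s : Ω), hP hsR⟩, hθP ⟨s, hsR⟩⟩ : R') = y := Subtype.ext hs
    rw [e1] at h1
    rw [h1]
    have hsQD : (s : Ω) ∈ Q ⊔ D := by
      have hyD : (y : Ω') ∈ imageAlong θ D := hR' y.2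
      obtain ⟨d, hd, hdy⟩ := hyD
      have h2 : θ (d⁻¹ * s) = 1 := by rw [map_mul, map_inv, hdy, hs, inv_mul_cancel]
      have h3 : ((d⁻¹ * s : S) : Ω) ∈ Q := (hker _).1 h2
      have h4 : (s : Ω) = (d : Ω) * ((d⁻¹ * s : S) : Ω) := by simp
      rw [h4]
      exact Subgroup.mul_mem _ ((le_sup_right : D ≤ Q ⊔ D) (Subgroup.mem_subgroupOf.1 hd))
        ((le_sup_left : Q ≤ Q ⊔ D) h3)
    have h5 : φ ⟨s, hsR⟩ ∈ Q ⊔ D := StronglyClosed_map_mem hDQ hφ hsQD
    obtain ⟨q, hq, d, hd, hqd⟩ := exists_mul_of_mem_sup (H := Q) (K := D)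
      (fun k hk h hh => StronglyClosed_conj_mem hQsc (hD.1 hk) hh) h5
    have h6 : (⟨φ ⟨s, hsR⟩, hφS ⟨s, hsR⟩⟩ : S) = ⟨q, hQS hq⟩ * ⟨d, hD.1 hd⟩ := Subtype.ext hqd
    rw [h6, map_mul, (hker ⟨q, hQS hq⟩).2 hq, one_mul]
    exact ⟨⟨d, hD.1 hd⟩, Subgroup.mem_subgroupOf.2 hd, rfl⟩

open Cfsg.Agent.Lib.Helper85 in
theorem dtest_t3 [Finite S] (hS : IsPGroup p S) (F : FusionSystem S) (hTest : DTest p F) (Q : Subgroup Ω)
    (hQ : F.IsNormal Q) {Ω' : Type u} [Group Ω'] {S' : Subgroup Ω'} (θ : S →* Ω') (E : FusionSystem S')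
    (hE : F.IsFactorSystem Q θ E) (h : ¬ DTest p E) :
    (∃ L : Subgroup Ω, Q ≤ L ∧ Nat.card Q < Nat.card L ∧ L ≤ S ∧ normalizerIn S L = S ∧ ¬ NPAut F p L) ∨
      PAut F p := by
  obtain ⟨D, hD, hDne, hDN⟩ := hTest
  by_cases hDQ : D ≤ Q
  · exact Or.inr (paut_of_npaut_zj_le_normal hS F hQ hD hDQ hDN)
  left
  have hQsc : F.StronglyClosed Q := Cfsg.Agent.Lib.Helper84.stronglyClosed_of_isNormal F hQ
  have hD'sc := stronglyClosed_imageAlong F hQ hD θ E hE
  have hE' := hE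
  obtain ⟨hQS, hker, hrange, hHom⟩ := hE
  subst hrange
  haveI : Finite θ.range := Finite.of_surjective θ.rangeRestrict θ.rangeRestrict_surjective
  have hpS' : IsPGroup p θ.range := hS.of_surjective θ.rangeRestrict θ.rangeRestrict_surjective
  haveI : Finite ↥(imageAlong θ D) := finite_of_le hD'sc.1
  have hpD' : IsPGroup p ↥(imageAlong θ D) := hpS'.to_le hD'sc.1
  have hD'ne : imageAlong θ D ≠ ⊥ := by
    intro h0
    apply hDQ
    intro d hd
    have h1 : θ ⟨d, hD.1 hd⟩ ∈ imageAlong θ D := ⟨⟨d, hD.1 hd⟩, Subgroup.mem_subgroupOf.2 hd, rfl⟩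
    rw [h0, Subgroup.mem_bot] at h1
    exact (hker _).1 h1
  have hXnot : ¬ NPAut E p (centerThompsonAOf (imageAlong θ D)) := fun hX => h ⟨_, hD'sc, hD'ne, hX⟩
  have hLS : preimageAlong θ (centerThompsonAOf (imageAlong θ D)) ≤ S := preimageAlong_le θ _
  have hQL : Q ≤ preimageAlong θ (centerThompsonAOf (imageAlong θ D)) := by
    intro q hq
    rw [mem_preimageAlong_iff]
    refine ⟨hQS hq, ?_⟩
    rw [(hker ⟨q, hQS hq⟩).2 hq]
    exact Subgroup.one_mem _
  have hLnot : ¬ NPAut F p (preimageAlong θ (centerThompsonAOf (imageAlong θ D))) :=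
    fun h1 => hXnot (npaut_factor_of_npaut_preimage F hQsc θ E hE' _ h1)
  refine ⟨_, hQL, ?_, hLS, ?_, hLnot⟩
  · have hWne := zjOf_ne_bot hpD' hD'ne
    obtain ⟨w, hw1⟩ := (Subgroup.ne_bot_iff_exists_ne_one).1 hWne
    have hwr : (w : Ω') ∈ θ.range := hD'sc.1 (zjOf_le _ w.2)
    obtain ⟨s, hs⟩ := hwr
    have hsL : (s : Ω) ∈ preimageAlong θ (centerThompsonAOf (imageAlong θ D)) := by
      rw [mem_preimageAlong_iff]
      refine ⟨s.2, ?_⟩
      rw [hs]
      exact w.2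
    have hsQ : (s : Ω) ∉ Q := by
      intro hsQ
      apply hw1
      apply Subtype.ext
      rw [← hs, (hker s).2 hsQ]
      rfl
    haveI : Finite ↥(preimageAlong θ (centerThompsonAOf (imageAlong θ D))) := finite_of_le hLS
    by_contra hge
    push Not at hge
    have := Subgroup.eq_of_le_of_card_ge hQL hge
    rw [this] at hsQ
    exact hsQ hsL
  · apply le_antisymm inf_le_left
    apply le_normalizerIn_of_conj_mem
    intro g hg y hy
    obtain ⟨hyS, hyW⟩ := (mem_preimageAlong_iff θ _ y).1 hy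
    rw [mem_preimageAlong_iff]
    refine ⟨S.mul_mem (S.mul_mem hg hyS) (S.inv_mem hg), ?_⟩
    have h1 : (⟨g * y * g⁻¹, S.mul_mem (S.mul_mem hg hyS) (S.inv_mem hg)⟩ : S) =
        ⟨g, hg⟩ * ⟨y, hyS⟩ * ⟨g, hg⟩⁻¹ := rfl
    rw [h1, map_mul, map_mul, map_inv]
    have hD'n : ∀ k ∈ θ.range, ∀ x ∈ imageAlong θ D, k * x * k⁻¹ ∈ imageAlong θ D :=
      fun k hk x hx => StronglyClosed_conj_mem hD'sc hk hx
    have hnorm := (le_normalizerIn_zjOf hpS' hD'sc.1 hD'n (⟨⟨g, hg⟩, rfl⟩ : θ ⟨g, hg⟩ ∈ θ.range)).2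
    exact (Subgroup.mem_normalizer_iff.1 hnorm _).1 hyW

theorem dtest_t4 (hp : p ≠ 2) [Finite S] (hS : IsPGroup p S) (F : FusionSystem S) (G : Type u) [Group G]
    (ι : S →* G) (hM : F.IsModel p G ι) (h : DTest p F) : PAut F p := by
  obtain ⟨hfin, hR, ⟨T, hTr⟩, -⟩ := hM
  haveI := hfin
  have hι : Function.Injective ι := hR.1
  obtain ⟨D, hD, -, hDN⟩ := h
  haveI : Finite D := finite_of_le hD.1
  have hpD : IsPGroup p D := hS.to_le hD.1
  have hDn : ∀ g ∈ S, ∀ x ∈ D, g * x * g⁻¹ ∈ D := fun g hg x hx => StronglyClosed_conj_mem hD hg hx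
  have hUS : centerThompsonAOf D ≤ S := (zjOf_le D).trans hD.1
  have hSN := le_normalizerIn_zjOf hS hD.1 hDn
  have h1 := hasNPC_normalizer_of_npaut F ι hR T hTr (centerThompsonAOf D) hUS hSN hDN
  -- the isomorphism `D ≃ ι(D)`
  have hbij : Function.Bijective ((ι.comp (Subgroup.inclusion hD.1)).codRestrict (imageAlong ι D)
      (fun d => ⟨Subgroup.inclusion hD.1 d, Subgroup.mem_subgroupOf.2 d.2, rfl⟩)) := by
    constructor
    · intro a b hab
      have h2 : ι (Subgroup.inclusion hD.1 a) = ι (Subgroup.inclusion hD.1 b) := congrArg Subtype.val hab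
      exact Subgroup.inclusion_injective hD.1 (hι h2)
    · rintro ⟨_, s, hs, rfl⟩
      exact ⟨⟨s, Subgroup.mem_subgroupOf.1 hs⟩, rfl⟩
  have h2 : imageAlong ι (centerThompsonAOf D) = centerThompsonAOf (imageAlong ι D) := by
    ext y
    constructor
    · rintro ⟨s, hs, rfl⟩
      have hsZ : (s : Ω) ∈ centerThompsonAOf D := Subgroup.mem_subgroupOf.1 hs
      have hsD : (s : Ω) ∈ D := zjOf_le D hsZ
      exact (zjOf_equiv hpD (MulEquiv.ofBijective _ hbij) ⟨s, hsD⟩).1 hsZ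
    · intro hy
      obtain ⟨s, hs, rfl⟩ := zjOf_le _ hy
      have hsD : (s : Ω) ∈ D := Subgroup.mem_subgroupOf.1 hs
      have hsZ : (s : Ω) ∈ centerThompsonAOf D :=
        (zjOf_equiv hpD (MulEquiv.ofBijective _ hbij) ⟨s, hsD⟩).2 hy
      exact ⟨s, Subgroup.mem_subgroupOf.2 hsZ, rfl⟩
  rw [h2] at h1
  have hcl : Cfsg.IsStronglyClosed (imageAlong ι D) (T : Subgroup G) :=
    hTr ▸ isStronglyClosed_image F ι hR hD
  exact paut_of_hasNPC F ι hR T hTr (Cfsg.Agent.S3082.result hp T _ hcl (Or.inl h1))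

end tests

theorem testHyp_dtest (hp : p ≠ 2) : TestHyp'.{u} p (@DTest p) where
  t1 := fun _ F Q _ hN E hE h => dtest_t1 F Q hN E hE h
  t2 := fun hS F _ hT U hUfn _ _ E hE h => dtest_t2 hS F hT U hUfn.1 E hE h
  t3 := fun hS F _ hT Q hQ _ _ _ θ E hE h => dtest_t3 hS F hT Q hQ θ E hE h
  t4 := fun hS F G _ ι hM h => dtest_t4 hp hS F G ι hM h

/-- **Glauberman-Thompson for fusion systems, relative to a strongly closed subgroup.** -/
theorem paut_of_npaut_zj_stronglyClosed (hp : p ≠ 2) {Ω : Type u} [Group Ω] {S : Subgroup Ω} [Finite S]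
    (hS : IsPGroup p S) (F : FusionSystem S) (hF : F.IsSaturated p) {D : Subgroup Ω} (hD : F.StronglyClosed D)
    (h : NPAut F p (centerThompsonAOf D)) : PAut F p := by
  by_cases hDne : D = ⊥
  · subst hDne
    have h0 : centerThompsonAOf (⊥ : Subgroup Ω) = ⊥ := le_bot_iff.1 (zjOf_le ⊥)
    rw [h0] at h
    intro P hP α hα
    refine h P bot_le (fun x hx => ⟨hP hx, ?_⟩) α hα (fun x => ?_)
    · show x ∈ Subgroup.normalizer (((⊥ : Subgroup Ω) : Subgroup Ω) : Set Ω)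
      rw [Subgroup.mem_normalizer_iff]
      intro n
      simp only [Subgroup.mem_bot]
      constructor
      · rintro rfl
        simp
      · intro hn
        have : n = x⁻¹ * (x * n * x⁻¹) * x := by group
        rw [this, hn]
        simp
    · simp only [Subgroup.mem_bot]
      constructor
      · intro hx
        have : x = 1 := Subtype.ext hx
        rw [this, map_one]
        rfl
      · intro hx
        have h1 : α x = 1 := Subtype.ext hx
        have h2 : x = 1 := by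
          have := congrArg α.symm h1
          simpa using this
        rw [h2]
        rfl
  · exact paut_of_test' (@DTest p) (testHyp_dtest hp) (Nat.card S) rfl hS F hF ⟨D, hD, hDne, h⟩

end Cfsg.Agent.Lib.Helper88.NilpRed
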