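/-
helper88: a saturated fusion system is realized by a finite `p`-solvable group on a Sylow `p`-subgroup iff it is
constrained and `Aut_F(O_p(F))` is `p`-solvable -- conditional on the existence of models (Model Theorem, S5090).
-/
import Cfsg.Agent.Lib.Helper88.FusionModelBasic

set_option autoImplicit false

namespace Cfsg.Agent.Lib.Helper88.Model

open Cfsg Cfsg.FusionSystem

universe u

theorem pSolvable_realizable_iff_of_model {Ω : Type u} [Group Ω] {S : Subgroup Ω} [Finite S] (p : ℕ)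
    [Fact p.Prime] (hS : IsPGroup p S) (F : Cfsg.FusionSystem S) (hF : F.IsSaturated p)
    (hmodel : F.IsConstrained p → ∃ (G : Type u) (_ : Group G) (ι : S →* G), F.IsModel p G ι) :
    (∃ (G : Type u) (_ : Group G) (_ : Finite G) (ι : S →* G), Cfsg.IsPSolvable p G ∧ F.IsRealizedBy ι ∧
        ∃ T : Sylow p G, (T : Subgroup G) = ι.range) ↔
      (F.IsConstrained p ∧ Cfsg.IsPSolvable p ↥(F.autGroup F.core)) := by
  constructor
  · rintro ⟨G, _, _, ι, hsolv, hR, T, hT⟩
    have hsolv' : IsPSolvable p (G ⧸ pPrimeCore p G) :=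
      Cfsg.Agent.Lib.Helper76.IsPSolvable_of_surjective p (QuotientGroup.mk' (pPrimeCore p G))
        (QuotientGroup.mk'_surjective _) hsolv
    have hC : Subgroup.centralizer ((pCore p (G ⧸ pPrimeCore p G) : Subgroup (G ⧸ pPrimeCore p G)) :
        Set (G ⧸ pPrimeCore p G)) ≤ pCore p (G ⧸ pPrimeCore p G) :=
      Cfsg.Agent.Lib.Helper76.centralizer_pCore_le p hsolv'
        (fun N hN hcop => Cfsg.Agent.Lib.Helper76.quotient_pPrimeCore_core_trivial p N hN hcop)
    have hR' := realizedBy_mk F hS hR T hT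
    obtain ⟨T', hT'⟩ := exists_sylow_mk (ι := ι) T hT
    refine ⟨⟨hF, _, coreSub_isNormal F hR' T' hT', coreSub_isCentric F hR' T' hT' hC⟩, ?_⟩
    rw [core_eq_coreSub F hS hR' T' hT' hC]
    exact isPSolvable_autGroup_of_model F hR' T' hT' hsolv'
  · rintro ⟨hcon, hA⟩
    obtain ⟨G, _, ι, hfin, hR, ⟨T, hT⟩, hC⟩ := hmodel hcon
    rw [core_eq_coreSub F hS hR T hT hC] at hA
    exact ⟨G, _, hfin, ι, isPSolvable_model_of_autGroup F hR T hT hC hA, hR, T, hT⟩

end Cfsg.Agent.Lib.Helper88.Model
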