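/-
helper88: sparse fusion systems are constrained, given Thompson's normal `p`-complement theorem for fusion systems
(statement S5194) as a hypothesis `ThompsonHyp p`.

* `paut_of_npaut`: `NPAut F p U` makes every normalizer system of `U` a `PAut` system;
* `inner_normalizerSystem_of_npaut`, `inner_centralizerSystem_of_npaut`: the normalizer / centralizer systems are inner;
* `centerF`, `isCharPFunctor_centerF`, `inducedFunctor_centerF`: the centre as an isomorphism-invariant functor;
* `paut_of_npaut_center_thompson`: Thompson's theorem in the `NPAut` language;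
* `isConstrained_of_sparse`: a saturated, non-inner system whose only saturated subsystems over the same group are
  itself and the inner one is constrained (p odd, or S4-free).
-/
import Cfsg.Agent.Lib.Helper88.FusionNilpSub
import Cfsg.Agent.Lib.Helper85.QuotModelFree
import Cfsg.Agent.Lib.Helper85.FusionNormal
import Cfsg.Agent.Lib.Helper47.ThompsonA

set_option autoImplicit false

universe u

namespace Cfsg.Agent.Lib.Helper88.NilpRed

open Cfsg Cfsg.FusionSystem Cfsg.Agent.Lib.Helper87

section general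

variable {Ω : Type u} [Group Ω] {S : Subgroup Ω}

/-- If `NPAut F p U` then every normalizer system of `U` is `PAut`. -/
theorem paut_of_npaut [Finite S] {p : ℕ} (F : FusionSystem S) {U : Subgroup Ω} (hUS : U ≤ S)
    {E : FusionSystem (normalizerIn S U)} (hE : F.IsNormalizerSystem U E) (h : NPAut F p U) : PAut E p := by
  intro P hP α hα
  have h1 : P.subtype.comp (α : P ≃* P).toMonoidHom ∈ E.Hom P :=
    (Cfsg.Agent.Lib.Helper87.mem_autGroup_iff E hP).1 hα
  rw [hE P] at h1
  obtain ⟨-, hPN, -, ψ, hψ, hψ1, hψ2⟩ := h1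
  obtain ⟨hψ3, hψ4⟩ := (map_subgroupOf_eq_iff ψ).1 hψ2
  have hRS : P ⊔ U ≤ S := hom_le F hψ
  have hRN : P ⊔ U ≤ normalizerIn S U := sup_le hPN (le_normalizerIn hUS)
  haveI : Finite ↥(P ⊔ U) := finite_of_le hRS
  have hval : ∀ x : ↥(P ⊔ U), ψ x ∈ P ⊔ U := by
    apply map_sup_mem ψ
    · intro x
      rw [hψ1 x]
      exact (le_sup_left : P ≤ P ⊔ U) (α x).2
    · intro x
      exact (le_sup_right : U ≤ P ⊔ U) (hψ3 _ x.2)
  obtain ⟨β, hβ, hβψ⟩ := exists_aut_of_maps_into' F hψ hval
  have hβU : ∀ x : ↥(P ⊔ U), (x : Ω) ∈ U ↔ ((β x : ↥(P ⊔ U)) : Ω) ∈ U := by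
    intro x
    rw [hβψ x]
    constructor
    · exact hψ3 x
    · intro hx
      obtain ⟨y, hy, hyx⟩ := hψ4 _ hx
      have hyx' : y = x := F.injective_of_mem hψ hyx
      rw [← hyx']
      exact hy
  obtain ⟨k, hk⟩ := h (P ⊔ U) le_sup_right hRN β hβ hβU
  refine ⟨k, ?_⟩
  apply MulEquiv.ext
  intro x
  apply Subtype.ext
  have h2 := Cfsg.Agent.Lib.Helper85.pow_apply_of_restrict (le_sup_left : P ≤ P ⊔ U) α β
    (fun y => by rw [hβψ]; exact hψ1 y) (p ^ k) x
  rw [hk] at h2
  show (((α ^ p ^ k) x : P) : Ω) = (x : Ω)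
  exact h2.symm

/-- If `NPAut F p U` for a fully normalized `U` in a saturated system, the normalizer systems of `U` are inner. -/
theorem inner_normalizerSystem_of_npaut [Finite S] {p : ℕ} [Fact p.Prime] (hS : IsPGroup p S) (F : FusionSystem S)
    (hF : F.IsSaturated p) {U : Subgroup Ω} (hUfn : F.IsFullyNormalized U)
    {E : FusionSystem (normalizerIn S U)} (hE : F.IsNormalizerSystem U E) (h : NPAut F p U) :
    ∀ P : Subgroup Ω, E.Hom P = (innerFusionSystem (normalizerIn S U)).Hom P := by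
  have hTS : normalizerIn S U ≤ S := inf_le_left
  haveI : Finite ↥(normalizerIn S U) := finite_of_le hTS
  have hT : IsPGroup p ↥(normalizerIn S U) := hS.to_le hTS
  exact inner_of_paut hT E (isSaturated_of_isNormalizerSystem F hS hF hUfn hE) (paut_of_npaut F hUfn.1 hE h)

theorem isFullyNormalized_of_normalizerIn_eq (F : FusionSystem S) [Finite S] {U : Subgroup Ω} (hUS : U ≤ S)
    (hUN : normalizerIn S U = S) : F.IsFullyNormalized U := by
  refine ⟨hUS, fun L' _ => ?_⟩
  rw [hUN]
  exact Nat.card_le_card_of_injective (Subgroup.inclusion inf_le_left) (Subgroup.inclusion_injective _)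

/-- If `NPAut F p U` for `U` central in `S`, the centralizer systems of `U` are inner. -/
theorem inner_centralizerSystem_of_npaut [Finite S] {p : ℕ} [Fact p.Prime] (hS : IsPGroup p S) (F : FusionSystem S)
    (hF : F.IsSaturated p) {U : Subgroup Ω} (hUS : U ≤ S) (hUN : normalizerIn S U = S)
    (hUC : S ≤ centralizerIn S U)
    {C : FusionSystem (centralizerIn S U)} (hC : F.IsCentralizerSystem U C) (h : NPAut F p U) :
    ∀ P : Subgroup Ω, C.Hom P = (innerFusionSystem (centralizerIn S U)).Hom P := by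
  have hUfn : F.IsFullyNormalized U := isFullyNormalized_of_normalizerIn_eq F hUS hUN
  have hN := isNormalizerSystem_normalizerSystem F U hUS
  have hinner := inner_normalizerSystem_of_npaut hS F hF hUfn hN h
  intro P
  apply Set.Subset.antisymm
  · intro φ hφ
    rw [hC P] at hφ
    obtain ⟨-, hPC, -, ψ, hψ, hψ1, hψ2⟩ := hφ
    have hRS : P ⊔ U ≤ S := hom_le F hψ
    have hle : (P ⊔ U) ⊔ U ≤ P ⊔ U := sup_le le_rfl le_sup_right
    have hSN : S ≤ normalizerIn S U := le_of_eq hUN.symm
    have hψN : ψ ∈ (normalizerSystem F U hUS).Hom (P ⊔ U) := by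
      rw [hN (P ⊔ U)]
      refine ⟨hψ, hRS.trans hSN, fun x => hSN (hom_map_mem F hψ x), _,
        Cfsg.Agent.Lib.Helper87.restrict_mem F hψ hle, fun x => rfl, ?_⟩
      rw [map_subgroupOf_eq_iff]
      refine ⟨fun x hx => ?_, fun q hq => ?_⟩
      · have e : Subgroup.inclusion hle x = Subgroup.inclusion le_sup_right (⟨(x : Ω), hx⟩ : U) := Subtype.ext rfl
        show ψ (Subgroup.inclusion hle x) ∈ U
        rw [e, hψ2]
        exact hx
      · refine ⟨⟨q, (le_sup_right : U ≤ (P ⊔ U) ⊔ U) hq⟩, hq, ?_⟩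
        have e : Subgroup.inclusion hle ⟨q, (le_sup_right : U ≤ (P ⊔ U) ⊔ U) hq⟩ =
            Subgroup.inclusion le_sup_right (⟨q, hq⟩ : U) := Subtype.ext rfl
        show ψ (Subgroup.inclusion hle ⟨q, (le_sup_right : U ≤ (P ⊔ U) ⊔ U) hq⟩) = q
        rw [e, hψ2]
    rw [hinner (P ⊔ U)] at hψN
    obtain ⟨-, g, hg, hgψ⟩ := hψN
    refine ⟨hPC, g, hUC (hg.1), fun x => ?_⟩
    rw [← hψ1 x, hgψ]
    rfl
  · rintro φ ⟨hP, g, hg, hφ⟩
    have h1 : conjHom P g ∈ C.Hom P := C.conj_mem hP hg
    have h2 : φ = conjHom P g := by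
      ext x
      exact hφ x
    rw [h2]
    exact h1

end general

/-! ### The centre as a functor -/

/-- The centre, as an isomorphism-invariant functor on groups. -/
def centerF (Q : Type u) [Group Q] : Subgroup Q := Subgroup.center Q

theorem isCharPFunctor_centerF (p : ℕ) [Fact p.Prime] : IsCharPFunctor.{u} p centerF := by
  refine ⟨fun Q _ _ hQ hnt => ?_, fun Q R _ _ _ _ e => ?_⟩
  · have := hQ.center_nontrivial
    exact (Subgroup.nontrivial_iff_ne_bot _).mp this
  · unfold centerF
    ext y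
    constructor
    · rintro ⟨x, hx, rfl⟩
      rw [Subgroup.mem_center_iff]
      intro z
      obtain ⟨w, rfl⟩ := e.surjective z
      show e w * e x = e x * e w
      rw [← map_mul, ← map_mul, Subgroup.mem_center_iff.mp hx w]
    · intro hy
      refine ⟨e.symm y, ?_, e.apply_symm_apply y⟩
      refine Subgroup.mem_center_iff.2 ?_
      intro z
      apply e.injective
      rw [map_mul, map_mul, e.apply_symm_apply]
      exact Subgroup.mem_center_iff.mp hy (e z)

theorem inducedFunctor_centerF {G : Type u} [Group G] (P : Subgroup G) :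
    inducedFunctor centerF P = P ⊓ Subgroup.centralizer (P : Set G) := by
  unfold inducedFunctor centerF
  ext x
  constructor
  · rintro ⟨⟨z, hz⟩, hzc, rfl⟩
    refine ⟨hz, ?_⟩
    refine Subgroup.mem_centralizer_iff.2 ?_
    intro y hy
    have hzc' : (⟨z, hz⟩ : ↥P) ∈ Subgroup.center ↥P := hzc
    have := Subgroup.mem_center_iff.mp hzc' ⟨y, hy⟩
    exact congrArg Subtype.val this
  · rintro ⟨hxP, hxc⟩
    refine ⟨⟨x, hxP⟩, ?_, rfl⟩
    show (⟨x, hxP⟩ : ↥P) ∈ Subgroup.center ↥P
    rw [Subgroup.mem_center_iff]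
    rintro ⟨y, hy⟩
    apply Subtype.ext
    exact Subgroup.mem_centralizer_iff.mp hxc y hy

/-! ### Thompson's theorem as a hypothesis -/

/-- The statement of Thompson's normal `p`-complement theorem for fusion systems (statement S5194), in one universe. -/
def ThompsonHyp (p : ℕ) : Prop :=
  ∀ {Ω : Type u} [Group Ω] {S : Subgroup Ω} [Finite S], IsPGroup p S → ∀ F : FusionSystem S, F.IsSaturated p →
    (p ≠ 2 ∨ F.IsSectionFree p (Equiv.Perm (Fin 4))) →
    (∀ C : FusionSystem (centralizerIn S (S ⊓ Subgroup.centralizer (S : Set Ω))),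
      F.IsCentralizerSystem (S ⊓ Subgroup.centralizer (S : Set Ω)) C →
      ∀ P : Subgroup Ω, C.Hom P =
        (innerFusionSystem (centralizerIn S (S ⊓ Subgroup.centralizer (S : Set Ω)))).Hom P) →
    (∀ N : FusionSystem (normalizerIn S (thompsonSubgroupAOf S)),
      F.IsNormalizerSystem (thompsonSubgroupAOf S) N →
      ∀ P : Subgroup Ω, N.Hom P = (innerFusionSystem (normalizerIn S (thompsonSubgroupAOf S))).Hom P) →
    ∀ P : Subgroup Ω, F.Hom P = (innerFusionSystem S).Hom P

variable {p : ℕ} [Fact p.Prime]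

omit [Fact p.Prime] in
theorem normalizerIn_inducedFunctor {W : ∀ (Q : Type u) [Group Q], Subgroup Q} (hW : IsCharPFunctor p W)
    {Ω : Type u} [Group Ω] {S : Subgroup Ω} [Finite S] (hS : IsPGroup p S) :
    normalizerIn S (inducedFunctor W S) = S := by
  apply le_antisymm inf_le_left
  intro s hs
  exact ⟨hs, inducedFunctor_normalizer hW hS (Subgroup.le_normalizer hs)⟩

/-- Thompson's theorem in the `NPAut` language. -/
theorem paut_of_npaut_center_thompson (hTh : ThompsonHyp.{u} p) {Ω : Type u} [Group Ω] {S : Subgroup Ω} [Finite S]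
    (hS : IsPGroup p S) (F : FusionSystem S) (hF : F.IsSaturated p)
    (hp : p ≠ 2 ∨ F.IsSectionFree p (Equiv.Perm (Fin 4)))
    (hZ : NPAut F p (S ⊓ Subgroup.centralizer (S : Set Ω))) (hJ : NPAut F p (thompsonSubgroupAOf S)) :
    PAut F p := by
  apply paut_of_inner hS F
  have hZN : normalizerIn S (S ⊓ Subgroup.centralizer (S : Set Ω)) = S := by
    rw [← inducedFunctor_centerF]
    exact normalizerIn_inducedFunctor (isCharPFunctor_centerF p) hS
  have hJN : normalizerIn S (thompsonSubgroupAOf S) = S :=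
    normalizerIn_inducedFunctor (Cfsg.Agent.Lib.Helper47.isCharPFunctor_thompsonA p) hS
  have hJS : thompsonSubgroupAOf S ≤ S :=
    inducedFunctor_le (fun (Q : Type u) [Group Q] => thompsonSubgroupA Q) S
  have hZC : S ≤ centralizerIn S (S ⊓ Subgroup.centralizer (S : Set Ω)) := by
    intro s hs
    refine ⟨hs, ?_⟩
    refine Subgroup.mem_centralizer_iff.2 ?_
    intro z hz
    exact (Subgroup.mem_centralizer_iff.1 hz.2 s hs).symm
  apply hTh hS F hF hp
  · intro C hC
    exact inner_centralizerSystem_of_npaut hS F hF inf_le_left hZN hZC hC hZ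
  · intro N hN
    exact inner_normalizerSystem_of_npaut hS F hF (isFullyNormalized_of_normalizerIn_eq F hJS hJN) hN hJ

/-- **Sparse fusion systems are constrained** (given Thompson's theorem for fusion systems). -/
theorem isConstrained_of_sparse (hTh : ThompsonHyp.{u} p) {Ω : Type u} [Group Ω] {S : Subgroup Ω} [Finite S]
    (hS : IsPGroup p S) (F : FusionSystem S) (hF : F.IsSaturated p)
    (hsp : ∀ E : FusionSystem S, E.IsSaturated p → E.IsSubsystemOf F →
      (∀ P : Subgroup Ω, E.Hom P = F.Hom P) ∨ (∀ P : Subgroup Ω, E.Hom P = (innerFusionSystem S).Hom P))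
    (hp : p ≠ 2 ∨ F.IsSectionFree p (Equiv.Perm (Fin 4))) : F.IsConstrained p := by
  -- a normal subgroup of `S` whose normalizer system is not `PAut` is normal in `F`
  have key : ∀ L : Subgroup Ω, L ≤ S → normalizerIn S L = S → ¬ NPAut F p L → F.IsNormal L := by
    intro L hLS hLN hLnot
    have hLfn : F.IsFullyNormalized L := isFullyNormalized_of_normalizerIn_eq F hLS hLN
    have hN := isNormalizerSystem_normalizerSystem F L hLS
    have hsat := isSaturated_of_isNormalizerSystem F hS hF hLfn hN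
    have hnp : ¬ PAut (normalizerSystem F L hLS) p := fun h => hLnot (npaut_of_paut F hN h)
    have hsub : ∀ P, (castSystem hLN (normalizerSystem F L hLS)).Hom P ⊆ F.Hom P := by
      intro P φ hφ
      rw [castSystem_hom] at hφ
      exact hφ.1
    rcases hsp _ ((castSystem_isSaturated hLN _ p).2 hsat) hsub with heq | hin
    · refine ⟨hLS, fun P φ hφ => ?_⟩
      rw [← heq P, castSystem_hom] at hφ
      obtain ⟨-, -, -, ψ, hψ, hψ1, hψ2⟩ := hφ
      exact ⟨ψ, hψ, hψ1, hψ2⟩
    · exact absurd ((castSystem_paut hLN _ p).1 (paut_of_inner hS _ hin)) hnp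
  -- a normal subgroup of `F` of largest order
  have hfin : {Q : Subgroup Ω | F.IsNormal Q}.Finite :=
    (Cfsg.Agent.Lib.Helper85.finite_subgroups_le S).subset fun Q hQ => hQ.1
  obtain ⟨Q, hQ, hQmax⟩ := Set.exists_max_image _ (fun Q : Subgroup Ω => Nat.card Q) hfin
    ⟨_, Cfsg.Agent.Lib.Helper85.isNormal_bot F⟩
  have hQsc : F.StronglyClosed Q := Cfsg.Agent.Lib.Helper84.stronglyClosed_of_isNormal F hQ
  haveI hn : (Q.subgroupOf S).Normal :=
    ⟨fun n hn g => Subgroup.mem_subgroupOf.2 (StronglyClosed_conj_mem hQsc g.2 (Subgroup.mem_subgroupOf.1 hn))⟩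
  have hker : ∀ s : S, QuotientGroup.mk' (Q.subgroupOf S) s = 1 ↔ (s : Ω) ∈ Q := by
    intro s
    rw [QuotientGroup.mk'_apply, QuotientGroup.eq_one_iff]
    exact Subgroup.mem_subgroupOf
  have hrange : (QuotientGroup.mk' (Q.subgroupOf S)).range = ⊤ :=
    MonoidHom.range_eq_top.2 (QuotientGroup.mk'_surjective _)
  have hĒ := Cfsg.Agent.Lib.Helper85.isFactorSystem_factorSystem F Q hQsc
    (QuotientGroup.mk' (Q.subgroupOf S)) hker hrange
  have hpquot : IsPGroup p (S ⧸ Q.subgroupOf S) := hS.to_quotient _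
  have hptop : IsPGroup p (⊤ : Subgroup (S ⧸ Q.subgroupOf S)) := hpquot.to_subgroup _
  have hĒsat := Cfsg.Agent.Lib.Helper85.isSaturated_of_isFactorSystem hS F hF hQsc _ _ hĒ
  have hĒp : p ≠ 2 ∨ (Cfsg.Agent.Lib.Helper85.factorSystem F Q hQsc
      (QuotientGroup.mk' (Q.subgroupOf S)) hker hrange).IsSectionFree p (Equiv.Perm (Fin 4)) :=
    hp.imp id (fun h => Cfsg.Agent.Lib.Helper85.isSectionFree_of_isFactorSystem p hS F hF Q hQ _ h _ _ hĒ)
  by_cases hPĒ : PAut (Cfsg.Agent.Lib.Helper85.factorSystem F Q hQsc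
      (QuotientGroup.mk' (Q.subgroupOf S)) hker hrange) p
  · exact isConstrained_of_qpaut hS F hF hQ (qpaut_of_paut_factor F hQsc _ _ hĒ hPĒ)
  · exfalso
    have hor : ¬ WTest p centerF (Cfsg.Agent.Lib.Helper85.factorSystem F Q hQsc
          (QuotientGroup.mk' (Q.subgroupOf S)) hker hrange) ∨
        ¬ WTest p (fun (Q : Type u) [Group Q] => thompsonSubgroupA Q) (Cfsg.Agent.Lib.Helper85.factorSystem F Q hQsc
          (QuotientGroup.mk' (Q.subgroupOf S)) hker hrange) := by
      by_contra hcon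
      push Not at hcon
      apply hPĒ
      refine paut_of_npaut_center_thompson hTh hptop _ hĒsat hĒp ?_ hcon.2
      rw [← inducedFunctor_centerF]
      exact hcon.1
    have hL : ∃ L : Subgroup Ω, Q ≤ L ∧ Nat.card Q < Nat.card L ∧ L ≤ S ∧ normalizerIn S L = S ∧ ¬ NPAut F p L := by
      rcases hor with h | h
      · exact wtest_t3 (isCharPFunctor_centerF p) hS F Q hQsc _ _ hĒ h
      · exact wtest_t3 (Cfsg.Agent.Lib.Helper47.isCharPFunctor_thompsonA p) hS F Q hQsc _ _ hĒ h
    obtain ⟨L, hQL, hcard, hLS, hLN, hLnot⟩ := hL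
    have h1 : Nat.card L ≤ Nat.card Q := hQmax L (key L hLS hLN hLnot)
    omega

end Cfsg.Agent.Lib.Helper88.NilpRed
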