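/-
helper88: auxiliary lemmas for Thompson-type `p`-nilpotency theorems for fusion systems.

* `isSectionFree_of_isNormalizerSystem`: normalizer systems of fully normalized subgroups of an `H`-free saturated system are
  `H`-free (the proof of statement S5240 by helper84, with an arbitrary group `H`);
* `isModel_normalizerSystem_coreSub`, `not_involves_of_isModel`: a model of an `H`-free system does not involve `H`;
* `CPAut`, `cpaut_of_npaut`, `cpaut_of_isCentralizerSystem`: automorphisms of the centralizer system are `p`-elements;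
* `hasNPC_centralizer_of_cpaut`: Frobenius in `C_G(ι U)` for a group `G` realizing the system.
-/
import Cfsg.Agent.Lib.Helper88.FusionSparse
import Cfsg.Agent.Lib.Helper88.FusionNilpModel
import Cfsg.Agent.Lib.Helper84.ModelNormalizer
import Cfsg.Agent.Lib.Helper88.Involves
import Cfsg.Agent.S5126

set_option autoImplicit false

universe u w

namespace Cfsg.Agent.Lib.Helper88.NilpRed

open Cfsg Cfsg.FusionSystem Cfsg.Agent.Lib.Helper87

section free

variable {Ω : Type u} [Group Ω] {S : Subgroup Ω} [Finite S]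

/-- Normalizer systems of fully normalized subgroups of an `H`-free saturated fusion system are `H`-free. -/
theorem isSectionFree_of_isNormalizerSystem (p : ℕ) [Fact p.Prime] (hS : IsPGroup p S) (F : FusionSystem S)
    (hF : F.IsSaturated p) (H : Type w) [Group H] (hfree : F.IsSectionFree p H) (Q : Subgroup Ω)
    (hQ : F.IsFullyNormalized Q) (N : FusionSystem (normalizerIn S Q)) (hN : F.IsNormalizerSystem Q N) :
    N.IsSectionFree p H := by
  intro P hPn hPc N' hN' L' _ ι' hM' hinv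
  have hQS : Q ≤ S := hQ.1
  have hTfin : Finite (normalizerIn S Q) := finite_of_le (normalizerIn_le S Q)
  have hTp : IsPGroup p (normalizerIn S Q) := hS.to_le (normalizerIn_le S Q)
  have : Finite Q := finite_of_le hQS
  have hNsat : N.IsSaturated p := isSaturated_of_isNormalizerSystem F hS hF hQ hN
  have hQnorm : N.IsNormal Q := Cfsg.Agent.S5126.isNormal_of_isNormalizerSystem F hQS hN
  obtain ⟨P₁, hP₁n, hP₁c, hP₁r, hall⟩ :=
    Cfsg.Agent.Lib.Helper84.Model.exists_radical_embedding hTp N hNsat hPn hPc hN' hM'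
  have hQP₁ : Q ≤ P₁ := Cfsg.Agent.Lib.Helper84.Model.le_of_isNormal_of_centric_radical hTp N hQnorm hP₁c hP₁r
  have hN₁ := isNormalizerSystem_normalizerSystem N P₁ hP₁c.1
  obtain ⟨R, hRn, hRc, hR⟩ :=
    Cfsg.Agent.Lib.Helper84.Model.exists_submodel_of_normalizerSystem hS F hF hQ hN hP₁n hP₁c hQP₁ hN₁
  have hE := isNormalizerSystem_normalizerSystem F R hRn.1
  have hRfin : Finite (normalizerIn S R) := finite_of_le (normalizerIn_le S R)
  have C := Cfsg.Agent.Lib.Helper84.Model.ctx_of_isNormalizerSystem hS F hF hRn hRc hE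
  obtain ⟨L, hL, ι, hM⟩ := C.exists_isModel
  obtain ⟨M, ιM, hMM⟩ := hR _ hE L ι hM
  obtain ⟨f, hf⟩ := hall _ hN₁ M ιM hMM
  exact hfree R hRn hRc _ hE L ι hM
    (Cfsg.Agent.Lib.Helper88.Involves.of_subgroup M (Cfsg.Agent.Lib.Helper88.Involves.of_injective f hf hinv))

/-- A model of `F` is a model of the normalizer system of the preimage of `O_p`. -/
theorem isModel_normalizerSystem_coreSub (p : ℕ) [Fact p.Prime] (F : FusionSystem S) {G : Type u} [Group G]
    (ι : S →* G) (hM : F.IsModel p G ι) (N : FusionSystem (normalizerIn S (Model.coreSub p ι)))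
    (hN : F.IsNormalizerSystem (Model.coreSub p ι) N) :
    normalizerIn S (Model.coreSub p ι) = S ∧
      N.IsModel p G (ι.comp (Subgroup.inclusion (inf_le_left : normalizerIn S (Model.coreSub p ι) ≤ S))) := by
  obtain ⟨hfin, hR, ⟨T, hT⟩, hC⟩ := hM
  have hQn : F.IsNormal (Model.coreSub p ι) := Model.coreSub_isNormal F hR T hT
  have hQsc : F.StronglyClosed (Model.coreSub p ι) := Cfsg.Agent.Lib.Helper84.stronglyClosed_of_isNormal F hQn
  have hSN : S ≤ normalizerIn S (Model.coreSub p ι) := by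
    intro s hs
    refine ⟨hs, ?_⟩
    haveI : Finite ↥(Model.coreSub p ι) := finite_of_le hQn.1
    apply mem_normalizer_of_conj_mem_of_finite
    intro y hy
    exact StronglyClosed_conj_mem hQsc hs hy
  have hNS : normalizerIn S (Model.coreSub p ι) = S := le_antisymm inf_le_left hSN
  refine ⟨hNS, hfin, ⟨?_, ?_⟩, ⟨T, ?_⟩, hC⟩
  · exact hR.1.comp (Subgroup.inclusion_injective _)
  · intro P hP φ hφ
    have hPS : P ≤ S := hP.trans inf_le_left
    have hφS : ∀ x : P, φ x ∈ S := fun x => (hφ x).1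
    rw [hN P]
    constructor
    · rintro ⟨hφF, -, -, -⟩
      exact (hR.2 P hPS φ hφS).1 hφF
    · intro hg
      have hφF : φ ∈ F.Hom P := (hR.2 P hPS φ hφS).2 hg
      obtain ⟨ψ, hψ, hψ1, hψ2⟩ := hQn.2 P φ hφF
      exact ⟨hφF, hP, hφ, ψ, hψ, hψ1, hψ2⟩
  · rw [hT]
    apply le_antisymm
    · rintro _ ⟨s, rfl⟩
      exact ⟨⟨s, hSN s.2⟩, rfl⟩
    · rintro _ ⟨s, rfl⟩
      exact ⟨_, rfl⟩

/-- A model of an `H`-free fusion system does not involve `H`. -/
theorem not_involves_of_isModel (p : ℕ) [Fact p.Prime] (F : FusionSystem S) (H : Type w) [Group H]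
    (hfree : F.IsSectionFree p H) {G : Type u} [Group G] (ι : S →* G) (hM : F.IsModel p G ι) :
    ¬ Involves H G := by
  have hM' := hM
  obtain ⟨hfin, hR, ⟨T, hT⟩, hC⟩ := hM
  have hQn : F.IsNormal (Model.coreSub p ι) := Model.coreSub_isNormal F hR T hT
  have hQc : F.IsCentric (Model.coreSub p ι) := Model.coreSub_isCentric F hR T hT hC
  have hN := isNormalizerSystem_normalizerSystem F (Model.coreSub p ι) hQn.1
  obtain ⟨hNS, hMN⟩ := isModel_normalizerSystem_coreSub p F ι hM' _ hN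
  exact hfree _ (isFullyNormalized_of_normalizerIn_eq F hQn.1 hNS) hQc _ hN G _ hMN

end free

section cpaut

variable {Ω : Type u} [Group Ω] {S : Subgroup Ω}

/-- Every automorphism of the centralizer system `C_F(U)` is a `p`-element, stated inside `F`. -/
def CPAut (F : FusionSystem S) (p : ℕ) (U : Subgroup Ω) : Prop :=
  ∀ R : Subgroup Ω, U ≤ R → R ≤ centralizerIn S U → ∀ β ∈ F.autGroup R,
    (∀ x : R, (x : Ω) ∈ U → ((β x : R) : Ω) = (x : Ω)) → ∃ k : ℕ, β ^ p ^ k = 1

theorem cpaut_of_npaut {p : ℕ} (F : FusionSystem S) {U : Subgroup Ω} (h : NPAut F p U) :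
    CPAut F p U := by
  intro R hUR hRC β hβ hfix
  have hRN : R ≤ normalizerIn S U := by
    intro x hx
    exact ⟨(hRC hx).1, Subgroup.centralizer_le_normalizer _ (hRC hx).2⟩
  refine h R hUR hRN β hβ (fun x => ⟨fun hx => ?_, fun hx => ?_⟩)
  · rw [hfix x hx]
    exact hx
  · have h1 := hfix (β x) hx
    have h2 : β (β x) = β x := Subtype.ext h1
    have h3 : β x = x := β.injective h2
    rw [← h3]
    exact hx

/-- If a centralizer system of `U` is `PAut`, then `CPAut F p U`. -/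
theorem cpaut_of_isCentralizerSystem {p : ℕ} (F : FusionSystem S) {U : Subgroup Ω}
    {C : FusionSystem (centralizerIn S U)} (hC : F.IsCentralizerSystem U C) (h : PAut C p) : CPAut F p U := by
  intro R hUR hRC β hβ hfix
  have hRS : R ≤ S := hRC.trans inf_le_left
  apply h R hRC β
  rw [Cfsg.Agent.Lib.Helper87.mem_autGroup_iff C hRC]
  show R.subtype.comp (β : R ≃* R).toMonoidHom ∈ C.Hom R
  rw [hC R]
  have hβF : R.subtype.comp (β : R ≃* R).toMonoidHom ∈ F.Hom R :=
    (Cfsg.Agent.Lib.Helper87.mem_autGroup_iff F hRS).1 hβ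
  have hle : R ⊔ U ≤ R := sup_le le_rfl hUR
  refine ⟨hβF, hRC, fun x => hRC (β x).2, _, Cfsg.Agent.Lib.Helper87.restrict_mem F hβF hle, fun x => rfl, ?_⟩
  intro x
  exact hfix ⟨(x : Ω), hUR x.2⟩ x.2

variable {p : ℕ} [Fact p.Prime]

open Cfsg.Agent.Lib.Helper85 in
/-- Frobenius in `C_G(ι U)`, for `U` central in `S`. -/
theorem hasNPC_centralizer_of_cpaut [Finite S] (F : FusionSystem S) {G : Type u} [Group G] [Finite G] (ι : S →* G)
    (hR : F.IsRealizedBy ι) (T : Sylow p G) (hTr : (T : Subgroup G) = ι.range) (U : Subgroup Ω) (hUS : U ≤ S)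
    (hSC : S ≤ centralizerIn S U) (hT : CPAut F p U) :
    HasNormalPComplement p ↥(Subgroup.centralizer ((imageAlong ι U : Subgroup G) : Set G)) := by
  have hι : Function.Injective ι := hR.1
  have hWiff : ∀ s : S, (s : Ω) ∈ U ↔ ι s ∈ imageAlong ι U := coe_mem_iff_map_mem_imageAlong ι hι U
  have hWT : imageAlong ι U ≤ ι.range := imageAlong_le_range ι U
  have hTC : (T : Subgroup G) ≤ Subgroup.centralizer ((imageAlong ι U : Subgroup G) : Set G) := by
    rw [hTr]
    rintro _ ⟨s, rfl⟩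
    refine Subgroup.mem_centralizer_iff.2 ?_
    rintro _ ⟨u, hu, rfl⟩
    have hu' : (u : Ω) ∈ U := Subgroup.mem_subgroupOf.1 hu
    have h1 : (u : Ω) * (s : Ω) = (s : Ω) * (u : Ω) := Subgroup.mem_centralizer_iff.1 (hSC s.2).2 _ hu'
    have h2 : u * s = s * u := Subtype.ext h1
    show ι u * ι s = ι s * ι u
    rw [← map_mul, ← map_mul, h2]
  refine ⟨T.subtype hTC, ?_⟩
  apply (Cfsg.Agent.S0071.result (T.subtype hTC)).2
  intro V hV h hhN hcop
  have hVT : V.map (Subgroup.subtype _) ≤ ι.range := by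
    rintro _ ⟨v, hv, rfl⟩
    have h1 := hV hv
    rw [Sylow.coe_subtype, Subgroup.mem_subgroupOf] at h1
    exact hTr ▸ h1
  have hgV : (h : G) ∈ Subgroup.normalizer ((V.map (Subgroup.subtype _) : Subgroup G) : Set G) := by
    apply mem_normalizer_of_conj_mem_of_finite
    rintro _ ⟨v, hv, rfl⟩
    exact ⟨h * v * h⁻¹, (Subgroup.mem_normalizer_iff.1 hhN v).1 hv, rfl⟩
  have hgC : ∀ y ∈ imageAlong ι U, (h : G) * y * (h : G)⁻¹ = y := by
    intro y hy
    have := Subgroup.mem_centralizer_iff.1 h.2 y hy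
    rw [← this, mul_inv_cancel_right]
  have hgW : (h : G) ∈ Subgroup.normalizer ((imageAlong ι U : Subgroup G) : Set G) :=
    Subgroup.centralizer_le_normalizer _ h.2
  have hgVW := mem_normalizer_sup hgV hgW
  have hsup : V.map (Subgroup.subtype _) ⊔ imageAlong ι U ≤ ι.range := sup_le hVT hWT
  have hRS : preimageAlong ι (V.map (Subgroup.subtype _) ⊔ imageAlong ι U) ≤ S := preimageAlong_le ι _
  have hWR : U ≤ preimageAlong ι (V.map (Subgroup.subtype _) ⊔ imageAlong ι U) := by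
    intro x hx
    have hxS : x ∈ S := hUS hx
    rw [mem_preimageAlong_iff]
    exact ⟨hxS, le_sup_right (a := V.map (Subgroup.subtype _)) ((hWiff ⟨x, hxS⟩).1 hx)⟩
  have hmemR : ∀ x : ↥(preimageAlong ι (V.map (Subgroup.subtype _) ⊔ imageAlong ι U)),
      ι ⟨x, hRS x.2⟩ ∈ V.map (Subgroup.subtype _) ⊔ imageAlong ι U :=
    fun x => ((mem_preimageAlong_iff ι _ x).1 x.2).2
  have hconj' : ∀ x : ↥(preimageAlong ι (V.map (Subgroup.subtype _) ⊔ imageAlong ι U)),
      (h : G) * ι ⟨x, hRS x.2⟩ * (h : G)⁻¹ ∈ V.map (Subgroup.subtype _) ⊔ imageAlong ι U :=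
    fun x => (Subgroup.mem_normalizer_iff.1 hgVW _).1 (hmemR x)
  have hconj : ∀ x : ↥(preimageAlong ι (V.map (Subgroup.subtype _) ⊔ imageAlong ι U)),
      (h : G) * ι ⟨x, hRS x.2⟩ * (h : G)⁻¹ ∈ ι.range := fun x => hsup (hconj' x)
  have hφ := Model.conjThrough_mem_hom F hR hRS (h : G) hconj
  have hφR : ∀ x, Model.conjThrough ι hι hRS (h : G) hconj x ∈
      preimageAlong ι (V.map (Subgroup.subtype _) ⊔ imageAlong ι U) := by
    intro x
    rw [mem_preimageAlong_iff]
    refine ⟨Model.conjThrough_mem ι hι hRS (h : G) hconj x, ?_⟩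
    rw [Model.ι_conjThrough]
    exact hconj' x
  haveI : Finite ↥(preimageAlong ι (V.map (Subgroup.subtype _) ⊔ imageAlong ι U)) := finite_of_le hRS
  obtain ⟨β, hβ, hβx⟩ := exists_aut_of_maps_into' F hφ hφR
  have hιβ : ∀ x : ↥(preimageAlong ι (V.map (Subgroup.subtype _) ⊔ imageAlong ι U)),
      ι ⟨(β x : ↥(preimageAlong ι (V.map (Subgroup.subtype _) ⊔ imageAlong ι U))),
        hRS (β x).2⟩ = (h : G) * ι ⟨x, hRS x.2⟩ * (h : G)⁻¹ := by
    intro x
    have h1 : (⟨(β x : ↥(preimageAlong ι (V.map (Subgroup.subtype _) ⊔ imageAlong ι U))),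
        hRS (β x).2⟩ : S) = ⟨Model.conjThrough ι hι hRS (h : G) hconj x,
          Model.conjThrough_mem ι hι hRS (h : G) hconj x⟩ := Subtype.ext (hβx x)
    rw [h1]
    exact Model.ι_conjThrough ι hι hRS (h : G) hconj x
  have hβfix : ∀ x : ↥(preimageAlong ι (V.map (Subgroup.subtype _) ⊔ imageAlong ι U)),
      (x : Ω) ∈ U →
        ((β x : ↥(preimageAlong ι (V.map (Subgroup.subtype _) ⊔ imageAlong ι U))) : Ω) = (x : Ω) := by
    intro x hx
    have h1 := (hWiff ⟨x, hRS x.2⟩).1 hx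
    have h2 := hιβ x
    rw [hgC _ h1] at h2
    exact congrArg (fun z : S => (z : Ω)) (hι h2)
  have hRC : preimageAlong ι (V.map (Subgroup.subtype _) ⊔ imageAlong ι U) ≤ centralizerIn S U :=
    hRS.trans hSC
  obtain ⟨k, hk⟩ := hT _ hWR hRC β hβ hβfix
  have hcent : ∀ v ∈ V, (h : G) ^ p ^ k * (v : G) = (v : G) * (h : G) ^ p ^ k := by
    intro v hv
    have hvr : (v : G) ∈ ι.range := hVT ⟨v, hv, rfl⟩
    obtain ⟨s, hs⟩ := hvr
    have hsR : (s : Ω) ∈ preimageAlong ι (V.map (Subgroup.subtype _) ⊔ imageAlong ι U) := by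
      rw [mem_preimageAlong_iff]
      refine ⟨s.2, le_sup_left (b := imageAlong ι U) ?_⟩
      rw [hs]
      exact ⟨v, hv, rfl⟩
    have h1 := ι_pow_apply ι hRS β (h : G) hιβ (p ^ k) ⟨s, hsR⟩
    rw [hk] at h1
    have h2 : ι ⟨(s : Ω), hRS hsR⟩ = (v : G) := hs
    have h1' : ι ⟨(s : Ω), hRS hsR⟩ =
        (h : G) ^ p ^ k * ι ⟨(s : Ω), hRS hsR⟩ * ((h : G) ^ p ^ k)⁻¹ := h1
    rw [h2] at h1'
    have h6 : (h : G) ^ p ^ k * (v : G) =
        ((h : G) ^ p ^ k * (v : G) * ((h : G) ^ p ^ k)⁻¹) * (h : G) ^ p ^ k := by group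
    rw [h6, ← h1']
  have hcop' : (p ^ k).Coprime (orderOf (h : G)) := by
    rw [Subgroup.orderOf_coe]
    exact (Nat.Coprime.pow_left k hcop.symm)
  obtain ⟨m, hm⟩ := exists_pow_eq_self_of_coprime hcop'
  rw [Subgroup.mem_centralizer_iff]
  intro v hv
  apply Subtype.ext
  show (v : G) * (h : G) = (h : G) * (v : G)
  have h4 : Commute ((h : G) ^ p ^ k) (v : G) := hcent v hv
  have h5 : Commute (((h : G) ^ p ^ k) ^ m) (v : G) := h4.pow_left m
  rw [hm] at h5
  exact h5.eq.symm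

end cpaut

end Cfsg.Agent.Lib.Helper88.NilpRed
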