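/-
helper88: S5278, the ACTION core.  A finite group `Hh` acts faithfully on a finite elementary abelian `p`-group `U` (`p` odd),
`Hh` has a Sylow `p`-subgroup `Rb` in a unique maximal subgroup `Mb`, `O_p(Hh) = 1`, `T1 ≤ U` is fixed pointwise by the
`p`-elements of `Mb` and its pointwise stabilizer lies in `Mb`, and `A0 ≤ Rb` is a nontrivial elementary abelian best
offender.  Then (L-Lemma S2834 + minimal `⟨A, A^x⟩` + S2999) there are `A ≤ A0`, `g`, `x`, `d` with `d ∈ ⟨A, A^x⟩`,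
`d ∈ g Mb g⁻¹` of order prime to `p`, acting nontrivially on `g • T1`, and transitively on the nonidentity elements of
every `d`-invariant subgroup of `C_U(A)` meeting `C_U(d)` trivially.
-/
import Cfsg.Agent.Lib.Helper14.GlaubSubActA
import Cfsg.Agent.Lib.Helper14.GlaubSubActB
import Cfsg.Agent.Lib.Helper75.GlaubSubActB2
import Cfsg.Agent.Lib.Helper11.GlaubSubActC
import Cfsg.Agent.Lib.Helper75.GlaubSubActD

set_option autoImplicit false

universe u

namespace Cfsg.Agent.Lib.Helper88.GlaubSub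

open Cfsg

section assembly

variable {Hh U : Type u} [Group Hh] [Finite Hh] [CommGroup U] [Finite U] [MulDistribMulAction Hh U]
  [FaithfulSMul Hh U] {p : ℕ} [Fact p.Prime]

/-- **The action core.** -/
theorem act_core (h2999 : S2999Stmt.{u}) (hp : p ≠ 2) (hU : ∀ u : U, u ^ p = 1)
    (Rb : Sylow p Hh) (Mb : Subgroup Hh) (hMb : IsCoatom Mb) (hRM : (Rb : Subgroup Hh) ≤ Mb)
    (hMu : ∀ K : Subgroup Hh, IsCoatom K → (Rb : Subgroup Hh) ≤ K → K = Mb) (hOp : pCore p Hh = ⊥)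
    (T1 : Subgroup U)
    (hb : ∀ h ∈ Mb, (∃ k : ℕ, h ^ (p ^ k) = 1) → ∀ t ∈ T1, h • t = t)
    (hc : ∀ h : Hh, (∀ t ∈ T1, h • t = t) → h ∈ Mb)
    (A0 : Subgroup Hh) (hA0R : A0 ≤ (Rb : Subgroup Hh)) (hA0 : A0 ≠ ⊥)
    (hA0c : ∀ a ∈ A0, ∀ b ∈ A0, a * b = b * a) (hA0p : ∀ a ∈ A0, a ^ p = 1)
    (hoff : ∀ B : Subgroup Hh, B ≤ A0 →
      Nat.card B * Nat.card (fixOf (U := U) B) ≤ Nat.card A0 * Nat.card (fixOf (U := U) A0)) :
    ∃ (A : Subgroup Hh) (g x d : Hh), A ≤ A0 ∧ A ≠ ⊥ ∧ d ∈ A ⊔ A.map (MulAut.conj x).toMonoidHom ∧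
      g⁻¹ * d * g ∈ Mb ∧ (∀ a ∈ A, g⁻¹ * a * g ∈ Mb) ∧ (∃ m : ℕ, m.Coprime p ∧ d ^ m = 1) ∧
      (∃ t ∈ T1, d • g • t ≠ g • t) ∧
      ∀ Y : Subgroup U, (∀ y ∈ Y, ∀ a ∈ A, a • y = y) → (∀ y ∈ Y, d • y ∈ Y) → (∀ y ∈ Y, d • y = y → y = 1) →
        ∀ a b : U, a ∈ Y → b ∈ Y → a ≠ 1 → b ≠ 1 → ∃ k : ℤ, d ^ k • a = b := by
  classical
  -- minimal offender
  obtain ⟨A, hAA0, hA, hi1, hi2⟩ := Cfsg.Agent.Lib.Helper14.GlaubSub.exists_minimal_offender (U := U) A0 hA0 hoff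
  have hAR : A ≤ (Rb : Subgroup Hh) := hAA0.trans hA0R
  have hAp : ∀ a ∈ A, a ^ p = 1 := fun a ha => hA0p a (hAA0 ha)
  have hAc : ∀ a ∈ A, ∀ b ∈ A, a * b = b * a := fun a ha b hb => hA0c a (hAA0 ha) b (hAA0 hb)
  have hApg : IsPGroup p A := Rb.isPGroup'.to_le hAR
  -- the subgroup `Ls`
  obtain ⟨g, Ls, hALs, hAMg, hLsMg, hgen⟩ := Cfsg.Agent.Lib.Helper14.GlaubSub.exists_lstar Rb Mb hMb hRM hMu hOp A hAR hA
  set Mg : Subgroup Hh := Mb.map (MulAut.conj g).toMonoidHom with hMg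
  have hmemMg : ∀ h : Hh, h ∈ Mg ↔ g⁻¹ * h * g ∈ Mb := by
    intro h
    constructor
    · rintro ⟨m, hm, rfl⟩
      have : g⁻¹ * ((MulAut.conj g).toMonoidHom m) * g = m := by
        simp [MulAut.conj_apply, mul_assoc]
      rw [this]
      exact hm
    · intro hh
      refine ⟨g⁻¹ * h * g, hh, ?_⟩
      simp [MulAut.conj_apply, mul_assoc]
  obtain ⟨hmin, hcoat, Ts, hATs, hTsM⟩ := Cfsg.Agent.Lib.Helper75.GlaubSub.pminimal_of_generation (p := p) Ls (Ls ⊓ Mg) A hApg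
    (le_inf hALs hAMg) inf_le_left (fun h => hLsMg (h.trans inf_le_right))
    (fun x hx hxn => hgen x hx (fun hxM => hxn ⟨hx, hxM⟩))
  -- `p`-elements of `Mg` fix `g • T1` pointwise
  have hbg : ∀ h ∈ Mg, (∃ k : ℕ, h ^ (p ^ k) = 1) → ∀ t ∈ T1, h • g • t = g • t := by
    intro h hh ⟨k, hk⟩ t ht
    have h1 : g⁻¹ * h * g ∈ Mb := (hmemMg h).1 hh
    have h2 : (g⁻¹ * h * g) ^ (p ^ k) = 1 := by
      have : (g⁻¹ * h * g) ^ (p ^ k) = g⁻¹ * h ^ (p ^ k) * g := by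
        have := (MulAut.conj g⁻¹).toMonoidHom.map_pow h (p ^ k)
        simpa [MulAut.conj_apply] using this.symm
      rw [this, hk]
      group
    have h3 := hb _ h1 ⟨k, h2⟩ t ht
    calc h • g • t = g • ((g⁻¹ * h * g) • t) := by
          rw [← mul_smul, ← mul_smul]
          congr 1
          group
      _ = g • t := by rw [h3]
  -- the Sylow subgroup of `Ls` fixes `g • T1` pointwise
  have hTsfix : ∀ h ∈ (Ts : Subgroup ↥Ls).map Ls.subtype, ∀ t ∈ T1, h • g • t = g • t := by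
    rintro _ ⟨h, hh, rfl⟩ t ht
    have hM : (h : Hh) ∈ Mg := by
      have := hTsM hh
      rw [Subgroup.mem_subgroupOf] at this
      exact this.2
    obtain ⟨k, hk⟩ := (Ts.isPGroup' : IsPGroup p (Ts : Subgroup ↥Ls)) ⟨h, hh⟩
    refine hbg _ hM ⟨k, ?_⟩ t ht
    have h1 : (h : ↥Ls) ^ (p ^ k) = 1 := by
      have := congrArg (fun z : (Ts : Subgroup ↥Ls) => (z : ↥Ls)) hk
      simpa using this
    have := congrArg (fun z : ↥Ls => (z : Hh)) h1
    simpa using this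
  -- hypothesis (ii)
  have hii : ∃ u : U, (∀ h ∈ (Ts : Subgroup ↥Ls).map Ls.subtype, h • u = u) ∧ ∃ h ∈ Ls, h • u ≠ u := by
    by_contra hcon
    push Not at hcon
    apply hLsMg
    intro h hh
    rw [hmemMg]
    apply hc
    intro t ht
    have h1 := hcon (g • t) (fun h' hh' => hTsfix h' hh' t ht) h hh
    calc (g⁻¹ * h * g) • t = g⁻¹ • (h • g • t) := by rw [← mul_smul, ← mul_smul]
      _ = g⁻¹ • g • t := by rw [h1]
      _ = t := by rw [← mul_smul, inv_mul_cancel, one_smul]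
  -- hypothesis (iii)
  have hiii : ∀ x : ↥Ls, x ∉ (Ls ⊓ Mg).subgroupOf Ls → A ⊔ A.map (MulAut.conj (x : Hh)).toMonoidHom = Ls := by
    intro x hx
    refine hgen x x.2 (fun hxM => hx ?_)
    rw [Subgroup.mem_subgroupOf]
    exact ⟨x.2, hxM⟩
  obtain ⟨F, _, _, hcardF, ρ, ψ, hψs, hψk, hψe⟩ := Cfsg.Agent.Lib.Helper11.GlaubSub.sl2_of_action h2999 hU Ls hmin Ts _ hcoat hTsM A hATs hAc hAp hi1 hi2 hii hiii
  -- the torus
  obtain ⟨n, hn⟩ := IsPGroup.iff_card.1 hApg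
  have hn0 : n ≠ 0 := by
    rintro rfl
    have h1 : Nat.card A = 1 := by simpa using hn
    exact hA ((Subgroup.card_eq_one).1 h1)
  have hcardA' : Nat.card ((A.subgroupOf Ls).map ρ.toMonoidHom) = Fintype.card F := by
    rw [hcardF, Subgroup.card_map_of_injective ρ.injective]
    exact Nat.card_congr (Subgroup.subgroupOfEquivOfLe hALs).toEquiv
  have hodd : Odd (Fintype.card F) := by
    rw [hcardF, hn]
    exact ((Fact.out : p.Prime).eq_two_or_odd'.resolve_left hp).pow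
  obtain ⟨d', e, he, hd'N, hd'pow, hfixe, htrans, hnofix⟩ := Cfsg.Agent.Lib.Helper75.GlaubSub.exists_torus hodd _ hcardA'
  obtain ⟨dL, hdL⟩ : ∃ dL : ↥Ls, ρ dL = d' := ⟨ρ.symm d', ρ.apply_symm_apply d'⟩
  -- `dL` normalizes `A`
  have hdLN : ∀ a ∈ A, (dL : Hh) * a * (dL : Hh)⁻¹ ∈ A := by
    intro a ha
    have h1 : ρ ⟨a, hALs ha⟩ ∈ (A.subgroupOf Ls).map ρ.toMonoidHom :=
      ⟨⟨a, hALs ha⟩, Subgroup.mem_subgroupOf.2 ha, rfl⟩
    have h2 := (Subgroup.mem_normalizer_iff.1 hd'N _).1 h1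
    obtain ⟨b, hb, hbe⟩ := h2
    have h3 : b = dL * ⟨a, hALs ha⟩ * dL⁻¹ := by
      apply ρ.injective
      have : ρ.toMonoidHom b = ρ b := rfl
      rw [← this, hbe, map_mul, map_mul, map_inv, hdL]
    have h4 : ((dL * ⟨a, hALs ha⟩ * dL⁻¹ : ↥Ls) : Hh) ∈ A := by
      rw [← h3]
      exact Subgroup.mem_subgroupOf.1 hb
    simpa using h4
  have hAd : A.map (MulAut.conj (dL : Hh)).toMonoidHom = A := by
    apply Subgroup.eq_of_le_of_card_ge
    · rintro _ ⟨a, ha, rfl⟩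
      simpa [MulAut.conj_apply] using hdLN a ha
    · rw [Subgroup.card_map_of_injective (MulAut.conj (dL : Hh)).injective]
  have hdMg : (dL : Hh) ∈ Mg := by
    by_contra hcon
    have h1 := hgen dL dL.2 hcon
    rw [hAd, sup_idem] at h1
    exact hLsMg (h1 ▸ hAMg)
  obtain ⟨x, hxLs, hxMg⟩ := SetLike.not_le_iff_exists.1 hLsMg
  -- the relations between `ψ`, `ρ` and the powers of `d`
  have hK2 : ∀ (k : ℕ) (u : U), Multiplicative.toAdd (ψ ((dL : Hh) ^ k • u)) =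
      ((d' ^ k : Matrix.SpecialLinearGroup (Fin 2) F) : Matrix (Fin 2) (Fin 2) F).mulVec
        (Multiplicative.toAdd (ψ u)) := by
    intro k u
    have h1 := hψe (dL ^ k) u
    rw [map_pow, hdL] at h1
    rw [← h1]
    rfl
  have hK1 : ∀ u : U, (∀ a ∈ A, a • u = u) → ∃ c : F, Multiplicative.toAdd (ψ u) = c • e := by
    intro u hu
    apply hfixe
    rintro _ ⟨a, ha, rfl⟩
    have h1 := hψe a u
    have h2 : ((a : ↥Ls) : Hh) • u = u := hu _ (Subgroup.mem_subgroupOf.1 ha)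
    rw [h2] at h1
    exact h1.symm
  have hAfix : ∀ t ∈ T1, ∀ a ∈ A, a • g • t = g • t := by
    intro t ht a ha
    exact hbg a (hAMg ha) ⟨1, by rw [pow_one]; exact hAp a ha⟩ t ht
  refine ⟨A, g, x, (dL : Hh), hAA0, hA, ?_, (hmemMg _).1 hdMg, fun a ha => (hmemMg a).1 (hAMg ha), ?_, ?_, ?_⟩
  · rw [hgen x hxLs hxMg]
    exact dL.2
  · -- order prime to `p`
    refine ⟨Fintype.card F - 1, ?_, ?_⟩
    · rw [hcardF, hn]
      have hp1 : 1 ≤ p ^ n := Nat.one_le_pow _ _ (Fact.out : p.Prime).pos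
      have hdvd : p ∣ p ^ n := dvd_pow_self p hn0
      rw [Nat.coprime_comm, (Fact.out : p.Prime).coprime_iff_not_dvd]
      intro h
      have h2 : p ∣ p ^ n - (p ^ n - 1) := Nat.dvd_sub hdvd h
      have h3 : p ^ n - (p ^ n - 1) = 1 := by omega
      rw [h3] at h2
      exact (Fact.out : p.Prime).one_lt.ne' (Nat.dvd_one.1 h2)
    · have h1 : dL ^ (Fintype.card F - 1) = 1 := by
        apply ρ.injective
        rw [map_pow, hdL, hd'pow, map_one]
      have := congrArg (fun z : ↥Ls => (z : Hh)) h1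
      simpa using this
  · -- nontrivial on `g • T1`
    obtain ⟨t, ht, hψt⟩ : ∃ t ∈ T1, ψ (g • t) ≠ 1 := by
      by_contra hcon
      push Not at hcon
      apply hLsMg
      intro h hh
      rw [hmemMg]
      apply hc
      intro t ht
      have h1 := (hψk (g • t)).1 (hcon t ht) h hh
      calc (g⁻¹ * h * g) • t = g⁻¹ • (h • g • t) := by rw [← mul_smul, ← mul_smul]
        _ = g⁻¹ • g • t := by rw [h1]
        _ = t := by rw [← mul_smul, inv_mul_cancel, one_smul]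
    refine ⟨t, ht, fun hfix => ?_⟩
    obtain ⟨c, hc'⟩ := hK1 (g • t) (hAfix t ht)
    have hc0 : c ≠ 0 := by
      rintro rfl
      apply hψt
      rw [zero_smul] at hc'
      exact Multiplicative.toAdd.injective hc'
    have h1 := hK2 1 (g • t)
    rw [pow_one, pow_one, hfix, hc'] at h1
    exact hnofix c hc0 h1.symm
  · -- transitivity
    intro Y hYA hYd hYfix a b ha hb ha1 hb1
    have hψinj : ∀ y ∈ Y, ψ y = 1 → y = 1 := by
      intro y hy h1
      exact hYfix y hy ((hψk y).1 h1 _ dL.2)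
    obtain ⟨ca, hca⟩ := hK1 a (hYA a ha)
    obtain ⟨cb, hcb⟩ := hK1 b (hYA b hb)
    have hca0 : ca ≠ 0 := by
      rintro rfl
      apply ha1
      apply hψinj a ha
      rw [zero_smul] at hca
      exact Multiplicative.toAdd.injective hca
    have hcb0 : cb ≠ 0 := by
      rintro rfl
      apply hb1
      apply hψinj b hb
      rw [zero_smul] at hcb
      exact Multiplicative.toAdd.injective hcb
    obtain ⟨k, hk⟩ := htrans ca cb hca0 hcb0
    have hYk : ∀ (k : ℕ), ∀ y ∈ Y, (dL : Hh) ^ k • y ∈ Y := by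
      intro k
      induction k with
      | zero => intro y hy; simpa using hy
      | succ k ih =>
        intro y hy
        rw [pow_succ', mul_smul]
        exact hYd _ (ih y hy)
    refine ⟨(k : ℤ), ?_⟩
    rw [zpow_natCast]
    have h1 : ψ ((dL : Hh) ^ k • a) = ψ b := by
      apply Multiplicative.toAdd.injective
      rw [hK2 k a, hca, hk, hcb]
    have h2 : ((dL : Hh) ^ k • a) * b⁻¹ = 1 := by
      apply hψinj _ (Y.mul_mem (hYk k a ha) (Y.inv_mem hb))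
      rw [map_mul, map_inv, h1, mul_inv_cancel]
    exact mul_inv_eq_one.1 h2

end assembly

end Cfsg.Agent.Lib.Helper88.GlaubSub
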