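/-
helper88: S5278 module [G-L3a]: the lifts of the elements of the normal closure of `f(A0)` (A0 quadratic on `V`) centralize the
`p`-th powers of the elements of `V`.
-/
import Cfsg.Agent.Lib.Helper88.GlaubSubDefs3
import Cfsg.Agent.Lib.Helper11.GlaubSubL1c

set_option autoImplicit false
set_option linter.unusedSectionVars false
set_option linter.unusedVariables false
set_option linter.style.haveILetI false

universe u

namespace Cfsg.Agent.Lib.Helper88.GlaubSub

open Cfsg Cfsg.Agent.Lib.Helper47 Cfsg.Agent.Lib.Helper11.GlaubSub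

variable {G : Type u} [Group G] [Finite G] {p : ℕ} [Fact p.Prime] {R : Sylow p G} {T : Subgroup G}

variable {Hh : Type u} [Group Hh] [MulDistribMulAction Hh ↥(om p T)] {f : G →* Hh}

/-- [G-L3a] the lifts of the elements of the normal closure of `f(A0)` centralize the `p`-th powers of the elements of `V`. -/
theorem lift_centralizes_pow (h : MinimalHyp p R T) (hD : ActData p T f) {A0 : Subgroup G}
    (hA0 : A0 ∈ maxAbIn (R : Subgroup G)) (hq : ⁅⁅nc T, A0⁆, A0⁆ = ⊥) (hA0p : ∀ a ∈ A0.map f, a ^ p = 1)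
    (d0 : G) (hd0 : f d0 ∈ Subgroup.normalClosure ((A0.map f : Subgroup Hh) : Set Hh)) :
    ∀ v ∈ nc T, d0 * v ^ p = v ^ p * d0 := by
  obtain ⟨K, hKdef⟩ : ∃ K : Subgroup G, K = Subgroup.centralizer {y : G | ∃ v ∈ nc T, y = v ^ p} := ⟨_, rfl⟩
  have hmemK : ∀ x : G, x ∈ K ↔ ∀ v ∈ nc T, v ^ p * x = x * v ^ p := by
    intro x
    rw [hKdef, Subgroup.mem_centralizer_iff]
    constructor
    · intro hx v hv
      exact hx _ ⟨v, hv, rfl⟩
    · rintro hx y ⟨v, hv, rfl⟩
      exact hx v hv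
  have hKn : K.Normal := by
    constructor
    intro x hx g
    rw [hmemK] at hx ⊢
    intro v hv
    have hv' : g⁻¹ * v * g ∈ nc T := by
      have := Subgroup.normalClosure_normal.conj_mem v hv g⁻¹
      rwa [inv_inv] at this
    have h1 := hx (g⁻¹ * v * g) hv'
    have h2 : (g⁻¹ * v * g) ^ p = g⁻¹ * v ^ p * g := by
      have := conj_pow (a := g⁻¹) (b := v) (i := p)
      rwa [inv_inv] at this
    rw [h2] at h1
    calc v ^ p * (g * x * g⁻¹) = g * (g⁻¹ * v ^ p * g * x) * g⁻¹ := by group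
      _ = g * (x * (g⁻¹ * v ^ p * g)) * g⁻¹ := by rw [h1]
      _ = g * x * g⁻¹ * v ^ p := by group
  have hkerK : f.ker ≤ K := by
    intro x hx
    rw [hD.ker] at hx
    rw [hmemK]
    intro v hv
    exact (Subgroup.mem_centralizer_iff.1 hx) (v ^ p) (pow_mem hv p)
  have hA0K : A0 ≤ K := by
    intro a ha
    rw [hmemK]
    intro v hv
    have hav : a * v * a⁻¹ ∈ nc T := Subgroup.normalClosure_normal.conj_mem v hv a
    have hcV : a * v * a⁻¹ * v⁻¹ ∈ nc T := mul_mem hav (inv_mem hv)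
    have hcomm := commute_comm_of_quadratic hq ha hv
    have h1 := conj_pow_eq_of_commute a v hcomm p
    have hap : a ^ p ∈ cc T := pow_mem_cc_of_quadratic h hq ha
    have h2 : a ^ p * v * (a ^ p)⁻¹ = v := by
      have := (Subgroup.mem_centralizer_iff.1 hap) v hv
      rw [← this, mul_inv_cancel_right]
    rw [h2] at h1
    have hcp : (a * v * a⁻¹ * v⁻¹) ^ p = 1 := by
      have h3 : 1 * v = (a * v * a⁻¹ * v⁻¹) ^ p * v := by rw [one_mul]; exact h1
      exact (mul_right_cancel h3).symm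
    have h3 : a * v ^ p * a⁻¹ = v ^ p := by
      rw [← conj_pow]
      have e : a * v * a⁻¹ = (a * v * a⁻¹ * v⁻¹) * v := by group
      rw [e, (show Commute (a * v * a⁻¹ * v⁻¹) v from nc_comm h _ hcV _ hv).mul_pow, hcp, one_mul]
    calc v ^ p * a = (a * v ^ p * a⁻¹) * a := by rw [h3]
      _ = a * v ^ p := by group
  haveI : (K.map f).Normal := hKn.map f hD.surj
  have hle : Subgroup.normalClosure ((A0.map f : Subgroup Hh) : Set Hh) ≤ K.map f :=
    Subgroup.normalClosure_le_normal (Subgroup.map_mono hA0K)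
  obtain ⟨k, hk, hkf⟩ := hle hd0
  have hker : k⁻¹ * d0 ∈ f.ker := by
    rw [MonoidHom.mem_ker, map_mul, map_inv, hkf, inv_mul_cancel]
  have hd0K : d0 ∈ K := by
    have := K.mul_mem hk (hkerK hker)
    rwa [mul_inv_cancel_left] at this
  intro v hv
  exact (((hmemK d0).1 hd0K) v hv).symm

end Cfsg.Agent.Lib.Helper88.GlaubSub
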