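/-
helper88: S5278, the GROUP level: lifting the conclusion of the action core back to the group (`torus_of_act`).
-/
import Cfsg.Agent.Lib.Helper88.GlaubSubL3a
import Cfsg.Agent.Lib.Helper66.GlaubSubL3b

set_option autoImplicit false
set_option linter.unusedSectionVars false
set_option linter.style.haveILetI false

universe u

namespace Cfsg.Agent.Lib.Helper88.GlaubSub

open Cfsg Cfsg.Agent.Lib.Helper47 Cfsg.Agent.Lib.Helper88.StabWC

variable {G : Type u} [Group G] [Finite G] {p : ℕ} [Fact p.Prime] {R : Sylow p G} {T : Subgroup G}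

variable {Hh : Type u} [Group Hh] [MulDistribMulAction Hh ↥(om p T)] {f : G →* Hh}

/-- [G-L3] lifting the conclusion of the action core back to `G`. -/
theorem torus_of_act (h : MinimalHyp p R T) (hD : ActData p T f) {A0 : Subgroup G}
    (hA0 : A0 ∈ maxAbIn (R : Subgroup G)) (hq : ⁅⁅nc T, A0⁆, A0⁆ = ⊥) (hA0p : ∀ a ∈ A0.map f, a ^ p = 1)
    (A : Subgroup Hh) (g x d : Hh) (hAA0 : A ≤ A0.map f) (hd : d ∈ A ⊔ A.map (MulAut.conj x).toMonoidHom)
    (hdM : g⁻¹ * d * g ∈ (Subgroup.normalizer (T : Set G)).map f)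
    (hAM : ∀ a ∈ A, g⁻¹ * a * g ∈ (Subgroup.normalizer (T : Set G)).map f)
    (hm : ∃ m : ℕ, m.Coprime p ∧ d ^ m = 1)
    (hnt : ∃ t ∈ T.subgroupOf (om p T), d • g • t ≠ g • t)
    (htr : ∀ Y : Subgroup ↥(om p T), (∀ y ∈ Y, ∀ a ∈ A, a • y = y) → (∀ y ∈ Y, d • y ∈ Y) →
      (∀ y ∈ Y, d • y = y → y = 1) → ∀ a b : ↥(om p T), a ∈ Y → b ∈ Y → a ≠ 1 → b ≠ 1 → ∃ k : ℤ, d ^ k • a = b) :
    ∃ d0 : G, TorusOn p T d0 := by
  obtain ⟨d0, hd0N, hd0f⟩ := hdM
  obtain ⟨m, hmp, hdm⟩ := hm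
  have hker : ∀ z : G, f z = 1 → z ∈ Subgroup.centralizer (T : Set G) := by
    intro z hz
    have hz' : z ∈ f.ker := hz
    rw [hD.ker] at hz'
    exact cc_le_centralizer T hz'
  have hfk : ∀ k : ℤ, f (d0 ^ k) = g⁻¹ * d ^ k * g := by
    intro k
    rw [map_zpow, hd0f]
    have := conj_zpow (a := g⁻¹) (b := d) (i := k)
    rwa [inv_inv] at this
  have hfm : f (d0 ^ m) = 1 := by
    have := hfk (m : ℤ)
    rw [zpow_natCast, zpow_natCast, hdm, mul_one, inv_mul_cancel] at this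
    exact this
  have hdm0 : ∀ t ∈ T, d0 ^ m * t * (d0 ^ m)⁻¹ = t := by
    intro t ht
    have := (Subgroup.mem_centralizer_iff.1 (hker _ hfm)) t ht
    rw [← this, mul_inv_cancel_right]
  have hnc : f d0 ∈ Subgroup.normalClosure ((A0.map f : Subgroup Hh) : Set Hh) := by
    rw [hd0f]
    have hA : A ≤ Subgroup.normalClosure ((A0.map f : Subgroup Hh) : Set Hh) :=
      hAA0.trans Subgroup.le_normalClosure
    have hAx : A.map (MulAut.conj x).toMonoidHom ≤ Subgroup.normalClosure ((A0.map f : Subgroup Hh) : Set Hh) := by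
      rintro _ ⟨a, ha, rfl⟩
      exact Subgroup.normalClosure_normal.conj_mem a (hA ha) x
    have hdn := (sup_le hA hAx) hd
    exact Subgroup.normalClosure_normal.conj_mem' d hdn g
  have hpow := lift_centralizes_pow h hD hA0 hq hA0p d0 hnc
  have hTc : ∀ a ∈ T, ∀ b ∈ T, a * b = b * a := fun a ha b hb =>
    (Subgroup.mem_centralizer_iff.1 (h.hT hb).2) a (h.hT ha).1
  have hTp : IsPGroup p T := R.2.to_le (fun t ht => (h.hT ht).1)
  have hTV : T ≤ nc T := Subgroup.le_normalClosure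
  obtain ⟨hYT, hYp, hYinv, hYfix⟩ :=
    Cfsg.Agent.Lib.Helper66.GlaubSub.commOn_facts T hTc hTp d0 hd0N m hmp hdm0 (fun t ht => hpow t (hTV ht))
  have hYom : commOn T d0 ≤ om p T := fun y hy => (mem_om_iff h y).2 ⟨hTV (hYT hy), hYp y hy⟩
  have hact1 : ∀ (z : G) (u : ↥(om p T)), ((f z • u : ↥(om p T)) : G) = z * (u : G) * z⁻¹ := hD.act
  let Y0 : Subgroup ↥(om p T) := (commOn T d0).subgroupOf (om p T)
  let Y : Subgroup ↥(om p T) := Y0.comap (MulDistribMulAction.toMonoidHom ↥(om p T) g⁻¹)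
  have hmemY : ∀ y : ↥(om p T), y ∈ Y ↔ ((g⁻¹ • y : ↥(om p T)) : G) ∈ commOn T d0 := fun y => Iff.rfl
  have hα : ∀ y ∈ Y, ∀ a ∈ A, a • y = y := by
    intro y hy a ha
    obtain ⟨n, hnN, hnf⟩ := hAM a ha
    have hnp : f (n ^ p) = 1 := by
      rw [map_pow, hnf]
      have := conj_pow (a := g⁻¹) (b := a) (i := p)
      rw [inv_inv] at this
      rw [this, hA0p a (hAA0 ha), mul_one, inv_mul_cancel]
    have hnC : n ∈ Subgroup.centralizer (T : Set G) :=
      pelt h n hnN ⟨1, by rw [pow_one]; exact hker _ hnp⟩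
    have hy0 : ((g⁻¹ • y : ↥(om p T)) : G) ∈ T := hYT ((hmemY y).1 hy)
    have h1 : f n • (g⁻¹ • y) = g⁻¹ • y := by
      apply Subtype.ext
      rw [hact1]
      have := (Subgroup.mem_centralizer_iff.1 hnC) _ hy0
      rw [← this, mul_inv_cancel_right]
    rw [hnf, ← mul_smul, mul_inv_cancel_right, mul_smul] at h1
    exact MulAction.injective g⁻¹ h1
  have hβ : ∀ y ∈ Y, d • y ∈ Y := by
    intro y hy
    rw [hmemY] at hy ⊢
    have h2 : g⁻¹ • d • y = f d0 • (g⁻¹ • y) := by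
      rw [hd0f, ← mul_smul, ← mul_smul, mul_inv_cancel_right]
    rw [h2, hact1]
    have := hYinv _ hy 1
    rwa [zpow_one] at this
  have hγ : ∀ y ∈ Y, d • y = y → y = 1 := by
    intro y hy hdy
    rw [hmemY] at hy
    have h2 : f d0 • (g⁻¹ • y) = g⁻¹ • y := by
      rw [hd0f, ← mul_smul, mul_inv_cancel_right, mul_smul, hdy]
    have h3 : d0 * ((g⁻¹ • y : ↥(om p T)) : G) * d0⁻¹ = ((g⁻¹ • y : ↥(om p T)) : G) := by
      rw [← hact1, h2]
    have h4 := hYfix _ hy h3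
    have h5 : g⁻¹ • y = 1 := Subtype.ext h4
    have h6 : y = g • (g⁻¹ • y) := (smul_inv_smul g y).symm
    rw [h6, h5, smul_one]
  have htrans := htr Y hα hβ hγ
  refine ⟨d0, ?_⟩
  unfold TorusOn
  refine ⟨hd0N, ?_, ⟨m, hmp, hdm0⟩, ?_⟩
  · obtain ⟨t, htT, hne⟩ := hnt
    refine ⟨(t : G), Subgroup.mem_subgroupOf.1 htT, ?_⟩
    intro heq
    apply hne
    have h2 : f d0 • t = t := Subtype.ext (by rw [hact1]; exact heq)
    rw [hd0f, mul_smul, mul_smul] at h2
    exact inv_smul_eq_iff.1 h2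
  · intro a b ha hb ha1 hb1
    have ha' : a ∈ commOn T d0 := ha
    have hb' : b ∈ commOn T d0 := hb
    let a' : ↥(om p T) := ⟨a, hYom ha'⟩
    let b' : ↥(om p T) := ⟨b, hYom hb'⟩
    have haY : g • a' ∈ Y := by rw [hmemY, inv_smul_smul]; exact ha'
    have hbY : g • b' ∈ Y := by rw [hmemY, inv_smul_smul]; exact hb'
    have ha1' : g • a' ≠ 1 := by
      intro h0
      apply ha1
      have h7 : a' = g⁻¹ • (g • a') := (inv_smul_smul g a').symm
      rw [h0, smul_one] at h7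
      exact congrArg Subtype.val h7
    have hb1' : g • b' ≠ 1 := by
      intro h0
      apply hb1
      have h7 : b' = g⁻¹ • (g • b') := (inv_smul_smul g b').symm
      rw [h0, smul_one] at h7
      exact congrArg Subtype.val h7
    obtain ⟨k, hk⟩ := htrans (g • a') (g • b') haY hbY ha1' hb1'
    refine ⟨k, ?_⟩
    have h3 : f (d0 ^ k) • a' = b' := by
      rw [hfk, mul_smul, mul_smul, hk, inv_smul_smul]
    have h8 := congrArg Subtype.val h3
    rw [hact1] at h8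
    exact h8

end Cfsg.Agent.Lib.Helper88.GlaubSub
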