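/-
helper88: the group core of Glauberman's theorem on weak closure of a subgroup `T ≤ Z(R)` normalized by `N(J(R))`, `p` odd:
in a finite group `L` with `C_L(O_p(L)) ≤ O_p(L)`, either `T` is normal in `L` or some element `d ∈ N_L(T)` induces on `T` a
nontrivial automorphism of order prime to `p` whose powers permute transitively the nonidentity elements of `[T, d]`.
-/
import Cfsg.Agent.Lib.Helper88.GlaubSubG3
import Cfsg.Agent.Lib.Helper88.GlaubSubAct
import Cfsg.Agent.Lib.Helper11.GlaubSubL1c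
import Cfsg.Agent.Lib.Helper11.GlaubSubMinTrans
import Cfsg.Agent.Lib.Helper33.GlaubSubL1a
import Cfsg.Agent.Lib.Helper33.GlaubSubL1b

set_option autoImplicit false

universe u

namespace Cfsg.Agent.Lib.Helper88.GlaubSub

open Cfsg Cfsg.Agent.Lib.Helper47 Cfsg.Agent.Lib.Helper88.StabWC

/-- **The minimal configuration.** -/
theorem core_minimal (h2999 : S2999Stmt.{u}) {G : Type u} [Group G] [Finite G] {p : ℕ} [Fact p.Prime] (hp : p ≠ 2)
    {R : Sylow p G} {T : Subgroup G} (h : MinimalHyp p R T) : ∃ d : G, TorusOn p T d := by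
  classical
  haveI : (om p T).Normal := om_normal T
  have hVle := nc_le h
  have hVc : ∀ a ∈ nc T, ∀ b ∈ nc T, a * b = b * a := by
    intro a ha b hb
    exact ((Subgroup.mem_centralizer_iff.1 (hVle hb).2) a (hVle ha).1)
  have hV1c : ∀ a ∈ om p T, ∀ b ∈ om p T, a * b = b * a := fun a ha b hb =>
    hVc a ((mem_om_iff h a).1 ha).1 b ((mem_om_iff h b).1 hb).1
  letI : CommGroup ↥(om p T) := Cfsg.Agent.Lib.Helper11.GlaubSub.omCommGroup h
  -- the acting group
  let κ : G →* MulAut ↥(om p T) := MulAut.conjNormal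
  have hD : ActData p T κ.rangeRestrict := by
    refine ⟨κ.rangeRestrict_surjective, ?_, ?_⟩
    · rw [MonoidHom.ker_rangeRestrict, ← centralizer_om h]
      ext g
      rw [MonoidHom.mem_ker, Subgroup.mem_centralizer_iff]
      constructor
      · intro hg u hu
        have h1 : (κ g) ⟨u, hu⟩ = ⟨u, hu⟩ := by rw [hg]; rfl
        have h2 : g * u * g⁻¹ = u := congrArg (fun z : ↥(om p T) => (z : G)) h1
        calc u * g = (g * u * g⁻¹)⁻¹⁻¹ * g := by rw [h2, inv_inv]
          _ = g * u := by group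
      · intro hg
        ext u
        show g * (u : G) * g⁻¹ = (u : G)
        rw [← hg u u.2]
        group
    · intro g u
      rfl
  have hU : ∀ u : ↥(om p T), u ^ p = 1 := fun u => Subtype.ext ((mem_om_iff h u).1 u.2).2
  have hRN : (R : Subgroup G) ≤ Subgroup.normalizer (T : Set G) := by
    intro r hr
    rw [Subgroup.mem_normalizer_iff]
    intro t
    have key : ∀ t ∈ T, r * t * r⁻¹ = t := by
      intro t ht
      have := (Subgroup.mem_centralizer_iff.1 (h.hT ht).2) r hr
      calc r * t * r⁻¹ = t * r * r⁻¹ := by rw [this]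
        _ = t := by group
    constructor
    · intro ht
      rw [key t ht]; exact ht
    · intro ht
      have h1 := key _ ht
      have h2 : r * t * r⁻¹ = t := by
        have : t = r⁻¹ * (r * t * r⁻¹) * r := by group
        rw [this]
        have h3 : r * (r * t * r⁻¹) * r⁻¹ = r * t * r⁻¹ := h1
        calc r * (r⁻¹ * (r * t * r⁻¹) * r) * r⁻¹ = r * t * r⁻¹ := by group
          _ = r⁻¹ * (r * (r * t * r⁻¹) * r⁻¹) * r := by group
          _ = r⁻¹ * (r * t * r⁻¹) * r := by rw [h3]
      rw [← h2]; exact ht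
  obtain ⟨Rb, hRb, hcoat, huniq, hOp⟩ := Cfsg.Agent.Lib.Helper33.GlaubSub.quotient_facts h hD
  obtain ⟨hb, hc⟩ := Cfsg.Agent.Lib.Helper33.GlaubSub.quotient_stab hp h hD
  obtain ⟨A0, hA0, hA0C, hq⟩ := exists_quadratic h
  obtain ⟨hne, hcomm, hexp, hoff⟩ := Cfsg.Agent.Lib.Helper11.GlaubSub.quotient_offender h hD hA0 hA0C hq
  have hA0R : A0.map κ.rangeRestrict ≤ (Rb : Subgroup ↥κ.range) := by
    rw [hRb]; exact Subgroup.map_mono hA0.1
  have hRM : (Rb : Subgroup ↥κ.range) ≤ (Subgroup.normalizer (T : Set G)).map κ.rangeRestrict := by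
    rw [hRb]; exact Subgroup.map_mono hRN
  obtain ⟨A, g, x, d, hAA0, -, hd, hdM, hAM, hm, hnt, htr⟩ :=
    act_core h2999 hp hU Rb _ hcoat hRM (fun K hK hRK => huniq K hK (hRb ▸ hRK)) hOp
      (T.subgroupOf (om p T)) hb hc (A0.map κ.rangeRestrict) hA0R hne hcomm hexp hoff
  exact torus_of_act h hD hA0 hq hexp A g x d hAA0 hd hdM hAM hm hnt htr

/-- **The group core** of S5278. -/
theorem core (h2999 : S2999Stmt.{u}) {L : Type u} [Group L] [Finite L] {p : ℕ} [Fact p.Prime] (hp : p ≠ 2) (R : Sylow p L)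
    (hc : Subgroup.centralizer ((pCore p L : Subgroup L) : Set L) ≤ pCore p L)
    (T : Subgroup L) (hT : T ≤ (R : Subgroup L) ⊓ Subgroup.centralizer ((R : Subgroup L) : Set L))
    (hN : Subgroup.normalizer (((thompsonSubgroupA ↥(R : Subgroup L)).map (R : Subgroup L).subtype : Subgroup L) : Set L) ≤
      Subgroup.normalizer (T : Set L)) :
    T.Normal ∨ ∃ d : L, TorusOn p T d :=
  Cfsg.Agent.Lib.Helper11.GlaubSub.core_of_minimal (fun _ _ _ _ _ h => core_minimal h2999 hp h) R hc T hT hN

end Cfsg.Agent.Lib.Helper88.GlaubSub
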