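import Cfsg.Agent.S1972

/-!
# Focal form of the Hall–Wielandt theorem for Sylow subgroups of class `< p` (helper88)

Derived from helper33's `S1972` (Engel elements in constrained sections give control of transfer),
applied to the whole-group functor `Q ↦ ⊤`.
-/

set_option autoImplicit false
universe u
open Cfsg

namespace Cfsg.Agent.Lib.Helper88.HW

open Cfsg.Agent.Lib.Helper33

/-- the whole-group functor -/
def topF : ∀ (Q : Type u) [Group Q], Subgroup Q := fun _ _ => ⊤

theorem topF_isChar (p : ℕ) : Cfsg.IsCharPFunctor.{u} p topF := by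
  refine ⟨fun Q _ _ _ hnt => ?_, fun Q R _ _ _ _ φ => ?_⟩
  · intro h
    have : (⊤ : Subgroup Q) = ⊥ := h
    exact (Subgroup.nontrivial_iff_ne_bot (⊤ : Subgroup Q)).1 inferInstance this
  · show (⊤ : Subgroup Q).map φ.toMonoidHom = ⊤
    exact Subgroup.map_top_of_surjective _ φ.surjective

theorem induced_topF {G : Type u} [Group G] (T : Subgroup G) :
    Cfsg.inducedFunctor (G := G) topF T = T := by
  show (⊤ : Subgroup T).map T.subtype = T
  rw [← MonoidHom.range_eq_map, Subgroup.range_subtype]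

theorem lcs_mono {X : Type*} [Group X] {H K : Subgroup X} (h : H ≤ K) (n : ℕ) :
    H.lowerCentralSeries n ≤ K.lowerCentralSeries n := by
  induction n with
  | zero => exact h
  | succ n ih =>
    rw [Subgroup.lowerCentralSeries_succ, Subgroup.lowerCentralSeries_succ]
    exact Subgroup.commutator_mono ih h

theorem iter_le_lcs {X : Type*} [Group X] (T U : Subgroup X) (g : X) (hg : g ∈ T) (hU : U ≤ T)
    (n : ℕ) : Cfsg.iterCommutator U (Subgroup.zpowers g) n ≤ T.lowerCentralSeries n := by
  induction n with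
  | zero => exact hU
  | succ n ih =>
    show ⁅Cfsg.iterCommutator U (Subgroup.zpowers g) n, Subgroup.zpowers g⁆ ≤ _
    rw [Subgroup.lowerCentralSeries_succ]
    exact Subgroup.commutator_mono ih ((Subgroup.zpowers_le).2 hg)

theorem mem_smul_sylow {X : Type*} [Group X] {p : ℕ} (g : X) (P : Sylow p X) (x : X) :
    x ∈ ((g • P : Sylow p X) : Subgroup X) ↔ g⁻¹ * x * g ∈ (P : Subgroup X) := by
  rw [Sylow.coe_subgroup_smul, Subgroup.mem_pointwise_smul_iff_inv_smul_mem]
  simp only [MulAut.smul_def, MulAut.conj_inv_apply]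

/-- `γ_n` vanishes on every `p`-subgroup of a section when it vanishes on a Sylow `p`-subgroup -/
theorem lcs_section_eq_bot {G : Type u} [Group G] [Finite G] {p : ℕ} [Fact p.Prime] (P : Sylow p G)
    (n : ℕ) (hcl : (P : Subgroup G).lowerCentralSeries n = ⊥)
    (K R : Subgroup G) [hR : (R.subgroupOf K).Normal] (T : Sylow p (↥K ⧸ R.subgroupOf K)) :
    (T : Subgroup (↥K ⧸ R.subgroupOf K)).lowerCentralSeries n = ⊥ := by
  -- a Sylow subgroup of `K` mapping onto `T`
  obtain P₀ : Sylow p ↥K := Classical.arbitrary _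
  have hsurj : Function.Surjective (QuotientGroup.mk' (R.subgroupOf K)) :=
    QuotientGroup.mk'_surjective _
  obtain ⟨c, hc⟩ := MulAction.exists_smul_eq (↥K ⧸ R.subgroupOf K) (P₀.mapSurjective hsurj) T
  obtain ⟨k, rfl⟩ := hsurj c
  -- `T` is the image of `k • P₀`
  have hT : (T : Subgroup (↥K ⧸ R.subgroupOf K)) =
      ((k • P₀ : Sylow p ↥K) : Subgroup ↥K).map (QuotientGroup.mk' (R.subgroupOf K)) := by
    rw [← hc]
    ext y
    rw [mem_smul_sylow, Sylow.coe_mapSurjective, Subgroup.mem_map, Subgroup.mem_map]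
    constructor
    · rintro ⟨x, hx, hxy⟩
      refine ⟨k * x * k⁻¹, ?_, ?_⟩
      · rw [mem_smul_sylow]
        have : k⁻¹ * (k * x * k⁻¹) * k = x := by group
        rw [this]; exact hx
      · rw [map_mul, map_mul, hxy, map_inv]; group
    · rintro ⟨x, hx, rfl⟩
      rw [mem_smul_sylow] at hx
      exact ⟨k⁻¹ * x * k, hx, by rw [map_mul, map_mul, map_inv]⟩
  -- the image in `G` lies in a conjugate of `P`
  set Q : Subgroup ↥K := ((k • P₀ : Sylow p ↥K) : Subgroup ↥K) with hQ
  have hQp : IsPGroup p (Q.map K.subtype) := (k • P₀ : Sylow p ↥K).2.map _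
  obtain ⟨P', hP'⟩ := hQp.exists_le_sylow
  obtain ⟨g, rfl⟩ := MulAction.exists_smul_eq G P P'
  have h1 : ((g • P : Sylow p G) : Subgroup G).lowerCentralSeries n = ⊥ := by
    have : ((g • P : Sylow p G) : Subgroup G) = (P : Subgroup G).map (MulAut.conj g).toMonoidHom := by
      rw [Sylow.coe_subgroup_smul]; rfl
    rw [this, ← Subgroup.map_lowerCentralSeries, hcl, Subgroup.map_bot]
  have h2 : (Q.map K.subtype).lowerCentralSeries n = ⊥ :=
    le_bot_iff.1 ((lcs_mono hP' n).trans h1.le)
  have h3 : Q.lowerCentralSeries n = ⊥ := by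
    rw [← Subgroup.map_lowerCentralSeries] at h2
    exact (Subgroup.map_eq_bot_iff_of_injective _ K.subtype_injective).1 h2
  rw [hT, ← Subgroup.map_lowerCentralSeries, h3, Subgroup.map_bot]

theorem pCore_le_sylow_aux {X : Type*} [Group X] [Finite X] {p : ℕ} [Fact p.Prime] (T : Sylow p X) :
    Cfsg.pCore p X ≤ (T : Subgroup X) := by
  apply sSup_le
  rintro N ⟨hN, hNp⟩
  haveI := hN
  obtain ⟨T', hT'⟩ := hNp.exists_le_sylow
  obtain ⟨g, rfl⟩ := MulAction.exists_smul_eq X T' T
  intro x hx
  rw [mem_smul_sylow]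
  apply hT'
  have := hN.conj_mem x hx g⁻¹
  simpa using this

theorem pCore_normal_aux {X : Type*} [Group X] (p : ℕ) : (Cfsg.pCore p X).Normal :=
  Subgroup.sSup_normal _ (fun _ h => h.1)

/-- **Hall–Wielandt, focal form, class `< p`**: if `γ_{p-1}(P) = 1` (class `< p`... in fact `≤ p - 2`
in Mathlib's indexing `γ_0 = P`) then `P ∩ G' ≤ N_G(P)'`. -/
theorem focal_le_of_lcs {G : Type u} [Group G] [Finite G] {p : ℕ} [Fact p.Prime] (P : Sylow p G)
    (hcl : (P : Subgroup G).lowerCentralSeries (p - 1) = ⊥) :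
    (P : Subgroup G) ⊓ commutator G ≤
      ⁅Subgroup.normalizer ((P : Subgroup G) : Set G), Subgroup.normalizer ((P : Subgroup G) : Set G)⁆ := by
  have hW := topF_isChar.{u} p
  have hall := Cfsg.Agent.S1972.result (G := G) (p := p) topF hW (by
    intro K R hR _ T hnn
    rw [induced_topF] at hnn
    have hle := pCore_le_sylow_aux (p := p) T
    have hne : ∃ g, g ∈ (T : Subgroup (↥K ⧸ R.subgroupOf K)) ∧ g ∉ Cfsg.pCore p (↥K ⧸ R.subgroupOf K) := by
      by_contra hcon
      push Not at hcon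
      apply hnn
      have : (T : Subgroup (↥K ⧸ R.subgroupOf K)) = Cfsg.pCore p (↥K ⧸ R.subgroupOf K) :=
        le_antisymm hcon hle
      rw [this]
      exact pCore_normal_aux p
    obtain ⟨g, hgT, hgP⟩ := hne
    refine ⟨g, hgT, hgP, fun U V _ hU => ?_⟩
    have h1 := iter_le_lcs (T : Subgroup (↥K ⧸ R.subgroupOf K)) U g hgT (hU.trans hle) (p - 1)
    rw [lcs_section_eq_bot P (p - 1) hcl K R T] at h1
    exact h1.trans bot_le)
  have hG : Cfsg.ControlsTransferIn p (Cfsg.inducedFunctor (G := G) topF) ⊤ :=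
    (secCtl_of_sections hW hall).self
  have hS : SylIn p (P : Subgroup G) ⊤ := sylIn_top P
  have h := focal_eq_of_controlsTransfer (isConjugacyFunctor_inducedFunctor topF hW) hG hS
  unfold focalTerm at h
  rw [induced_topF, top_inf_eq] at h
  rw [commutator_def, h]
  exact inf_le_right

end Cfsg.Agent.Lib.Helper88.HW
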