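import Cfsg.Agent.Lib.Helper88.LSDefs
import Cfsg.Prelude.Def_FusionSystem

/-!
Project LS (statement S5286): the Leary--Stancu data attached to a fusion system `F` over `S ≤ Ω`.
-/

set_option autoImplicit false

namespace Cfsg.Agent.Lib.Helper88.LS

universe u

noncomputable section
variable {Ω : Type u} [Group Ω] {S : Subgroup Ω} (F : Cfsg.FusionSystem S)

/-- The index type: all maps of the system. -/
def LSI : Type u := {x : Σ P : Subgroup Ω, (P →* Ω) // x.2 ∈ F.Hom x.1}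

/-- The source of the `i`-th map, as a subgroup of `↥S`. -/
def LSA (i : LSI F) : Subgroup ↥S := i.1.1.subgroupOf S

/-- The `i`-th map, as a homomorphism from `LSA F i` to `↥S`. -/
def LSe (i : LSI F) : LSA F i →* ↥S where
  toFun a := ⟨i.1.2 ⟨(a : ↥S), Subgroup.mem_subgroupOf.mp a.2⟩, (F.le_of_mem i.2).2 _⟩
  map_one' := by
    apply Subtype.ext
    exact map_one i.1.2
  map_mul' a b := by
    apply Subtype.ext
    exact map_mul i.1.2 ⟨(a : ↥S), Subgroup.mem_subgroupOf.mp a.2⟩ ⟨(b : ↥S), Subgroup.mem_subgroupOf.mp b.2⟩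

theorem LSe_coe (i : LSI F) (a : LSA F i) :
    ((LSe F i a : ↥S) : Ω) = i.1.2 ⟨(a : ↥S), Subgroup.mem_subgroupOf.mp a.2⟩ := rfl

/-- `(P', ψ)` (a subgroup of `↥S` and a homomorphism to `↥S`) is *in the system*: every pair `(P, φ)` over `Ω`
with the same underlying set and the same values is a map of the system. -/
def LSC (P' : Subgroup ↥S) (ψ : P' →* ↥S) : Prop :=
  ∀ (P : Subgroup Ω) (φ : P →* Ω),
    (∀ x : Ω, x ∈ P ↔ ∃ h : x ∈ S, (⟨x, h⟩ : ↥S) ∈ P') →
    (∀ (x : P) (x' : P'), (x : Ω) = ((x' : ↥S) : Ω) → φ x = ((ψ x' : ↥S) : Ω)) →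
    φ ∈ F.Hom P

end

end Cfsg.Agent.Lib.Helper88.LS
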