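import Cfsg.Agent.Lib.Helper88.LSStep
import Cfsg.Agent.Lib.Helper80.LSACT
import Cfsg.Agent.Lib.Helper80.LSNFA

/-!
Project LS (S5286), module [FUS]: every conjugation by an element of the Leary--Stancu group between
subgroups of `lam S₀` is a composite of conjugations in `S₀`, the maps `e i` and their inverses.
-/

set_option autoImplicit false

namespace Cfsg.Agent.Lib.Helper88.LS

universe u
open SemidirectProduct

noncomputable section
variable {S₀ K I : Type u} [Group S₀] [Group K]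
variable (lam : S₀ →* K) {A : I → Subgroup S₀} (e : ∀ i, A i →* S₀) (tau : I → K)

theorem conj_left (g : M lam e) (k : K) :
    (g⁻¹ * inr k * g).left = act lam e g.right⁻¹ (g.left⁻¹ * act lam e k g.left) := by
  simp only [mul_left, mul_right, inv_left, inv_right, left_inr, right_inr, map_one, mul_one,
    map_mul, MulAut.mul_apply]

theorem exists_hom_of_conj (hlam : Function.Injective lam) (g : M lam e) (P : Subgroup S₀)
    (f : P → S₀) (hf : ∀ x : P, g⁻¹ * inr (lam x) * g = inr (lam (f x))) :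
    ∃ ψ : P →* S₀, ∀ x, ψ x = f x := by
  refine ⟨MonoidHom.mk' f (fun a b => ?_), fun x => rfl⟩
  apply hlam
  apply inr_injective (φ := act lam e)
  rw [← hf, map_mul, map_mul, ← hf, ← hf]
  simp only [Subgroup.coe_mul, map_mul]
  group

section closure
variable (C : ∀ P : Subgroup S₀, (P →* S₀) → Prop)
  (hconj : ∀ (P : Subgroup S₀) (s : S₀) (ψ : P →* S₀), (∀ x : P, ψ x = s * x * s⁻¹) → C P ψ)
  (hfwd : ∀ (i : I) (P : Subgroup S₀) (ψ : P →* S₀),
    (∀ x : P, ∃ a : A i, (a : S₀) = x ∧ ψ x = e i a) → C P ψ)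
  (hbwd : ∀ (i : I) (P : Subgroup S₀) (ψ : P →* S₀),
    (∀ x : P, ∃ a : A i, e i a = x ∧ ψ x = a) → C P ψ)
  (hcomp : ∀ (P Q : Subgroup S₀) (φ : P →* S₀) (ψ : Q →* S₀) (χ : P →* S₀), C P φ → C Q ψ →
    (∀ x : P, ∃ hx : φ x ∈ Q, χ x = ψ ⟨φ x, hx⟩) → C P χ)

include hconj hfwd hbwd hcomp in
theorem C_step (s : S₀) (i : I) (ε : Bool) (P : Subgroup S₀) (ψ₁ : P →* S₀)
    (h : ∀ x : P, if ε then ∃ a : A i, e i a = s⁻¹ * x * s ∧ ψ₁ x = a
      else ∃ a : A i, (a : S₀) = s⁻¹ * x * s ∧ ψ₁ x = e i a) : C P ψ₁ := by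
  let φc : P →* S₀ := (MulAut.conj s⁻¹).toMonoidHom.comp P.subtype
  have hφc : ∀ x : P, φc x = s⁻¹ * x * s := fun x => by
    simp [φc]
  have hinj : Function.Injective φc := by
    intro x y hxy
    rw [hφc, hφc] at hxy
    apply Subtype.ext
    have := mul_right_cancel hxy
    exact mul_left_cancel this
  have hCφc : C P φc := hconj P s⁻¹ φc (fun x => by rw [hφc, inv_inv])
  let Q : Subgroup S₀ := φc.range
  let σ : Q →* S₀ := ψ₁.comp (MonoidHom.ofInjective hinj).symm.toMonoidHom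
  have hσ : ∀ x : P, σ ⟨φc x, ⟨x, rfl⟩⟩ = ψ₁ x := by
    intro x
    simp only [σ, MonoidHom.coe_comp, Function.comp_apply, MulEquiv.coe_toMonoidHom]
    congr 1
    rw [MulEquiv.symm_apply_eq]
    apply Subtype.ext
    rw [MonoidHom.ofInjective_apply]
  have hQ : ∀ q : Q, ∃ x : P, q = ⟨φc x, ⟨x, rfl⟩⟩ := by
    rintro ⟨q, x, rfl⟩
    exact ⟨x, rfl⟩
  have hCσ : C Q σ := by
    cases ε
    · apply hfwd i Q σ
      intro q
      obtain ⟨x, rfl⟩ := hQ q
      have hx := h x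
      rw [if_neg Bool.false_ne_true] at hx
      obtain ⟨a, ha, ha2⟩ := hx
      refine ⟨a, ?_, ?_⟩
      · rw [ha]
        exact (hφc x).symm
      · rw [hσ, ha2]
    · apply hbwd i Q σ
      intro q
      obtain ⟨x, rfl⟩ := hQ q
      have hx := h x
      rw [if_pos rfl] at hx
      obtain ⟨a, ha, ha2⟩ := hx
      refine ⟨a, ?_, ?_⟩
      · rw [ha]
        exact (hφc x).symm
      · rw [hσ, ha2]
  exact hcomp P Q φc σ ψ₁ hCφc hCσ (fun x => ⟨⟨x, rfl⟩, (hσ x).symm⟩)

include hcomp in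
theorem C_comp_conj (hlam : Function.Injective lam) (g₁ g₂ : M lam e) (P : Subgroup S₀)
    (ψ ψ₁ : P →* S₀)
    (h₁ : ∀ x : P, g₁⁻¹ * inr (lam x) * g₁ = inr (lam (ψ₁ x)))
    (h : ∀ x : P, (g₁ * g₂)⁻¹ * inr (lam x) * (g₁ * g₂) = inr (lam (ψ x)))
    (hC₁ : C P ψ₁)
    (IH : ∀ (P₁ : Subgroup S₀) (ψ₂ : P₁ →* S₀),
      (∀ x₁ : P₁, g₂⁻¹ * inr (lam x₁) * g₂ = inr (lam (ψ₂ x₁))) → C P₁ ψ₂) : C P ψ := by
  have hinj : Function.Injective ψ₁ := by
    intro x y hxy
    have h2 : g₁⁻¹ * inr (lam x) * g₁ = g₁⁻¹ * inr (lam y) * g₁ := by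
      rw [h₁, h₁, hxy]
    have h3 : (inr (lam x) : M lam e) = inr (lam y) := by
      have := mul_right_cancel h2
      exact mul_left_cancel this
    exact Subtype.ext (hlam (inr_injective h3))
  let P₁ : Subgroup S₀ := ψ₁.range
  let ψ₂ : P₁ →* S₀ := ψ.comp (MonoidHom.ofInjective hinj).symm.toMonoidHom
  have hψ₂ : ∀ x : P, ψ₂ ⟨ψ₁ x, ⟨x, rfl⟩⟩ = ψ x := by
    intro x
    simp only [ψ₂, MonoidHom.coe_comp, Function.comp_apply, MulEquiv.coe_toMonoidHom]
    congr 1
    rw [MulEquiv.symm_apply_eq]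
    apply Subtype.ext
    rw [MonoidHom.ofInjective_apply]
  have hP₁ : ∀ q : P₁, ∃ x : P, q = ⟨ψ₁ x, ⟨x, rfl⟩⟩ := by
    rintro ⟨q, x, rfl⟩
    exact ⟨x, rfl⟩
  have hC₂ : C P₁ ψ₂ := by
    apply IH P₁ ψ₂
    intro x₁
    obtain ⟨x, rfl⟩ := hP₁ x₁
    rw [hψ₂, ← h x]
    simp only
    rw [← h₁ x]
    group
  exact hcomp P P₁ ψ₁ ψ₂ ψ hC₁ hC₂ (fun x => ⟨⟨x, rfl⟩, (hψ₂ x).symm⟩)

include hconj hfwd hbwd hcomp in
theorem fusion (hlam : Function.Injective lam)
    (hc : ∀ i (a : A i), tau i * lam a = lam (e i a) * tau i)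
    (g : M lam e) (hg : g ∈ Gsub lam e tau) (P : Subgroup S₀) (ψ : P →* S₀)
    (hψ : ∀ x : P, g⁻¹ * inr (lam x) * g = inr (lam (ψ x))) : C P ψ := by
  classical
  have key : ∀ n : ℕ, ∀ g : M lam e, g ∈ Gsub lam e tau → FreeGroup.norm g.left = n →
      ∀ (P : Subgroup S₀) (ψ : P →* S₀),
        (∀ x : P, g⁻¹ * inr (lam x) * g = inr (lam (ψ x))) → C P ψ := by
    intro n
    induction n with
    | zero =>
      intro g hg hn P ψ hψ
      have h1 : g.left = 1 := FreeGroup.norm_eq_zero.mp hn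
      obtain ⟨s, rfl⟩ := Cfsg.Agent.Lib.Helper80.LS.stab lam e tau hlam hc g hg h1
      apply hconj P s⁻¹ ψ
      intro x
      have h2 := hψ x
      rw [conj_inr] at h2
      have h3 := hlam (inr_injective h2)
      rw [inv_inv, ← h3]
    | succ n ih =>
      intro g hg hn P ψ hψ
      have hne : g.left ≠ 1 := by
        intro h
        rw [h, FreeGroup.norm_one] at hn
        omega
      obtain ⟨s, i, ε, g', hg', rfl, hhead, hnorm⟩ :=
        Cfsg.Agent.Lib.Helper80.LS.lemmaA lam e tau hlam hc g hg hne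
      have hn' : FreeGroup.norm g'.left = n := by omega
      have hfix : ∀ x : P, lam x • (letE lam e tau s i ε).1 = (letE lam e tau s i ε).1 := by
        intro x
        have h1 := congrArg SemidirectProduct.left (hψ x)
        rw [conj_left, left_inr] at h1
        have h2 : act lam e (lam x) (E lam e tau s i ε * g').left = (E lam e tau s i ε * g').left :=
          (inv_mul_eq_one.mp ((MulEquiv.map_eq_one_iff _).mp h1)).symm
        have h3 := congrArg FreeGroup.toWord h2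
        rw [Cfsg.Agent.Lib.Helper80.LS.toWord_act] at h3
        have h4 := congrArg List.head? h3
        rw [List.head?_map, hhead] at h4
        simp only [Option.map_some, Option.some.injEq] at h4
        exact congrArg Prod.fst h4
      choose f hf1 hf2 using fun x : P => E_stab lam e tau hlam hc s i ε x (hfix x)
      obtain ⟨ψ₁, hψ₁⟩ := exists_hom_of_conj lam e hlam (E lam e tau s i ε) P f hf1
      have hC₁ : C P ψ₁ := C_step e C hconj hfwd hbwd hcomp s i ε P ψ₁ (fun x => by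
        rw [hψ₁]
        exact hf2 x)
      exact C_comp_conj lam e C hcomp hlam (E lam e tau s i ε) g' P ψ ψ₁
        (fun x => by rw [hψ₁]; exact hf1 x) hψ hC₁ (fun P₁ ψ₂ h => ih g' hg' hn' P₁ ψ₂ h)
  exact key _ g hg rfl P ψ hψ

end closure

end

end Cfsg.Agent.Lib.Helper88.LS
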