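import Cfsg.Agent.Lib.Helper88.LSFinalDefs

/-!
Project LS (S5286), module [TRANSPORT]: closure properties of the predicate `LSC F`.
-/

set_option autoImplicit false

namespace Cfsg.Agent.Lib.Helper88.LS

universe u

noncomputable section
variable {Ω : Type u} [Group Ω] {S : Subgroup Ω} (F : Cfsg.FusionSystem S)

theorem LS_restr {P Q : Subgroup Ω} {φ : Q →* Ω} (hφ : φ ∈ F.Hom Q) (hPQ : P ≤ Q) (χ : P →* Ω)
    (hχ : ∀ x : P, χ x = φ ⟨x, hPQ x.2⟩) : χ ∈ F.Hom P := by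
  have hQS := (F.le_of_mem hφ).1
  have h1 : Cfsg.conjHom P 1 ∈ F.Hom P := F.conj_mem (le_trans hPQ hQS) S.one_mem
  have h2 : ∀ x : P, Cfsg.conjHom P 1 x ∈ Q := fun x => by
    simp only [Cfsg.conjHom, MonoidHom.coe_comp, Function.comp_apply, Subgroup.coe_subtype,
      MulEquiv.coe_toMonoidHom, MulAut.conj_apply, one_mul, inv_one, mul_one]
    exact hPQ x.2
  have h3 := F.comp_mem h1 hφ h2
  have h4 : χ = φ.comp ((Cfsg.conjHom P 1).codRestrict Q h2) := by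
    ext x
    rw [hχ]
    simp only [MonoidHom.coe_comp, Function.comp_apply]
    congr 1
    apply Subtype.ext
    simp [Cfsg.conjHom]
  rw [h4]
  exact h3

theorem LSe_injective (i : LSI F) : Function.Injective (LSe F i) := by
  intro a b hab
  have h1 : ((LSe F i a : ↥S) : Ω) = ((LSe F i b : ↥S) : Ω) := by rw [hab]
  rw [LSe_coe, LSe_coe] at h1
  have h2 := F.injective_of_mem i.2 h1
  apply Subtype.ext
  apply Subtype.ext
  exact Subtype.mk.inj h2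

theorem LSC_conj (P' : Subgroup ↥S) (s : ↥S) (ψ : P' →* ↥S)
    (h : ∀ x : P', ψ x = s * x * s⁻¹) : LSC F P' ψ := by
  intro P φ hP hφ
  have hPS : P ≤ S := fun x hx => ((hP x).mp hx).choose
  have h1 : φ = Cfsg.conjHom P (s : Ω) := by
    ext x
    obtain ⟨hxS, hx'⟩ := (hP x.1).mp x.2
    have h2 := hφ x ⟨⟨x.1, hxS⟩, hx'⟩ rfl
    rw [h2, h]
    simp [Cfsg.conjHom]
  rw [h1]
  exact F.conj_mem hPS s.2

theorem LSC_fwd (i : LSI F) (P' : Subgroup ↥S) (ψ : P' →* ↥S)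
    (h : ∀ x : P', ∃ a : LSA F i, (a : ↥S) = x ∧ ψ x = LSe F i a) : LSC F P' ψ := by
  intro P φ hP hφ
  have hPi : P ≤ i.1.1 := by
    intro x hx
    obtain ⟨hxS, hx'⟩ := (hP x).mp hx
    obtain ⟨a, ha, -⟩ := h ⟨⟨x, hxS⟩, hx'⟩
    have h3 := Subgroup.mem_subgroupOf.mp a.2
    rw [ha] at h3
    exact h3
  apply LS_restr F i.2 hPi φ
  intro x
  obtain ⟨hxS, hx'⟩ := (hP x.1).mp x.2
  obtain ⟨a, ha, ha2⟩ := h ⟨⟨x.1, hxS⟩, hx'⟩
  rw [hφ x ⟨⟨x.1, hxS⟩, hx'⟩ rfl, ha2, LSe_coe]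
  congr 1
  apply Subtype.ext
  simp [ha]

theorem LSC_bwd (i : LSI F) (P' : Subgroup ↥S) (ψ : P' →* ↥S)
    (h : ∀ x : P', ∃ a : LSA F i, LSe F i a = x ∧ ψ x = a) : LSC F P' ψ := by
  intro P φ hP hφ
  obtain ⟨ψ₀, hψ₀, hinv⟩ := F.inv_mem i.2
  have hPr : P ≤ i.1.2.range := by
    intro x hx
    obtain ⟨hxS, hx'⟩ := (hP x).mp hx
    obtain ⟨a, ha, -⟩ := h ⟨⟨x, hxS⟩, hx'⟩
    have h3 := congrArg (fun z : ↥S => (z : Ω)) ha
    simp only [LSe_coe] at h3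
    exact ⟨_, h3⟩
  apply LS_restr F hψ₀ hPr φ
  intro x
  obtain ⟨hxS, hx'⟩ := (hP x.1).mp x.2
  obtain ⟨a, ha, ha2⟩ := h ⟨⟨x.1, hxS⟩, hx'⟩
  rw [hφ x ⟨⟨x.1, hxS⟩, hx'⟩ rfl, ha2]
  have h3 := congrArg (fun z : ↥S => (z : Ω)) ha
  simp only [LSe_coe] at h3
  have h4 := hinv ⟨(a : ↥S), Subgroup.mem_subgroupOf.mp a.2⟩
  rw [← h4]
  congr 1
  apply Subtype.ext
  exact h3

theorem LSC_comp (P' Q' : Subgroup ↥S) (φ : P' →* ↥S) (ψ : Q' →* ↥S) (χ : P' →* ↥S)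
    (hφ : LSC F P' φ) (hψ : LSC F Q' ψ)
    (h : ∀ x : P', ∃ hx : φ x ∈ Q', χ x = ψ ⟨φ x, hx⟩) : LSC F P' χ := by
  intro P χ₀ hP hχ₀
  have hPS : P ≤ S := fun x hx => ((hP x).mp hx).choose
  have hPP' : ∀ x : P, (⟨x.1, hPS x.2⟩ : ↥S) ∈ P' := fun x => ((hP x.1).mp x.2).choose_spec
  let toP' : P →* P' :=
    { toFun := fun x => ⟨⟨x.1, hPS x.2⟩, hPP' x⟩
      map_one' := rfl
      map_mul' := fun _ _ => rfl }
  let φ₀ : P →* Ω := (S.subtype.comp φ).comp toP'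
  have hφ₀ : φ₀ ∈ F.Hom P := by
    apply hφ P φ₀ hP
    intro x x' hxx'
    have : toP' x = x' := Subtype.ext (Subtype.ext hxx')
    simp only [φ₀, MonoidHom.coe_comp, Function.comp_apply, Subgroup.coe_subtype, this]
  let Q : Subgroup Ω := Q'.map S.subtype
  have hQ : ∀ y : Ω, y ∈ Q ↔ ∃ hy : y ∈ S, (⟨y, hy⟩ : ↥S) ∈ Q' := by
    intro y
    constructor
    · rintro ⟨z, hz, rfl⟩
      exact ⟨z.2, hz⟩
    · rintro ⟨hy, hz⟩
      exact ⟨⟨y, hy⟩, hz, rfl⟩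
  have hQS : Q ≤ S := fun x hx => ((hQ x).mp hx).choose
  have hQQ' : ∀ x : Q, (⟨x.1, hQS x.2⟩ : ↥S) ∈ Q' := fun x => ((hQ x.1).mp x.2).choose_spec
  let toQ' : Q →* Q' :=
    { toFun := fun x => ⟨⟨x.1, hQS x.2⟩, hQQ' x⟩
      map_one' := rfl
      map_mul' := fun _ _ => rfl }
  let ψ₀ : Q →* Ω := (S.subtype.comp ψ).comp toQ'
  have hψ₀ : ψ₀ ∈ F.Hom Q := by
    apply hψ Q ψ₀ hQ
    intro x x' hxx'
    have : toQ' x = x' := Subtype.ext (Subtype.ext hxx')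
    simp only [ψ₀, MonoidHom.coe_comp, Function.comp_apply, Subgroup.coe_subtype, this]
  have hmap : ∀ x : P, φ₀ x ∈ Q := by
    intro x
    obtain ⟨hx, -⟩ := h (toP' x)
    exact (hQ _).mpr ⟨(φ (toP' x)).2, hx⟩
  have h3 := F.comp_mem hφ₀ hψ₀ hmap
  have h4 : χ₀ = ψ₀.comp (φ₀.codRestrict Q hmap) := by
    ext x
    obtain ⟨hx, hx2⟩ := h (toP' x)
    rw [hχ₀ x (toP' x) rfl, hx2]
    simp only [ψ₀, MonoidHom.coe_comp, Function.comp_apply, Subgroup.coe_subtype]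
    congr 2
  rw [h4]
  exact h3

end

end Cfsg.Agent.Lib.Helper88.LS
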