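import Cfsg.Agent.Lib.Helper88.PazderskiA

/-!
Pazderski's theorem, part B: reduction of the general case.
* `case_two`: neither class consists of normal subgroups: pass to `G ⧸ N`, `N` a maximal normal subgroup,
  and use the simple case.
* `case_one`: one of the two maximal subgroups is normal: `G = P ⋊ Q` directly.
-/

set_option autoImplicit false
open Pointwise

namespace Cfsg.Agent.Lib.Helper88.Pazderski

section Quot

variable {G : Type*} [Group G]

theorem isCoatom_comap_of_surjective {H : Type*} [Group H] (φ : G →* H) (hφ : Function.Surjective φ)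
    {C : Subgroup H} (hC : IsCoatom C) : IsCoatom (C.comap φ) := by
  constructor
  · intro h
    apply hC.1
    rw [← Subgroup.map_comap_eq_self_of_surjective hφ C, h, Subgroup.map_top_of_surjective φ hφ]
  · intro K hK
    have hker : φ.ker ≤ K := le_trans (MonoidHom.ker_le_comap φ C) hK.le
    have h1 : C < K.map φ := by
      refine lt_of_le_of_ne ?_ ?_
      · rw [← Subgroup.map_comap_eq_self_of_surjective hφ C]
        exact Subgroup.map_mono hK.le
      · intro e
        have : K ≤ C.comap φ := by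
          rw [e]
          exact Subgroup.le_comap_map φ K
        exact absurd hK (not_lt_of_ge this)
    have h2 := hC.2 _ h1
    have h3 : K = (K.map φ).comap φ := by rw [Subgroup.comap_map_eq, sup_of_le_left hker]
    rw [h3, h2, Subgroup.comap_top]

theorem map_cj {H : Type*} [Group H] (φ : G →* H) (M : Subgroup G) (c : G) :
    (MulAut.conj c • M).map φ = MulAut.conj (φ c) • M.map φ := by
  ext y
  rw [Subgroup.mem_map, mem_cj_iff, Subgroup.mem_map]
  constructor
  · rintro ⟨x, hx, rfl⟩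
    rw [mem_cj_iff] at hx
    exact ⟨c⁻¹ * x * c, hx, by simp⟩
  · rintro ⟨x, hx, hxy⟩
    refine ⟨c * x * c⁻¹, ?_, ?_⟩
    · rw [mem_cj_iff]
      simpa [mul_assoc] using hx
    · simp [hxy, mul_assoc]

variable [Finite G]

/-- If neither class of maximal subgroups is normal, we get a contradiction. -/
theorem case_two (M₁ M₂ : Subgroup G) (h1 : IsCoatom M₁)
    (hall : ∀ M : Subgroup G, IsCoatom M →
      ∃ g : G, M = MulAut.conj g • M₁ ∨ M = MulAut.conj g • M₂)
    (hn1 : ¬ M₁.Normal) (hn2 : ¬ M₂.Normal) : False := by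
  classical
  -- a maximal normal subgroup
  have hbt : (⊥ : Subgroup G) ≠ ⊤ := by
    intro h
    apply h1.1
    rw [eq_top_iff, ← h]
    exact bot_le
  obtain ⟨N, ⟨hNn, hNt⟩, hNmax⟩ := Set.exists_max_image {N : Subgroup G | N.Normal ∧ N ≠ ⊤}
    (fun N => Nat.card N) (Set.toFinite _) ⟨⊥, inferInstance, hbt⟩
  haveI := hNn
  have hmax : ∀ K : Subgroup G, K.Normal → N ≤ K → K ≠ ⊤ → K = N := by
    intro K hK hle hKt
    exact (Subgroup.eq_of_le_of_card_ge hle (hNmax K ⟨hK, hKt⟩)).symm
  set φ := QuotientGroup.mk' N with hφdef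
  have hφ : Function.Surjective φ := QuotientGroup.mk'_surjective N
  -- the quotient is simple
  haveI : Nontrivial (G ⧸ N) := by
    obtain ⟨g, hg⟩ : ∃ g : G, g ∉ N := by
      by_contra hcon
      push Not at hcon
      exact hNt (eq_top_iff.mpr fun x _ => hcon x)
    exact ⟨⟨(g : G ⧸ N), 1, fun h => hg ((QuotientGroup.eq_one_iff g).mp h)⟩⟩
  haveI : IsSimpleGroup (G ⧸ N) := by
    refine IsSimpleGroup.mk ?_
    intro K hK
    by_cases hKt : K.comap φ = ⊤
    · right
      rw [← Subgroup.map_comap_eq_self_of_surjective hφ K, hKt, Subgroup.map_top_of_surjective φ hφ]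
    · left
      have h2 : K.comap φ = N := by
        refine hmax _ (hK.comap φ) ?_ hKt
        have := MonoidHom.ker_le_comap φ K
        rwa [hφdef, QuotientGroup.ker_mk'] at this
      rw [← Subgroup.map_comap_eq_self_of_surjective hφ K, h2, hφdef, QuotientGroup.map_mk'_self]
  -- coatoms of the quotient
  have hallH : ∀ C : Subgroup (G ⧸ N), IsCoatom C →
      ∃ h : G ⧸ N, C = MulAut.conj h • M₁.map φ ∨ C = MulAut.conj h • M₂.map φ := by
    intro C hC
    obtain ⟨g, hg | hg⟩ := hall _ (isCoatom_comap_of_surjective φ hφ hC)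
    · refine ⟨φ g, Or.inl ?_⟩
      rw [← map_cj, ← hg, Subgroup.map_comap_eq_self_of_surjective hφ]
    · refine ⟨φ g, Or.inr ?_⟩
      rw [← map_cj, ← hg, Subgroup.map_comap_eq_self_of_surjective hφ]
  obtain ⟨C₀, hC₀, -⟩ := exists_coatom_ge (H := G ⧸ N) (K := ⊥) bot_ne_top
  by_cases hc : ∀ a b : G ⧸ N, a * b = b * a
  · -- abelian quotient: a normal coatom of `G`
    have hCn : C₀.Normal := ⟨fun n hn g => by rw [hc g n, mul_inv_cancel_right]; exact hn⟩
    have hK : (C₀.comap φ).Normal := hCn.comap φ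
    obtain ⟨g, hg | hg⟩ := hall _ (isCoatom_comap_of_surjective φ hφ hC₀)
    · apply hn1
      have h3 : M₁ = MulAut.conj g⁻¹ • C₀.comap φ := by
        rw [hg, cj_cj, inv_mul_cancel, cj_one]
      rw [h3, Subgroup.Normal.conj_smul_eq_self]
      exact hK
    · apply hn2
      have h3 : M₂ = MulAut.conj g⁻¹ • C₀.comap φ := by
        rw [hg, cj_cj, inv_mul_cancel, cj_one]
      rw [h3, Subgroup.Normal.conj_smul_eq_self]
      exact hK
  · push Not at hc
    obtain ⟨a, b, hab⟩ := hc
    have hnc : ∃ a b : G ⧸ N, a * b ≠ b * a := ⟨a, b, hab⟩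
    obtain ⟨h, hh | hh⟩ := hallH C₀ hC₀
    · have hA : IsCoatom (M₁.map φ) := by
        have := isCoatom_cj hC₀ h⁻¹
        rwa [hh, cj_cj, inv_mul_cancel, cj_one] at this
      exact simple_false' hnc _ _ hA hallH
    · have hA : IsCoatom (M₂.map φ) := by
        have := isCoatom_cj hC₀ h⁻¹
        rwa [hh, cj_cj, inv_mul_cancel, cj_one] at this
      refine simple_false' hnc (M₂.map φ) (M₁.map φ) hA ?_
      intro C hC
      obtain ⟨g, hg⟩ := hallH C hC
      exact ⟨g, hg.symm⟩

end Quot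

section CaseOne

variable {G : Type*} [Group G] [Finite G]

/-- A normal maximal subgroup has prime index. -/
theorem index_prime_of_normal_coatom (M : Subgroup G) [M.Normal] (hM : IsCoatom M) :
    M.index.Prime := by
  have h1 : M.index ≠ 1 := fun h => hM.1 (Subgroup.index_eq_one.mp h)
  obtain ⟨q, hqp, hqd⟩ := Nat.exists_prime_and_dvd h1
  haveI : Fact q.Prime := ⟨hqp⟩
  have hdvd : q ∣ Nat.card (G ⧸ M) := by rwa [← Subgroup.index_eq_card]
  obtain ⟨x, hx⟩ := exists_prime_orderOf_dvd_card' q hdvd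
  obtain ⟨g, rfl⟩ := QuotientGroup.mk_surjective x
  have hg : g ∉ M := by
    intro h
    have h0 : (g : G ⧸ M) = 1 := (QuotientGroup.eq_one_iff g).mpr h
    rw [h0, orderOf_one] at hx
    exact hqp.one_lt.ne hx
  have h2 : M ⊔ Subgroup.zpowers g = ⊤ := by
    apply hM.2
    refine lt_of_le_of_ne le_sup_left ?_
    intro e
    apply hg
    rw [e]
    exact Subgroup.mem_sup_right (Subgroup.mem_zpowers g)
  have h3 : ∀ y : G ⧸ M, y ∈ Subgroup.zpowers (g : G ⧸ M) := by
    intro y
    obtain ⟨z, rfl⟩ := QuotientGroup.mk_surjective y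
    have hz : z ∈ M ⊔ Subgroup.zpowers g := by rw [h2]; trivial
    rw [Subgroup.mem_sup_of_normal_left] at hz
    obtain ⟨m, hm, w, hw, rfl⟩ := hz
    obtain ⟨k, rfl⟩ := Subgroup.mem_zpowers_iff.mp hw
    rw [Subgroup.mem_zpowers_iff]
    refine ⟨k, ?_⟩
    rw [QuotientGroup.mk_mul, (QuotientGroup.eq_one_iff m).mpr hm, one_mul, QuotientGroup.mk_zpow]
  have h4 : Nat.card (G ⧸ M) = orderOf (g : G ⧸ M) :=
    (orderOf_eq_card_of_forall_mem_zpowers h3).symm
  rw [Subgroup.index_eq_card, h4, hx]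
  exact hqp

/-- One of the two maximal subgroups is normal: `G = P ⋊ Q`. -/
theorem case_one (M₁ M₂ : Subgroup G) [M₁.Normal] (h1 : IsCoatom M₁) (h2 : IsCoatom M₂)
    (hne : M₂ ≠ M₁)
    (hall : ∀ M : Subgroup G, IsCoatom M → M = M₁ ∨ ∃ g : G, M = MulAut.conj g • M₂) :
    Group.IsSolvable G ∧ (Nat.card G).primeFactors.card = 2 := by
  have hq := index_prime_of_normal_coatom M₁ h1
  obtain ⟨q, hqdef⟩ : ∃ q, q = M₁.index := ⟨_, rfl⟩
  rw [← hqdef] at hq
  haveI : Fact q.Prime := ⟨hq⟩
  obtain ⟨Q⟩ : Nonempty (Sylow q G) := inferInstance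
  have hQM : ¬ (Q : Subgroup G) ≤ M₁ := by
    intro hle
    have := Subgroup.index_dvd_of_le hle
    rw [← hqdef] at this
    exact Q.not_dvd_index this
  -- `G` is not a `q`-group
  have hQtop : (Q : Subgroup G) ≠ ⊤ := by
    intro hQ
    have hpG : IsPGroup q G := by
      obtain ⟨n, hn⟩ := IsPGroup.iff_card.mp Q.isPGroup'
      apply IsPGroup.of_card (n := n)
      rw [← hn, hQ, Subgroup.card_top]
    haveI : Group.IsNilpotent G := hpG.isNilpotent
    have hnc : NormalizerCondition G := Group.normalizerCondition_of_isNilpotent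
    haveI hM2n : M₂.Normal := Subgroup.NormalizerCondition.normal_of_coatom M₂ hnc h2
    have hq2 := index_prime_of_normal_coatom M₂ h2
    have hq2' : M₂.index = q := by
      obtain ⟨n, hn⟩ := IsPGroup.iff_card.mp hpG
      have : M₂.index ∣ q ^ n := hn ▸ Subgroup.index_dvd_card M₂
      exact (Nat.prime_dvd_prime_iff_eq hq2 hq).mp (hq2.dvd_of_dvd_pow this)
    have hall2 : ∀ M : Subgroup G, IsCoatom M → M = M₁ ∨ M = M₂ := by
      intro M hM
      rcases hall M hM with h | ⟨g, h⟩
      · exact Or.inl h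
      · right
        rw [h, Subgroup.Normal.conj_smul_eq_self]
    obtain ⟨x, hx2, hx1⟩ : ∃ x, x ∈ M₂ ∧ x ∉ M₁ := by
      by_contra hcon
      push Not at hcon
      have hle : M₂ ≤ M₁ := fun x hx => hcon x hx
      rcases eq_or_lt_of_le hle with h | h
      · exact hne h
      · exact h1.1 (h2.2 _ h)
    obtain ⟨y, hy1, hy2⟩ : ∃ y, y ∈ M₁ ∧ y ∉ M₂ := by
      by_contra hcon
      push Not at hcon
      have hle : M₁ ≤ M₂ := fun x hx => hcon x hx
      rcases eq_or_lt_of_le hle with h | h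
      · exact hne h.symm
      · exact h2.1 (h1.2 _ h)
    have hg1 : x * y ∉ M₁ := fun h => hx1 (by simpa using M₁.mul_mem h (M₁.inv_mem hy1))
    have hg2 : x * y ∉ M₂ := fun h => hy2 (by simpa using M₂.mul_mem (M₂.inv_mem hx2) h)
    obtain ⟨g, hgdef⟩ : ∃ g, g = x * y := ⟨_, rfl⟩
    rw [← hgdef] at hg1 hg2
    have hz : Subgroup.zpowers g = ⊤ := by
      by_contra hzt
      obtain ⟨C, hC, hle⟩ := exists_coatom_ge hzt
      rcases hall2 C hC with rfl | rfl
      · exact hg1 (hle (Subgroup.mem_zpowers g))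
      · exact hg2 (hle (Subgroup.mem_zpowers g))
    have hgq1 : g ^ q ∈ M₁ := hqdef ▸ Subgroup.pow_index_mem M₁ g
    have hgq2 : g ^ q ∈ M₂ := hq2' ▸ Subgroup.pow_index_mem M₂ g
    have hord : orderOf (g : G ⧸ M₁) = q := by
      refine orderOf_eq_prime ?_ ?_
      · rw [← QuotientGroup.mk_pow]
        exact (QuotientGroup.eq_one_iff _).mpr hgq1
      · exact fun h => hg1 ((QuotientGroup.eq_one_iff g).mp h)
    have hle : M₁ ≤ M₂ := by
      intro z hz1
      have hzz : z ∈ Subgroup.zpowers g := by rw [hz]; trivial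
      obtain ⟨n, rfl⟩ := Subgroup.mem_zpowers_iff.mp hzz
      have h5 : ((g : G ⧸ M₁)) ^ n = 1 := by
        rw [← QuotientGroup.mk_zpow]
        exact (QuotientGroup.eq_one_iff _).mpr hz1
      have h6 : (q : ℤ) ∣ n := by
        rw [← hord]
        exact orderOf_dvd_iff_zpow_eq_one.mpr h5
      obtain ⟨m, rfl⟩ := h6
      rw [zpow_mul, zpow_natCast]
      exact M₂.zpow_mem hgq2 m
    rcases eq_or_lt_of_le hle with h | h
    · exact hne h.symm
    · exact h2.1 (h1.2 _ h)
  -- `Q` lies in a conjugate of `M₂`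
  obtain ⟨C, hC, hQC⟩ := exists_coatom_ge hQtop
  have hqM2 : ¬ q ∣ M₂.index := by
    rcases hall C hC with rfl | ⟨g, rfl⟩
    · exact absurd hQC hQM
    · intro hd
      have := Subgroup.index_dvd_of_le hQC
      rw [index_cj] at this
      exact Q.not_dvd_index (hd.trans this)
  have hM2i : M₂.index ≠ 1 := fun h => h2.1 (Subgroup.index_eq_one.mp h)
  obtain ⟨p, hp, hpd⟩ := Nat.exists_prime_and_dvd hM2i
  haveI : Fact p.Prime := ⟨hp⟩
  have hpq : p ≠ q := fun h => hqM2 (h ▸ hpd)
  obtain ⟨P⟩ : Nonempty (Sylow p G) := inferInstance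
  have hnotM2 : ∀ g : G, ¬ (P : Subgroup G) ≤ MulAut.conj g • M₂ := by
    intro g hle
    have := Subgroup.index_dvd_of_le hle
    rw [index_cj] at this
    exact P.not_dvd_index (hpd.trans this)
  have hPM1 : (P : Subgroup G) ≤ M₁ := by
    intro x hx
    rw [← QuotientGroup.eq_one_iff (N := M₁)]
    obtain ⟨k, hk⟩ := (IsPGroup.iff_orderOf.mp P.isPGroup') ⟨x, hx⟩
    have hk' : orderOf x = p ^ k := by
      rw [← hk]
      exact (Subgroup.orderOf_mk x hx).symm
    have h5 : orderOf (x : G ⧸ M₁) ∣ p ^ k := hk' ▸ orderOf_map_dvd (QuotientGroup.mk' M₁) x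
    have h6 : orderOf (x : G ⧸ M₁) ∣ q := by
      have := orderOf_dvd_natCard (x : G ⧸ M₁)
      rwa [← Subgroup.index_eq_card, ← hqdef] at this
    have hcop : Nat.Coprime (p ^ k) q := ((Nat.coprime_primes hp hq).mpr hpq).pow_left k
    have h7 : orderOf (x : G ⧸ M₁) = 1 := Nat.eq_one_of_dvd_coprimes hcop h5 h6
    exact orderOf_eq_one_iff.mp h7
  have hPn : (P : Subgroup G).Normal := by
    rw [← Subgroup.normalizer_eq_top_iff]
    by_contra hNt
    obtain ⟨C, hC, hle⟩ := exists_coatom_ge hNt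
    rcases hall C hC with rfl | ⟨g, rfl⟩
    · have := Sylow.normalizer_sup_eq_top' P hPM1
      apply h1.1
      rw [eq_top_iff, ← this]
      exact sup_le hle le_rfl
    · exact hnotM2 g (Subgroup.le_normalizer.trans hle)
  haveI := hPn
  have hPQ : (P : Subgroup G) ⊔ Q = ⊤ := by
    by_contra hne'
    obtain ⟨C, hC, hle⟩ := exists_coatom_ge hne'
    rcases hall C hC with rfl | ⟨g, rfl⟩
    · exact hQM (le_sup_right.trans hle)
    · exact hnotM2 g (le_sup_left.trans hle)
  have hGP : IsPGroup q (G ⧸ (P : Subgroup G)) := by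
    intro y
    obtain ⟨z, rfl⟩ := QuotientGroup.mk_surjective y
    have hz : z ∈ (P : Subgroup G) ⊔ Q := by rw [hPQ]; trivial
    rw [Subgroup.mem_sup_of_normal_left] at hz
    obtain ⟨u, hu, v, hv, rfl⟩ := hz
    obtain ⟨k, hk⟩ := Q.isPGroup' ⟨v, hv⟩
    refine ⟨k, ?_⟩
    have hv' : v ^ q ^ k = 1 := by
      have := congrArg Subtype.val hk
      simpa using this
    rw [QuotientGroup.mk_mul, (QuotientGroup.eq_one_iff u).mpr hu, one_mul, ← QuotientGroup.mk_pow,
      hv', QuotientGroup.mk_one]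
  obtain ⟨a, ha⟩ := IsPGroup.iff_card.mp P.isPGroup'
  obtain ⟨b, hb⟩ := IsPGroup.iff_card.mp hGP
  have hcard : Nat.card G = q ^ b * p ^ a := by
    rw [Subgroup.card_eq_card_quotient_mul_card_subgroup (P : Subgroup G), hb, ha]
  have ha0 : a ≠ 0 := by
    rintro rfl
    have hpG : p ∣ Nat.card G := hpd.trans (Subgroup.index_dvd_card M₂)
    apply P.ne_bot_of_dvd_card hpG
    rw [← Subgroup.card_eq_one]
    simpa using ha
  have hb0 : b ≠ 0 := by
    rintro rfl
    have hqG : q ∣ Nat.card G := hqdef ▸ Subgroup.index_dvd_card M₁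
    rw [hcard, pow_zero, one_mul] at hqG
    exact hpq ((Nat.prime_dvd_prime_iff_eq hq hp).mp (hq.dvd_of_dvd_pow hqG)).symm
  constructor
  · haveI : Group.IsNilpotent (P : Subgroup G) := P.isPGroup'.isNilpotent
    haveI : Group.IsNilpotent (G ⧸ (P : Subgroup G)) := hGP.isNilpotent
    refine Group.isSolvable_of_ker_le_range (P : Subgroup G).subtype
      (QuotientGroup.mk' (P : Subgroup G)) ?_
    rw [QuotientGroup.ker_mk', Subgroup.range_subtype]
  · rw [hcard, Nat.primeFactors_mul (pow_ne_zero _ hq.ne_zero) (pow_ne_zero _ hp.ne_zero),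
      Nat.primeFactors_prime_pow hb0 hq, Nat.primeFactors_prime_pow ha0 hp]
    rw [Finset.card_union_of_disjoint (by simpa using hpq.symm)]
    simp

end CaseOne

end Cfsg.Agent.Lib.Helper88.Pazderski
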