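import Mathlib

/-! # helper88: generic commutator-pairing lemmas for the REEM stages (project REEM = S2113, helper20) -/

set_option autoImplicit false

namespace Cfsg.Agent.Lib.Helper88.ReeM

variable {P : Type*} [Group P] {A : Type*} [CommGroup A]

theorem rho_one (W : Subgroup P) (ρ : P → A)
    (hmul : ∀ x ∈ W, ∀ y ∈ W, ρ (x * y) = ρ x * ρ y) : ρ 1 = 1 := by
  have := hmul 1 W.one_mem 1 W.one_mem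
  rw [one_mul] at this
  exact left_eq_mul.mp this

theorem comm_mul_left (W : Subgroup P) (ρ : P → A)
    (hmul : ∀ x ∈ W, ∀ y ∈ W, ρ (x * y) = ρ x * ρ y)
    (hconj : ∀ g : P, ∀ x ∈ W, ρ (g * x * g⁻¹) = ρ x)
    (hnorm : ∀ g : P, ∀ x ∈ W, g * x * g⁻¹ ∈ W)
    (x x' y : P) (h' : x' * y * x'⁻¹ * y⁻¹ ∈ W) (h : x * y * x⁻¹ * y⁻¹ ∈ W) :
    ρ (x * x' * y * (x * x')⁻¹ * y⁻¹) = ρ (x * y * x⁻¹ * y⁻¹) * ρ (x' * y * x'⁻¹ * y⁻¹) := by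
  have e : x * x' * y * (x * x')⁻¹ * y⁻¹
      = (x * (x' * y * x'⁻¹ * y⁻¹) * x⁻¹) * (x * y * x⁻¹ * y⁻¹) := by group
  rw [e, hmul _ (hnorm x _ h') _ h, hconj x _ h', mul_comm]

theorem comm_mul_right (W : Subgroup P) (ρ : P → A)
    (hmul : ∀ x ∈ W, ∀ y ∈ W, ρ (x * y) = ρ x * ρ y)
    (hconj : ∀ g : P, ∀ x ∈ W, ρ (g * x * g⁻¹) = ρ x)
    (hnorm : ∀ g : P, ∀ x ∈ W, g * x * g⁻¹ ∈ W)
    (x y y' : P) (h : x * y * x⁻¹ * y⁻¹ ∈ W) (h' : x * y' * x⁻¹ * y'⁻¹ ∈ W) :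
    ρ (x * (y * y') * x⁻¹ * (y * y')⁻¹) = ρ (x * y * x⁻¹ * y⁻¹) * ρ (x * y' * x⁻¹ * y'⁻¹) := by
  have e : x * (y * y') * x⁻¹ * (y * y')⁻¹
      = (x * y * x⁻¹ * y⁻¹) * (y * (x * y' * x⁻¹ * y'⁻¹) * y⁻¹) := by group
  rw [e, hmul _ h _ (hnorm y _ h'), hconj y _ h']

theorem comm_of_left_mem (W : Subgroup P) (ρ : P → A)
    (hmul : ∀ x ∈ W, ∀ y ∈ W, ρ (x * y) = ρ x * ρ y)
    (hconj : ∀ g : P, ∀ x ∈ W, ρ (g * x * g⁻¹) = ρ x)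
    (hnorm : ∀ g : P, ∀ x ∈ W, g * x * g⁻¹ ∈ W)
    (x : P) (hx : x ∈ W) (y : P) : ρ (x * y * x⁻¹ * y⁻¹) = 1 := by
  have e : x * y * x⁻¹ * y⁻¹ = x * (y * x⁻¹ * y⁻¹) := by group
  rw [e, hmul _ hx _ (hnorm y _ (W.inv_mem hx)), hconj y _ (W.inv_mem hx),
    ← hmul _ hx _ (W.inv_mem hx), mul_inv_cancel]
  exact rho_one W ρ hmul

theorem comm_of_right_mem (W : Subgroup P) (ρ : P → A)
    (hmul : ∀ x ∈ W, ∀ y ∈ W, ρ (x * y) = ρ x * ρ y)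
    (hconj : ∀ g : P, ∀ x ∈ W, ρ (g * x * g⁻¹) = ρ x)
    (hnorm : ∀ g : P, ∀ x ∈ W, g * x * g⁻¹ ∈ W)
    (x y : P) (hy : y ∈ W) : ρ (x * y * x⁻¹ * y⁻¹) = 1 := by
  rw [hmul _ (hnorm x _ hy) _ (W.inv_mem hy), hconj x _ hy, ← hmul _ hy _ (W.inv_mem hy),
    mul_inv_cancel]
  exact rho_one W ρ hmul

omit [CommGroup A] in
theorem comm_map (W : Subgroup P) (ρ : P → A) (φ : P →* P) (hφ : ∀ x ∈ W, ρ (φ x) = ρ x)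
    (x y : P) (h : x * y * x⁻¹ * y⁻¹ ∈ W) :
    ρ (φ x * φ y * (φ x)⁻¹ * (φ y)⁻¹) = ρ (x * y * x⁻¹ * y⁻¹) := by
  rw [← map_inv, ← map_inv, ← map_mul, ← map_mul, ← map_mul]
  exact hφ _ h

end Cfsg.Agent.Lib.Helper88.ReeM
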