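import Mathlib
import Cfsg.Agent.Lib.Helper20.ReeM.Defs
import Cfsg.Agent.Lib.Helper88.ReeMStageAux

/-! # REEM-[ST1] (helper88, for helper20's project REEM = S2113): the top layer `W₂ ≤ P` -/

set_option autoImplicit false

open Cfsg.Agent.Lib.Helper20.ReeM

namespace Cfsg.Agent.Lib.Helper88.ReeM

variable {F : Type*} [Field F] {n : ℕ} {P : Type*} [Group P] (S : Coord F n P)
  {A : Type*} [CommGroup A] (ρ₀ : P → A)

/-- REEM-[ST1] -/
theorem stage1 (hext : ExtStmt P A F) (hcp : CPStmt P A F) (h1 : S.a ≠ 1)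
    (p11 : PairStmt F A S.a 1 1)
    (χ₂ : P → A) (h : Layer S ρ₀ S.W₂ χ₂) :
    ∃ χ : P →* A, ∀ z ∈ S.K₀, χ z = ρ₀ z := by
  have hnorm : ∀ g : P, ∀ x ∈ S.W₂, g * x * g⁻¹ ∈ S.W₂ := fun g x hx => S.conj_mem_W₂ g hx
  have hsurj : ∀ b : F, ∃ x ∈ (⊤ : Subgroup P), S.τ x = b := by
    intro b
    obtain ⟨x, hx, -, -⟩ := S.surj b 0 0
    exact ⟨x, Subgroup.mem_top x, hx⟩
  -- (i) commutators are killed
  have hcomm : ∀ x ∈ (⊤ : Subgroup P), ∀ y ∈ (⊤ : Subgroup P), χ₂ (x * y * x⁻¹ * y⁻¹) = 1 := by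
    refine hcp ⊤ ⊤ S.W₂ S.W₂ (fun x y => χ₂ (x * y * x⁻¹ * y⁻¹)) S.τ S.τ ?_ ?_ hsurj hsurj ?_ ?_
      ?_ ?_ ?_ ?_ S.φ ?_ ?_ S.a S.a ?_ ?_ ?_ ?_
    · intro x _ x' _; exact S.τ_mul x x'
    · intro x _ x' _; exact S.τ_mul x x'
    · intro x _; exact S.mem_W₂.symm
    · intro x _; exact S.mem_W₂.symm
    · intro x _ x' _ y _
      exact comm_mul_left S.W₂ χ₂ h.mul h.inv_conj hnorm x x' y (S.comm_mem_W₂ x' y)
        (S.comm_mem_W₂ x y)
    · intro x _ y _ y' _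
      exact comm_mul_right S.W₂ χ₂ h.mul h.inv_conj hnorm x y y' (S.comm_mem_W₂ x y)
        (S.comm_mem_W₂ x y')
    · intro x hx y _
      exact comm_of_left_mem S.W₂ χ₂ h.mul h.inv_conj hnorm x hx y
    · intro x _ y hy
      exact comm_of_right_mem S.W₂ χ₂ h.mul h.inv_conj hnorm x y hy
    · intro x _; exact Subgroup.mem_top _
    · intro x _; exact Subgroup.mem_top _
    · intro x _; exact S.τ_φ x
    · intro x _; exact S.τ_φ x
    · intro x _ y _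
      exact comm_map S.W₂ χ₂ S.φ h.inv_φ x y (S.comm_mem_W₂ x y)
    · intro f hf hinv
      exact p11 f hf (by intro t u; rw [pow_one]; exact hinv t u)
  -- (ii) the extension
  obtain ⟨χ, hχmul, hχext, -⟩ := hext ⊤ S.W₂ le_top χ₂ h.mul S.τ
    (fun x _ y _ => S.τ_mul x y) hsurj (fun x _ => S.mem_W₂.symm) S.φ
    (fun x _ => Subgroup.mem_top _) S.a h1 (fun x _ => S.τ_φ x) h.inv_φ
    (fun e _ c hc => h.inv_conj e c hc) hcomm
  refine ⟨MonoidHom.mk' χ (fun x y => hχmul x (Subgroup.mem_top _) y (Subgroup.mem_top _)), ?_⟩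
  intro z hz
  show χ z = ρ₀ z
  rw [hχext z (S.W₃_le_W₂ (S.K₀_le_W₃ hz)), h.ext z hz]

end Cfsg.Agent.Lib.Helper88.ReeM
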