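import Mathlib
import Cfsg.Agent.Lib.Helper20.ReeM.Defs
import Cfsg.Agent.Lib.Helper88.ReeMStageAux

/-! # REEM-[ST2] (helper88, for helper20's project REEM = S2113): the middle layer `W₃ ≤ W₂` -/

set_option autoImplicit false

open Cfsg.Agent.Lib.Helper20.ReeM

namespace Cfsg.Agent.Lib.Helper88.ReeM

variable {F : Type*} [Field F] {n : ℕ} {P : Type*} [Group P] (S : Coord F n P)
  {A : Type*} [CommGroup A] (ρ₀ : P → A)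

/-- REEM-[ST2] -/
theorem stage2 (hn : n ≠ 0) (hext : ExtStmt P A F) (hcp : CPStmt P A F) (h2 : S.a ^ (1 + n) ≠ 1)
    (p22 : PairStmt F A S.a (1 + n) (1 + n)) (p12 : PairStmt F A S.a 1 (1 + n))
    (χ₃ : P → A) (h : Layer S ρ₀ S.W₃ χ₃) :
    ∃ χ : P → A, Layer S ρ₀ S.W₂ χ := by
  have hnorm : ∀ g : P, ∀ x ∈ S.W₃, g * x * g⁻¹ ∈ S.W₃ := fun g x hx => S.conj_mem_W₃ hn g hx
  have hsurjμ : ∀ b : F, ∃ x ∈ S.W₂, S.μ x = b := by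
    intro b
    obtain ⟨x, hx, hx', -⟩ := S.surj 0 b 0
    exact ⟨x, hx, hx'⟩
  have hsurjτ : ∀ b : F, ∃ x ∈ (⊤ : Subgroup P), S.τ x = b := by
    intro b
    obtain ⟨x, hx, -, -⟩ := S.surj b 0 0
    exact ⟨x, Subgroup.mem_top x, hx⟩
  have hμadd : ∀ x ∈ S.W₂, ∀ y ∈ S.W₂, S.μ (x * y) = S.μ x + S.μ y :=
    fun x hx y _ => S.μ_mul_of_left hx y
  have hker : ∀ x ∈ S.W₂, S.μ x = 0 ↔ x ∈ S.W₃ :=
    fun x hx => ⟨fun h0 => ⟨hx, h0⟩, fun h3 => h3.2⟩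
  have hcW : ∀ g : P, ∀ x ∈ S.W₂, g * x * g⁻¹ * x⁻¹ ∈ S.W₃ := fun g x hx => S.comm_mem_W₃ hn g hx
  -- (i) commutators inside `W₂` are killed
  have hcomm : ∀ x ∈ S.W₂, ∀ y ∈ S.W₂, χ₃ (x * y * x⁻¹ * y⁻¹) = 1 := by
    refine hcp S.W₂ S.W₂ S.W₃ S.W₃ (fun x y => χ₃ (x * y * x⁻¹ * y⁻¹)) S.μ S.μ hμadd hμadd
      hsurjμ hsurjμ hker hker ?_ ?_ ?_ ?_ S.φ ?_ ?_ (S.a ^ (1 + n)) (S.a ^ (1 + n)) ?_ ?_ ?_ p22
    · intro x _ x' _ y hy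
      exact comm_mul_left S.W₃ χ₃ h.mul h.inv_conj hnorm x x' y (hcW x' y hy) (hcW x y hy)
    · intro x _ y hy y' hy'
      exact comm_mul_right S.W₃ χ₃ h.mul h.inv_conj hnorm x y y' (hcW x y hy) (hcW x y' hy')
    · intro x hx y _
      exact comm_of_left_mem S.W₃ χ₃ h.mul h.inv_conj hnorm x hx y
    · intro x _ y hy
      exact comm_of_right_mem S.W₃ χ₃ h.mul h.inv_conj hnorm x y hy
    · intro x hx; exact S.φ_mem_W₂ hx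
    · intro x hx; exact S.φ_mem_W₂ hx
    · intro x _; exact S.μ_φ x
    · intro x _; exact S.μ_φ x
    · intro x _ y hy
      exact comm_map S.W₃ χ₃ S.φ h.inv_φ x y (hcW x y hy)
  -- (ii) the extension to `W₂`
  obtain ⟨χ, hχmul, hχext, hχφ⟩ := hext S.W₂ S.W₃ S.W₃_le_W₂ χ₃ h.mul S.μ hμadd hsurjμ hker S.φ
    (fun x hx => S.φ_mem_W₂ hx) (S.a ^ (1 + n)) h2 (fun x _ => S.μ_φ x) h.inv_φ
    (fun e _ c hc => h.inv_conj e c hc) hcomm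
  -- (iii) commutators `[P, W₂]` are killed
  have hcomm' : ∀ g ∈ (⊤ : Subgroup P), ∀ x ∈ S.W₂, χ₃ (g * x * g⁻¹ * x⁻¹) = 1 := by
    refine hcp ⊤ S.W₂ S.W₂ S.W₃ (fun g x => χ₃ (g * x * g⁻¹ * x⁻¹)) S.τ S.μ
      (fun x _ y _ => S.τ_mul x y) hμadd hsurjτ hsurjμ (fun x _ => S.mem_W₂.symm) hker
      ?_ ?_ ?_ ?_ S.φ ?_ ?_ S.a (S.a ^ (1 + n)) ?_ ?_ ?_ ?_
    · intro g _ g' _ x hx
      exact comm_mul_left S.W₃ χ₃ h.mul h.inv_conj hnorm g g' x (hcW g' x hx) (hcW g x hx)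
    · intro g _ x hx x' hx'
      exact comm_mul_right S.W₃ χ₃ h.mul h.inv_conj hnorm g x x' (hcW g x hx) (hcW g x' hx')
    · intro g hg x hx
      exact hcomm g hg x hx
    · intro g _ x hx
      exact comm_of_right_mem S.W₃ χ₃ h.mul h.inv_conj hnorm g x hx
    · intro x _; exact Subgroup.mem_top _
    · intro x hx; exact S.φ_mem_W₂ hx
    · intro x _; exact S.τ_φ x
    · intro x _; exact S.μ_φ x
    · intro g _ x hx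
      exact comm_map S.W₃ χ₃ S.φ h.inv_φ g x (hcW g x hx)
    · intro f hf hinv
      exact p12 f hf (by intro t u; rw [pow_one]; exact hinv t u)
  refine ⟨χ, ⟨hχmul, ?_, hχφ, ?_⟩⟩
  · intro z hz
    rw [hχext z (S.K₀_le_W₃ hz), h.ext z hz]
  · intro g x hx
    have hc : g * x * g⁻¹ * x⁻¹ ∈ S.W₃ := hcW g x hx
    have e : g * x * g⁻¹ = (g * x * g⁻¹ * x⁻¹) * x := by group
    rw [e, hχmul _ (S.W₃_le_W₂ hc) _ hx, hχext _ hc, hcomm' g (Subgroup.mem_top _) x hx, one_mul]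

end Cfsg.Agent.Lib.Helper88.ReeM
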