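import Mathlib

/-!
# Project SPMD (helper43), module [F-SQ] (helper88): sums of square-class invariant functions
-/

set_option autoImplicit false

namespace Cfsg.Agent.Lib.Helper43.SPMD

section Fld
variable {F : Type*} [Field F] [Fintype F]

open Finset in
/-- the square class `{a² s₀ | a ≠ 0}` has at least `(q-1)/2` elements -/
theorem half_le_card_sqClass [DecidableEq F] {q : ℕ} (hq : Fintype.card F = q) (s₀ : F)
    (hs₀ : s₀ ≠ 0) :
    (q - 1) / 2 ≤ ((univ.filter (fun a : F => a ≠ 0)).image (fun a => a ^ 2 * s₀)).card := by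
  have hU : (univ.filter (fun a : F => a ≠ 0)).card = q - 1 := by
    rw [filter_ne' univ (0 : F), card_erase_of_mem (mem_univ _), card_univ, hq]
  have h1 := card_le_mul_card_image (f := fun a : F => a ^ 2 * s₀)
    (univ.filter (fun a : F => a ≠ 0)) 2 (by
      intro b hb
      obtain ⟨a, -, rfl⟩ := mem_image.mp hb
      have hsub : (filter (fun x => x ^ 2 * s₀ = a ^ 2 * s₀) (univ.filter (fun a : F => a ≠ 0)))
          ⊆ {a, -a} := by
        intro x hx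
        have hx2 : x ^ 2 * s₀ = a ^ 2 * s₀ := (mem_filter.mp hx).2
        have hx3 : x ^ 2 = a ^ 2 := mul_right_cancel₀ hs₀ hx2
        rcases sq_eq_sq_iff_eq_or_eq_neg.mp hx3 with h | h
        · simp [h]
        · simp [h]
      exact (card_le_card hsub).trans card_le_two)
  rw [hU] at h1
  exact Nat.div_le_of_le_mul h1

open Finset in
/-- **[F-SQ]** a square-class invariant function: one class -/
theorem sum_ge_of_one_class {q : ℕ} (hq : Fintype.card F = q) (hodd : Odd q) (d : F → ℕ) (m : ℕ)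
    (hinv : ∀ a s : F, a ≠ 0 → d (a ^ 2 * s) = d s) (hm : ∀ s, s ≠ 0 → d s ≠ 0 → m ≤ d s)
    (s₀ : F) (hs₀ : s₀ ≠ 0) (hd : d s₀ ≠ 0) :
    (q - 1) / 2 * m + d 0 ≤ ∑ s : F, d s := by
  classical
  set T : Finset F := (univ.filter (fun a : F => a ≠ 0)).image (fun a => a ^ 2 * s₀) with hT
  have hTcard : (q - 1) / 2 ≤ T.card := half_le_card_sqClass hq s₀ hs₀
  have hT0 : (0 : F) ∉ T := by
    intro h0
    obtain ⟨a, ha, h1⟩ := mem_image.mp h0
    have ha0 : a ≠ 0 := (mem_filter.mp ha).2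
    exact mul_ne_zero (pow_ne_zero 2 ha0) hs₀ h1
  have hTm : ∀ s ∈ T, m ≤ d s := by
    intro s hs
    obtain ⟨a, ha, rfl⟩ := mem_image.mp hs
    have ha0 : a ≠ 0 := (mem_filter.mp ha).2
    have h1 : d (a ^ 2 * s₀) = d s₀ := hinv a s₀ ha0
    exact hm _ (mul_ne_zero (pow_ne_zero 2 ha0) hs₀) (by rw [h1]; exact hd)
  have h1 : T.card • m ≤ ∑ s ∈ T, d s := card_nsmul_le_sum T d m hTm
  have h2 : ∑ s ∈ insert (0 : F) T, d s ≤ ∑ s : F, d s :=
    sum_le_sum_of_subset (subset_univ _)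
  rw [sum_insert hT0] at h2
  have h3 : (q - 1) / 2 * m ≤ T.card * m := Nat.mul_le_mul_right m hTcard
  rw [smul_eq_mul] at h1
  omega

open Finset in
/-- **[F-SQ]** a square-class invariant function: both classes -/
theorem sum_ge_of_two_classes {q : ℕ} (hq : Fintype.card F = q) (hodd : Odd q) (d : F → ℕ) (m : ℕ)
    (hinv : ∀ a s : F, a ≠ 0 → d (a ^ 2 * s) = d s) (hm : ∀ s, s ≠ 0 → d s ≠ 0 → m ≤ d s)
    (s₀ s₁ : F) (hs₀ : s₀ ≠ 0) (hs₁ : s₁ ≠ 0) (hd₀ : d s₀ ≠ 0) (hd₁ : d s₁ ≠ 0)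
    (hns : ¬ IsSquare (s₁ / s₀)) :
    (q - 1) * m + d 0 ≤ ∑ s : F, d s := by
  classical
  set T₀ : Finset F := (univ.filter (fun a : F => a ≠ 0)).image (fun a => a ^ 2 * s₀) with hT₀
  set T₁ : Finset F := (univ.filter (fun a : F => a ≠ 0)).image (fun a => a ^ 2 * s₁) with hT₁
  have hc₀ : (q - 1) / 2 ≤ T₀.card := half_le_card_sqClass hq s₀ hs₀
  have hc₁ : (q - 1) / 2 ≤ T₁.card := half_le_card_sqClass hq s₁ hs₁
  have h00 : (0 : F) ∉ T₀ := by
    intro h0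
    obtain ⟨a, ha, h1⟩ := mem_image.mp h0
    exact mul_ne_zero (pow_ne_zero 2 (mem_filter.mp ha).2) hs₀ h1
  have h01 : (0 : F) ∉ T₁ := by
    intro h0
    obtain ⟨a, ha, h1⟩ := mem_image.mp h0
    exact mul_ne_zero (pow_ne_zero 2 (mem_filter.mp ha).2) hs₁ h1
  have hdisj : Disjoint T₀ T₁ := by
    rw [Finset.disjoint_left]
    intro s hs0 hs1
    obtain ⟨a, ha, rfl⟩ := mem_image.mp hs0
    obtain ⟨b, hb, hab⟩ := mem_image.mp hs1
    have ha0 : a ≠ 0 := (mem_filter.mp ha).2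
    have hb0 : b ≠ 0 := (mem_filter.mp hb).2
    apply hns
    refine ⟨a / b, ?_⟩
    field_simp
    linear_combination hab
  have hm₀ : ∀ s ∈ T₀, m ≤ d s := by
    intro s hs
    obtain ⟨a, ha, rfl⟩ := mem_image.mp hs
    have ha0 : a ≠ 0 := (mem_filter.mp ha).2
    have h1 : d (a ^ 2 * s₀) = d s₀ := hinv a s₀ ha0
    exact hm _ (mul_ne_zero (pow_ne_zero 2 ha0) hs₀) (by rw [h1]; exact hd₀)
  have hm₁ : ∀ s ∈ T₁, m ≤ d s := by
    intro s hs
    obtain ⟨a, ha, rfl⟩ := mem_image.mp hs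
    have ha0 : a ≠ 0 := (mem_filter.mp ha).2
    have h1 : d (a ^ 2 * s₁) = d s₁ := hinv a s₁ ha0
    exact hm _ (mul_ne_zero (pow_ne_zero 2 ha0) hs₁) (by rw [h1]; exact hd₁)
  have e₀ : T₀.card • m ≤ ∑ s ∈ T₀, d s := card_nsmul_le_sum T₀ d m hm₀
  have e₁ : T₁.card • m ≤ ∑ s ∈ T₁, d s := card_nsmul_le_sum T₁ d m hm₁
  have h0U : (0 : F) ∉ T₀ ∪ T₁ := by
    rw [mem_union]; rintro (h | h)
    · exact h00 h
    · exact h01 h
  have h2 : ∑ s ∈ insert (0 : F) (T₀ ∪ T₁), d s ≤ ∑ s : F, d s :=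
    sum_le_sum_of_subset (subset_univ _)
  rw [sum_insert h0U, sum_union hdisj] at h2
  rw [smul_eq_mul] at e₀ e₁
  have h3 : (q - 1) / 2 * m ≤ T₀.card * m := Nat.mul_le_mul_right m hc₀
  have h4 : (q - 1) / 2 * m ≤ T₁.card * m := Nat.mul_le_mul_right m hc₁
  have h5 : (q - 1) * m = (q - 1) / 2 * m + (q - 1) / 2 * m := by
    rcases hodd with ⟨k, hk⟩
    have : q - 1 = 2 * k := by omega
    rw [this, Nat.mul_div_cancel_left k (by norm_num : 0 < 2)]
    ring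
  omega

end Fld

end Cfsg.Agent.Lib.Helper43.SPMD
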