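import Mathlib
import Cfsg.Agent.Lib.Helper43.SPMD.Defs

/-!
# Project SPMD (helper43), module [P-EMB] (helper88): the embedding `Sp_{2m} → Sp_{2m+2}` fixing a hyperbolic pair
-/

set_option autoImplicit false

namespace Cfsg.Agent.Lib.Helper43.SPMD

open Matrix Module Cfsg.Agent.Lib.Helper13 Cfsg.Agent.Lib.Helper43.SUMD

section P
variable {n : ℕ} {F : Type*} [Field F]

/-- **[P-EMB]** the embedding `Sp_{2m} → Sp_{2m+2}` fixing a hyperbolic pair -/
theorem exists_emb {m : ℕ} {v w : Vec (m + 1) F} (h : Cfsg.sympForm (m + 1) F v w = 1) :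
    ∃ (φ : SpG m F →* SpG (m + 1) F) (ι : Vec m F →ₗ[F] Vec (m + 1) F), Function.Injective ι ∧
      (∀ g, sm (φ g) *ᵥ v = v) ∧
      (∀ z, Cfsg.sympForm (m + 1) F (ι z) v = 0 ∧ Cfsg.sympForm (m + 1) F (ι z) w = 0) ∧
      (∀ z c, φ (tvElt z c) = tvElt (ι z) c) := by
  classical
  have hwv : Cfsg.sympForm (m + 1) F w v = -1 := by rw [sympForm_swap, h]
  -- the hyperbolic plane
  have hli : LinearIndependent F ![v, w] := by
    rw [LinearIndependent.pair_iff]
    intro s t hst
    have h1 := congrArg (fun x => Cfsg.sympForm (m + 1) F x w) hst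
    have h2 := congrArg (fun x => Cfsg.sympForm (m + 1) F x v) hst
    simp only [sympForm_add_left, sympForm_smul_left, sympForm_self, sympForm_zero_left, h, hwv,
      mul_one, mul_zero, add_zero, zero_add, mul_neg, neg_eq_zero] at h1 h2
    exact ⟨h1, h2⟩
  have hrange : Set.range ![v, w] = {v, w} := by
    ext x
    simp only [Matrix.range_cons, Matrix.range_empty, Set.union_empty, Set.union_singleton,
      Set.mem_insert_iff, Set.mem_singleton_iff]
    tauto
  have hWk : Module.finrank F (Submodule.span F ({v, w} : Set (Vec (m + 1) F))) = 2 * 1 := by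
    rw [← hrange, finrank_span_eq_card hli]
    simp
  have hW : ∀ u ∈ Submodule.span F ({v, w} : Set (Vec (m + 1) F)),
      (∀ x ∈ Submodule.span F ({v, w} : Set (Vec (m + 1) F)), Cfsg.sympForm (m + 1) F u x = 0) →
      u = 0 := by
    intro u hu hux
    obtain ⟨a, b, rfl⟩ := Submodule.mem_span_pair.mp hu
    have h1 := hux v (Submodule.subset_span (by simp))
    have h2 := hux w (Submodule.subset_span (by simp))
    simp only [sympForm_add_left, sympForm_smul_left, sympForm_self, h, hwv,
      mul_one, mul_zero, add_zero, zero_add, mul_neg, neg_eq_zero] at h1 h2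
    rw [h1, h2, zero_smul, zero_smul, add_zero]
  obtain ⟨θ, hθ, hθW⟩ := exists_symp_splitting (F := F) (m + 1) 1 m (by omega)
    (Submodule.span F ({v, w} : Set (Vec (m + 1) F))) hWk hW
  have hv2 : (θ.symm v).2 = 0 := (hθW v).mp (Submodule.subset_span (by simp))
  have hw2 : (θ.symm w).2 = 0 := (hθW w).mp (Submodule.subset_span (by simp))
  refine ⟨(splitHom θ hθ).comp (MonoidHom.inr _ _),
    θ.toLinearMap.comp (LinearMap.inr F (Vec 1 F) (Vec m F)), ?_, ?_, ?_, ?_⟩
  · intro a b hab
    have h1 : θ (0, a) = θ (0, b) := hab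
    have h2 := θ.injective h1
    exact (Prod.ext_iff.mp h2).2
  · intro g
    show splitMat θ (1 : SpG 1 F).1 g.1 *ᵥ v = v
    rw [splitMat_mulVec, hv2, Matrix.mulVec_zero]
    have h1 : ((1 : SpG 1 F).1 *ᵥ (θ.symm v).1, (0 : Vec m F)) = θ.symm v := by
      apply Prod.ext
      · show (1 : Matrix _ _ F) *ᵥ (θ.symm v).1 = (θ.symm v).1
        rw [Matrix.one_mulVec]
      · exact hv2.symm
    rw [h1, LinearEquiv.apply_symm_apply]
  · intro z
    have hz : (θ.toLinearMap.comp (LinearMap.inr F (Vec 1 F) (Vec m F))) z = θ (0, z) := rfl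
    rw [hz]
    constructor
    · have h1 := hθ (0, z) (θ.symm v)
      rw [LinearEquiv.apply_symm_apply] at h1
      rw [h1, hv2]
      simp only [sympForm_zero_left, sympForm_zero_right, add_zero]
    · have h1 := hθ (0, z) (θ.symm w)
      rw [LinearEquiv.apply_symm_apply] at h1
      rw [h1, hw2]
      simp only [sympForm_zero_left, sympForm_zero_right, add_zero]
  · intro z c
    apply sm_injective
    rw [Matrix.ext_iff_mulVec]
    intro x
    have hz : (θ.toLinearMap.comp (LinearMap.inr F (Vec 1 F) (Vec m F))) z = θ (0, z) := rfl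
    rw [hz, sm_tvElt_mulVec]
    show splitMat θ (1 : SpG 1 F).1 (tvElt z c).1 *ᵥ x = _
    rw [splitMat_mulVec]
    have h1 : (tvElt z c).1 *ᵥ (θ.symm x).2 =
        (θ.symm x).2 + (c * Cfsg.sympForm m F (θ.symm x).2 z) • z := sm_tvElt_mulVec z c _
    have h2 : (1 : SpG 1 F).1 *ᵥ (θ.symm x).1 = (θ.symm x).1 := Matrix.one_mulVec _
    rw [h1, h2]
    have h3 : Cfsg.sympForm (m + 1) F x (θ (0, z)) = Cfsg.sympForm m F (θ.symm x).2 z := by
      have h4 := hθ (θ.symm x) (0, z)
      rw [LinearEquiv.apply_symm_apply] at h4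
      rw [h4]
      simp only [sympForm_zero_right, zero_add]
    rw [h3]
    have h5 : ((θ.symm x).1, (θ.symm x).2 + (c * Cfsg.sympForm m F (θ.symm x).2 z) • z) =
        θ.symm x + (c * Cfsg.sympForm m F (θ.symm x).2 z) • ((0 : Vec 1 F), z) := by
      apply Prod.ext
      · simp
      · simp
    rw [h5, map_add, map_smul, LinearEquiv.apply_symm_apply]

end P

end Cfsg.Agent.Lib.Helper43.SPMD
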