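import Mathlib
import Cfsg.Agent.Lib.Helper43.SPMD.Defs

/-!
# Project SPMD (helper43), module [W-INT] (helper88), hypothesis form: invertible intertwiners for all of `Sp`
from invertible intertwiners for the transvections (`[W-TV]` enters as the hypothesis `htv`).
-/

set_option autoImplicit false

namespace Cfsg.Agent.Lib.Helper88.Spmd

open Matrix Module Cfsg.Agent.Lib.Helper13 Cfsg.Agent.Lib.Helper43.SUMD Cfsg.Agent.Lib.Helper43.SPMD

section W
variable {n : ℕ} {F : Type*} [Field F] [Fintype F]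

theorem intertwines_one (ψ : AddChar F ℂ) : Intertwines ψ (1 : SpG n F) (1 : Module.End ℂ (Fn n F)) := by
  intro v
  rw [sm_one, one_mulVec, one_mul, mul_one]

theorem intertwines_mul (ψ : AddChar F ℂ) (g h : SpG n F) (M N : Module.End ℂ (Fn n F))
    (hM : Intertwines ψ g M) (hN : Intertwines ψ h N) : Intertwines ψ (g * h) (M * N) := by
  intro v
  rw [mul_assoc, hN v, ← mul_assoc, hM (sm h *ᵥ v), mul_assoc, sm_mul, Matrix.mulVec_mulVec]

theorem intertwines_inv (ψ : AddChar F ℂ) (g : SpG n F) (M : (Module.End ℂ (Fn n F))ˣ)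
    (hM : Intertwines ψ g (M : Module.End ℂ (Fn n F))) :
    Intertwines ψ g⁻¹ ((M⁻¹ : (Module.End ℂ (Fn n F))ˣ) : Module.End ℂ (Fn n F)) := by
  intro v
  have h1 := hM (sm g⁻¹ *ᵥ v)
  rw [Matrix.mulVec_mulVec, sm_mul_inv, one_mulVec] at h1
  -- h1 : M * W(g⁻¹ v) = W(v) * M
  calc ((M⁻¹ : (Module.End ℂ (Fn n F))ˣ) : Module.End ℂ (Fn n F)) * weyl ψ v
      = ((M⁻¹ : (Module.End ℂ (Fn n F))ˣ) : Module.End ℂ (Fn n F)) * (weyl ψ v * (M : Module.End ℂ (Fn n F))) *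
          ((M⁻¹ : (Module.End ℂ (Fn n F))ˣ) : Module.End ℂ (Fn n F)) := by
        rw [mul_assoc, mul_assoc, Units.mul_inv, mul_one]
    _ = ((M⁻¹ : (Module.End ℂ (Fn n F))ˣ) : Module.End ℂ (Fn n F)) *
          ((M : Module.End ℂ (Fn n F)) * weyl ψ (sm g⁻¹ *ᵥ v)) *
          ((M⁻¹ : (Module.End ℂ (Fn n F))ˣ) : Module.End ℂ (Fn n F)) := by rw [h1]
    _ = weyl ψ (sm g⁻¹ *ᵥ v) * ((M⁻¹ : (Module.End ℂ (Fn n F))ˣ) : Module.End ℂ (Fn n F)) := by
        rw [← mul_assoc, Units.inv_mul, one_mul]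

/-- **[W-INT]**, hypothesis form -/
theorem exists_intertwiner_of (ψ : AddChar F ℂ)
    (htv : ∀ (u : Vec n F) (c : F),
      ∃ M : (Module.End ℂ (Fn n F))ˣ, Intertwines ψ (tvElt u c) (M : Module.End ℂ (Fn n F)))
    (g : SpG n F) :
    ∃ M : (Module.End ℂ (Fn n F))ˣ, Intertwines ψ g (M : Module.End ℂ (Fn n F)) := by
  have hg : g ∈ tvGroup n F := by rw [tvGroup_eq_top]; exact Subgroup.mem_top g
  unfold tvGroup at hg
  induction hg using Subgroup.closure_induction with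
  | mem x hx =>
    obtain ⟨w, c, hwc⟩ := hx
    have : x = tvElt w c := Subtype.ext hwc
    rw [this]
    exact htv w c
  | one => exact ⟨1, by simpa using intertwines_one ψ⟩
  | mul x y _ _ hx hy =>
    obtain ⟨M, hM⟩ := hx
    obtain ⟨N, hN⟩ := hy
    exact ⟨M * N, by simpa using intertwines_mul ψ x y _ _ hM hN⟩
  | inv x _ hx =>
    obtain ⟨M, hM⟩ := hx
    exact ⟨M⁻¹, intertwines_inv ψ x M hM⟩

end W

end Cfsg.Agent.Lib.Helper88.Spmd
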