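import Mathlib
import Cfsg.Agent.Lib.Helper43.SPMD.Defs
import Cfsg.Agent.Lib.Helper31.SpmdWTv
import Cfsg.Agent.Lib.Helper88.SpmdWIntOf

/-!
# Project SPMD (helper43), module [W-INT] (helper88): an invertible intertwiner for each element of `Sp`
(exact sheet statement; `[W-TV]` from helper31).
-/

set_option autoImplicit false

namespace Cfsg.Agent.Lib.Helper43.SPMD

open Matrix Module Cfsg.Agent.Lib.Helper13 Cfsg.Agent.Lib.Helper43.SUMD

section W
variable {n : ℕ} {F : Type*} [Field F] [Fintype F]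

/-- **[W-INT]** an invertible intertwiner for each element of `Sp` -/
theorem exists_intertwiner (h2 : (2 : F) ≠ 0) (ψ : AddChar F ℂ) (hψ : ψ ≠ 1) (g : SpG n F) :
    ∃ M : (Module.End ℂ (Fn n F))ˣ, Intertwines ψ g (M : Module.End ℂ (Fn n F)) :=
  Cfsg.Agent.Lib.Helper88.Spmd.exists_intertwiner_of ψ
    (fun u c => exists_intertwiner_tv h2 ψ hψ u c) g

end W

end Cfsg.Agent.Lib.Helper43.SPMD
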