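import Mathlib
import Cfsg.Agent.Lib.Helper85.SqfDefs
import Cfsg.Agent.Lib.Helper58.SQF.Basic

/-!
Project SQF (S4130), hedge of module [IDX-H] (helper88): LEMMA H, together with self-contained copies of
[PIDX] and [IDX-C] (same statements as in helper85's skeleton, in the namespace `Cfsg.Agent.Lib.Helper88.Sqf`).
-/

set_option autoImplicit false

namespace Cfsg.Agent.Lib.Helper88.Sqf

open Cfsg Subgroup
open Cfsg.Agent.Lib.Helper85.Sqf (SqF)

variable {G : Type*} [Group G]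

/-- the relative index of a centraliser in a normal `p`-subgroup divides `p` -/
theorem relIndex_centralizer_dvd_prime [Finite G] (h : SqF G) {p : ℕ} [Fact p.Prime]
    (N : Subgroup G) [N.Normal] (hN : IsPGroup p N) (x : G) :
    (centralizer ({x} : Set G)).relIndex N ∣ p :=
  Cfsg.Agent.Lib.Helper58.SQF.SQ.relIndex_dvd_prime (G := G) (fun g => h g) p N hN x

/-- [PIDX] -/
theorem card_dvd_mul_card_inf [Finite G] (h : SqF G) {p : ℕ} [Fact p.Prime] (N : Subgroup G)
    [N.Normal] (hN : IsPGroup p N) (x : G) :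
    Nat.card N ∣ p * Nat.card ↥(N ⊓ Subgroup.centralizer ({x} : Set G)) := by
  have h1 := Cfsg.Agent.Lib.Helper58.SQF.card_mul_relIndex'
    (inf_le_left : N ⊓ centralizer ({x} : Set G) ≤ N)
  rw [inf_relIndex_left] at h1
  rw [← h1, mul_comm p]
  exact Nat.mul_dvd_mul_left _ (relIndex_centralizer_dvd_prime h N hN x)

/-- the relative index of the centraliser of a non-centralising element is exactly `p` -/
theorem relIndex_centralizer_eq_prime [Finite G] (h : SqF G) {p : ℕ} [Fact p.Prime]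
    (N : Subgroup G) [N.Normal] (hN : IsPGroup p N) (x : G)
    (hx : ¬ ∀ v ∈ N, x * v = v * x) :
    (centralizer ({x} : Set G)).relIndex N = p := by
  have hp : p.Prime := Fact.out
  rcases (Nat.dvd_prime hp).mp (relIndex_centralizer_dvd_prime h N hN x) with h1 | h1
  · exfalso
    apply hx
    intro v hv
    have := relIndex_eq_one.mp h1 hv
    exact (mem_centralizer_singleton_iff.mp this).symm
  · exact h1

/-- [IDX-C] -/
theorem centralizes_of_inner_coprime [Finite G] {p : ℕ} [Fact p.Prime] (P M : Subgroup G)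
    (hP : IsPGroup p P) (hMP : M ≤ P) (hMn : ∀ c ∈ P, ∀ m ∈ M, c * m * c⁻¹ ∈ M)
    (y c : G) (hc : c ∈ P) (hy : ∀ m ∈ M, y * m * y⁻¹ = c * m * c⁻¹)
    (n : ℕ) (hn : n.Coprime p) (hyn : ∀ m ∈ M, y ^ n * m = m * y ^ n) :
    ∀ m ∈ M, y * m = m * y := by
  have hpow : ∀ j : ℕ, ∀ m ∈ M, y ^ j * m * (y ^ j)⁻¹ = c ^ j * m * (c ^ j)⁻¹ := by
    intro j
    induction j with
    | zero => intro m _; simp
    | succ j ih =>
      intro m hm
      have h1 : c * m * c⁻¹ ∈ M := hMn c hc m hm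
      calc y ^ (j + 1) * m * (y ^ (j + 1))⁻¹ = y ^ j * (y * m * y⁻¹) * (y ^ j)⁻¹ := by
            rw [pow_succ]; group
        _ = y ^ j * (c * m * c⁻¹) * (y ^ j)⁻¹ := by rw [hy m hm]
        _ = c ^ j * (c * m * c⁻¹) * (c ^ j)⁻¹ := ih _ h1
        _ = c ^ (j + 1) * m * (c ^ (j + 1))⁻¹ := by rw [pow_succ]; group
  have hcn : c ^ n ∈ centralizer (M : Set G) := by
    rw [mem_centralizer_iff]
    intro m hm
    have h1 := hpow n m hm
    have h2 : y ^ n * m * (y ^ n)⁻¹ = m := by rw [hyn m hm, mul_inv_cancel_right]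
    rw [h2] at h1
    have h3 := mul_inv_eq_iff_eq_mul.mp h1.symm
    exact h3.symm
  obtain ⟨k, hk⟩ := hP ⟨c, hc⟩
  have hck : c ^ p ^ k = 1 := by
    have := congrArg Subtype.val hk
    simpa using this
  have hcop : n.Coprime (orderOf c) :=
    (Nat.Coprime.pow_right k hn).coprime_dvd_right (orderOf_dvd_of_pow_eq_one hck)
  obtain ⟨e, he⟩ := exists_pow_eq_self_of_coprime hcop
  have hcc : c ∈ centralizer (M : Set G) := by
    rw [← he]; exact pow_mem hcn e
  intro m hm
  have h1 : m * c = c * m := (mem_centralizer_iff.mp hcc) m hm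
  have h2 : y * m * y⁻¹ = m := by rw [hy m hm, ← h1, mul_inv_cancel_right]
  exact mul_inv_eq_iff_eq_mul.mp h2

/-- the centraliser in `N` of a non-centralising element is normalised by `N` -/
theorem conj_mem_inf_centralizer_of_mem [Finite G] (h : SqF G) {p : ℕ} [Fact p.Prime]
    (N : Subgroup G) [N.Normal] (hN : IsPGroup p N) (x : G)
    (hx : ¬ ∀ v ∈ N, x * v = v * x) :
    ∀ c ∈ N, ∀ m ∈ N ⊓ centralizer ({x} : Set G), c * m * c⁻¹ ∈ N ⊓ centralizer ({x} : Set G) := by
  have hp : p.Prime := Fact.out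
  have hr := relIndex_centralizer_eq_prime h N hN x hx
  have hidx : ((N ⊓ centralizer ({x} : Set G)).subgroupOf N).index = p := by
    have : (N ⊓ centralizer ({x} : Set G)).relIndex N = p := by rw [inf_relIndex_left]; exact hr
    exact this
  obtain ⟨a, ha⟩ := IsPGroup.iff_card.mp hN
  have ha0 : a ≠ 0 := by
    rintro rfl
    have h1 : (centralizer ({x} : Set G)).relIndex N ∣ Nat.card N := relIndex_dvd_card _ _
    rw [hr, ha, pow_zero] at h1
    exact hp.one_lt.ne' (Nat.dvd_one.mp h1)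
  have hmf : (Nat.card N).minFac = p := by
    rw [ha, Nat.pow_minFac ha0]; exact hp.minFac_eq
  have hnorm : ((N ⊓ centralizer ({x} : Set G)).subgroupOf N).Normal :=
    normal_of_index_eq_minFac_card (by rw [hidx, hmf])
  intro c hc m hm
  have h1 : (⟨m, hm.1⟩ : N) ∈ (N ⊓ centralizer ({x} : Set G)).subgroupOf N := by
    rw [mem_subgroupOf]; exact hm
  have h2 := hnorm.conj_mem _ h1 ⟨c, hc⟩
  rw [mem_subgroupOf] at h2
  simpa using h2

/-- step (a) of LEMMA H: `x'` normalises `C_P(x)` -/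
theorem conj_mem_inf_centralizer_of_inner_comm [Finite G] (h : SqF G) {p : ℕ} [Fact p.Prime]
    (P : Subgroup G) [P.Normal] (hP : IsPGroup p P) (x x' : G)
    (hx : ¬ ∀ v ∈ P, x * v = v * x)
    (n : ℕ) (hn : n.Coprime p)
    (hxn : ∀ v ∈ P, x ^ n * v = v * x ^ n)
    (c : G) (hc : c ∈ P)
    (hcomm : ∀ v ∈ P, (x' * x * x'⁻¹ * x⁻¹) * v * (x' * x * x'⁻¹ * x⁻¹)⁻¹ = c * v * c⁻¹) :
    ∀ m ∈ P ⊓ centralizer ({x} : Set G), x' * m * x'⁻¹ ∈ P ⊓ centralizer ({x} : Set G) := by
  have hMn := conj_mem_inf_centralizer_of_mem h P hP x hx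
  have hy1 : ∀ m ∈ P ⊓ centralizer ({x} : Set G),
      (x' * x * x'⁻¹) * m * (x' * x * x'⁻¹)⁻¹ = c * m * c⁻¹ := by
    intro m hm
    have hxm : m * x = x * m := mem_centralizer_singleton_iff.mp hm.2
    have e : (x' * x * x'⁻¹) * m * (x' * x * x'⁻¹)⁻¹ =
        (x' * x * x'⁻¹ * x⁻¹) * (x * m * x⁻¹) * (x' * x * x'⁻¹ * x⁻¹)⁻¹ := by group
    have e2 : x * m * x⁻¹ = m := by rw [← hxm, mul_inv_cancel_right]
    rw [e, e2]; exact hcomm m hm.1
  have hconjP : ∀ m ∈ P, x'⁻¹ * m * x' ∈ P := by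
    intro m hm
    have := (inferInstance : P.Normal).conj_mem m hm x'⁻¹
    simpa using this
  have hy2 : ∀ m ∈ P ⊓ centralizer ({x} : Set G),
      (x' * x * x'⁻¹) ^ n * m = m * (x' * x * x'⁻¹) ^ n := by
    intro m hm
    rw [conj_pow]
    have h1 := hxn _ (hconjP m hm.1)
    calc x' * x ^ n * x'⁻¹ * m = x' * (x ^ n * (x'⁻¹ * m * x')) * x'⁻¹ := by group
      _ = x' * ((x'⁻¹ * m * x') * x ^ n) * x'⁻¹ := by rw [h1]
      _ = m * (x' * x ^ n * x'⁻¹) := by group
  have hcent := centralizes_of_inner_coprime P (P ⊓ centralizer ({x} : Set G)) hP inf_le_left hMn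
    (x' * x * x'⁻¹) c hc hy1 n hn hy2
  have hinv : ∀ m ∈ P ⊓ centralizer ({x} : Set G),
      x'⁻¹ * m * x' ∈ P ⊓ centralizer ({x} : Set G) := by
    intro m hm
    refine Subgroup.mem_inf.mpr ⟨hconjP m hm.1, ?_⟩
    rw [mem_centralizer_singleton_iff]
    have h1 := hcent m hm
    calc x'⁻¹ * m * x' * x = x'⁻¹ * (m * (x' * x * x'⁻¹)) * x' := by group
      _ = x'⁻¹ * ((x' * x * x'⁻¹) * m) * x' := by rw [h1]
      _ = x * (x'⁻¹ * m * x') := by group
  intro m hm
  let f : ↥(P ⊓ centralizer ({x} : Set G)) → ↥(P ⊓ centralizer ({x} : Set G)) :=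
    fun m => ⟨x'⁻¹ * m * x', hinv m m.2⟩
  have hf : Function.Injective f := by
    intro a b hab
    have h1 : x'⁻¹ * (a : G) * x' = x'⁻¹ * (b : G) * x' := congrArg Subtype.val hab
    exact Subtype.ext (by simpa using h1)
  obtain ⟨m0, hm0⟩ := (Finite.injective_iff_surjective.mp hf) ⟨m, hm⟩
  have h1 : x'⁻¹ * (m0 : G) * x' = m := congrArg Subtype.val hm0
  have h2 : x' * m * x'⁻¹ = m0 := by rw [← h1]; group
  rw [h2]; exact m0.2

/-- [IDX-H] LEMMA H -/
theorem inf_centralizer_eq_of_inner_comm [Finite G] (h : SqF G) {p : ℕ} [Fact p.Prime]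
    (P : Subgroup G) [P.Normal] (hP : IsPGroup p P) (x x' : G)
    (hx : ¬ ∀ v ∈ P, x * v = v * x) (hx' : ¬ ∀ v ∈ P, x' * v = v * x')
    (n n' : ℕ) (hn : n.Coprime p) (hn' : n'.Coprime p)
    (hxn : ∀ v ∈ P, x ^ n * v = v * x ^ n) (hxn' : ∀ v ∈ P, x' ^ n' * v = v * x' ^ n')
    (c : G) (hc : c ∈ P)
    (hcomm : ∀ v ∈ P, (x' * x * x'⁻¹ * x⁻¹) * v * (x' * x * x'⁻¹ * x⁻¹)⁻¹ = c * v * c⁻¹) :
    P ⊓ Subgroup.centralizer ({x} : Set G) = P ⊓ Subgroup.centralizer ({x'} : Set G) := by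
  have hp : p.Prime := Fact.out
  have hrx := relIndex_centralizer_eq_prime h P hP x hx
  have hrx' := relIndex_centralizer_eq_prime h P hP x' hx'
  have c1 : Nat.card ↥(P ⊓ centralizer ({x} : Set G)) * p = Nat.card P := by
    have := Cfsg.Agent.Lib.Helper58.SQF.card_mul_relIndex'
      (inf_le_left : P ⊓ centralizer ({x} : Set G) ≤ P)
    rwa [inf_relIndex_left, hrx] at this
  have c2 : Nat.card ↥(P ⊓ centralizer ({x'} : Set G)) * p = Nat.card P := by
    have := Cfsg.Agent.Lib.Helper58.SQF.card_mul_relIndex'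
      (inf_le_left : P ⊓ centralizer ({x'} : Set G) ≤ P)
    rwa [inf_relIndex_left, hrx'] at this
  have hcard : Nat.card ↥(P ⊓ centralizer ({x} : Set G)) =
      Nat.card ↥(P ⊓ centralizer ({x'} : Set G)) :=
    Nat.eq_of_mul_eq_mul_right hp.pos (c1.trans c2.symm)
  by_cases hle : P ⊓ centralizer ({x'} : Set G) ≤ P ⊓ centralizer ({x} : Set G)
  · exact (eq_of_le_of_card_ge hle hcard.le).symm
  · refine eq_of_le_of_card_ge ?_ hcard.ge
    have hMn := conj_mem_inf_centralizer_of_mem h P hP x hx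
    have hA := conj_mem_inf_centralizer_of_inner_comm h P hP x x' hx n hn hxn c hc hcomm
    -- the subgroup of elements of `P` on which `x'` acts trivially modulo `C_P(x)`
    let T : Subgroup G :=
      { carrier := {v | v ∈ P ∧ x' * v * x'⁻¹ * v⁻¹ ∈ P ⊓ centralizer ({x} : Set G)}
        one_mem' := ⟨one_mem _, by simp⟩
        mul_mem' := by
          rintro v w ⟨hv, hv2⟩ ⟨hw, hw2⟩
          refine ⟨mul_mem hv hw, ?_⟩
          have e : x' * (v * w) * x'⁻¹ * (v * w)⁻¹ =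
              (x' * v * x'⁻¹ * v⁻¹) * (v * (x' * w * x'⁻¹ * w⁻¹) * v⁻¹) := by group
          rw [e]
          exact mul_mem hv2 (hMn v hv _ hw2)
        inv_mem' := by
          rintro v ⟨hv, hv2⟩
          refine ⟨inv_mem hv, ?_⟩
          have e : x' * v⁻¹ * x'⁻¹ * v⁻¹⁻¹ = v⁻¹ * (x' * v * x'⁻¹ * v⁻¹)⁻¹ * v⁻¹⁻¹ := by group
          rw [e]
          exact hMn v⁻¹ (inv_mem hv) _ (inv_mem hv2) }
    have hMT : P ⊓ centralizer ({x} : Set G) ≤ T := by
      intro m hm
      exact ⟨hm.1, mul_mem (hA m hm) (inv_mem hm)⟩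
    have hM'T : P ⊓ centralizer ({x'} : Set G) ≤ T := by
      intro m hm
      refine ⟨hm.1, ?_⟩
      have h1 : m * x' = x' * m := mem_centralizer_singleton_iff.mp hm.2
      have h2 : x' * m * x'⁻¹ * m⁻¹ = 1 := by rw [← h1]; group
      rw [h2]; exact one_mem _
    have hTP : T ≤ P := fun v hv => hv.1
    have hmul := relIndex_mul_relIndex (P ⊓ centralizer ({x} : Set G)) T P hMT hTP
    rw [inf_relIndex_left, hrx] at hmul
    have hstar : ∀ v ∈ P, x' * v * x'⁻¹ * v⁻¹ ∈ P ⊓ centralizer ({x} : Set G) := by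
      rcases (Nat.dvd_prime hp).mp ⟨_, hmul.symm⟩ with h1 | h1
      · exact absurd (hM'T.trans (relIndex_eq_one.mp h1)) hle
      · have h2 : T.relIndex P = 1 := by
          rw [h1] at hmul
          exact Nat.eq_of_mul_eq_mul_left hp.pos (hmul.trans (mul_one p).symm)
        intro v hv
        exact (relIndex_eq_one.mp h2 hv).2
    have hC : centralizer ({x * x'} : Set G) ⊓ P ≤
        centralizer ({x'} : Set G) ⊓ centralizer ({x} : Set G) := by
      rintro v ⟨hv1, hv2⟩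
      have hvc : v * (x * x') = (x * x') * v := mem_centralizer_singleton_iff.mp hv1
      have hm1 := hstar v hv2
      have hm1x : (x' * v * x'⁻¹ * v⁻¹) * x = x * (x' * v * x'⁻¹ * v⁻¹) :=
        mem_centralizer_singleton_iff.mp hm1.2
      have hcm : Commute x (x' * v * x'⁻¹ * v⁻¹) := hm1x.symm
      have e0 : x' * v * x'⁻¹ = x⁻¹ * v * x := by
        have : x⁻¹ * (v * (x * x')) * x'⁻¹ = x⁻¹ * ((x * x') * v) * x'⁻¹ := by rw [hvc]
        calc x' * v * x'⁻¹ = x⁻¹ * ((x * x') * v) * x'⁻¹ := by group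
          _ = x⁻¹ * (v * (x * x')) * x'⁻¹ := this.symm
          _ = x⁻¹ * v * x := by group
      have e1 : x⁻¹ * v * x = (x' * v * x'⁻¹ * v⁻¹) * v := by
        rw [← e0]; group
      have e2 : ∀ j : ℕ, (x⁻¹) ^ j * v * x ^ j = (x' * v * x'⁻¹ * v⁻¹) ^ j * v := by
        intro j
        induction j with
        | zero => simp
        | succ j ih =>
          have hcj : x⁻¹ * (x' * v * x'⁻¹ * v⁻¹) ^ j * x = (x' * v * x'⁻¹ * v⁻¹) ^ j := by
            rw [mul_assoc, ← (hcm.pow_right j).eq, inv_mul_cancel_left]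
          calc (x⁻¹) ^ (j + 1) * v * x ^ (j + 1) = x⁻¹ * ((x⁻¹) ^ j * v * x ^ j) * x := by
                rw [pow_succ', pow_succ]; group
            _ = x⁻¹ * ((x' * v * x'⁻¹ * v⁻¹) ^ j * v) * x := by rw [ih]
            _ = (x⁻¹ * (x' * v * x'⁻¹ * v⁻¹) ^ j * x) * (x⁻¹ * v * x) := by group
            _ = (x' * v * x'⁻¹ * v⁻¹) ^ j * ((x' * v * x'⁻¹ * v⁻¹) * v) := by rw [hcj, e1]
            _ = (x' * v * x'⁻¹ * v⁻¹) ^ (j + 1) * v := by rw [pow_succ]; group
      have e3 : (x' * v * x'⁻¹ * v⁻¹) ^ n = 1 := by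
        have h1 := e2 n
        have h2 : (x⁻¹) ^ n * v * x ^ n = v := by
          rw [inv_pow, mul_assoc, ← hxn v hv2, inv_mul_cancel_left]
        rw [h2] at h1
        have h3 : (x' * v * x'⁻¹ * v⁻¹) ^ n * v = 1 * v := by rw [one_mul]; exact h1.symm
        exact mul_right_cancel h3
      obtain ⟨k, hk⟩ := hP ⟨x' * v * x'⁻¹ * v⁻¹, hm1.1⟩
      have e4 : (x' * v * x'⁻¹ * v⁻¹) ^ p ^ k = 1 := by
        have := congrArg Subtype.val hk
        simpa using this
      have e5 : x' * v * x'⁻¹ * v⁻¹ = 1 :=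
        (pow_eq_one_iff_of_coprime (Nat.Coprime.pow_right k hn)).mp ⟨e3, e4⟩
      have hvx : v * x = x * v := by
        rw [e5, one_mul] at e1
        calc v * x = x * (x⁻¹ * v * x) := by group
          _ = x * v := by rw [e1]
      have hvx' : v * x' = x' * v := by
        have : x * (v * x') = x * (x' * v) := by
          calc x * (v * x') = (x * v) * x' := by group
            _ = (v * x) * x' := by rw [hvx]
            _ = v * (x * x') := by group
            _ = (x * x') * v := hvc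
            _ = x * (x' * v) := by group
        exact mul_left_cancel this
      exact ⟨mem_centralizer_singleton_iff.mpr hvx', mem_centralizer_singleton_iff.mpr hvx⟩
    have hdiv : (centralizer ({x'} : Set G) ⊓ centralizer ({x} : Set G)).relIndex P ∣ p := by
      have h1 := relIndex_dvd_of_le_left P hC
      rw [inf_relIndex_right] at h1
      exact h1.trans (relIndex_centralizer_dvd_prime h P hP (x * x'))
    have hmul2 := relIndex_inf_mul_relIndex (centralizer ({x'} : Set G))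
      (centralizer ({x} : Set G)) P
    rw [hrx] at hmul2
    rw [← hmul2] at hdiv
    have h1 : (centralizer ({x'} : Set G)).relIndex (centralizer ({x} : Set G) ⊓ P) = 1 := by
      have h2 : (centralizer ({x'} : Set G)).relIndex (centralizer ({x} : Set G) ⊓ P) * p ∣
          1 * p := by simpa using hdiv
      exact Nat.dvd_one.mp (Nat.dvd_of_mul_dvd_mul_right hp.pos h2)
    have h2 : centralizer ({x} : Set G) ⊓ P ≤ centralizer ({x'} : Set G) := relIndex_eq_one.mp h1
    intro v hv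
    exact ⟨hv.1, h2 ⟨hv.2, hv.1⟩⟩

end Cfsg.Agent.Lib.Helper88.Sqf
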