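import Mathlib
import Cfsg.Agent.Lib.Helper85.SqfDefs
import Cfsg.Agent.Lib.Helper88.SqfIdxH
import Cfsg.Agent.Lib.Helper1.MinimalNormal

/-!
Project SQF (S4130), hedge of modules [MIN-P] and [MIN] (helper88): a minimal normal subgroup of a finite solvable
group with squarefree class sizes has prime order.
-/

set_option autoImplicit false

namespace Cfsg.Agent.Lib.Helper88.Sqf

open Cfsg Subgroup
open Cfsg.Agent.Lib.Helper85.Sqf (SqF)

variable {G : Type*} [Group G]

/-- [MIN-P] -/
theorem centralizes_of_pPower_action [Finite G] {p : ℕ} [Fact p.Prime] (N : Subgroup G) [N.Normal]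
    (hNp : IsPGroup p N) (hN : N ≠ ⊥)
    (hmin : ∀ M : Subgroup G, M.Normal → M ≤ N → M = ⊥ ∨ M = N)
    (A : Subgroup G) [A.Normal]
    (hA : ∀ a ∈ A, ∃ k : ℕ, ∀ v ∈ N, a ^ p ^ k * v = v * a ^ p ^ k) :
    ∀ a ∈ A, ∀ v ∈ N, a * v = v * a := by
  have hp : p.Prime := Fact.out
  let φ : A →* MulAut N := (MulAut.conjNormal (H := N)).comp A.subtype
  have hφ : ∀ (a : A) (v : N), ((φ a v : N) : G) = (a : G) * v * (a : G)⁻¹ := by
    intro a v
    simp [φ, MulAut.conjNormal_apply]
  have hPg : IsPGroup p φ.range := by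
    rintro ⟨g, a, rfl⟩
    obtain ⟨k, hk⟩ := hA a a.2
    refine ⟨k, Subtype.ext ?_⟩
    show (φ a) ^ p ^ k = 1
    rw [← map_pow]
    ext v
    rw [hφ]
    simp only [SubgroupClass.coe_pow, MulAut.one_apply]
    rw [hk v v.2, mul_inv_cancel_right]
  have hdvd : p ∣ Nat.card N := by
    obtain ⟨a, ha⟩ := IsPGroup.iff_card.mp hNp
    have ha0 : a ≠ 0 := by
      rintro rfl
      rw [pow_zero] at ha
      exact hN (Subgroup.card_eq_one.mp ha)
    rw [ha]
    exact dvd_pow_self p ha0
  have h1fix : (1 : N) ∈ MulAction.fixedPoints φ.range N := by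
    intro g
    show (g : MulAut N) (1 : N) = 1
    exact map_one _
  obtain ⟨b, hb, hb1⟩ := hPg.exists_fixed_point_of_prime_dvd_card_of_fixed_point N hdvd h1fix
  have hbD : (b : G) ∈ N ⊓ centralizer (A : Set G) := by
    refine Subgroup.mem_inf.mpr ⟨b.2, ?_⟩
    rw [mem_centralizer_iff]
    intro a ha
    have h1 : (⟨φ ⟨a, ha⟩, ⟨⟨a, ha⟩, rfl⟩⟩ : φ.range) • b = b := hb _
    have h2 : φ ⟨a, ha⟩ b = b := h1
    have h3 := congrArg Subtype.val h2
    rw [hφ] at h3
    exact (mul_inv_eq_iff_eq_mul.mp h3)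
  have hDn : (N ⊓ centralizer (A : Set G)).Normal := inferInstance
  rcases hmin _ hDn inf_le_left with hD | hD
  · exfalso
    rw [hD, Subgroup.mem_bot] at hbD
    exact hb1 (Subtype.ext hbD.symm)
  · intro a ha v hv
    have hv2 : v ∈ N ⊓ centralizer (A : Set G) := by rw [hD]; exact hv
    exact (mem_centralizer_iff.mp hv2.2 a ha)

/-- [MIN] -/
theorem card_minimal_normal_prime [Finite G] [Group.IsSolvable G] (h : SqF G) (N : Subgroup G)
    [N.Normal] (hN : N ≠ ⊥) (hmin : ∀ M : Subgroup G, M.Normal → M ≤ N → M = ⊥ ∨ M = N) :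
    (Nat.card N).Prime := by
  obtain ⟨hcomm, p, hp, hpow⟩ := Cfsg.Agent.S0043.result N hN hmin
  haveI : Fact p.Prime := ⟨hp⟩
  have hNp : IsPGroup p N := by
    intro x
    refine ⟨1, ?_⟩
    rw [pow_one]
    exact Subtype.ext (by simpa using hpow x x.2)
  -- (0)
  have h0 : ∀ a : G, (N ⊓ centralizer ({a} : Set G)).Normal → ¬ (∀ v ∈ N, a * v = v * a) →
      (Nat.card N).Prime := by
    intro a hnorm hna
    rcases hmin _ hnorm inf_le_left with hb | hb
    · have h1 := card_dvd_mul_card_inf h N hNp a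
      rw [hb, Subgroup.card_bot, mul_one] at h1
      rcases (Nat.dvd_prime hp).mp h1 with h2 | h2
      · exact absurd (Subgroup.card_eq_one.mp h2) hN
      · rw [h2]; exact hp
    · exfalso
      apply hna
      intro v hv
      have hv2 : v ∈ N ⊓ centralizer ({a} : Set G) := by rw [hb]; exact hv
      exact (mem_centralizer_singleton_iff.mp hv2.2).symm
  have hC_iff : ∀ a : G, a ∈ centralizer (N : Set G) ↔ ∀ v ∈ N, a * v = v * a := by
    intro a
    rw [mem_centralizer_iff]
    constructor <;> intro h1 v hv <;> exact (h1 v hv).symm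
  by_cases hCtop : centralizer (N : Set G) = ⊤
  · -- (1) `N` is central
    have hall : ∀ g : G, ∀ v ∈ N, g * v = v * g := by
      intro g
      exact (hC_iff g).mp (by rw [hCtop]; exact Subgroup.mem_top g)
    obtain ⟨x, hxN, hx1⟩ : ∃ x ∈ N, x ≠ 1 := by
      by_contra hcon
      push Not at hcon
      exact hN ((Subgroup.eq_bot_iff_forall N).mpr hcon)
    have hzle : zpowers x ≤ N := (Subgroup.zpowers_le).mpr hxN
    have hzn : (zpowers x).Normal := by
      refine ⟨fun n hn g => ?_⟩
      have h1 : g * n * g⁻¹ = n := by rw [hall g n (hzle hn), mul_inv_cancel_right]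
      rw [h1]; exact hn
    rcases hmin _ hzn hzle with hz | hz
    · exfalso
      apply hx1
      have : x ∈ zpowers x := Subgroup.mem_zpowers x
      rw [hz, Subgroup.mem_bot] at this
      exact this
    · have h1 : Nat.card N = orderOf x := by rw [← hz, Nat.card_zpowers]
      rw [h1, orderOf_eq_prime (hpow x hxN) hx1]
      exact hp
  · -- (2)
    haveI : Nontrivial (G ⧸ centralizer (N : Set G)) := by
      by_contra hns
      rw [not_nontrivial_iff_subsingleton] at hns
      exact hCtop (QuotientGroup.subgroup_eq_top_of_subsingleton _ hns)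
    obtain ⟨q, R, hq, hRn, hR1, hRq, hRc, -, -⟩ :=
      Cfsg.Agent.Lib.Helper1.exists_normal_pSubgroup_of_isSolvable
        (G := G ⧸ centralizer (N : Set G))
    haveI : Fact q.Prime := ⟨hq⟩
    let A : Subgroup G := R.comap (QuotientGroup.mk' (centralizer (N : Set G)))
    haveI hAn : A.Normal := hRn.comap _
    have hAmem : ∀ a : G, a ∈ A ↔ (a : G ⧸ centralizer (N : Set G)) ∈ R := fun a => Iff.rfl
    -- `q`-power of an element of `A` centralises `N`
    have hApow : ∀ a ∈ A, ∃ k : ℕ, ∀ v ∈ N, a ^ q ^ k * v = v * a ^ q ^ k := by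
      intro a ha
      obtain ⟨k, hk⟩ := hRq ⟨(a : G ⧸ centralizer (N : Set G)), ha⟩
      refine ⟨k, (hC_iff _).mp ?_⟩
      have h1 := congrArg Subtype.val hk
      simp only [SubgroupClass.coe_pow, Subgroup.coe_one] at h1
      rw [← QuotientGroup.mk_pow] at h1
      exact (QuotientGroup.eq_one_iff _).mp h1
    -- commutators of elements of `A` centralise `N`
    have hAcomm : ∀ a ∈ A, ∀ b ∈ A, ∀ v ∈ N, (b * a * b⁻¹ * a⁻¹) * v = v * (b * a * b⁻¹ * a⁻¹) := by
      intro a ha b hb
      refine (hC_iff _).mp ?_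
      apply (QuotientGroup.eq_one_iff _).mp
      have h1 := congrArg Subtype.val (hRc.is_comm.comm
        ⟨(b : G ⧸ centralizer (N : Set G)), hb⟩ ⟨(a : G ⧸ centralizer (N : Set G)), ha⟩)
      simp only [Subgroup.coe_mul] at h1
      simp only [QuotientGroup.mk_mul, QuotientGroup.mk_inv]
      rw [h1]; group
    -- `q ≠ p`
    have hqp : q ≠ p := by
      rintro rfl
      have h1 := centralizes_of_pPower_action N hNp hN hmin A hApow
      apply hR1
      rw [Subgroup.eq_bot_iff_forall]
      intro r hr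
      obtain ⟨a, rfl⟩ := QuotientGroup.mk_surjective r
      exact (QuotientGroup.eq_one_iff _).mpr ((hC_iff a).mpr (h1 a hr))
    have hcop : ∀ k : ℕ, (q ^ k).Coprime p := fun k =>
      Nat.Coprime.pow_left k ((Nat.coprime_primes hq hp).mpr hqp)
    -- an element of `A` not centralising `N`
    obtain ⟨a, haA, haC⟩ : ∃ a ∈ A, ¬ ∀ v ∈ N, a * v = v * a := by
      obtain ⟨r, hr, hr1⟩ : ∃ r ∈ R, r ≠ 1 := by
        by_contra hcon
        push Not at hcon
        exact hR1 ((Subgroup.eq_bot_iff_forall R).mpr hcon)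
      obtain ⟨a, rfl⟩ := QuotientGroup.mk_surjective r
      refine ⟨a, hr, fun hcon => hr1 ?_⟩
      exact (QuotientGroup.eq_one_iff _).mpr ((hC_iff a).mpr hcon)
    -- all non-centralising elements of `A` have the same centraliser in `N`
    have hsame : ∀ b ∈ A, (¬ ∀ v ∈ N, b * v = v * b) →
        N ⊓ centralizer ({a} : Set G) = N ⊓ centralizer ({b} : Set G) := by
      intro b hb hbC
      obtain ⟨ka, hka⟩ := hApow a haA
      obtain ⟨kb, hkb⟩ := hApow b hb
      refine inf_centralizer_eq_of_inner_comm h N hNp a b haC hbC (q ^ ka) (q ^ kb) (hcop ka)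
        (hcop kb) hka hkb 1 (one_mem _) ?_
      intro v hv
      rw [hAcomm a haA b hb v hv, mul_inv_cancel_right]
      simp
    have hnorm : (N ⊓ centralizer ({a} : Set G)).Normal := by
      refine ⟨fun v hv g => ?_⟩
      have hgN : g * v * g⁻¹ ∈ N := (inferInstance : N.Normal).conj_mem v hv.1 g
      have hbA : g * a * g⁻¹ ∈ A := hAn.conj_mem a haA g
      have hbC : ¬ ∀ w ∈ N, (g * a * g⁻¹) * w = w * (g * a * g⁻¹) := by
        intro hcon
        apply haC
        intro w hw
        have hw2 : g * w * g⁻¹ ∈ N := (inferInstance : N.Normal).conj_mem w hw g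
        have h1 := hcon _ hw2
        have h2 : g * (a * w) * g⁻¹ = g * (w * a) * g⁻¹ := by
          calc g * (a * w) * g⁻¹ = (g * a * g⁻¹) * (g * w * g⁻¹) := by group
            _ = (g * w * g⁻¹) * (g * a * g⁻¹) := h1
            _ = g * (w * a) * g⁻¹ := by group
        exact mul_left_cancel (mul_right_cancel h2)
      rw [hsame _ hbA hbC]
      refine Subgroup.mem_inf.mpr ⟨hgN, ?_⟩
      rw [mem_centralizer_singleton_iff]
      have h1 : v * a = a * v := mem_centralizer_singleton_iff.mp hv.2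
      calc g * v * g⁻¹ * (g * a * g⁻¹) = g * (v * a) * g⁻¹ := by group
        _ = g * (a * v) * g⁻¹ := by rw [h1]
        _ = g * a * g⁻¹ * (g * v * g⁻¹) := by group
    exact h0 a hnorm haC

end Cfsg.Agent.Lib.Helper88.Sqf
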