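import Mathlib
import Cfsg.Agent.Lib.Helper71.SylAltDefs
import Cfsg.Agent.Lib.Helper9.PGroupLemmas

set_option autoImplicit false

/-!
# S2221 module [AG-INDEC] (helper71's project)

`ker (piSign H ε)` on a product of at least two `GoodComp`'s is directly indecomposable.
-/

namespace Cfsg.Agent.Lib.Helper88.SylAlt

open Cfsg.Agent.Lib.Helper71.SylAlt

theorem exists_even_ne {X : Type*} [Group X] [Finite X] (e : X →* ℤˣ) (z t : X)
    (ht : e t = -1) (hbig : 8 ≤ Nat.card X) : ∃ u : X, e u = 1 ∧ u ≠ 1 ∧ u ≠ z := by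
  by_contra hcon
  have hcon' : ∀ u : X, e u = 1 → u ≠ 1 → u = z := by
    intro u h1 h2
    by_contra h3
    exact hcon ⟨u, h1, h2, h3⟩
  have hall : ∀ g : X, g = 1 ∨ g = z ∨ g = t ∨ g = z * t := by
    intro g
    rcases Int.units_eq_one_or (e g) with h | h
    · by_cases g1 : g = 1
      · exact Or.inl g1
      · exact Or.inr (Or.inl (hcon' g h g1))
    · have he : e (g * t⁻¹) = 1 := by
        rw [map_mul, map_inv, h, ht]; simp
      by_cases g1 : g * t⁻¹ = 1
      · right; right; left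
        exact mul_inv_eq_one.mp g1
      · right; right; right
        have := hcon' _ he g1
        rw [← this]; group
  classical
  haveI := Fintype.ofFinite X
  have hle : Fintype.card X ≤ 4 := by
    have hsub : (Finset.univ : Finset X) ⊆ {1, z, t, z * t} := by
      intro g _
      simp only [Finset.mem_insert, Finset.mem_singleton]
      exact hall g
    calc Fintype.card X = (Finset.univ : Finset X).card := rfl
      _ ≤ ({1, z, t, z * t} : Finset X).card := Finset.card_le_card hsub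
      _ ≤ 4 := Finset.card_le_four
  rw [Nat.card_eq_fintype_card] at hbig
  omega

section indec

variable {ι : Type*} [Fintype ι] [DecidableEq ι] {H : ι → Type*} [∀ i, Group (H i)]

/-- the kernel of the product of the signs -/
abbrev SKer (ε : ∀ i, H i →* ℤˣ) : Subgroup (∀ i, H i) := MonoidHom.ker (piSign H ε)

theorem piSign_mulSingle (ε : ∀ i, H i →* ℤˣ) (i : ι) (g : H i) :
    piSign H ε (Pi.mulSingle i g) = ε i g := by
  rw [piSign_apply, Finset.prod_eq_single i]
  · rw [Pi.mulSingle_eq_same]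
  · intro b _ hb
    rw [Pi.mulSingle_eq_of_ne hb, map_one]
  · intro h
    exact absurd (Finset.mem_univ i) h

theorem isPGroup_two_pi (hp : ∀ i, IsPGroup 2 (H i)) : IsPGroup 2 (∀ i, H i) := by
  intro g
  choose k hk using fun i => hp i (g i)
  refine ⟨∑ i, k i, ?_⟩
  funext i
  have hle : k i ≤ ∑ j, k j :=
    Finset.single_le_sum (f := k) (fun _ _ => Nat.zero_le _) (Finset.mem_univ i)
  obtain ⟨m, hm⟩ := Nat.exists_eq_add_of_le hle
  rw [Pi.pow_apply, Pi.one_apply, hm, pow_add, pow_mul, hk i, one_pow]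

/-- `mulSingle i g` as an element of the kernel, for even `g` -/
def single1 (ε : ∀ i, H i →* ℤˣ) (i : ι) (g : H i) (hg : ε i g = 1) : ↥(SKer ε) :=
  ⟨Pi.mulSingle i g, by rw [MonoidHom.mem_ker, piSign_mulSingle, hg]⟩

/-- `mulSingle i g * mulSingle j t` as an element of the kernel -/
def single2 (ε : ∀ i, H i →* ℤˣ) (i j : ι) (g : H i) (t : H j) (h : ε i g * ε j t = 1) :
    ↥(SKer ε) :=
  ⟨Pi.mulSingle i g * Pi.mulSingle j t, by
    rw [MonoidHom.mem_ker, map_mul, piSign_mulSingle, piSign_mulSingle, h]⟩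

/-- the data extracted from the `GoodComp` hypotheses -/
structure Data (ε : ∀ i, H i →* ℤˣ) where
  z : ∀ i, H i
  t : ∀ i, H i
  hz1 : ∀ i, z i ≠ 1
  hzε : ∀ i, ε i (z i) = 1
  hzu : ∀ i (c : H i), (∀ g : H i, g * c = c * g) → c = 1 ∨ c = z i
  ht : ∀ i, ε i (t i) = -1
  hp : ∀ i, IsPGroup 2 (H i)
  hbig : ∀ i, 8 ≤ Nat.card (H i)
  h2 : 2 ≤ Fintype.card ι

/-- the central involution of the `i`-th factor, inside the kernel -/
def Data.zh {ε : ∀ i, H i →* ℤˣ} (D : Data ε) (i : ι) : ↥(SKer ε) :=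
  single1 ε i (D.z i) (D.hzε i)

theorem Data.zh_ne_one {ε : ∀ i, H i →* ℤˣ} (D : Data ε) (i : ι) : D.zh i ≠ 1 := by
  intro h
  apply D.hz1 i
  have := congrArg (fun y : ↥(SKer ε) => y.1 i) h
  simpa [Data.zh, single1] using this

theorem central_coord {ε : ∀ i, H i →* ℤˣ} (D : Data ε) (x : ↥(SKer ε))
    (hx : ∀ k : ↥(SKer ε), k * x = x * k) (i : ι) (g : H i) : g * x.1 i = x.1 i * g := by
  rcases Int.units_eq_one_or (ε i g) with h | h
  · have := congrArg (fun y : ↥(SKer ε) => y.1 i) (hx (single1 ε i g h))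
    simpa [single1] using this
  · obtain ⟨j, hj⟩ := Fintype.exists_ne_of_one_lt_card (by have := D.h2; omega) i
    have hk : ε i g * ε j (D.t j) = 1 := by rw [h, D.ht j]; simp
    have := congrArg (fun y : ↥(SKer ε) => y.1 i) (hx (single2 ε i j g (D.t j) hk))
    simpa [single2, Pi.mulSingle_eq_of_ne hj.symm] using this

/-- the elements of the kernel supported on the coordinate `i` -/
def coordSub (ε : ∀ i, H i →* ℤˣ) (i : ι) : Subgroup ↥(SKer ε) where
  carrier := {k | ∀ l, l ≠ i → k.1 l = 1}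
  mul_mem' := by
    intro a b ha hb l hl
    show (a * b).1 l = 1
    rw [Subgroup.coe_mul, Pi.mul_apply, ha l hl, hb l hl, mul_one]
  one_mem' := by
    intro l _
    rfl
  inv_mem' := by
    intro a ha l hl
    show (a⁻¹).1 l = 1
    rw [Subgroup.coe_inv, Pi.inv_apply, ha l hl, inv_one]

instance coordSub_normal (ε : ∀ i, H i →* ℤˣ) (i : ι) : (coordSub ε i).Normal :=
  ⟨fun k hk g l hl => by
    show (g * k * g⁻¹).1 l = 1
    rw [Subgroup.coe_mul, Subgroup.coe_mul, Subgroup.coe_inv, Pi.mul_apply, Pi.mul_apply,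
      Pi.inv_apply, hk l hl, mul_one, mul_inv_cancel]⟩

theorem single1_mem_coordSub (ε : ∀ i, H i →* ℤˣ) (i : ι) (g : H i) (hg : ε i g = 1) :
    single1 ε i g hg ∈ coordSub ε i := fun _ hl => Pi.mulSingle_eq_of_ne hl g

theorem eq_of_coord (ε : ∀ i, H i →* ℤˣ) (i : ι) (k k' : ↥(SKer ε)) (hk : k ∈ coordSub ε i)
    (hk' : k' ∈ coordSub ε i) (h : k.1 i = k'.1 i) : k = k' := by
  apply Subtype.ext
  funext l
  by_cases hl : l = i
  · subst hl; exact h
  · rw [hk l hl, hk' l hl]

variable [∀ i, Finite (H i)]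

theorem zh_mem_of_inf_ne_bot {ε : ∀ i, H i →* ℤˣ} (D : Data ε) (i : ι)
    (N : Subgroup ↥(SKer ε)) [N.Normal] (hN : coordSub ε i ⊓ N ≠ ⊥) : D.zh i ∈ N := by
  have hK : IsPGroup 2 ↥(SKer ε) := (isPGroup_two_pi D.hp).to_subgroup _
  haveI : Fact (Nat.Prime 2) := ⟨Nat.prime_two⟩
  obtain ⟨c, hc, hc1, hcc⟩ :=
    Cfsg.Agent.Lib.Helper9.exists_ne_one_mem_center_of_normal hK (coordSub ε i ⊓ N) hN
  have hcen : ∀ k : ↥(SKer ε), k * c = c * k := fun k => Subgroup.mem_center_iff.mp hcc k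
  rcases D.hzu i (c.1 i) (fun g => central_coord D c hcen i g) with h | h
  · exfalso
    apply hc1
    exact eq_of_coord ε i c 1 hc.1 (one_mem _) (by rw [h]; rfl)
  · have : c = D.zh i :=
      eq_of_coord ε i c _ hc.1 (single1_mem_coordSub ε i _ _)
        (by rw [h]; exact (Pi.mulSingle_eq_same i (D.z i)).symm)
    rw [← this]; exact hc.2

theorem commute_of_inf_eq_bot (ε : ∀ i, H i →* ℤˣ) (i : ι) (N : Subgroup ↥(SKer ε))
    [hNn : N.Normal] (hN : coordSub ε i ⊓ N = ⊥) (m : ↥(SKer ε)) (hm : m ∈ coordSub ε i)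
    (n : ↥(SKer ε)) (hn : n ∈ N) : m * n = n * m := by
  have h1 : m * n * m⁻¹ * n⁻¹ ∈ coordSub ε i := by
    have := (coordSub_normal ε i).conj_mem m⁻¹ (inv_mem hm) n
    have h := mul_mem hm this
    rwa [show m * (n * m⁻¹ * n⁻¹) = m * n * m⁻¹ * n⁻¹ by group] at h
  have h2 : m * n * m⁻¹ * n⁻¹ ∈ N := mul_mem (hNn.conj_mem n hn m) (inv_mem hn)
  have h3 : m * n * m⁻¹ * n⁻¹ ∈ coordSub ε i ⊓ N := ⟨h1, h2⟩
  rw [hN, Subgroup.mem_bot] at h3
  have h4 : m * n * m⁻¹ = n := mul_inv_eq_one.mp h3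
  exact mul_inv_eq_iff_eq_mul.mp h4

theorem zh_mem_or {ε : ∀ i, H i →* ℤˣ} (D : Data ε) (A B : Subgroup ↥(SKer ε)) [A.Normal]
    [B.Normal] (hdec : ∀ k : ↥(SKer ε), ∃ a ∈ A, ∃ b ∈ B, k = a * b) (i : ι) :
    D.zh i ∈ A ∨ D.zh i ∈ B := by
  by_contra hcon
  rw [not_or] at hcon
  have hA : coordSub ε i ⊓ A = ⊥ := by
    by_contra h
    exact hcon.1 (zh_mem_of_inf_ne_bot D i A h)
  have hB : coordSub ε i ⊓ B = ⊥ := by
    by_contra h
    exact hcon.2 (zh_mem_of_inf_ne_bot D i B h)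
  obtain ⟨u, hu, hu1, huz⟩ := exists_even_ne (ε i) (D.z i) (D.t i) (D.ht i) (D.hbig i)
  have hm : single1 ε i u hu ∈ coordSub ε i := single1_mem_coordSub ε i u hu
  have hcen : ∀ k : ↥(SKer ε), k * single1 ε i u hu = single1 ε i u hu * k := by
    intro k
    obtain ⟨a, ha, b, hb, rfl⟩ := hdec k
    have e1 := commute_of_inf_eq_bot ε i A hA _ hm a ha
    have e2 := commute_of_inf_eq_bot ε i B hB _ hm b hb
    calc a * b * single1 ε i u hu = a * (b * single1 ε i u hu) := mul_assoc _ _ _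
      _ = a * (single1 ε i u hu * b) := by rw [e2]
      _ = (a * single1 ε i u hu) * b := (mul_assoc _ _ _).symm
      _ = (single1 ε i u hu * a) * b := by rw [e1]
      _ = single1 ε i u hu * (a * b) := mul_assoc _ _ _
  have hui : (single1 ε i u hu).1 i = u := Pi.mulSingle_eq_same i u
  rcases D.hzu i ((single1 ε i u hu).1 i) (fun g => central_coord D _ hcen i g) with h | h
  · exact hu1 (by rw [← hui, h])
  · exact huz (by rw [← hui, h])

theorem even_of_zh_not_mem {ε : ∀ i, H i →* ℤˣ} (D : Data ε) (N : Subgroup ↥(SKer ε))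
    [N.Normal] (i : ι) (hz : D.zh i ∉ N) (n : ↥(SKer ε)) (hn : n ∈ N) :
    ε i (n.1 i) = 1 := by
  have hN : coordSub ε i ⊓ N = ⊥ := by
    by_contra h
    exact hz (zh_mem_of_inf_ne_bot D i N h)
  rcases Int.units_eq_one_or (ε i (n.1 i)) with h | h
  · exact h
  · exfalso
    have hev : ∀ g : H i, ε i g = 1 → g * n.1 i = n.1 i * g := by
      intro g hg
      have hm : single1 ε i g hg ∈ coordSub ε i := single1_mem_coordSub ε i g hg
      have := congrArg (fun y : ↥(SKer ε) => y.1 i) (commute_of_inf_eq_bot ε i N hN _ hm n hn)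
      simpa [single1] using this
    have hcen : ∀ g : H i, g * n.1 i = n.1 i * g := by
      intro g
      rcases Int.units_eq_one_or (ε i g) with hg | hg
      · exact hev g hg
      · have he : ε i (g * (n.1 i)⁻¹) = 1 := by
          rw [map_mul, map_inv, hg, h]; simp
        have := hev _ he
        calc g * n.1 i = (g * (n.1 i)⁻¹ * n.1 i) * n.1 i := by group
          _ = (n.1 i * (g * (n.1 i)⁻¹)) * n.1 i := by rw [this]
          _ = n.1 i * g := by group
    rcases D.hzu i (n.1 i) hcen with h' | h'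
    · rw [h', map_one] at h
      exact absurd h (units_ne_neg_self 1)
    · rw [h', D.hzε i] at h
      exact absurd h (units_ne_neg_self 1)

theorem coord_inv_single1_mul (ε : ∀ i, H i →* ℤˣ) (j : ι) (g : H j) (hg : ε j g = 1)
    (x : ↥(SKer ε)) (i : ι) :
    ((single1 ε j g hg)⁻¹ * x).1 i = (Pi.mulSingle j g i)⁻¹ * x.1 i := rfl

theorem not_forall_zh_mem {ε : ∀ i, H i →* ℤˣ} (D : Data ε) (A B : Subgroup ↥(SKer ε))
    [A.Normal] (hA : A ≠ ⊥) (hinf : ∀ x, x ∈ A → x ∈ B → x = 1) : ¬ ∀ i, D.zh i ∈ B := by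
  intro hall
  have hK : IsPGroup 2 ↥(SKer ε) := (isPGroup_two_pi D.hp).to_subgroup _
  haveI : Fact (Nat.Prime 2) := ⟨Nat.prime_two⟩
  obtain ⟨c, hc, hc1, hcc⟩ :=
    Cfsg.Agent.Lib.Helper9.exists_ne_one_mem_center_of_normal hK A hA
  have hcen : ∀ k : ↥(SKer ε), k * c = c * k := fun k => Subgroup.mem_center_iff.mp hcc k
  have hcoord : ∀ i, c.1 i = 1 ∨ c.1 i = D.z i :=
    fun i => D.hzu i (c.1 i) (fun g => central_coord D c hcen i g)
  have key : ∀ T : Finset ι, ∀ x : ↥(SKer ε), (∀ i, x.1 i = 1 ∨ x.1 i = D.z i) →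
      (∀ i, i ∉ T → x.1 i = 1) → x ∈ B := by
    intro T
    induction T using Finset.induction_on with
    | empty =>
      intro x _ hx
      have : x = 1 := Subtype.ext (funext fun i => hx i (Finset.notMem_empty i))
      rw [this]; exact one_mem _
    | insert j T hj ih =>
      intro x hx1 hx2
      rcases hx1 j with h | h
      · apply ih x hx1
        intro i hi
        by_cases hij : i = j
        · subst hij; exact h
        · exact hx2 i (by simp [hij, hi])
      · have ej : ((D.zh j)⁻¹ * x).1 j = 1 := by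
          rw [Data.zh, coord_inv_single1_mul, Pi.mulSingle_eq_same, h, inv_mul_cancel]
        have eo : ∀ i, i ≠ j → ((D.zh j)⁻¹ * x).1 i = x.1 i := by
          intro i hij
          rw [Data.zh, coord_inv_single1_mul, Pi.mulSingle_eq_of_ne hij, inv_one, one_mul]
        have hx' : (D.zh j)⁻¹ * x ∈ B := by
          apply ih
          · intro i
            by_cases hij : i = j
            · subst hij; exact Or.inl ej
            · rw [eo i hij]; exact hx1 i
          · intro i hi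
            by_cases hij : i = j
            · subst hij; exact ej
            · rw [eo i hij]; exact hx2 i (by simp [hij, hi])
        have := mul_mem (hall j) hx'
        rwa [mul_inv_cancel_left] at this
  have hcB : c ∈ B := key Finset.univ c hcoord (fun i hi => absurd (Finset.mem_univ i) hi)
  exact hc1 (hinf c hc hcB)

end indec

theorem not_decompGroup_ker {ι : Type*} [Fintype ι] [DecidableEq ι] (H : ι → Type*)
    [∀ i, Group (H i)] [∀ i, Finite (H i)] (ε : ∀ i, H i →* ℤˣ)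
    (hgood : ∀ i, GoodComp (H i) (ε i)) (h2 : 2 ≤ Fintype.card ι) :
    ¬ DecompGroup ↥(MonoidHom.ker (piSign H ε)) := by
  rintro ⟨A, B, hA, hB, hcomm, hinf, hsup⟩
  choose z hz1 hzε _hzc hzu using fun i => (hgood i).center
  choose t ht using fun i => (hgood i).odd
  let D : Data ε :=
    { z := z, t := t, hz1 := hz1, hzε := hzε, hzu := hzu, ht := ht,
      hp := fun i => (hgood i).pgroup, hbig := fun i => (hgood i).big, h2 := h2 }
  let S : Subgroup ↥(SKer ε) :=
    { carrier := {k | ∃ a ∈ A, ∃ b ∈ B, k = a * b}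
      mul_mem' := by
        rintro _ _ ⟨a, ha, b, hb, rfl⟩ ⟨a', ha', b', hb', rfl⟩
        refine ⟨a * a', mul_mem ha ha', b * b', mul_mem hb hb', ?_⟩
        calc a * b * (a' * b') = a * (b * a') * b' := by group
          _ = a * (a' * b) * b' := by rw [hcomm a' ha' b hb]
          _ = a * a' * (b * b') := by group
      one_mem' := ⟨1, one_mem _, 1, one_mem _, (mul_one 1).symm⟩
      inv_mem' := by
        rintro _ ⟨a, ha, b, hb, rfl⟩
        refine ⟨a⁻¹, inv_mem ha, b⁻¹, inv_mem hb, ?_⟩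
        rw [mul_inv_rev]
        exact (hcomm a⁻¹ (inv_mem ha) b⁻¹ (inv_mem hb)).symm }
  have hS : A ⊔ B ≤ S :=
    sup_le (fun a ha => ⟨a, ha, 1, one_mem _, (mul_one a).symm⟩)
      (fun b hb => ⟨1, one_mem _, b, hb, (one_mul b).symm⟩)
  have hdec : ∀ k : ↥(SKer ε), ∃ a ∈ A, ∃ b ∈ B, k = a * b := fun k =>
    hS (by rw [hsup]; exact Subgroup.mem_top k)
  haveI hAn : A.Normal := ⟨fun a ha k => by
    obtain ⟨a', ha', b', hb', rfl⟩ := hdec k
    have : a' * b' * a * (a' * b')⁻¹ = a' * a * a'⁻¹ := by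
      calc a' * b' * a * (a' * b')⁻¹ = a' * (b' * a) * b'⁻¹ * a'⁻¹ := by group
        _ = a' * (a * b') * b'⁻¹ * a'⁻¹ := by rw [hcomm a ha b' hb']
        _ = a' * a * a'⁻¹ := by group
    rw [this]; exact mul_mem (mul_mem ha' ha) (inv_mem ha')⟩
  haveI hBn : B.Normal := ⟨fun b hb k => by
    obtain ⟨a', ha', b', hb', rfl⟩ := hdec k
    have hX : b' * b * b'⁻¹ ∈ B := mul_mem (mul_mem hb' hb) (inv_mem hb')
    have : a' * b' * b * (a' * b')⁻¹ = b' * b * b'⁻¹ := by
      calc a' * b' * b * (a' * b')⁻¹ = a' * (b' * b * b'⁻¹) * a'⁻¹ := by group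
        _ = (b' * b * b'⁻¹) * a' * a'⁻¹ := by rw [hcomm a' ha' _ hX]
        _ = b' * b * b'⁻¹ := by group
    rw [this]; exact hX⟩
  have hinf' : ∀ x, x ∈ A → x ∈ B → x = 1 := by
    intro x ha hb
    have : x ∈ A ⊓ B := ⟨ha, hb⟩
    rw [hinf] at this
    exact Subgroup.mem_bot.mp this
  have hor := zh_mem_or D A B hdec
  have hnA := not_forall_zh_mem D A B hA hinf'
  have hnB := not_forall_zh_mem D B A hB (fun x hb ha => hinf' x ha hb)
  obtain ⟨i, hiB⟩ := not_forall.mp hnA
  obtain ⟨j, hjA⟩ := not_forall.mp hnB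
  have hiA : D.zh i ∈ A := (hor i).resolve_right hiB
  have hjB : D.zh j ∈ B := (hor j).resolve_left hjA
  have hq : ε i (t i) * ε j (t j) = 1 := by rw [ht i, ht j]; simp
  obtain ⟨a, ha, b, hb, hab⟩ := hdec (single2 ε i j (t i) (t j) hq)
  have key : ∀ k, ε k (a.1 k) = if k = i then -1 else 1 := by
    intro k
    rcases hor k with hkA | hkB
    · have hkB : D.zh k ∉ B := fun h => D.zh_ne_one k (hinf' _ hkA h)
      have hb1 := even_of_zh_not_mem D B k hkB b hb
      have hkj : k ≠ j := by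
        rintro rfl
        exact hjA hkA
      have hqk : (single2 ε i j (t i) (t j) hq).1 k = a.1 k * b.1 k := by rw [hab]; rfl
      have hqe : ε k ((single2 ε i j (t i) (t j) hq).1 k) = ε k (a.1 k) := by
        rw [hqk, map_mul, hb1, mul_one]
      rw [← hqe]
      by_cases hki : k = i
      · subst hki
        rw [if_pos rfl]
        show ε k (Pi.mulSingle k (t k) k * Pi.mulSingle j (t j) k) = -1
        rw [Pi.mulSingle_eq_same, Pi.mulSingle_eq_of_ne hkj, mul_one, ht]
      · rw [if_neg hki]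
        show ε k (Pi.mulSingle i (t i) k * Pi.mulSingle j (t j) k) = 1
        rw [Pi.mulSingle_eq_of_ne hki, Pi.mulSingle_eq_of_ne hkj, mul_one, map_one]
    · have hkA : D.zh k ∉ A := fun h => D.zh_ne_one k (hinf' _ h hkB)
      have ha1 := even_of_zh_not_mem D A k hkA a ha
      have hki : k ≠ i := by
        rintro rfl
        exact hkA hiA
      rw [if_neg hki]; exact ha1
  have hsa : piSign H ε a.1 = -1 := by
    rw [piSign_apply, Finset.prod_congr rfl (fun k _ => key k)]
    simp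
  have h1 := MonoidHom.mem_ker.mp a.2
  rw [hsa] at h1
  exact absurd h1.symm (units_ne_neg_self 1)

end Cfsg.Agent.Lib.Helper88.SylAlt
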