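import Mathlib

/-!
Trace (relative norm) argument: if a finite group `A` acts on a finite abelian group `Z` and `T ≤ A`
has index prime to `|Z|`, then `C_Z(A)` is a direct factor of `C_Z(T)`.
-/

set_option autoImplicit false

namespace Cfsg.Agent.Lib.Helper88

section trace

variable {A Z : Type*} [Group A] [CommGroup Z] (ρ : A →* Monoid.End Z)

/-- fixed points of a subgroup under an action by endomorphisms -/
def fixOf (B : Subgroup A) : Subgroup Z where
  carrier := {z | ∀ b ∈ B, ρ b z = z}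
  one_mem' := fun b _ => map_one (ρ b)
  mul_mem' := by
    intro x y hx hy b hb
    rw [map_mul, hx b hb, hy b hb]
  inv_mem' := by
    intro x hx b hb
    rw [map_inv, hx b hb]

theorem mem_fixOf (B : Subgroup A) (z : Z) : z ∈ fixOf ρ B ↔ ∀ b ∈ B, ρ b z = z := Iff.rfl

theorem fixOf_anti {B C : Subgroup A} (h : B ≤ C) : fixOf ρ C ≤ fixOf ρ B :=
  fun _ hz b hb => hz b (h hb)

theorem rho_mul_apply (a b : A) (z : Z) : ρ (a * b) z = ρ a (ρ b z) := by
  rw [map_mul]; rfl

variable [Finite A]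

/-- the trace from `T`-fixed points -/
noncomputable def traceMap (T : Subgroup A) : Z →* Z :=
  letI : Fintype (A ⧸ T) := Fintype.ofFinite _
  { toFun := fun z => ∏ q : A ⧸ T, ρ q.out z
    map_one' := by simp
    map_mul' := by intro x y; simp [Finset.prod_mul_distrib] }

theorem traceMap_apply (T : Subgroup A) (z : Z) :
    letI : Fintype (A ⧸ T) := Fintype.ofFinite _
    traceMap ρ T z = ∏ q : A ⧸ T, ρ q.out z := rfl

theorem rho_traceMap (T : Subgroup A) {z : Z} (hz : z ∈ fixOf ρ T) (b : A) :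
    ρ b (traceMap ρ T z) = traceMap ρ T z := by
  classical
  letI : Fintype (A ⧸ T) := Fintype.ofFinite _
  rw [traceMap_apply, map_prod]
  refine Fintype.prod_equiv (MulAction.toPerm b) _ _ (fun q => ?_)
  show ρ b (ρ q.out z) = ρ ((b • q : A ⧸ T)).out z
  have hq : (b • q : A ⧸ T) = QuotientGroup.mk (b * q.out) := by
    conv_lhs => rw [← QuotientGroup.out_eq' q]
    rfl
  obtain ⟨h, hh⟩ := QuotientGroup.mk_out_eq_mul T (b * q.out)
  rw [hq, hh, rho_mul_apply, rho_mul_apply, hz h h.2]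

theorem traceMap_mem_fixOf (T : Subgroup A) {z : Z} (hz : z ∈ fixOf ρ T) (B : Subgroup A) :
    traceMap ρ T z ∈ fixOf ρ B :=
  fun b _ => rho_traceMap ρ T hz b

theorem traceMap_of_mem_fixOf_top (T : Subgroup A) {z : Z} (hz : z ∈ fixOf ρ ⊤) :
    traceMap ρ T z = z ^ T.index := by
  classical
  letI : Fintype (A ⧸ T) := Fintype.ofFinite _
  rw [traceMap_apply]
  have : ∀ q : A ⧸ T, ρ q.out z = z := fun q => hz _ (Subgroup.mem_top _)
  simp only [this, Finset.prod_const, Finset.card_univ]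
  rw [Subgroup.index, Nat.card_eq_fintype_card]

/-- `C_Z(A)` is a direct factor of `C_Z(T)` when the index of `T` is prime to `|Z|`. -/
theorem trace_decomp (T : Subgroup A) (hcop : (T.index).Coprime (Nat.card Z)) :
    ∃ K : Subgroup Z, K ≤ fixOf ρ T ∧ fixOf ρ ⊤ ⊓ K = ⊥ ∧ fixOf ρ ⊤ ⊔ K = fixOf ρ T := by
  refine ⟨(traceMap ρ T).ker ⊓ fixOf ρ T, inf_le_right, ?_, ?_⟩
  · rw [eq_bot_iff]
    rintro z ⟨hz1, hz2, -⟩
    have h1 : z ^ T.index = 1 := by
      rw [← traceMap_of_mem_fixOf_top ρ T hz1]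
      exact hz2
    have h2 : z ^ Nat.card Z = 1 := pow_card_eq_one'
    have h3 : orderOf z ∣ Nat.gcd T.index (Nat.card Z) :=
      Nat.dvd_gcd (orderOf_dvd_of_pow_eq_one h1) (orderOf_dvd_of_pow_eq_one h2)
    rw [hcop] at h3
    exact orderOf_eq_one_iff.mp (Nat.dvd_one.mp h3)
  · apply le_antisymm
    · exact sup_le (fixOf_anti ρ le_top) inf_le_right
    · intro v hv
      have htr : traceMap ρ T v ∈ fixOf ρ ⊤ := traceMap_mem_fixOf ρ T hv ⊤
      -- w := the `index`-th root of the trace, a power of it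
      set w : Z := (powCoprime hcop.symm).symm (traceMap ρ T v) with hw
      have hwpow : w ^ T.index = traceMap ρ T v := (powCoprime hcop.symm).apply_symm_apply _
      have hwfix : w ∈ fixOf ρ ⊤ := by
        rw [hw]
        show (traceMap ρ T v) ^ ((Nat.card Z).gcdB T.index) ∈ fixOf ρ ⊤
        exact Subgroup.zpow_mem _ htr _
      have hker : v * w⁻¹ ∈ (traceMap ρ T).ker := by
        show traceMap ρ T (v * w⁻¹) = 1
        rw [map_mul, map_inv, traceMap_of_mem_fixOf_top ρ T hwfix, hwpow, mul_inv_cancel]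
      have hvw : v * w⁻¹ ∈ fixOf ρ T :=
        Subgroup.mul_mem _ hv (Subgroup.inv_mem _ (fixOf_anti ρ le_top hwfix))
      have : v = w * (v * w⁻¹) := by
        rw [mul_comm v, mul_inv_cancel_left]
      rw [this]
      exact Subgroup.mul_mem_sup hwfix ⟨hker, hvw⟩

end trace

end Cfsg.Agent.Lib.Helper88
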