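import Cfsg.Agent.Lib.Helper87.FusionFully
import Cfsg.Agent.Lib.Helper88.FusionNormalCR
import Cfsg.Agent.S5128

/-!
# The lattice lemma for weakly embedded subgroups (for S5271)

If every subgroup of order `p ^ k` of `S` is weakly embedded in `F`, then every interval `[A₀, B₀]` of a sublattice of
`S`-invariant subgroups containing the strongly closed ones, with `|A₀| ≤ p ^ k ≤ |B₀|`, has a member of order `p ^ k`.
-/

set_option autoImplicit false

namespace Cfsg.Agent.Lib.Helper88.WeakEmb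

open Cfsg Cfsg.FusionSystem Cfsg.Agent.Lib.Helper87

variable {Ω : Type*} [Group Ω] {S : Subgroup Ω}

/-- Dedekind's modular law, for `A` normalizing `B`. -/
theorem sup_inf_of_le_normalizer {A B C : Subgroup Ω} (hAC : A ≤ C)
    (hAB : A ≤ Subgroup.normalizer (B : Set Ω)) : (A ⊔ B) ⊓ C = A ⊔ (B ⊓ C) := by
  apply le_antisymm
  · rintro x ⟨hx1, hx2⟩
    have hx1' : x ∈ ((A ⊔ B : Subgroup Ω) : Set Ω) := hx1
    rw [Subgroup.coe_mul_of_left_le_normalizer_right A B hAB] at hx1'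
    obtain ⟨a, ha, b, hb, rfl⟩ := Set.mem_mul.1 hx1'
    have hbC : b ∈ C := by
      have e : b = a⁻¹ * (a * b) := by group
      rw [e]
      exact C.mul_mem (C.inv_mem (hAC ha)) hx2
    exact Subgroup.mul_mem _ (Subgroup.mem_sup_left ha) (Subgroup.mem_sup_right ⟨hb, hbC⟩)
  · exact le_inf (sup_le_sup_left inf_le_left _) (sup_le hAC inf_le_right)

/-- Between two subgroups of a finite `p`-group there are subgroups of every intermediate `p`-power order. -/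
theorem exists_between_card [Finite S] {p : ℕ} [Fact p.Prime] (hS : IsPGroup p S) {A B : Subgroup Ω}
    (hAB : A ≤ B) (hBS : B ≤ S) {k : ℕ} (hA : Nat.card A ≤ p ^ k) (hB : p ^ k ≤ Nat.card B) :
    ∃ Q : Subgroup Ω, A ≤ Q ∧ Q ≤ B ∧ Nat.card Q = p ^ k := by
  have hp : p.Prime := Fact.out
  haveI : Finite B := finite_of_le hBS
  have hBp : IsPGroup p B := hS.to_le hBS
  obtain ⟨m, hm⟩ := hBp.exists_card_eq
  have hAp : IsPGroup p (A.subgroupOf B) := hBp.to_subgroup _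
  obtain ⟨n, hn⟩ := hAp.exists_card_eq
  have hcardA : Nat.card (A.subgroupOf B) = Nat.card A :=
    Nat.card_congr (Subgroup.subgroupOfEquivOfLe hAB).toEquiv
  have hkm : k ≤ m := by
    rw [hm] at hB
    exact (Nat.pow_le_pow_iff_right hp.one_lt).1 hB
  have hnk : n ≤ k := by
    rw [← hcardA, hn] at hA
    exact (Nat.pow_le_pow_iff_right hp.one_lt).1 hA
  have hdvd : p ^ k ∣ Nat.card B := by rw [hm]; exact pow_dvd_pow p hkm
  obtain ⟨K, hK, hHK⟩ := Sylow.exists_subgroup_card_pow_prime_le p hdvd (A.subgroupOf B) hn hnk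
  refine ⟨K.map B.subtype, ?_, Subgroup.map_subtype_le K, ?_⟩
  · intro x hx
    exact ⟨⟨x, hAB hx⟩, hHK (Subgroup.mem_subgroupOf.2 hx), rfl⟩
  · rw [Subgroup.card_map_of_injective B.subtype_injective, hK]

/-- **The lattice lemma.** -/
theorem exists_card_eq_of_lattice [Finite S] {p : ℕ} [Fact p.Prime] (hS : IsPGroup p S) (F : FusionSystem S)
    (L : Subgroup Ω → Prop)
    (hLS : ∀ A, L A → A ≤ S) (hLn : ∀ A, L A → S ≤ Subgroup.normalizer (A : Set Ω))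
    (hsup : ∀ A B, L A → L B → L (A ⊔ B)) (hinf : ∀ A B, L A → L B → L (A ⊓ B))
    (hsc : ∀ P, F.StronglyClosed P → L P) (k : ℕ)
    (hi : ∀ Q : Subgroup Ω, Q ≤ S → Nat.card Q = p ^ k →
      ∃ P : Subgroup Ω, F.StronglyClosed P ∧ F.StronglyClosed (Q ⊔ P) ∧ F.StronglyClosed (Q ⊓ P))
    (A₀ B₀ : Subgroup Ω) (hA₀ : L A₀) (hB₀ : L B₀) (hAB : A₀ ≤ B₀) (hA₀d : Nat.card A₀ ≤ p ^ k)
    (hB₀d : p ^ k ≤ Nat.card B₀) :
    ∃ A, L A ∧ A₀ ≤ A ∧ A ≤ B₀ ∧ Nat.card A = p ^ k := by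
  classical
  have hB₀S := hLS _ hB₀
  haveI : Finite B₀ := finite_of_le hB₀S
  -- a member `A` of the interval of largest order at most `p ^ k`
  let T : Set ℕ := {n | ∃ A, L A ∧ A₀ ≤ A ∧ A ≤ B₀ ∧ Nat.card A ≤ p ^ k ∧ Nat.card A = n}
  have hTne : T.Nonempty := ⟨Nat.card A₀, A₀, hA₀, le_rfl, hAB, hA₀d, rfl⟩
  have hTbdd : BddAbove T := ⟨p ^ k, by rintro n ⟨A, -, -, -, h, rfl⟩; exact h⟩
  obtain ⟨A, hA, hA₀A, hAB₀, hAd, hAcard⟩ := Nat.sSup_mem hTne hTbdd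
  have hAmax : ∀ A', L A' → A₀ ≤ A' → A' ≤ B₀ → Nat.card A' ≤ p ^ k → Nat.card A' ≤ Nat.card A := by
    intro A' h1 h2 h3 h4
    rw [hAcard]
    exact le_csSup hTbdd ⟨A', h1, h2, h3, h4, rfl⟩
  by_cases hAeq : Nat.card A = p ^ k
  · exact ⟨A, hA, hA₀A, hAB₀, hAeq⟩
  exfalso
  have hAlt : Nat.card A < p ^ k := lt_of_le_of_ne hAd hAeq
  have hAS : A ≤ S := hLS _ hA
  haveI : Finite A := finite_of_le hAS
  -- a member `B` of smallest order above `A`
  let T' : Set ℕ := {n | ∃ B, L B ∧ A < B ∧ B ≤ B₀ ∧ Nat.card B = n}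
  have hAneB₀ : A ≠ B₀ := by
    intro h
    rw [h] at hAlt
    omega
  have hT'ne : T'.Nonempty := ⟨Nat.card B₀, B₀, hB₀, lt_of_le_of_ne hAB₀ hAneB₀, le_rfl, rfl⟩
  obtain ⟨B, hB, hAltB, hBB₀, hBcard⟩ := Nat.sInf_mem hT'ne
  have hBmin : ∀ B', L B' → A < B' → B' ≤ B₀ → Nat.card B ≤ Nat.card B' := by
    intro B' h1 h2 h3
    rw [hBcard]
    exact Nat.sInf_le ⟨B', h1, h2, h3, rfl⟩
  have hBS := hLS _ hB
  haveI : Finite B := finite_of_le hBS
  have hBgt : p ^ k < Nat.card B := by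
    by_contra hcon
    push Not at hcon
    have h1 := hAmax B hB (hA₀A.trans hAltB.le) hBB₀ hcon
    have h2 : A = B := Subgroup.eq_of_le_of_card_ge hAltB.le h1
    exact hAltB.ne h2
  obtain ⟨Q, hAQ, hQB, hQcard⟩ := exists_between_card hS hAltB.le hBS hAlt.le hBgt.le
  have hQS : Q ≤ S := hQB.trans hBS
  haveI : Finite Q := finite_of_le hQS
  obtain ⟨P, hP, hQP, hQiP⟩ := hi Q hQS hQcard
  have hLP := hsc P hP
  -- Claim 1
  have hc1 : Q ⊓ P ≤ A := by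
    have hL1 : L ((Q ⊓ P) ⊔ A) := hsup _ _ (hsc _ hQiP) hA
    have hle : (Q ⊓ P) ⊔ A ≤ Q := sup_le inf_le_left hAQ
    have h1 := hAmax _ hL1 (hA₀A.trans le_sup_right) (hle.trans (hQB.trans hBB₀))
      (by rw [← hQcard]; exact Subgroup.card_le_of_le hle)
    haveI : Finite ((Q ⊓ P) ⊔ A : Subgroup Ω) := finite_of_le (hle.trans hQS)
    have h2 : A = (Q ⊓ P) ⊔ A := Subgroup.eq_of_le_of_card_ge le_sup_right h1
    exact le_sup_left.trans h2.ge
  -- Claim 2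
  have hc2 : B ≤ Q ⊔ P := by
    have hL2 : L ((Q ⊔ P) ⊓ B) := hinf _ _ (hsc _ hQP) hB
    have hQle : Q ≤ (Q ⊔ P) ⊓ B := le_inf le_sup_left hQB
    have hlt : A < (Q ⊔ P) ⊓ B := by
      refine lt_of_le_of_ne (hAQ.trans hQle) ?_
      intro h
      have hQA : Q ≤ A := by rw [h]; exact hQle
      have := Subgroup.card_le_of_le hQA
      omega
    have h1 := hBmin _ hL2 hlt (inf_le_right.trans hBB₀)
    have h2 : (Q ⊔ P) ⊓ B = B := Subgroup.eq_of_le_of_card_ge inf_le_right h1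
    exact h2.ge.trans inf_le_left
  have hLX : L (P ⊓ B) := hinf _ _ hLP hB
  -- Dedekind: `B = Q ⊔ (P ⊓ B)`
  have hd1 : B = Q ⊔ (P ⊓ B) := by
    have h := sup_inf_of_le_normalizer (A := Q) (B := P) (C := B) hQB (hQS.trans (hLn _ hLP))
    rw [inf_eq_right.2 hc2] at h
    exact h
  -- Claim 3
  have hc3 : A ⊔ (P ⊓ B) = B := by
    have hL3 : L (A ⊔ (P ⊓ B)) := hsup _ _ hA hLX
    have hle : A ⊔ (P ⊓ B) ≤ B := sup_le hAltB.le inf_le_right
    have hlt : A < A ⊔ (P ⊓ B) := by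
      refine lt_of_le_of_ne le_sup_left ?_
      intro h
      have hXA : P ⊓ B ≤ A := by rw [h]; exact le_sup_right
      have hBQ : Q ⊔ (P ⊓ B) = Q := sup_eq_left.2 (hXA.trans hAQ)
      have hBQ' : B = Q := hd1.trans hBQ
      have : Nat.card B = Nat.card Q := by rw [← hBQ']
      omega
    have h1 := hBmin _ hL3 hlt (hle.trans hBB₀)
    exact Subgroup.eq_of_le_of_card_ge hle h1
  -- the end
  have hc4 : (P ⊓ B) ⊓ Q ≤ A := by
    refine le_trans ?_ hc1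
    exact le_inf inf_le_right (inf_le_left.trans inf_le_left)
  have hd2 : (A ⊔ (P ⊓ B)) ⊓ Q = A ⊔ ((P ⊓ B) ⊓ Q) :=
    sup_inf_of_le_normalizer hAQ (hAS.trans (hLn _ hLX))
  have hQA : Q = A := by
    have h1 : (A ⊔ (P ⊓ B)) ⊓ Q = Q := by rw [hc3]; exact inf_eq_right.2 hQB
    have h2 : A ⊔ ((P ⊓ B) ⊓ Q) = A := sup_eq_left.2 hc4
    calc Q = (A ⊔ (P ⊓ B)) ⊓ Q := h1.symm
      _ = A ⊔ ((P ⊓ B) ⊓ Q) := hd2
      _ = A := h2
  have : Nat.card Q = Nat.card A := by rw [hQA]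
  omega

/-! ### The lattice of strongly closed subgroups -/

theorem stronglyClosed_inf (F : FusionSystem S) {A B : Subgroup Ω} (hA : F.StronglyClosed A)
    (hB : F.StronglyClosed B) : F.StronglyClosed (A ⊓ B) :=
  ⟨inf_le_left.trans hA.1, fun R hR φ hφ x =>
    ⟨hA.2 R (hR.trans inf_le_left) φ hφ x, hB.2 R (hR.trans inf_le_right) φ hφ x⟩⟩

theorem stronglyClosed_bot (F : FusionSystem S) : F.StronglyClosed (⊥ : Subgroup Ω) := by
  refine ⟨bot_le, fun R hR φ _ x => ?_⟩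
  have hx : (x : Ω) = 1 := Subgroup.mem_bot.1 (hR x.2)
  have hx' : x = 1 := Subtype.ext hx
  rw [hx', map_one]
  exact Subgroup.one_mem _

theorem stronglyClosed_self (F : FusionSystem S) : F.StronglyClosed S :=
  ⟨le_rfl, fun _ _ _ hφ x => (F.le_of_mem hφ).2 x⟩

theorem le_normalizer_of_stronglyClosed (F : FusionSystem S) {A : Subgroup Ω} (hA : F.StronglyClosed A) :
    S ≤ Subgroup.normalizer (A : Set Ω) := by
  have h := Cfsg.Agent.Lib.Helper88.NormalCR.normalizerIn_eq_of_stronglyClosed F hA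
  intro g hg
  have : g ∈ normalizerIn S A := by rw [h]; exact hg
  exact this.2

/-- The lattice lemma for strongly closed subgroups. -/
theorem exists_stronglyClosed_card_eq [Finite S] {p : ℕ} [Fact p.Prime] (hS : IsPGroup p S) (F : FusionSystem S)
    (hF : F.IsSaturated p) (k : ℕ)
    (hi : ∀ Q : Subgroup Ω, Q ≤ S → Nat.card Q = p ^ k →
      ∃ P : Subgroup Ω, F.StronglyClosed P ∧ F.StronglyClosed (Q ⊔ P) ∧ F.StronglyClosed (Q ⊓ P))
    (A₀ B₀ : Subgroup Ω) (hA₀ : F.StronglyClosed A₀) (hB₀ : F.StronglyClosed B₀) (hAB : A₀ ≤ B₀)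
    (hA₀d : Nat.card A₀ ≤ p ^ k) (hB₀d : p ^ k ≤ Nat.card B₀) :
    ∃ A, F.StronglyClosed A ∧ A₀ ≤ A ∧ A ≤ B₀ ∧ Nat.card A = p ^ k :=
  exists_card_eq_of_lattice hS F F.StronglyClosed (fun _ h => h.1) (fun _ h => le_normalizer_of_stronglyClosed F h)
    (fun A B hA hB => Cfsg.Agent.S5128.result p hS F hF A B hA hB) (fun _ _ hA hB => stronglyClosed_inf F hA hB)
    (fun _ h => h) k hi A₀ B₀ hA₀ hB₀ hAB hA₀d hB₀d

end Cfsg.Agent.Lib.Helper88.WeakEmb
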