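import Mathlib
import Cfsg.Agent.Lib.Helper1.PGroupMax

/-!
# A lemma on finite `p`-groups used for S5271

`le_center_or_le_frattini`: a nontrivial normal subgroup `N` of a finite `p`-group `T` such that every
subgroup of a fixed order `n` (`|N| ≤ n < |T|`) contains `N` or meets it trivially is central or lies in
the Frattini subgroup.
-/

set_option autoImplicit false

namespace Cfsg.Agent.Lib.Helper88.WeakEmb

/-- a nontrivial normal subgroup of a finite `p`-group contains a central element of order `p` -/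
theorem exists_central_orderOf_eq {T : Type*} [Group T] [Finite T] {p : ℕ} [Fact p.Prime]
    (hT : IsPGroup p T) (N : Subgroup T) [N.Normal] (hN : N ≠ ⊥) :
    ∃ z ∈ N, orderOf z = p ∧ ∀ g : T, g * z = z * g := by
  have hp : p.Prime := Fact.out
  have hfix := (hT.of_equiv ConjAct.toConjAct).exists_fixed_point_of_prime_dvd_card_of_fixed_point N
  have hNp : IsPGroup p N := hT.to_subgroup N
  have hnt : Nontrivial N := (Subgroup.nontrivial_iff_ne_bot N).mpr hN
  have dvd : p ∣ Nat.card N := by
    obtain ⟨n, hn0, hn⟩ := hNp.nontrivial_iff_card.mp hnt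
    exact hn.symm ▸ dvd_pow_self _ (ne_of_gt hn0)
  have h1 : (1 : N) ∈ MulAction.fixedPoints (ConjAct T) N := by
    intro g
    exact smul_one g
  obtain ⟨b, hb, hb1⟩ := hfix dvd h1
  have hbc : ∀ g : T, g * (b : T) = b * g := by
    intro g
    have := hb (ConjAct.toConjAct g)
    have h2 : g * (b : T) * g⁻¹ = b := congrArg Subtype.val this
    calc g * b = (g * b * g⁻¹) * g := by group
      _ = b * g := by rw [h2]
  have hb1' : (b : T) ≠ 1 := fun h => hb1 (Subtype.ext h.symm)
  obtain ⟨k, hk⟩ := hT (b : T)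
  have hk' : orderOf (b : T) ∣ p ^ k := orderOf_dvd_of_pow_eq_one hk
  obtain ⟨j, hjk, hj⟩ := (Nat.dvd_prime_pow hp).1 hk'
  have hj0 : j ≠ 0 := by
    intro h0
    rw [h0, pow_zero, orderOf_eq_one_iff] at hj
    exact hb1' hj
  obtain ⟨i, rfl⟩ := Nat.exists_eq_succ_of_ne_zero hj0
  refine ⟨(b : T) ^ p ^ i, N.pow_mem b.2 _, ?_, ?_⟩
  · have hdvd : p ^ i ∣ orderOf (b : T) := by
      rw [hj, pow_succ]
      exact dvd_mul_right _ _
    rw [orderOf_pow_of_dvd (pow_ne_zero _ hp.ne_zero) hdvd, hj, pow_succ]
    exact Nat.mul_div_cancel_left _ (pow_pos hp.pos _)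
  · intro g
    exact ((Commute.pow_right (show Commute g (b : T) from hbc g) _)).eq

/-- **Lemma P.** -/
theorem le_center_or_le_frattini {T : Type*} [Group T] [Finite T] {p : ℕ} [Fact p.Prime]
    (hT : IsPGroup p T) (N : Subgroup T) [N.Normal] (hN : N ≠ ⊥) (n : ℕ) (hn : ∃ k : ℕ, n = p ^ k)
    (hNn : Nat.card N ≤ n) (hnT : n < Nat.card T)
    (hstar : ∀ Q : Subgroup T, Nat.card Q = n → N ≤ Q ∨ Q ⊓ N = ⊥) :
    N ≤ Subgroup.center T ∨ N ≤ frattini T := by
  have hp : p.Prime := Fact.out
  obtain ⟨z, hzN, hzo, hzc⟩ := exists_central_orderOf_eq hT N hN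
  have hz1 : z ≠ 1 := by
    intro h
    rw [h, orderOf_one] at hzo
    exact hp.one_lt.ne hzo
  set Z := Subgroup.zpowers z with hZ
  have hZcard : Nat.card Z = p := by rw [Nat.card_zpowers, hzo]
  have hZN : Z ≤ N := by rw [hZ, Subgroup.zpowers_le]; exact hzN
  have hZcen : Z ≤ Subgroup.center T := by
    rw [hZ, Subgroup.zpowers_le, Subgroup.mem_center_iff]
    exact hzc
  haveI hZn : Z.Normal := by
    refine ⟨fun a ha g => ?_⟩
    have := (Subgroup.mem_center_iff.1 (hZcen ha)) g
    have h2 : g * a * g⁻¹ = a := by rw [this]; group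
    rw [h2]; exact ha
  obtain ⟨k, rfl⟩ := hn
  obtain ⟨j, hj⟩ := (hT.to_subgroup N).exists_card_eq
  by_cases hNp : Nat.card N = p
  · left
    have : Z = N := Subgroup.eq_of_le_of_card_ge hZN (by rw [hZcard, hNp])
    rw [← this]
    exact hZcen
  · right
    -- `p ^ 2 ≤ |N|`
    have hj2 : 2 ≤ j := by
      rcases j with _ | _ | j
      · exfalso
        rw [pow_zero] at hj
        exact hN ((Subgroup.card_eq_one).1 hj)
      · exfalso
        exact hNp (by rw [hj, pow_one])
      · omega
    have hk2 : 2 ≤ k := by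
      have : p ^ j ≤ p ^ k := hj ▸ hNn
      have := (Nat.pow_le_pow_iff_right hp.one_lt).1 this
      omega
    -- every subgroup of order `p ^ k` contains `N`
    have key : ∀ Q : Subgroup T, Nat.card Q = p ^ k → N ≤ Q := by
      intro Q hQ
      rcases hstar Q hQ with h | h
      · exact h
      exfalso
      -- a subgroup `Y` of index `p` in `Q`
      obtain ⟨Y', hY'⟩ := Sylow.exists_subgroup_card_pow_prime (G := Q) p
        (show p ^ (k - 1) ∣ Nat.card Q by rw [hQ]; exact pow_dvd_pow _ (Nat.sub_le _ _))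
      set Y := Y'.map Q.subtype with hY
      have hYQ : Y ≤ Q := Subgroup.map_subtype_le Y'
      have hYcard : Nat.card Y = p ^ (k - 1) := by
        rw [hY, Subgroup.card_map_of_injective Q.subtype_injective, hY']
      have hYZ : Y ⊓ Z = ⊥ := by
        rw [eq_bot_iff, ← h]
        exact inf_le_inf hYQ hZN
      set Q₂ := Y ⊔ Z with hQ₂
      have hrel : Z.relIndex Q₂ = Nat.card Y := by
        rw [hQ₂, Subgroup.relIndex_sup_right, ← Subgroup.inf_relIndex_left, hYZ,
          Subgroup.relIndex_bot_left]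
      have hQ₂card : Nat.card Q₂ = p ^ k := by
        have h1 := Subgroup.relIndex_mul_relIndex (⊥ : Subgroup T) Z Q₂ bot_le le_sup_right
        rw [Subgroup.relIndex_bot_left, Subgroup.relIndex_bot_left, hrel, hZcard, hYcard] at h1
        rw [← h1, ← pow_succ']
        congr 1
        omega
      have hNQ₂ : N ≤ Q₂ := by
        rcases hstar Q₂ hQ₂card with h' | h'
        · exact h'
        · exfalso
          have : z ∈ Q₂ ⊓ N := ⟨(le_sup_right : Z ≤ Q₂) (Subgroup.mem_zpowers z), hzN⟩
          rw [h', Subgroup.mem_bot] at this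
          exact hz1 this
      have hYN : Y ⊓ N = ⊥ := by
        rw [eq_bot_iff, ← h]
        exact inf_le_inf hYQ le_rfl
      have h2 : Y.relIndex N = Nat.card N := by
        rw [← Subgroup.inf_relIndex_right, hYN, Subgroup.relIndex_bot_left]
      have h3 : Y.relIndex Q₂ = p := by
        have h1 := Subgroup.relIndex_mul_relIndex (⊥ : Subgroup T) Y Q₂ bot_le le_sup_left
        rw [Subgroup.relIndex_bot_left, Subgroup.relIndex_bot_left, hQ₂card, hYcard] at h1
        have hk1 : p ^ k = p ^ (k - 1) * p := by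
          rw [← pow_succ]; congr 1; omega
        rw [hk1] at h1
        exact Nat.eq_of_mul_eq_mul_left (pow_pos hp.pos _) h1
      have h4 : Y.relIndex N ≤ Y.relIndex Q₂ :=
        Subgroup.relIndex_le_of_le_right hNQ₂ (by rw [h3]; exact hp.ne_zero)
      rw [h2, h3, hj] at h4
      have : p ^ 2 ≤ p ^ j := Nat.pow_le_pow_right hp.pos hj2
      have : p < p ^ 2 := by
        have := hp.one_lt
        nlinarith
      omega
    -- every maximal subgroup contains a subgroup of order `p ^ k`
    unfold frattini Order.radical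
    refine le_iInf₂ (fun M hM => ?_)
    obtain ⟨m, hm⟩ := hT.exists_card_eq
    have hMlt : Nat.card M < Nat.card T := by
      have hne : M ≠ ⊤ := hM.1
      by_contra hcon
      push Not at hcon
      exact hne (Subgroup.card_eq_iff_eq_top M |>.1 (le_antisymm (Subgroup.card_le_card_group M) hcon))
    obtain ⟨i, hi⟩ := (hT.to_subgroup M).exists_card_eq
    have hMidx : M.index = p := Cfsg.Agent.Lib.Helper1.coatom_index_of_isPGroup hT hM
    -- `|M| = p ^ (m - 1) ≥ p ^ k`
    have hcm := Subgroup.card_mul_index M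
    rw [hMidx, hm, hi] at hcm
    have hkm : k < m := by
      rw [hm] at hnT
      exact (Nat.pow_lt_pow_iff_right hp.one_lt).1 hnT
    have him : i + 1 = m := by
      rw [← pow_succ] at hcm
      exact Nat.pow_right_injective hp.two_le hcm
    obtain ⟨Q', hQ'⟩ := Sylow.exists_subgroup_card_pow_prime (G := M) p
      (show p ^ k ∣ Nat.card M by rw [hi]; exact pow_dvd_pow _ (by omega))
    have hQcard : Nat.card (Q'.map M.subtype) = p ^ k := by
      rw [Subgroup.card_map_of_injective M.subtype_injective, hQ']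
    exact (key _ hQcard).trans (Subgroup.map_subtype_le Q')

end Cfsg.Agent.Lib.Helper88.WeakEmb
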