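import Cfsg.Agent.Lib.Helper87.FusionFully
import Cfsg.Agent.S5124

/-!
# Central hyperfocal subgroup (for S5271)

`hyperfocal_eq_bot_of_le_centralizer`: if `Aut_F(S) = Inn(S)` and the hyperfocal subgroup of the saturated system `F`
is central in `S`, then it is trivial.
-/

set_option autoImplicit false

namespace Cfsg.Agent.Lib.Helper88.WeakEmb

open Cfsg Cfsg.FusionSystem Cfsg.Agent.Lib.Helper87

variable {Ω : Type*} [Group Ω] {S : Subgroup Ω}

/-- A central subgroup of `S` is fully normalized. -/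
theorem isFullyNormalized_of_le_centralizer [Finite S] (F : FusionSystem S) {R : Subgroup Ω} (hRS : R ≤ S)
    (hR : R ≤ Subgroup.centralizer (S : Set Ω)) : F.IsFullyNormalized R := by
  refine ⟨hRS, fun Q _ => ?_⟩
  have h1 : normalizerIn S R = S := by
    apply le_antisymm inf_le_left
    intro g hg
    refine ⟨hg, ?_⟩
    show g ∈ Subgroup.normalizer (R : Set Ω)
    rw [Subgroup.mem_normalizer_iff]
    intro x
    constructor
    · intro hx
      have := Subgroup.mem_centralizer_iff.1 (hR hx) g hg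
      have h2 : g * x * g⁻¹ = x := by rw [this]; group
      rw [h2]; exact hx
    · intro hx
      have hx' : g⁻¹ * (g * x * g⁻¹) * g ∈ R := by
        have := Subgroup.mem_centralizer_iff.1 (hR hx) g⁻¹ (S.inv_mem hg)
        have h2 : g⁻¹ * (g * x * g⁻¹) * g = g * x * g⁻¹ := by
          calc g⁻¹ * (g * x * g⁻¹) * g = (g⁻¹ * (g * x * g⁻¹)) * g⁻¹⁻¹ := by rw [inv_inv]
            _ = ((g * x * g⁻¹) * g⁻¹) * g⁻¹⁻¹ := by rw [this]
            _ = g * x * g⁻¹ := by group
        rw [h2]; exact hx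
      have h3 : g⁻¹ * (g * x * g⁻¹) * g = x := by group
      rw [h3] at hx'; exact hx'
  rw [h1]
  haveI : Finite (normalizerIn S Q) := finite_of_le (inf_le_left : normalizerIn S Q ≤ S)
  exact Nat.card_le_card_of_injective (Subgroup.inclusion (inf_le_left : normalizerIn S Q ≤ S))
    (Subgroup.inclusion_injective _)

/-- If `Aut_F(S) = Inn(S)`, every map of the saturated system `F` between central subgroups of `S`, viewed on a central
subgroup which it maps onto itself, is the identity. -/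
theorem apply_eq_of_le_centralizer [Finite S] {p : ℕ} [Fact p.Prime] (hS : IsPGroup p S) (F : FusionSystem S)
    (hF : F.IsSaturated p)
    (hAut : ∀ ν : S →* Ω, ν ∈ F.Hom S → ∃ g ∈ S, ∀ x : S, ν x = g * (x : Ω) * g⁻¹)
    {R : Subgroup Ω} (hRS : R ≤ S) (hR : R ≤ Subgroup.centralizer (S : Set Ω)) {φ : R →* Ω} (hφ : φ ∈ F.Hom R)
    (hrange : φ.range = R) (y : R) : φ y = y := by
  have hfn := isFullyNormalized_of_le_centralizer F hRS hR
  obtain ⟨-, hrec⟩ := fullyAutomized_receptive_of_fullyNormalized F hS hF hfn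
  obtain ⟨ψ, hψ, hψφ⟩ := hrec.2 R φ hφ hrange
  have hSe : S ≤ extender S R φ := by
    intro g hg
    apply Subgroup.subset_closure
    refine ⟨hg, ?_, 1, S.one_mem, ?_⟩
    · rw [Subgroup.mem_normalizer_iff]
      intro x
      constructor
      · intro hx
        have := Subgroup.mem_centralizer_iff.1 (hR hx) g hg
        have h2 : g * x * g⁻¹ = x := by rw [this]; group
        rw [h2]; exact hx
      · intro hx
        have := Subgroup.mem_centralizer_iff.1 (hR hx) g⁻¹ (S.inv_mem hg)
        have h2 : g⁻¹ * (g * x * g⁻¹) * g = g * x * g⁻¹ := by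
          calc g⁻¹ * (g * x * g⁻¹) * g = (g⁻¹ * (g * x * g⁻¹)) * g⁻¹⁻¹ := by rw [inv_inv]
            _ = ((g * x * g⁻¹) * g⁻¹) * g⁻¹⁻¹ := by rw [this]
            _ = g * x * g⁻¹ := by group
        have h3 : g⁻¹ * (g * x * g⁻¹) * g = x := by group
        rw [← h3, h2]; exact hx
    · intro x hx
      have := Subgroup.mem_centralizer_iff.1 (hR x.2) g hg
      have h2 : g * (x : Ω) * g⁻¹ = x := by rw [this]; group
      have h3 : (⟨g * (x : Ω) * g⁻¹, hx⟩ : R) = x := Subtype.ext h2
      rw [h3]; group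
  have hψS := restrict_mem F hψ hSe
  obtain ⟨g, hg, hgx⟩ := hAut _ hψS
  have hyS : (y : Ω) ∈ S := hRS y.2
  have h1 := hgx ⟨y, hyS⟩
  have h2 : (ψ.comp (Subgroup.inclusion hSe)) ⟨y, hyS⟩ = φ y := hψφ (y : Ω) y.2 (hSe hyS)
  rw [h2] at h1
  rw [h1]
  have := Subgroup.mem_centralizer_iff.1 (hR y.2) g hg
  show g * (y : Ω) * g⁻¹ = y
  rw [this]; group

/-- **Lemma Z.** -/
theorem hyperfocal_eq_bot_of_le_centralizer [Finite S] {p : ℕ} [Fact p.Prime] (hS : IsPGroup p S)
    (F : FusionSystem S) (hF : F.IsSaturated p)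
    (hAut : ∀ ν : S →* Ω, ν ∈ F.Hom S → ∃ g ∈ S, ∀ x : S, ν x = g * (x : Ω) * g⁻¹)
    (hcen : F.hyperfocalSubgroup p ≤ Subgroup.centralizer (S : Set Ω)) :
    F.hyperfocalSubgroup p = ⊥ := by
  have hp : p.Prime := Fact.out
  have hW := Cfsg.Agent.S5124.result p hS F hF
  set W := F.hyperfocalSubgroup p with hWdef
  rw [eq_bot_iff]
  have key : ∀ (P : Subgroup Ω), P ≤ S → ∀ β : F.autGroup P, (orderOf β).Coprime p → β = 1 := by
    intro P hPS β hβ
    haveI : Finite P := finite_of_le hPS
    have hmem : ∀ x : P, (x : Ω)⁻¹ * ((β : MulAut P) x : P) ∈ W := by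
      intro x
      apply Subgroup.subset_closure
      exact ⟨P, β, x, hPS, Subgroup.subset_closure hβ, rfl⟩
    have hβF : IsIso F ((β : MulAut P) : P ≃* P) := (mem_autGroup_iff F hPS).1 β.2
    -- `β` fixes the elements of `P ⊓ W`
    set R := P ⊓ W with hRdef
    have hRP : R ≤ P := inf_le_left
    have hRS : R ≤ S := hRP.trans hPS
    have hRc : R ≤ Subgroup.centralizer (S : Set Ω) := inf_le_right.trans hcen
    have hβR : ∀ y : P, (y : Ω) ∈ R → (((β : MulAut P) y : P) : Ω) ∈ R := by
      intro y hy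
      refine ⟨((β : MulAut P) y).2, ?_⟩
      exact hW.2 R inf_le_right _ (restrict_mem F hβF hRP) ⟨y, hy⟩
    have hβinvR : ∀ y : P, (y : Ω) ∈ R → ((((β : MulAut P)⁻¹) y : P) : Ω) ∈ R := by
      intro y hy
      have hinv : IsIso F (((β : MulAut P)⁻¹ : MulAut P) : P ≃* P) :=
        (mem_autGroup_iff F hPS).1 ((F.autGroup P).inv_mem β.2)
      refine ⟨(((β : MulAut P)⁻¹) y).2, ?_⟩
      exact hW.2 R inf_le_right _ (restrict_mem F hinv hRP) ⟨y, hy⟩
    have hfix : ∀ y : P, (y : Ω) ∈ R → (β : MulAut P) y = y := by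
      intro y hy
      let φ : R →* Ω := (P.subtype.comp ((β : MulAut P) : P ≃* P).toMonoidHom).comp (Subgroup.inclusion hRP)
      have hφ : φ ∈ F.Hom R := restrict_mem F hβF hRP
      have hrange : φ.range = R := by
        apply le_antisymm
        · rintro _ ⟨z, rfl⟩
          exact hβR ⟨z, hRP z.2⟩ z.2
        · intro z hz
          have hzP : z ∈ P := hRP hz
          refine ⟨⟨(((β : MulAut P)⁻¹) ⟨z, hzP⟩ : P), hβinvR ⟨z, hzP⟩ hz⟩, ?_⟩
          show (((β : MulAut P) (((β : MulAut P)⁻¹) ⟨z, hzP⟩) : P) : Ω) = z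
          rw [MulAut.apply_inv_self]
      have := apply_eq_of_le_centralizer hS F hF hAut hRS hRc hφ hrange ⟨y, hy⟩
      exact Subtype.ext this
    -- hence `β ^ k x = x * w ^ k`
    apply Subtype.ext
    apply MulEquiv.ext
    intro x
    set b : MulAut P := (β : MulAut P) with hb
    set w : P := x⁻¹ * b x with hw
    have hwR : (w : Ω) ∈ R := ⟨w.2, by simpa [hw] using hmem x⟩
    have hbw : b w = w := hfix w hwR
    have hpow : ∀ k : ℕ, (b ^ k) x = x * w ^ k := by
      intro k
      induction k with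
      | zero => simp
      | succ k ih =>
        have hbx : b x = x * w := by rw [hw]; group
        rw [pow_succ', MulAut.mul_apply, ih, map_mul, map_pow, hbw, hbx, pow_succ', mul_assoc]
    have hord : b ^ orderOf β = 1 := by
      have : orderOf b = orderOf β := Subgroup.orderOf_coe β
      rw [← this]; exact pow_orderOf_eq_one b
    have h1 := hpow (orderOf β)
    rw [hord, MulAut.one_apply] at h1
    have hwk : w ^ orderOf β = 1 := by
      have : x * w ^ orderOf β = x * 1 := by rw [mul_one]; exact h1.symm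
      exact mul_left_cancel this
    have hwp : ∃ a : ℕ, w ^ p ^ a = 1 := by
      obtain ⟨a, ha⟩ := hS ⟨(w : Ω), hPS w.2⟩
      refine ⟨a, ?_⟩
      apply Subtype.ext
      have := congrArg Subtype.val ha
      simpa using this
    obtain ⟨a, ha⟩ := hwp
    have hw1 : w = 1 := by
      have h2 : orderOf w ∣ orderOf β := orderOf_dvd_of_pow_eq_one hwk
      have h3 : orderOf w ∣ p ^ a := orderOf_dvd_of_pow_eq_one ha
      have h4 : (orderOf w).Coprime (p ^ a) := (hβ.coprime_dvd_left h2).pow_right a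
      have := Nat.Coprime.eq_one_of_dvd h4 h3
      exact orderOf_eq_one_iff.1 this
    show b x = (1 : MulAut P) x
    rw [MulAut.one_apply]
    have : x⁻¹ * b x = 1 := hw1
    calc b x = x * (x⁻¹ * b x) := by group
      _ = x := by rw [this, mul_one]
  show W ≤ ⊥
  rw [hWdef]
  unfold FusionSystem.hyperfocalSubgroup
  rw [Subgroup.closure_le]
  rintro y ⟨P, α, x, hPS, hα, rfl⟩
  have hres : pResidual p (F.autGroup P) = ⊥ := by
    rw [eq_bot_iff]
    unfold pResidual
    rw [Subgroup.closure_le]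
    intro β hβ
    exact Subgroup.mem_bot.2 (key P hPS β hβ)
  rw [hres, Subgroup.mem_bot] at hα
  rw [hα]
  simp

end Cfsg.Agent.Lib.Helper88.WeakEmb
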