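import Cfsg.Agent.Lib.Helper88.WeakEmbL
import Cfsg.Agent.Lib.Helper88.WeakEmbP
import Cfsg.Agent.Lib.Helper88.WeakEmbZ
import Cfsg.Agent.Lib.Helper87.FusionLift
import Cfsg.Agent.Lib.Helper87.FusionNormalizer
import Cfsg.Agent.Lib.Helper85.FusionInnerCrit
import Cfsg.Agent.Lib.Helper85.FusionQuotSat
import Cfsg.Agent.S5256
import Cfsg.Agent.S5092

/-!
# Weakly embedded subgroups of one order with inner normalizers (for S5271)
-/

set_option autoImplicit false

namespace Cfsg.Agent.Lib.Helper88.WeakEmb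

open Cfsg Cfsg.FusionSystem Cfsg.Agent.Lib.Helper87

variable {Ω : Type*} [Group Ω] {S : Subgroup Ω}

/-- A subgroup normalized by `S` is fully normalized. -/
theorem isFullyNormalized_of_le_normalizer [Finite S] (F : FusionSystem S) {A : Subgroup Ω} (hAS : A ≤ S)
    (hAn : S ≤ Subgroup.normalizer (A : Set Ω)) : F.IsFullyNormalized A := by
  refine ⟨hAS, fun Q _ => ?_⟩
  have h1 : normalizerIn S A = S := inf_eq_left.2 hAn
  rw [h1]
  exact Subgroup.card_le_of_le (inf_le_left : normalizerIn S Q ≤ S)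

/-- If `H` is normalized by `S` and every normalizer system of `H` is inner, then every map of `F` defined on an overgroup of
`H` and mapping `H` into itself is conjugation by an element of `S`. -/
theorem exists_conj_of_normalizer_inner [Finite S] (F : FusionSystem S) {H : Subgroup Ω} (hHS : H ≤ S)
    (hHn : S ≤ Subgroup.normalizer (H : Set Ω))
    (hN : ∀ N : FusionSystem (normalizerIn S H), F.IsNormalizerSystem H N →
      ∀ P : Subgroup Ω, N.Hom P = (innerFusionSystem (normalizerIn S H)).Hom P)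
    {R : Subgroup Ω} (hHR : H ≤ R) {ψ : R →* Ω} (hψ : ψ ∈ F.Hom R)
    (hψH : ∀ x : R, (x : Ω) ∈ H → ψ x ∈ H) : ∃ g ∈ S, ∀ x : R, ψ x = g * (x : Ω) * g⁻¹ := by
  have hRS : R ≤ S := hom_le F hψ
  have hNS : normalizerIn S H = S := inf_eq_left.2 hHn
  have h := hN (normalizerSystem F H hHS) (isNormalizerSystem_normalizerSystem F H hHS) R
  have hle : R ⊔ H ≤ R := sup_le le_rfl hHR
  haveI : Finite H := finite_of_le hHS
  have hsurj : ∀ q ∈ H, ∃ x : R, (x : Ω) ∈ H ∧ ψ x = q := by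
    let f : H → H := fun x => ⟨ψ ⟨x, hHR x.2⟩, hψH ⟨x, hHR x.2⟩ x.2⟩
    have hf : Function.Injective f := by
      intro a b hab
      have h1 : ψ ⟨a, hHR a.2⟩ = ψ ⟨b, hHR b.2⟩ := congrArg Subtype.val hab
      have h2 := F.injective_of_mem hψ h1
      exact Subtype.ext (congrArg (fun z : R => (z : Ω)) h2)
    intro q hq
    obtain ⟨y, hy⟩ := Finite.surjective_of_injective hf ⟨q, hq⟩
    exact ⟨⟨y, hHR y.2⟩, y.2, congrArg Subtype.val hy⟩
  have hmem : ψ ∈ (normalizerSystem F H hHS).Hom R := by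
    show ψ ∈ F.normalizerHom H R
    refine ⟨hψ, ?_, ?_, ψ.comp (Subgroup.inclusion hle), Helper87.restrict_mem F hψ hle, fun x => ?_, ?_⟩
    · rw [hNS]; exact hRS
    · intro x; rw [hNS]; exact (F.le_of_mem hψ).2 x
    · show ψ _ = ψ x
      congr 1
    · rw [map_subgroupOf_eq_iff]
      refine ⟨fun x hx => hψH _ hx, fun q hq => ?_⟩
      obtain ⟨y, hyH, hy⟩ := hsurj q hq
      refine ⟨⟨y, le_sup_left (a := R) (b := H) y.2⟩, hyH, ?_⟩
      show ψ _ = q
      rw [← hy]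
      congr 1
  rw [h] at hmem
  obtain ⟨-, g, hg, hgx⟩ := hmem
  exact ⟨g, hg.1, hgx⟩

/-- **Module A.** `Aut_F(S)` is inner. -/
theorem aut_top_inner [Finite S] {p : ℕ} [Fact p.Prime] (hS : IsPGroup p S) (F : FusionSystem S)
    (k : ℕ) (hkS : p ^ k ≤ Nat.card S)
    (hi : ∀ Q : Subgroup Ω, Q ≤ S → Nat.card Q = p ^ k →
      ∃ P : Subgroup Ω, F.StronglyClosed P ∧ F.StronglyClosed (Q ⊔ P) ∧ F.StronglyClosed (Q ⊓ P))
    (hii : ∀ H : Subgroup Ω, F.IsFullyNormalized H → Nat.card H = p ^ k →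
      ∀ N : FusionSystem (normalizerIn S H), F.IsNormalizerSystem H N →
      ∀ P : Subgroup Ω, N.Hom P = (innerFusionSystem (normalizerIn S H)).Hom P)
    (ν : S →* Ω) (hν : ν ∈ F.Hom S) : ∃ g ∈ S, ∀ x : S, ν x = g * (x : Ω) * g⁻¹ := by
  have hp : p.Prime := Fact.out
  let L : Subgroup Ω → Prop := fun A =>
    A ≤ S ∧ S ≤ Subgroup.normalizer (A : Set Ω) ∧ ∀ x : S, (x : Ω) ∈ A → ν x ∈ A
  have hLsc : ∀ P, F.StronglyClosed P → L P := by
    intro P hP
    refine ⟨hP.1, le_normalizer_of_stronglyClosed F hP, fun x hx => ?_⟩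
    exact hP.2 P le_rfl _ (Helper87.restrict_mem F hν hP.1) ⟨x, hx⟩
  have hLsup : ∀ A B, L A → L B → L (A ⊔ B) := by
    rintro A B ⟨hA1, hA2, hA3⟩ ⟨hB1, hB2, hB3⟩
    refine ⟨sup_le hA1 hB1, ?_, ?_⟩
    · exact (le_inf hA2 hB2).trans (Subgroup.normalizer_inf_normalizer_le_normalizer_sup A B)
    · intro x hx
      have hx' : (x : Ω) ∈ ((A ⊔ B : Subgroup Ω) : Set Ω) := hx
      rw [Subgroup.coe_mul_of_left_le_normalizer_right A B (hA1.trans hB2)] at hx'
      obtain ⟨a, ha, b, hb, hab⟩ := Set.mem_mul.1 hx'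
      have e : x = (⟨a, hA1 ha⟩ : S) * ⟨b, hB1 hb⟩ := Subtype.ext hab.symm
      rw [e, map_mul]
      exact Subgroup.mul_mem _ (Subgroup.mem_sup_left (hA3 _ ha)) (Subgroup.mem_sup_right (hB3 _ hb))
  have hLinf : ∀ A B, L A → L B → L (A ⊓ B) := by
    rintro A B ⟨hA1, hA2, hA3⟩ ⟨hB1, hB2, hB3⟩
    refine ⟨inf_le_left.trans hA1, ?_, fun x hx => ⟨hA3 x hx.1, hB3 x hx.2⟩⟩
    intro g hg
    have h1 := Subgroup.mem_normalizer_iff.1 (hA2 hg)
    have h2 := Subgroup.mem_normalizer_iff.1 (hB2 hg)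
    rw [Subgroup.mem_normalizer_iff]
    intro y
    exact ⟨fun hy => ⟨(h1 y).1 hy.1, (h2 y).1 hy.2⟩, fun hy => ⟨(h1 y).2 hy.1, (h2 y).2 hy.2⟩⟩
  have hLbot : L ⊥ := hLsc _ (stronglyClosed_bot F)
  have hLtop : L S := hLsc _ (stronglyClosed_self F)
  obtain ⟨A, ⟨hAS, hAn, hAν⟩, -, -, hAcard⟩ := exists_card_eq_of_lattice hS F L (fun _ h => h.1)
    (fun _ h => h.2.1) hLsup hLinf hLsc k hi ⊥ S hLbot hLtop bot_le
    (by rw [Subgroup.card_bot]; exact Nat.one_le_pow _ _ hp.pos) hkS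
  exact exists_conj_of_normalizer_inner F hAS hAn
    (hii A (isFullyNormalized_of_le_normalizer F hAS hAn) hAcard) hAS hν (fun x hx => hAν x hx)

/-- **Module H.** If every map of `F` whose source contains the strongly closed subgroup `H` is conjugation by an element of `S`,
then the hyperfocal subgroup lies in `H`. -/
theorem hyperfocal_le_of_conj [Finite S] {p : ℕ} [Fact p.Prime] (hS : IsPGroup p S) (F : FusionSystem S)
    (hF : F.IsSaturated p) {H : Subgroup Ω} (hH : F.StronglyClosed H)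
    (hinn : ∀ R : Subgroup Ω, H ≤ R → ∀ ψ : R →* Ω, ψ ∈ F.Hom R →
      ∃ g ∈ S, ∀ x : R, ψ x = g * (x : Ω) * g⁻¹) :
    F.hyperfocalSubgroup p ≤ H := by
  unfold FusionSystem.hyperfocalSubgroup
  rw [Subgroup.closure_le]
  rintro y ⟨P, α, x, hPS, hα, rfl⟩
  haveI : Finite P := finite_of_le hPS
  have hle : pResidual p (F.autGroup P) ≤ (modSub P H).subgroupOf (F.autGroup P) := by
    unfold pResidual
    rw [Subgroup.closure_le]
    intro β hβ
    have hβ' : (orderOf β).Coprime p := hβ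
    show (β : MulAut P) ∈ modSub P H
    set b : MulAut P := (β : MulAut P) with hb
    have hbF : P.subtype.comp (b : P ≃* P).toMonoidHom ∈ F.Hom P := (Helper87.mem_autGroup_iff F hPS).1 β.2
    obtain ⟨ψ, hψ, hψφ⟩ := exists_lift F hS hF hH hbF
    obtain ⟨g, hg, hgx⟩ := hinn (P ⊔ H) le_sup_right ψ hψ
    have h1 : ∀ z : P, ((b z : P) : Ω)⁻¹ * (g * (z : Ω) * g⁻¹) ∈ H := by
      intro z
      have := hψφ z
      rw [hgx] at this
      exact this
    have hpow : ∀ n : ℕ, ∀ z : P, (((b ^ n) z : P) : Ω)⁻¹ * (g ^ n * (z : Ω) * (g ^ n)⁻¹) ∈ H := by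
      intro n
      induction n with
      | zero =>
        intro z
        simp
      | succ n ih =>
        intro z
        have h2 := h1 ((b ^ n) z)
        have h3 := StronglyClosed_conj_mem hH hg (ih z)
        have e : ((((b ^ (n + 1)) z : P) : Ω))⁻¹ * (g ^ (n + 1) * (z : Ω) * (g ^ (n + 1))⁻¹) =
            (((b ((b ^ n) z) : P) : Ω)⁻¹ * (g * (((b ^ n) z : P) : Ω) * g⁻¹)) *
              (g * ((((b ^ n) z : P) : Ω)⁻¹ * (g ^ n * (z : Ω) * (g ^ n)⁻¹)) * g⁻¹) := by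
          rw [pow_succ' b n, MulAut.mul_apply, pow_succ' g n]
          group
        rw [e]
        exact H.mul_mem h2 h3
    obtain ⟨N, hN1, hN2⟩ := Cfsg.Agent.S5256.exists_pow_coprime (p := p) (⟨g, hg⟩ : S) β (orderOf_pos _) hβ'
    have hgN : g ^ N = 1 := by
      obtain ⟨a, ha⟩ := hS ((⟨g, hg⟩ : S) ^ N)
      have h3 : orderOf ((⟨g, hg⟩ : S) ^ N) ∣ p ^ a := orderOf_dvd_of_pow_eq_one ha
      have h4 : (orderOf ((⟨g, hg⟩ : S) ^ N)).Coprime (p ^ a) := hN1.pow_right a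
      have h5 := Nat.Coprime.eq_one_of_dvd h4 h3
      have h6 : (⟨g, hg⟩ : S) ^ N = 1 := orderOf_eq_one_iff.1 h5
      have := congrArg Subtype.val h6
      simpa using this
    have hbN : b ^ N = b := by
      have := congrArg (fun γ : F.autGroup P => (γ : MulAut P)) hN2
      simpa using this
    refine mem_modSub.2 (fun z => ?_)
    have h7 := hpow N z
    rw [hgN, hbN] at h7
    have h8 : ((b z : P) : Ω)⁻¹ * (z : Ω) ∈ H := by simpa using h7
    have h9 := H.inv_mem h8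
    have e : (((b z : P) : Ω)⁻¹ * (z : Ω))⁻¹ = (z : Ω)⁻¹ * ((b z : P) : Ω) := by group
    rw [e] at h9
    exact h9
  exact mem_modSub.1 (Subgroup.mem_subgroupOf.1 (hle hα)) x

/-- The order of a full preimage. -/
theorem card_preimageAlong {Ω' : Type*} [Group Ω'] (θ : S →* Ω') {X : Subgroup Ω} (hXS : X ≤ S)
    (hker : ∀ s : S, θ s = 1 ↔ (s : Ω) ∈ X) (Q' : Subgroup Ω') (hQ' : Q' ≤ θ.range) :
    Nat.card (preimageAlong θ Q') = Nat.card X * Nat.card Q' := by
  unfold preimageAlong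
  rw [Subgroup.card_map_of_injective S.subtype_injective]
  have hk : θ.ker = X.subgroupOf S := by
    ext s
    rw [MonoidHom.mem_ker, hker, Subgroup.mem_subgroupOf]
  have h1 : θ.ker ≤ Q'.comap θ := fun s hs => by
    rw [Subgroup.mem_comap, MonoidHom.mem_ker.1 hs]
    exact Q'.one_mem
  have h2 := Subgroup.relIndex_mul_relIndex ⊥ θ.ker (Q'.comap θ) bot_le h1
  rw [Subgroup.relIndex_bot_left, Subgroup.relIndex_bot_left] at h2
  have h3 : θ.ker.relIndex (Q'.comap θ) = Nat.card Q' := by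
    have e : θ.ker = (⊥ : Subgroup Ω').comap θ := (MonoidHom.comap_bot θ).symm
    rw [e, Subgroup.relIndex_comap, Subgroup.relIndex_bot_left, Subgroup.map_comap_eq, inf_eq_right.2 hQ']
  rw [← h2, h3, hk]
  congr 1
  exact Nat.card_congr (Subgroup.subgroupOfEquivOfLe hXS).toEquiv

/-- **The quotient step**, read through a surjection `θ` with kernel `X`. -/
theorem hyperfocal_le_of_star_aux [Finite S] {p : ℕ} [Fact p.Prime] (hS : IsPGroup p S) (F : FusionSystem S)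
    (hF : F.IsSaturated p)
    (hAut : ∀ ν : S →* Ω, ν ∈ F.Hom S → ∃ g ∈ S, ∀ x : S, ν x = g * (x : Ω) * g⁻¹)
    {X : Subgroup Ω} (hX : F.StronglyClosed X)
    {Ω' : Type*} [Group Ω'] [Finite Ω'] (θ : S →* Ω') (hker : ∀ s : S, θ s = 1 ↔ (s : Ω) ∈ X)
    (hsurj : Function.Surjective θ) (n : ℕ) (hn : ∃ j, n = p ^ j)
    (hHM : ∃ H : Subgroup Ω, H ≤ S ∧ X ≤ H ∧ F.hyperfocalSubgroup p ≤ H ∧ Nat.card H ≤ Nat.card X * n)
    (hnS : Nat.card X * n < Nat.card S)
    (hstar : ∀ Q : Subgroup Ω, X ≤ Q → Q ≤ S → Nat.card Q = Nat.card X * n →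
      F.hyperfocalSubgroup p ≤ Q ∨ Q ⊓ F.hyperfocalSubgroup p ≤ X) :
    F.hyperfocalSubgroup p ≤ X := by
  classical
  have hXS := hX.1
  haveI : Finite X := finite_of_le hXS
  have hrange : θ.range = (⊤ : Subgroup Ω') := MonoidHom.range_eq_top.2 hsurj
  obtain ⟨E, hE⟩ : ∃ E : FusionSystem (⊤ : Subgroup Ω'), F.IsFactorSystem X θ E :=
    ⟨_, Helper85.isFactorSystem_factorSystem F X hX θ hker hrange⟩
  have hΩ'p : IsPGroup p Ω' := IsPGroup.of_surjective hS θ hsurj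
  have hS' : IsPGroup p (⊤ : Subgroup Ω') := hΩ'p.to_subgroup _
  have hEsat : E.IsSaturated p := Helper85.isSaturated_of_isFactorSystem hS F hF hX θ E hE
  have hhyp : E.hyperfocalSubgroup p = ((F.hyperfocalSubgroup p).subgroupOf S).map θ :=
    Cfsg.Agent.S5256.result p hS F hF X hX θ E hE
  have hMS : F.hyperfocalSubgroup p ≤ S := (Cfsg.Agent.S5124.result p hS F hF).1
  suffices hbot : E.hyperfocalSubgroup p = ⊥ by
    intro m hm
    have h1 : θ ⟨m, hMS hm⟩ ∈ ((F.hyperfocalSubgroup p).subgroupOf S).map θ :=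
      ⟨⟨m, hMS hm⟩, Subgroup.mem_subgroupOf.2 hm, rfl⟩
    rw [← hhyp, hbot, Subgroup.mem_bot] at h1
    exact (hker _).1 h1
  by_contra hne
  have hN'sc : E.StronglyClosed (E.hyperfocalSubgroup p) := Cfsg.Agent.S5124.result p hS' E hEsat
  haveI hN'n : (E.hyperfocalSubgroup p).Normal := by
    have h1 := le_normalizer_of_stronglyClosed E hN'sc
    exact Subgroup.normalizer_eq_top_iff.1 (top_le_iff.1 h1)
  have hpre : ∀ Q' : Subgroup Ω', Nat.card (preimageAlong θ Q') = Nat.card X * Nat.card Q' := fun Q' =>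
    card_preimageAlong θ hXS hker Q' (by rw [hrange]; exact le_top)
  have hXpos : 0 < Nat.card X := Nat.card_pos
  -- the order of the quotient
  have hcardS : Nat.card S = Nat.card X * Nat.card Ω' := by
    have h1 := hpre ⊤
    have h2 : preimageAlong θ (⊤ : Subgroup Ω') = S := by
      ext x
      rw [Helper85.mem_preimageAlong_iff]
      exact ⟨fun ⟨hx, _⟩ => hx, fun hx => ⟨hx, Subgroup.mem_top _⟩⟩
    rw [h2, Subgroup.card_top] at h1
    exact h1
  have hnT : n < Nat.card Ω' := by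
    rw [hcardS] at hnS
    exact Nat.lt_of_mul_lt_mul_left hnS
  -- the order of the image of the hyperfocal subgroup
  have hNn : Nat.card (E.hyperfocalSubgroup p) ≤ n := by
    obtain ⟨H, hHS, hXH, hMH, hHc⟩ := hHM
    have hc := hpre (E.hyperfocalSubgroup p)
    have hle : preimageAlong θ (E.hyperfocalSubgroup p) ≤ H := by
      intro s hs
      obtain ⟨hsS, hsN⟩ := (Helper85.mem_preimageAlong_iff θ _ s).1 hs
      rw [hhyp] at hsN
      obtain ⟨m, hm, hms⟩ := hsN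
      have h1 : θ (m⁻¹ * ⟨s, hsS⟩) = 1 := by rw [map_mul, map_inv, hms, inv_mul_cancel]
      have h2 : ((m⁻¹ * ⟨s, hsS⟩ : S) : Ω) ∈ X := (hker _).1 h1
      have h3 : s = (m : Ω) * ((m⁻¹ * ⟨s, hsS⟩ : S) : Ω) := by
        show s = (m : Ω) * ((m : Ω)⁻¹ * s)
        group
      rw [h3]
      exact H.mul_mem (hMH (Subgroup.mem_subgroupOf.1 hm)) (hXH h2)
    haveI : Finite H := finite_of_le hHS
    have h4 := Subgroup.card_le_of_le hle
    rw [hc] at h4
    exact Nat.le_of_mul_le_mul_left (h4.trans hHc) hXpos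
  -- the dichotomy in the quotient
  have hstar' : ∀ Q' : Subgroup Ω', Nat.card Q' = n →
      E.hyperfocalSubgroup p ≤ Q' ∨ Q' ⊓ E.hyperfocalSubgroup p = ⊥ := by
    intro Q' hQ'
    have hQc := hpre Q'
    rw [hQ'] at hQc
    have hXQ : X ≤ preimageAlong θ Q' := fun x hx =>
      (Helper85.mem_preimageAlong_iff θ Q' x).2 ⟨hXS hx, by rw [(hker ⟨x, hXS hx⟩).2 hx]; exact Q'.one_mem⟩
    rcases hstar _ hXQ (Helper85.preimageAlong_le θ Q') hQc with h | h
    · left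
      rw [hhyp]
      rintro _ ⟨s, hs, rfl⟩
      obtain ⟨hs', hsQ⟩ := (Helper85.mem_preimageAlong_iff θ Q' _).1 (h (Subgroup.mem_subgroupOf.1 hs))
      exact hsQ
    · right
      rw [eq_bot_iff]
      rintro t ⟨htQ, htN⟩
      have htN' : t ∈ ((F.hyperfocalSubgroup p).subgroupOf S).map θ := by rw [← hhyp]; exact htN
      obtain ⟨s, hs, rfl⟩ := htN'
      have hsM : (s : Ω) ∈ F.hyperfocalSubgroup p := Subgroup.mem_subgroupOf.1 hs
      have hsQ : (s : Ω) ∈ preimageAlong θ Q' := (Helper85.mem_preimageAlong_iff θ Q' _).2 ⟨s.2, htQ⟩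
      have hsX : (s : Ω) ∈ X := h ⟨hsQ, hsM⟩
      rw [Subgroup.mem_bot]
      exact (hker s).2 hsX
  -- automorphisms of the top group of the quotient system are inner
  have hAutE : ∀ ν' : (⊤ : Subgroup Ω') →* Ω', ν' ∈ E.Hom ⊤ →
      ∃ g ∈ (⊤ : Subgroup Ω'), ∀ x : (⊤ : Subgroup Ω'), ν' x = g * (x : Ω') * g⁻¹ := by
    intro ν' hν'
    obtain ⟨-, ν, hν, hPS, hνS, hθP, hind⟩ := (hE.2.2.2 ⊤ ν').1 hν'
    have hle : S ≤ preimageAlong θ (⊤ : Subgroup Ω') := fun x hx =>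
      (Helper85.mem_preimageAlong_iff θ ⊤ x).2 ⟨hx, Subgroup.mem_top _⟩
    obtain ⟨g, hg, hgx⟩ := hAut _ (Helper87.restrict_mem F hν hle)
    refine ⟨θ ⟨g, hg⟩, Subgroup.mem_top _, fun y => ?_⟩
    obtain ⟨s, hs⟩ := hsurj (y : Ω')
    have h1 := hind ⟨s, hle s.2⟩
    have h2 := hgx s
    have hy : y = ⟨θ ⟨(s : Ω), hPS (hle s.2)⟩, hθP ⟨s, hle s.2⟩⟩ := Subtype.ext hs.symm
    have e : (⟨ν ⟨s, hle s.2⟩, hνS ⟨s, hle s.2⟩⟩ : S) = ⟨g, hg⟩ * s * ⟨g, hg⟩⁻¹ := Subtype.ext h2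
    calc ν' y = ν' ⟨θ ⟨(s : Ω), hPS (hle s.2)⟩, hθP ⟨s, hle s.2⟩⟩ := by rw [hy]
      _ = θ ⟨ν ⟨s, hle s.2⟩, hνS ⟨s, hle s.2⟩⟩ := h1
      _ = θ (⟨g, hg⟩ * s * ⟨g, hg⟩⁻¹) := by rw [e]
      _ = θ ⟨g, hg⟩ * (y : Ω') * (θ ⟨g, hg⟩)⁻¹ := by rw [map_mul, map_mul, map_inv, hs]
  rcases le_center_or_le_frattini hΩ'p (E.hyperfocalSubgroup p) hne n hn hNn hnT hstar' with hc | hf
  · apply hne
    apply hyperfocal_eq_bot_of_le_centralizer hS' E hEsat hAutE
    rw [Subgroup.coe_top, Subgroup.centralizer_univ]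
    exact hc
  · apply hne
    have hfr : frattini Ω' ≤ (frattini ↥(⊤ : Subgroup Ω')).map (⊤ : Subgroup Ω').subtype := by
      intro t ht
      have h1 := frattini_le_comap_frattini_of_surjective
        (φ := (Subgroup.topEquiv (G := Ω')).symm.toMonoidHom) (Subgroup.topEquiv (G := Ω')).symm.surjective ht
      exact ⟨_, h1, rfl⟩
    have hfoc : E.focalSubgroup ≤ (frattini ↥(⊤ : Subgroup Ω')).map (⊤ : Subgroup Ω').subtype := by
      rw [Cfsg.Agent.S5092.result p hS' E hEsat]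
      refine sup_le (hf.trans hfr) ?_
      have e : ⁅(⊤ : Subgroup Ω'), (⊤ : Subgroup Ω')⁆ = commutator Ω' := rfl
      rw [e]
      exact (Helper85.commutator_le_frattini_of_isPGroup hΩ'p).trans hfr
    have hEq := Helper85.eq_inner_of_focal_le_frattini E hS' hEsat hfoc
    rw [hEq]
    exact Helper85.hyperfocal_inner_eq_bot hS'

/-- **The quotient step.** -/
theorem hyperfocal_le_of_star [Finite S] {p : ℕ} [Fact p.Prime] (hS : IsPGroup p S) (F : FusionSystem S)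
    (hF : F.IsSaturated p)
    (hAut : ∀ ν : S →* Ω, ν ∈ F.Hom S → ∃ g ∈ S, ∀ x : S, ν x = g * (x : Ω) * g⁻¹)
    {X : Subgroup Ω} (hX : F.StronglyClosed X) (n : ℕ) (hn : ∃ j, n = p ^ j)
    (hHM : ∃ H : Subgroup Ω, H ≤ S ∧ X ≤ H ∧ F.hyperfocalSubgroup p ≤ H ∧ Nat.card H ≤ Nat.card X * n)
    (hnS : Nat.card X * n < Nat.card S)
    (hstar : ∀ Q : Subgroup Ω, X ≤ Q → Q ≤ S → Nat.card Q = Nat.card X * n →
      F.hyperfocalSubgroup p ≤ Q ∨ Q ⊓ F.hyperfocalSubgroup p ≤ X) :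
    F.hyperfocalSubgroup p ≤ X := by
  have hXn := le_normalizer_of_stronglyClosed F hX
  haveI hnorm : (X.subgroupOf S).Normal := by
    refine ⟨fun x hx g => ?_⟩
    rw [Subgroup.mem_subgroupOf] at hx ⊢
    exact StronglyClosed_conj_mem hX g.2 hx
  refine hyperfocal_le_of_star_aux hS F hF hAut hX (QuotientGroup.mk' (X.subgroupOf S)) (fun s => ?_)
    (QuotientGroup.mk'_surjective _) n hn hHM hnS hstar
  rw [QuotientGroup.mk'_apply, QuotientGroup.eq_one_iff, Subgroup.mem_subgroupOf]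

/-- **The converse direction of S5271.** -/
theorem hyperfocal_eq_bot_of_weakly_embedded [Finite S] {p : ℕ} [Fact p.Prime] (hS : IsPGroup p S)
    (F : FusionSystem S) (hF : F.IsSaturated p) (k : ℕ) (hkS : p ^ k < Nat.card S)
    (hi : ∀ Q : Subgroup Ω, Q ≤ S → Nat.card Q = p ^ k →
      ∃ P : Subgroup Ω, F.StronglyClosed P ∧ F.StronglyClosed (Q ⊔ P) ∧ F.StronglyClosed (Q ⊓ P))
    (hii : ∀ H : Subgroup Ω, F.IsFullyNormalized H → Nat.card H = p ^ k →
      ∀ N : FusionSystem (normalizerIn S H), F.IsNormalizerSystem H N →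
      ∀ P : Subgroup Ω, N.Hom P = (innerFusionSystem (normalizerIn S H)).Hom P) :
    F.hyperfocalSubgroup p = ⊥ := by
  classical
  have hp : p.Prime := Fact.out
  have hAut := aut_top_inner hS F k hkS.le hi hii
  -- module H
  have hH : ∀ H, F.StronglyClosed H → Nat.card H = p ^ k → F.hyperfocalSubgroup p ≤ H := by
    intro H hHsc hHc
    have hHn := le_normalizer_of_stronglyClosed F hHsc
    apply hyperfocal_le_of_conj hS F hF hHsc
    intro R hHR ψ hψ
    exact exists_conj_of_normalizer_inner F hHsc.1 hHn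
      (hii H (isFullyNormalized_of_le_normalizer F hHsc.1 hHn) hHc) hHR hψ
      (fun x hx => hHsc.2 H le_rfl _ (Helper87.restrict_mem F hψ hHR) ⟨x, hx⟩)
  have hb : ∀ Z, F.StronglyClosed Z → p ^ k ≤ Nat.card Z → F.hyperfocalSubgroup p ≤ Z := by
    intro Z hZ hZc
    obtain ⟨H, hHsc, -, hHZ, hHc⟩ := exists_stronglyClosed_card_eq hS F hF k hi ⊥ Z (stronglyClosed_bot F) hZ
      bot_le (by rw [Subgroup.card_bot]; exact Nat.one_le_pow _ _ hp.pos) hZc
    exact (hH H hHsc hHc).trans hHZ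
  by_contra hne
  -- a strongly closed `X` of largest order not containing the hyperfocal subgroup
  let T : Set ℕ := {n | ∃ X, F.StronglyClosed X ∧ ¬ F.hyperfocalSubgroup p ≤ X ∧ Nat.card X = n}
  have hTne : T.Nonempty :=
    ⟨Nat.card (⊥ : Subgroup Ω), ⊥, stronglyClosed_bot F, fun h => hne (le_bot_iff.1 h), rfl⟩
  have hTbdd : BddAbove T := ⟨Nat.card S, by rintro n ⟨X, hX, -, rfl⟩; exact Subgroup.card_le_of_le hX.1⟩
  obtain ⟨X, hX, hMX, hXcard⟩ := Nat.sSup_mem hTne hTbdd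
  have hXmax : ∀ Z, F.StronglyClosed Z → X ≤ Z → X ≠ Z → F.hyperfocalSubgroup p ≤ Z := by
    intro Z hZ hXZ hne'
    by_contra hcon
    have h1 : Nat.card Z ≤ Nat.card X := by rw [hXcard]; exact le_csSup hTbdd ⟨Z, hZ, hcon, rfl⟩
    haveI : Finite Z := finite_of_le hZ.1
    exact hne' (Subgroup.eq_of_le_of_card_ge hXZ h1)
  apply hMX
  have hXS := hX.1
  haveI : Finite X := finite_of_le hXS
  have hXlt : Nat.card X < p ^ k := by
    by_contra hcon
    push Not at hcon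
    exact hMX (hb X hX hcon)
  obtain ⟨j, hj⟩ := (hS.to_le hXS).exists_card_eq
  have hjk : j ≤ k := by
    rw [hj] at hXlt
    exact ((Nat.pow_lt_pow_iff_right hp.one_lt).1 hXlt).le
  have hXn : Nat.card X * p ^ (k - j) = p ^ k := by
    rw [hj, ← pow_add, Nat.add_sub_cancel' hjk]
  obtain ⟨H, hHsc, hXH, -, hHc⟩ := exists_stronglyClosed_card_eq hS F hF k hi X S hX (stronglyClosed_self F) hXS
    hXlt.le hkS.le
  have hXneH : X ≠ H := by
    intro h
    have : Nat.card X = Nat.card H := by rw [h]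
    omega
  have hMH := hXmax H hHsc hXH hXneH
  apply hyperfocal_le_of_star hS F hF hAut hX (p ^ (k - j)) ⟨_, rfl⟩
    ⟨H, hHsc.1, hXH, hMH, by rw [hXn, hHc]⟩ (by rw [hXn]; exact hkS)
  intro Q hXQ hQS hQc
  rw [hXn] at hQc
  obtain ⟨P, hP, hQP, hQiP⟩ := hi Q hQS hQc
  have hP' : F.StronglyClosed (X ⊔ P) := Cfsg.Agent.S5128.result p hS F hF X P hX hP
  by_cases hPX : X = X ⊔ P
  · left
    have hPQ : P ≤ Q := (le_sup_right.trans hPX.ge).trans hXQ
    have e : Q ⊔ P = Q := sup_eq_left.2 hPQ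
    rw [e] at hQP
    exact hH Q hQP hQc
  · have hMP := hXmax _ hP' le_sup_left hPX
    have hPQ' : F.StronglyClosed (P ⊓ Q) := by rw [inf_comm]; exact hQiP
    have hZ : F.StronglyClosed (X ⊔ (P ⊓ Q)) := Cfsg.Agent.S5128.result p hS F hF _ _ hX hPQ'
    have hmod : (X ⊔ P) ⊓ Q = X ⊔ (P ⊓ Q) :=
      sup_inf_of_le_normalizer hXQ (hXS.trans (le_normalizer_of_stronglyClosed F hP))
    by_cases hZX : X = X ⊔ (P ⊓ Q)
    · right
      calc Q ⊓ F.hyperfocalSubgroup p ≤ (X ⊔ P) ⊓ Q := le_inf (inf_le_right.trans hMP) inf_le_left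
        _ = X ⊔ (P ⊓ Q) := hmod
        _ = X := hZX.symm
    · left
      exact (hXmax _ hZ le_sup_left hZX).trans (sup_le hXQ inf_le_right)

end Cfsg.Agent.Lib.Helper88.WeakEmb
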